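import Mathlib
import Cfsg.Prelude.Def_Blocks
import Cfsg.Agent.Lib.Helper3.CharValues
import Cfsg.Agent.Lib.Helper81.IrrTwist

/-!
# Kernels of characters and deflation to quotient groups (helper77, chunk (D))

* `mem_ker_iff_character_eq`: `g ∈ ker ρ ↔ χ(g) = χ(1)` for a finite-dimensional complex
  representation of a finite group.
* `exists_kernel`: for `Cfsg.IsCharacter G χ`, the set `{g | χ g = χ 1}` is a normal subgroup and
  `χ` is constant on its cosets.
* `quotientRep`: a representation with `N ≤ ker ρ` descends to `G ⧸ N`; irreducibility and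
  character are preserved.
* `isCharacter_deflate`, `isIrrCharacter_deflate`, `deflate`, `inflate`, `irrQuotientEquiv`:
  the bijection between `IrrCharacter (G ⧸ N)` and the irreducible characters of `G` whose
  kernel contains `N`.
-/

set_option autoImplicit false
open Cfsg

namespace Cfsg.Agent.Lib.Helper77

section Kernel

variable {G : Type*} [Group G] {V : Type*} [AddCommGroup V] [Module ℂ V]
  (ρ : Representation ℂ G V)

/-- An element lies in the kernel of a representation iff the character takes the value of the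
degree there. -/
theorem mem_ker_iff_character_eq [Finite G] [FiniteDimensional ℂ V] (g : G) :
    g ∈ MonoidHom.ker ρ ↔ ρ.character g = ρ.character 1 := by
  rw [MonoidHom.mem_ker, Representation.char_one, Helper3.character_eq_finrank_iff]
  rfl

theorem character_mul_of_mem_ker (g k : G) (hk : k ∈ MonoidHom.ker ρ) :
    ρ.character (g * k) = ρ.character g := by
  unfold Representation.character
  rw [map_mul, MonoidHom.mem_ker.mp hk, mul_one]

theorem character_mul_of_mem_ker' (g k : G) (hk : k ∈ MonoidHom.ker ρ) :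
    ρ.character (k * g) = ρ.character g := by
  unfold Representation.character
  rw [map_mul, MonoidHom.mem_ker.mp hk, one_mul]

/-- The kernel `{g | χ g = χ 1}` of a character is a normal subgroup, and the character is constant
on its cosets. -/
theorem exists_kernel [Finite G] {χ : G → ℂ} (hχ : IsCharacter G χ) :
    ∃ K : Subgroup G, K.Normal ∧ (∀ g, g ∈ K ↔ χ g = χ 1) ∧
      (∀ g k, k ∈ K → χ (g * k) = χ g) ∧ (∀ g k, k ∈ K → χ (k * g) = χ g) := by
  obtain ⟨n, ρ, rfl⟩ := hχ
  refine ⟨MonoidHom.ker ρ, MonoidHom.normal_ker ρ, fun g => mem_ker_iff_character_eq ρ g,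
    fun g k hk => character_mul_of_mem_ker ρ g k hk,
    fun g k hk => character_mul_of_mem_ker' ρ g k hk⟩

/-- If a character takes the value `χ 1` on a subset, it does so on the subgroup generated. -/
theorem character_eq_one_on_closure [Finite G] {χ : G → ℂ} (hχ : IsCharacter G χ) (S : Set G)
    (hS : ∀ s ∈ S, χ s = χ 1) : ∀ g ∈ Subgroup.closure S, χ g = χ 1 := by
  obtain ⟨K, -, hK, -, -⟩ := exists_kernel hχ
  intro g hg
  rw [← hK]
  have : Subgroup.closure S ≤ K := by
    rw [Subgroup.closure_le]
    intro s hs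
    exact (hK s).mpr (hS s hs)
  exact this hg

end Kernel

section Quotient

variable {G : Type*} [Group G] {V : Type*} [AddCommGroup V] [Module ℂ V]
  (ρ : Representation ℂ G V) (N : Subgroup G) [N.Normal]

/-- A representation whose kernel contains the normal subgroup `N` descends to `G ⧸ N`. -/
noncomputable def quotientRep (h : N ≤ MonoidHom.ker ρ) : Representation ℂ (G ⧸ N) V :=
  QuotientGroup.lift N ρ h

@[simp]
theorem quotientRep_mk (h : N ≤ MonoidHom.ker ρ) (g : G) :
    quotientRep ρ N h (g : G ⧸ N) = ρ g :=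
  rfl

theorem quotientRep_character [FiniteDimensional ℂ V] (h : N ≤ MonoidHom.ker ρ) (g : G) :
    (quotientRep ρ N h).character (g : G ⧸ N) = ρ.character g :=
  rfl

/-- The lattice of subrepresentations does not change under deflation. -/
noncomputable def quotientRepSubrepEquiv (h : N ≤ MonoidHom.ker ρ) :
    Subrepresentation (quotientRep ρ N h) ≃o Subrepresentation ρ :=
  Helper81.subrepEquivOfSemilinear (quotientRep ρ N h) ρ (LinearEquiv.refl ℂ V)
    (QuotientGroup.mk : G → G ⧸ N) (QuotientGroup.mk_surjective) (fun _ _ => rfl)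

theorem quotientRep_isIrreducible (h : N ≤ MonoidHom.ker ρ) [hρ : ρ.IsIrreducible] :
    (quotientRep ρ N h).IsIrreducible :=
  (quotientRepSubrepEquiv ρ N h).isSimpleOrder_iff.mpr hρ

end Quotient

section Deflate

variable {G : Type*} [Group G] [Finite G] (N : Subgroup G) [N.Normal]

/-- A character with `N` in its kernel is the inflation of a character of `G ⧸ N`. -/
theorem isCharacter_deflate {χ : G → ℂ} (hχ : IsCharacter G χ) (h : ∀ n ∈ N, χ n = χ 1) :
    ∃ χ' : G ⧸ N → ℂ, IsCharacter (G ⧸ N) χ' ∧ ∀ g : G, χ' (g : G ⧸ N) = χ g := by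
  obtain ⟨n, ρ, rfl⟩ := hχ
  have hN : N ≤ MonoidHom.ker ρ := fun k hk => (mem_ker_iff_character_eq ρ k).mpr (h k hk)
  exact ⟨(quotientRep ρ N hN).character, ⟨n, quotientRep ρ N hN, rfl⟩, fun g => rfl⟩

/-- An irreducible character with `N` in its kernel is the inflation of an irreducible character
of `G ⧸ N`. -/
theorem isIrrCharacter_deflate {χ : G → ℂ} (hχ : IsIrrCharacter G χ) (h : ∀ n ∈ N, χ n = χ 1) :
    ∃ χ' : G ⧸ N → ℂ, IsIrrCharacter (G ⧸ N) χ' ∧ ∀ g : G, χ' (g : G ⧸ N) = χ g := by
  obtain ⟨n, ρ, hirr, rfl⟩ := hχ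
  have hN : N ≤ MonoidHom.ker ρ := fun k hk => (mem_ker_iff_character_eq ρ k).mpr (h k hk)
  exact ⟨(quotientRep ρ N hN).character,
    ⟨n, quotientRep ρ N hN, quotientRep_isIrreducible ρ N hN, rfl⟩, fun g => rfl⟩

/-- Deflation of an irreducible character with `N` in its kernel. -/
noncomputable def deflate (χ : IrrCharacter G) (h : ∀ n ∈ N, (χ : G → ℂ) n = (χ : G → ℂ) 1) :
    IrrCharacter (G ⧸ N) :=
  ⟨(isIrrCharacter_deflate N χ.2 h).choose, (isIrrCharacter_deflate N χ.2 h).choose_spec.1⟩

theorem deflate_mk (χ : IrrCharacter G) (h : ∀ n ∈ N, (χ : G → ℂ) n = (χ : G → ℂ) 1) (g : G) :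
    (deflate N χ h : G ⧸ N → ℂ) (g : G ⧸ N) = (χ : G → ℂ) g :=
  (isIrrCharacter_deflate N χ.2 h).choose_spec.2 g

omit [Finite G] in
/-- Inflation of an irreducible character of `G ⧸ N` to `G`. -/
noncomputable def inflate (χ' : IrrCharacter (G ⧸ N)) : IrrCharacter G :=
  ⟨(χ' : G ⧸ N → ℂ) ∘ (QuotientGroup.mk' N),
    Helper81.isIrrCharacter_comp_surjective χ'.2 (QuotientGroup.mk' N)
      (QuotientGroup.mk'_surjective N)⟩

omit [Finite G] in
theorem inflate_apply (χ' : IrrCharacter (G ⧸ N)) (g : G) :
    (inflate N χ' : G → ℂ) g = (χ' : G ⧸ N → ℂ) (g : G ⧸ N) :=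
  rfl

omit [Finite G] in
theorem inflate_apply_of_mem (χ' : IrrCharacter (G ⧸ N)) (n : G) (hn : n ∈ N) :
    (inflate N χ' : G → ℂ) n = (inflate N χ' : G → ℂ) 1 := by
  rw [inflate_apply, inflate_apply, (QuotientGroup.eq_one_iff n).mpr hn, QuotientGroup.mk_one]

omit [Finite G] in
theorem inflate_injective : Function.Injective (inflate N) := by
  intro χ₁ χ₂ h
  apply Subtype.ext
  funext x
  obtain ⟨g, rfl⟩ := QuotientGroup.mk_surjective x
  have := congrArg (fun χ : IrrCharacter G => (χ : G → ℂ) g) h
  simpa [inflate_apply] using this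

theorem inflate_deflate (χ : IrrCharacter G) (h : ∀ n ∈ N, (χ : G → ℂ) n = (χ : G → ℂ) 1) :
    inflate N (deflate N χ h) = χ := by
  apply Subtype.ext
  funext g
  rw [inflate_apply, deflate_mk]

theorem deflate_inflate (χ' : IrrCharacter (G ⧸ N)) :
    deflate N (inflate N χ') (inflate_apply_of_mem N χ') = χ' := by
  apply inflate_injective N
  rw [inflate_deflate]

/-- The bijection between the irreducible characters of `G ⧸ N` and the irreducible characters of
`G` with `N` in their kernel. -/
noncomputable def irrQuotientEquiv :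
    IrrCharacter (G ⧸ N) ≃
      {χ : IrrCharacter G // ∀ n ∈ N, (χ : G → ℂ) n = (χ : G → ℂ) 1} where
  toFun χ' := ⟨inflate N χ', inflate_apply_of_mem N χ'⟩
  invFun χ := deflate N χ.1 χ.2
  left_inv χ' := deflate_inflate N χ'
  right_inv χ := Subtype.ext (inflate_deflate N χ.1 χ.2)

end Deflate

end Cfsg.Agent.Lib.Helper77
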