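import Mathlib
import Cfsg.Prelude.Def_Blocks
import Cfsg.Agent.Lib.Helper77.Deflation

/-!
# Linear characters (helper77, chunk (D))

* `isIrreducible_of_finrank_eq_one`: a representation on a one-dimensional space is irreducible.
* `linearRep φ`: the one-dimensional representation attached to `φ : G →* ℂˣ`;
  `isIrrCharacter_of_monoidHom`.
* `exists_monoidHom_of_degree_one`: a character of degree one is a homomorphism to `ℂˣ`.
* `linearCharEquiv`: linear characters `≃ (G →* ℂˣ)`; `card_linear_characters`: their number is the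
  index of the commutator subgroup.
* `linear_character_eq_one_of_mem_commutator`.
-/

set_option autoImplicit false
open Cfsg

namespace Cfsg.Agent.Lib.Helper77

section OneDim

variable {G : Type*} [Group G] {V : Type*} [AddCommGroup V] [Module ℂ V]

/-- A representation on a one-dimensional space is irreducible. -/
theorem isIrreducible_of_finrank_eq_one (ρ : Representation ℂ G V) (h : Module.finrank ℂ V = 1) :
    ρ.IsIrreducible := by
  have hs : IsSimpleOrder (Submodule ℂ V) := is_simple_module_of_finrank_eq_one (K := ℂ) h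
  have hnt : Nontrivial V := Module.nontrivial_of_finrank_eq_succ h
  refine { exists_pair_ne := ⟨⊥, ⊤, ?_⟩, eq_bot_or_eq_top := fun a => ?_ }
  · intro hbt
    have : (⊥ : Submodule ℂ V) = ⊤ := congrArg Subrepresentation.toSubmodule hbt
    exact bot_ne_top this
  · rcases eq_bot_or_eq_top a.toSubmodule with h0 | h1
    · left; exact Subrepresentation.toSubmodule_injective h0
    · right; exact Subrepresentation.toSubmodule_injective h1

/-- The one-dimensional representation attached to a homomorphism `G →* ℂˣ`. -/
noncomputable def linearRep (φ : G →* ℂˣ) : Representation ℂ G (Fin 1 → ℂ) where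
  toFun g := ((φ g : ℂˣ) : ℂ) • (LinearMap.id : (Fin 1 → ℂ) →ₗ[ℂ] (Fin 1 → ℂ))
  map_one' := by simp; rfl
  map_mul' a b := by
    ext
    simp [mul_smul, Module.End.mul_apply]
    ring

theorem linearRep_character (φ : G →* ℂˣ) (g : G) :
    (linearRep φ).character g = ((φ g : ℂˣ) : ℂ) := by
  unfold Representation.character linearRep
  simp

theorem linearRep_isIrreducible (φ : G →* ℂˣ) : (linearRep φ).IsIrreducible :=
  isIrreducible_of_finrank_eq_one _ (by simp)

/-- A homomorphism to `ℂˣ` is an irreducible character. -/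
theorem isIrrCharacter_of_monoidHom (φ : G →* ℂˣ) :
    IsIrrCharacter G (fun g => ((φ g : ℂˣ) : ℂ)) :=
  ⟨1, linearRep φ, linearRep_isIrreducible φ, funext (linearRep_character φ)⟩

/-- A character of degree one is given by a homomorphism to `ℂˣ`. -/
theorem exists_monoidHom_of_degree_one {χ : G → ℂ} (hχ : IsCharacter G χ) (h1 : χ 1 = 1) :
    ∃ φ : G →* ℂˣ, ∀ g, χ g = ((φ g : ℂˣ) : ℂ) := by
  obtain ⟨n, ρ, rfl⟩ := hχ
  have hn : n = 1 := by
    rw [Representation.char_one] at h1
    simpa using h1
  subst hn
  have hfr : Module.finrank ℂ (Fin 1 → ℂ) = 1 := by simp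
  have hscal : ∀ g : G, ρ g = ρ.character g • (LinearMap.id : (Fin 1 → ℂ) →ₗ[ℂ] (Fin 1 → ℂ)) := by
    intro g
    obtain ⟨c, hc, -⟩ := LinearMap.existsUnique_eq_smul_id_of_finrank_eq_one hfr (ρ g)
    have : ρ.character g = c := by
      unfold Representation.character
      rw [hc, map_smul, LinearMap.trace_id]
      simp
    rw [this]; exact hc
  have hmul : ∀ a b : G, ρ.character (a * b) = ρ.character a * ρ.character b := by
    intro a b
    have h := hscal (a * b)
    rw [map_mul, hscal a, hscal b] at h
    have h2 := congrArg (fun f : (Fin 1 → ℂ) →ₗ[ℂ] (Fin 1 → ℂ) => f (fun _ => 1) 0) h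
    simp [Module.End.mul_apply] at h2
    rw [← h2, mul_comm]
  have hone : ρ.character 1 = 1 := h1
  let ψ : G →* ℂ := { toFun := ρ.character, map_one' := hone, map_mul' := hmul }
  refine ⟨ψ.toHomUnits, fun g => ?_⟩
  rfl

end OneDim

section Count

variable {G : Type*} [Group G]

/-- Linear characters correspond to homomorphisms to `ℂˣ`. -/
noncomputable def linearCharEquiv :
    {χ : IrrCharacter G // (χ : G → ℂ) 1 = 1} ≃ (G →* ℂˣ) where
  toFun χ := (exists_monoidHom_of_degree_one
    (⟨χ.1.2.choose, χ.1.2.choose_spec.choose, χ.1.2.choose_spec.choose_spec.2⟩ :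
      IsCharacter G (χ.1 : G → ℂ)) χ.2).choose
  invFun φ := ⟨⟨fun g => ((φ g : ℂˣ) : ℂ), isIrrCharacter_of_monoidHom φ⟩, by simp⟩
  left_inv χ := by
    apply Subtype.ext
    apply Subtype.ext
    funext g
    exact ((exists_monoidHom_of_degree_one
      (⟨χ.1.2.choose, χ.1.2.choose_spec.choose, χ.1.2.choose_spec.choose_spec.2⟩ :
        IsCharacter G (χ.1 : G → ℂ)) χ.2).choose_spec g).symm
  right_inv φ := by
    apply MonoidHom.ext
    intro g
    apply Units.ext
    have := (exists_monoidHom_of_degree_one
      (⟨(isIrrCharacter_of_monoidHom φ).choose, (isIrrCharacter_of_monoidHom φ).choose_spec.choose,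
        (isIrrCharacter_of_monoidHom φ).choose_spec.choose_spec.2⟩ :
        IsCharacter G (fun g => ((φ g : ℂˣ) : ℂ))) (by simp)).choose_spec g
    exact this.symm

theorem linearCharEquiv_apply (χ : {χ : IrrCharacter G // (χ : G → ℂ) 1 = 1}) (g : G) :
    ((linearCharEquiv χ g : ℂˣ) : ℂ) = (χ.1 : G → ℂ) g := by
  have := congrArg (fun ψ : {χ : IrrCharacter G // (χ : G → ℂ) 1 = 1} => (ψ.1 : G → ℂ) g)
    (linearCharEquiv.left_inv χ)
  exact this

/-- A linear character is trivial on the commutator subgroup. -/
theorem linear_character_eq_one_of_mem_commutator (χ : IrrCharacter G)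
    (h1 : (χ : G → ℂ) 1 = 1) (g : G) (hg : g ∈ commutator G) : (χ : G → ℂ) g = 1 := by
  rw [← linearCharEquiv_apply ⟨χ, h1⟩ g]
  have hker : commutator G ≤ (linearCharEquiv ⟨χ, h1⟩).ker :=
    Abelianization.commutator_subset_ker _
  have := MonoidHom.mem_ker.mp (hker hg)
  rw [this]; rfl

/-- The number of irreducible characters of degree one equals the index of the commutator
subgroup. -/
theorem card_linear_characters [Finite G] :
    Nat.card {χ : IrrCharacter G // (χ : G → ℂ) 1 = 1} = (commutator G).index := by
  rw [Nat.card_congr linearCharEquiv, Nat.card_congr (Abelianization.lift (G := G) (A := ℂˣ))]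
  have hne : NeZero ((Monoid.exponent (Abelianization G) : ℕ) : ℂ) :=
    ⟨by exact_mod_cast Monoid.exponent_ne_zero_of_finite⟩
  rw [CommGroup.card_monoidHom_of_hasEnoughRootsOfUnity (Abelianization G) ℂ]
  rw [Subgroup.index_eq_card]
  rfl

end Count

end Cfsg.Agent.Lib.Helper77
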