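import Mathlib
import Cfsg.Prelude.Def_Blocks
import Cfsg.Agent.Lib.Helper77.Deflation
import Cfsg.Agent.Lib.Helper79.Schur

/-!
# The centre `Z(χ)` of a character (helper77, chunk (D))

* `repCenter ρ`: the subgroup of elements acting as scalars; it is normal, contains `ker ρ`.
* `mem_repCenter_iff_norm`: `g ∈ Z(ρ) ↔ ‖χ(g)‖ = χ(1)`.
* `mem_repCenter_iff_comm` (irreducible `ρ`): `g ∈ Z(ρ) ↔ ρ g` commutes with all `ρ h`
  `↔ ∀ h, ⁅g, h⁆ ∈ ker ρ` (`mem_repCenter_iff_commutator`), i.e. `Z(ρ)/ker ρ = Z(G/ker ρ)`.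
* `centerScalar ρ : repCenter ρ →* ℂ`, `ρ z = centerScalar z • id`, with kernel `ker ρ`;
  `isCyclic_repCenter_quotient`: `Z(ρ)/ker ρ` is cyclic.
-/

set_option autoImplicit false
open Cfsg
open scoped commutatorElement

namespace Cfsg.Agent.Lib.Helper77

section Center

variable {G : Type*} [Group G] {V : Type*} [AddCommGroup V] [Module ℂ V]
  (ρ : Representation ℂ G V)

/-- The centre `Z(ρ)` of a representation: the elements acting as scalars. -/
def repCenter : Subgroup G where
  carrier := {g | ∃ ω : ℂ, ρ g = ω • (LinearMap.id : V →ₗ[ℂ] V)}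
  one_mem' := ⟨1, by rw [map_one, one_smul]; rfl⟩
  mul_mem' := by
    rintro a b ⟨ω, ha⟩ ⟨η, hb⟩
    refine ⟨ω * η, ?_⟩
    rw [map_mul, ha, hb]
    ext v
    simp [mul_smul, Module.End.mul_apply, smul_comm ω η]
  inv_mem' := by
    rintro a ⟨ω, ha⟩
    have h1 : ρ a⁻¹ * ρ a = 1 := by rw [← map_mul, inv_mul_cancel, map_one]
    by_cases hω : ω = 0
    · refine ⟨0, ?_⟩
      rw [ha, hω, zero_smul, mul_zero] at h1
      ext v
      have := congrArg (fun f : V →ₗ[ℂ] V => f (ρ a⁻¹ v)) h1
      simp only [LinearMap.zero_apply, Module.End.one_apply] at this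
      rw [← this]; simp
    · refine ⟨ω⁻¹, ?_⟩
      rw [ha] at h1
      ext v
      have := congrArg (fun f : V →ₗ[ℂ] V => f v) h1
      simp only [Module.End.mul_apply, LinearMap.smul_apply, LinearMap.id_coe, id_eq,
        Module.End.one_apply, map_smul] at this
      simp only [LinearMap.smul_apply, LinearMap.id_coe, id_eq]
      rw [eq_inv_smul_iff₀ hω]
      exact this

theorem mem_repCenter_iff (g : G) :
    g ∈ repCenter ρ ↔ ∃ ω : ℂ, ρ g = ω • (LinearMap.id : V →ₗ[ℂ] V) := Iff.rfl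

instance repCenter_normal : (repCenter ρ).Normal := by
  constructor
  rintro n ⟨ω, hn⟩ g
  refine ⟨ω, ?_⟩
  rw [map_mul, map_mul, hn]
  ext v
  simp only [Module.End.mul_apply, LinearMap.smul_apply, LinearMap.id_coe, id_eq, map_smul]
  rw [← Module.End.mul_apply, ← map_mul, mul_inv_cancel, map_one, Module.End.one_apply]

theorem ker_le_repCenter : MonoidHom.ker ρ ≤ repCenter ρ := by
  intro g hg
  refine ⟨1, ?_⟩
  rw [MonoidHom.mem_ker.mp hg, one_smul]; rfl

/-- `g ∈ Z(ρ)` iff `‖χ(g)‖ = χ(1)`. -/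
theorem mem_repCenter_iff_norm [Finite G] [FiniteDimensional ℂ V] (g : G) :
    g ∈ repCenter ρ ↔ ‖ρ.character g‖ = (Module.finrank ℂ V : ℝ) :=
  (Helper3.norm_character_eq_iff ρ g).symm

/-- For an irreducible representation, `g ∈ Z(ρ)` iff `ρ g` commutes with every `ρ h`. -/
theorem mem_repCenter_iff_comm [FiniteDimensional ℂ V] [ρ.IsIrreducible] (g : G) :
    g ∈ repCenter ρ ↔ ∀ h : G, ρ g * ρ h = ρ h * ρ g := by
  constructor
  · rintro ⟨ω, hg⟩ h
    rw [hg]
    ext v
    simp [Module.End.mul_apply]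
  · intro hcomm
    exact ⟨_, Helper79.eq_smul_id_of_comm ρ (ρ g) (fun h => hcomm h)⟩

/-- For an irreducible representation, `g ∈ Z(ρ)` iff all commutators `⁅g, h⁆` lie in `ker ρ`:
the image of `Z(ρ)` in `G / ker ρ` is the centre. -/
theorem mem_repCenter_iff_commutator [FiniteDimensional ℂ V] [ρ.IsIrreducible] (g : G) :
    g ∈ repCenter ρ ↔ ∀ h : G, ⁅g, h⁆ ∈ MonoidHom.ker ρ := by
  rw [mem_repCenter_iff_comm]
  refine forall_congr' fun h => ?_
  rw [← map_mul, ← map_mul, MonoidHom.eq_iff]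
  have : (h * g)⁻¹ * (g * h) = ⁅g⁻¹, h⁻¹⁆ := by
    rw [commutatorElement_def]; group
  rw [this]
  constructor
  · intro hc
    have h2 : ⁅g, h⁆ = h * g * ⁅g⁻¹, h⁻¹⁆ * (h * g)⁻¹ := by
      rw [commutatorElement_def, commutatorElement_def]; group
    rw [h2]
    exact (MonoidHom.normal_ker ρ).conj_mem _ hc _
  · intro hc
    have h2 : ⁅g⁻¹, h⁻¹⁆ = (h * g)⁻¹ * ⁅g, h⁆ * (h * g)⁻¹⁻¹ := by
      rw [commutatorElement_def, commutatorElement_def]; group
    rw [h2]
    exact (MonoidHom.normal_ker ρ).conj_mem _ hc _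

/-- The scalar by which an element of the centre acts, as `χ(g)/χ(1)`. -/
noncomputable def centerScalarFun [FiniteDimensional ℂ V] (g : G) : ℂ :=
  ρ.character g / (Module.finrank ℂ V : ℂ)

theorem apply_eq_centerScalarFun_smul [FiniteDimensional ℂ V] (hV : Module.finrank ℂ V ≠ 0)
    {g : G} (hg : g ∈ repCenter ρ) :
    ρ g = centerScalarFun ρ g • (LinearMap.id : V →ₗ[ℂ] V) := by
  obtain ⟨ω, hω⟩ := hg
  have hn : (Module.finrank ℂ V : ℂ) ≠ 0 := by exact_mod_cast hV
  have : centerScalarFun ρ g = ω := by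
    unfold centerScalarFun Representation.character
    rw [hω, map_smul, LinearMap.trace_id, smul_eq_mul, mul_div_assoc, div_self hn, mul_one]
  rw [this, hω]

/-- The scalar action of the centre, as a monoid homomorphism `Z(ρ) →* ℂ`. -/
noncomputable def centerScalar [FiniteDimensional ℂ V] (hV : Module.finrank ℂ V ≠ 0) :
    repCenter ρ →* ℂ where
  toFun z := centerScalarFun ρ (z : G)
  map_one' := by
    have hn : (Module.finrank ℂ V : ℂ) ≠ 0 := by exact_mod_cast hV
    show centerScalarFun ρ 1 = 1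
    unfold centerScalarFun
    rw [Representation.char_one, div_self hn]
  map_mul' a b := by
    have hn : (Module.finrank ℂ V : ℂ) ≠ 0 := by exact_mod_cast hV
    show centerScalarFun ρ ((a : G) * (b : G)) = centerScalarFun ρ a * centerScalarFun ρ b
    have ha := apply_eq_centerScalarFun_smul ρ hV a.2
    have hb := apply_eq_centerScalarFun_smul ρ hV b.2
    have hab : ρ ((a : G) * (b : G)) =
        (centerScalarFun ρ a * centerScalarFun ρ b) • (LinearMap.id : V →ₗ[ℂ] V) := by
      rw [map_mul, ha, hb]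
      ext v
      simp [mul_smul, Module.End.mul_apply, smul_comm (centerScalarFun ρ ↑a)]
    conv_lhs => unfold centerScalarFun Representation.character
    rw [hab, map_smul, LinearMap.trace_id, smul_eq_mul, mul_div_assoc, div_self hn, mul_one]

theorem centerScalar_apply [FiniteDimensional ℂ V] (hV : Module.finrank ℂ V ≠ 0)
    (z : repCenter ρ) : centerScalar ρ hV z = ρ.character (z : G) / (Module.finrank ℂ V : ℂ) :=
  rfl

theorem apply_eq_centerScalar_smul [FiniteDimensional ℂ V] (hV : Module.finrank ℂ V ≠ 0)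
    (z : repCenter ρ) : ρ (z : G) = centerScalar ρ hV z • (LinearMap.id : V →ₗ[ℂ] V) :=
  apply_eq_centerScalarFun_smul ρ hV z.2

/-- `χ(z g) = λ(z) χ(g)` for `z ∈ Z(ρ)`. -/
theorem character_center_mul [FiniteDimensional ℂ V] (hV : Module.finrank ℂ V ≠ 0)
    (z : repCenter ρ) (g : G) :
    ρ.character ((z : G) * g) = centerScalar ρ hV z * ρ.character g := by
  unfold Representation.character
  rw [map_mul, apply_eq_centerScalar_smul ρ hV z, smul_mul_assoc, map_smul, smul_eq_mul]
  rfl

theorem centerScalar_ker [FiniteDimensional ℂ V] (hV : Module.finrank ℂ V ≠ 0) :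
    MonoidHom.ker (centerScalar ρ hV) = (MonoidHom.ker ρ).subgroupOf (repCenter ρ) := by
  ext z
  rw [MonoidHom.mem_ker, Subgroup.mem_subgroupOf, MonoidHom.mem_ker]
  constructor
  · intro h
    rw [apply_eq_centerScalar_smul ρ hV z, h, one_smul]; rfl
  · intro h
    have hn : (Module.finrank ℂ V : ℂ) ≠ 0 := by exact_mod_cast hV
    rw [centerScalar_apply]
    unfold Representation.character
    rw [h]
    show LinearMap.trace ℂ V LinearMap.id / _ = 1
    rw [LinearMap.trace_id, div_self hn]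

/-- `Z(ρ)/ker ρ` is cyclic. -/
theorem isCyclic_repCenter_quotient [Finite G] [FiniteDimensional ℂ V]
    (hV : Module.finrank ℂ V ≠ 0) :
    IsCyclic (repCenter ρ ⧸ (MonoidHom.ker ρ).subgroupOf (repCenter ρ)) := by
  let φ : repCenter ρ →* ℂˣ := (centerScalar ρ hV).toHomUnits
  have hker : φ.ker = (MonoidHom.ker ρ).subgroupOf (repCenter ρ) := by
    rw [← centerScalar_ker ρ hV]
    ext z
    rw [MonoidHom.mem_ker, MonoidHom.mem_ker, Units.ext_iff]
    rfl
  have hfin : Finite φ.range := Finite.of_surjective φ.rangeRestrict φ.rangeRestrict_surjective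
  have h1 : IsCyclic φ.range := inferInstance
  have h2 : IsCyclic (repCenter ρ ⧸ φ.ker) :=
    (QuotientGroup.quotientKerEquivRange φ).isCyclic.mpr h1
  exact (QuotientGroup.quotientMulEquivOfEq hker).isCyclic.mp h2

end Center

end Cfsg.Agent.Lib.Helper77
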