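import Mathlib
import Cfsg.Prelude.Def_Blocks
import Cfsg.Agent.Lib.Helper77.Center
import Cfsg.Agent.Lib.Helper3.CharIrr

/-!
# `Z(χ)` for irreducible characters in the `Cfsg` vocabulary (helper77, chunk (D))

* `irrRep χ`: a chosen irreducible representation affording `χ : IrrCharacter G`.
* `irrKer χ`, `irrCenter χ`: normal subgroups with `mem_irrKer : g ∈ irrKer χ ↔ χ g = χ 1`,
  `mem_irrCenter : g ∈ irrCenter χ ↔ ‖χ g‖ = ‖χ 1‖`, `mem_irrCenter_iff_commutator`
  (`Z(χ)/ker χ` is the centre of `G/ker χ`), `isCyclic_irrCenter_quotient`, and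
  `irr_center_mul : χ (z g) = irrCenterScalar χ z * χ g`.
* `sum_normSq_irr`: `∑ g, ‖χ g‖² = |G|`.
* `card_center_mul_sq_le`: `|Z(χ)| χ(1)² ≤ |G|`, for any subgroup `Z` on which `‖χ‖ = χ(1)`.
-/

set_option autoImplicit false
open Cfsg
open scoped commutatorElement ComplexConjugate

namespace Cfsg.Agent.Lib.Helper77

variable {G : Type*} [Group G]

/-- The degree of a chosen representation affording `χ`. -/
noncomputable def irrDim (χ : IrrCharacter G) : ℕ := χ.2.choose

/-- A chosen irreducible representation affording `χ`. -/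
noncomputable def irrRep (χ : IrrCharacter G) : Representation ℂ G (Fin (irrDim χ) → ℂ) :=
  χ.2.choose_spec.choose

instance irrRep_isIrreducible (χ : IrrCharacter G) : (irrRep χ).IsIrreducible :=
  χ.2.choose_spec.choose_spec.1

theorem irrRep_character (χ : IrrCharacter G) : (irrRep χ).character = (χ : G → ℂ) :=
  χ.2.choose_spec.choose_spec.2

theorem irrDim_ne_zero (χ : IrrCharacter G) : irrDim χ ≠ 0 := by
  have := Helper79.finrank_ne_zero_of_irreducible (irrRep χ)
  simpa using this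

theorem irr_apply_one (χ : IrrCharacter G) : (χ : G → ℂ) 1 = (irrDim χ : ℂ) := by
  rw [← irrRep_character χ, Representation.char_one]
  simp

/-- The kernel of an irreducible character, as a subgroup. -/
noncomputable def irrKer (χ : IrrCharacter G) : Subgroup G := MonoidHom.ker (irrRep χ)

/-- The centre `Z(χ)` of an irreducible character, as a subgroup. -/
noncomputable def irrCenter (χ : IrrCharacter G) : Subgroup G := repCenter (irrRep χ)

instance irrKer_normal (χ : IrrCharacter G) : (irrKer χ).Normal := MonoidHom.normal_ker _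

instance irrCenter_normal (χ : IrrCharacter G) : (irrCenter χ).Normal := repCenter_normal _

theorem irrKer_le_irrCenter (χ : IrrCharacter G) : irrKer χ ≤ irrCenter χ :=
  ker_le_repCenter _

theorem mem_irrKer [Finite G] (χ : IrrCharacter G) (g : G) :
    g ∈ irrKer χ ↔ (χ : G → ℂ) g = (χ : G → ℂ) 1 := by
  rw [← irrRep_character χ]
  exact mem_ker_iff_character_eq (irrRep χ) g

theorem mem_irrCenter [Finite G] (χ : IrrCharacter G) (g : G) :
    g ∈ irrCenter χ ↔ ‖(χ : G → ℂ) g‖ = ‖(χ : G → ℂ) 1‖ := by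
  rw [irr_apply_one, ← irrRep_character χ]
  unfold irrCenter
  rw [mem_repCenter_iff_norm]
  simp

/-- `Z(χ)/ker χ` is the centre of `G/ker χ`. -/
theorem mem_irrCenter_iff_commutator (χ : IrrCharacter G) (g : G) :
    g ∈ irrCenter χ ↔ ∀ h : G, ⁅g, h⁆ ∈ irrKer χ :=
  mem_repCenter_iff_commutator (irrRep χ) g

/-- `Z(χ)/ker χ` is cyclic. -/
theorem isCyclic_irrCenter_quotient [Finite G] (χ : IrrCharacter G) :
    IsCyclic (irrCenter χ ⧸ (irrKer χ).subgroupOf (irrCenter χ)) :=
  isCyclic_repCenter_quotient (irrRep χ) (Helper79.finrank_ne_zero_of_irreducible (irrRep χ))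

/-- The scalar action of `Z(χ)`. -/
noncomputable def irrCenterScalar (χ : IrrCharacter G) : irrCenter χ →* ℂ :=
  centerScalar (irrRep χ) (Helper79.finrank_ne_zero_of_irreducible (irrRep χ))

theorem irrCenterScalar_apply (χ : IrrCharacter G) (z : irrCenter χ) :
    irrCenterScalar χ z = (χ : G → ℂ) (z : G) / (χ : G → ℂ) 1 := by
  have h := centerScalar_apply (irrRep χ)
    (Helper79.finrank_ne_zero_of_irreducible (irrRep χ)) z
  rw [irr_apply_one, ← irrRep_character χ]
  refine Eq.trans h ?_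
  simp

theorem irr_center_mul (χ : IrrCharacter G) (z : irrCenter χ) (g : G) :
    (χ : G → ℂ) ((z : G) * g) = irrCenterScalar χ z * (χ : G → ℂ) g := by
  rw [← irrRep_character χ]
  exact character_center_mul (irrRep χ) _ z g

/-- `∑ g, ‖χ g‖² = |G|` for an irreducible character. -/
theorem sum_normSq_irr [Fintype G] (χ : IrrCharacter G) :
    ∑ g : G, ‖(χ : G → ℂ) g‖ ^ 2 = (Nat.card G : ℝ) := by
  have h := Helper3.classInner_irrCharacter χ.2 χ.2
  rw [if_pos rfl] at h
  unfold classInner at h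
  have hne : (Nat.card G : ℂ) ≠ 0 := by exact_mod_cast Nat.card_pos.ne'
  rw [inv_mul_eq_iff_eq_mul₀ hne, mul_one] at h
  have h2 : ∑ g : G, (χ : G → ℂ) g * conj ((χ : G → ℂ) g) =
      ((∑ g : G, ‖(χ : G → ℂ) g‖ ^ 2 : ℝ) : ℂ) := by
    push_cast
    apply Finset.sum_congr rfl
    intro g _
    rw [Complex.mul_conj, Complex.normSq_eq_norm_sq]
    push_cast; rfl
  rw [h2] at h
  exact_mod_cast h

/-- If `‖χ‖ = χ(1)` on the subgroup `Z` (e.g. `Z = irrCenter χ`), then `|Z| χ(1)² ≤ |G|`. -/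
theorem card_mul_sq_le [Fintype G] (χ : IrrCharacter G) (Z : Subgroup G)
    (hZ : ∀ z ∈ Z, ‖(χ : G → ℂ) z‖ = ‖(χ : G → ℂ) 1‖) :
    (Nat.card Z : ℝ) * ‖(χ : G → ℂ) 1‖ ^ 2 ≤ (Nat.card G : ℝ) := by
  classical
  rw [← sum_normSq_irr χ]
  have : (Nat.card Z : ℝ) * ‖(χ : G → ℂ) 1‖ ^ 2 =
      ∑ g ∈ Finset.univ.filter (fun g : G => g ∈ Z), ‖(χ : G → ℂ) g‖ ^ 2 := by
    rw [Finset.sum_congr rfl (fun g hg => by rw [hZ g (Finset.mem_filter.mp hg).2]),
      Finset.sum_const, nsmul_eq_mul]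
    congr 2
    rw [Nat.card_eq_fintype_card, Fintype.card_subtype]
  rw [this]
  apply Finset.sum_le_sum_of_subset_of_nonneg (Finset.filter_subset _ _)
  intro g _ _
  positivity

/-- `|Z(χ)| χ(1)² ≤ |G|`. -/
theorem card_irrCenter_mul_sq_le [Fintype G] (χ : IrrCharacter G) :
    (Nat.card (irrCenter χ) : ℝ) * ‖(χ : G → ℂ) 1‖ ^ 2 ≤ (Nat.card G : ℝ) :=
  card_mul_sq_le χ (irrCenter χ) (fun z hz => (mem_irrCenter χ z).mp hz)

end Cfsg.Agent.Lib.Helper77
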