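import Mathlib.GroupTheory.Sylow
import Mathlib.GroupTheory.PGroup
import Mathlib.GroupTheory.OrderOfElement
import Mathlib.GroupTheory.Index

/-!
# The number of `p`-regular elements of a finite group is prime to `p` (helper77)

* `orderOf_conj_mul_inv`: conjugate elements have the same order.
* `not_dvd_card_pRegular`: `p` does not divide the number of elements of order prime to `p`.
-/

set_option autoImplicit false

namespace Cfsg.Agent.Lib.Helper77

section

variable {G : Type*} [Group G]

theorem orderOf_conj_mul_inv (c u : G) : orderOf (c * u * c⁻¹) = orderOf u := by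
  have := orderOf_injective (MulAut.conj c).toMonoidHom (MulAut.conj c).injective u
  simpa [MulAut.conj_apply] using this

/-- Conjugation action of a subgroup on the set of `p`-regular elements. -/
@[instance_reducible]
noncomputable def conjActionPReg (p : ℕ) (P : Subgroup G) :
    MulAction P {g : G // ¬ p ∣ orderOf g} where
  smul x g := ⟨(x : G) * g.1 * (x : G)⁻¹, by rw [orderOf_conj_mul_inv]; exact g.2⟩
  one_smul g := by
    apply Subtype.ext
    show ((1 : P) : G) * g.1 * ((1 : P) : G)⁻¹ = g.1
    simp
  mul_smul x y g := by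
    apply Subtype.ext
    show ((x * y : P) : G) * g.1 * ((x * y : P) : G)⁻¹ =
      (x : G) * ((y : G) * g.1 * (y : G)⁻¹) * (x : G)⁻¹
    simp [mul_assoc]

end

section

universe u

/-- The case of a central Sylow `p`-subgroup. -/
theorem card_pRegular_mul_card_of_central {G : Type u} [Group G] [Finite G] (p : ℕ)
    [hp : Fact p.Prime] (P : Sylow p G) (hc : (P : Subgroup G) ≤ Subgroup.center G) :
    Nat.card {g : G // ¬ p ∣ orderOf g} * Nat.card (P : Subgroup G) = Nat.card G := by
  classical
  have hPn : (P : Subgroup G).Normal := by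
    refine ⟨fun n hn g => ?_⟩
    have h1 := hc hn
    rw [Subgroup.mem_center_iff] at h1
    have : g * n * g⁻¹ = n := by rw [h1 g, mul_inv_cancel_right]
    rwa [this]
  set a := (Nat.card G).factorization p with ha
  have hcardP : Nat.card (P : Subgroup G) = p ^ a := P.card_eq_multiplicity
  rw [← Nat.card_prod]
  refine Nat.card_congr (Equiv.ofBijective
    (fun kz : {g : G // ¬ p ∣ orderOf g} × (P : Subgroup G) => kz.1.1 * (kz.2 : G)) ⟨?_, ?_⟩)
  · -- injective
    rintro ⟨⟨k, hk⟩, ⟨z, hz⟩⟩ ⟨⟨k', hk'⟩, ⟨z', hz'⟩⟩ h
    have h' : k * z = k' * z' := h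
    set w := z' * z⁻¹ with hw
    have hwP : w ∈ (P : Subgroup G) := mul_mem hz' (inv_mem hz)
    have hkw : k = k' * w := by
      rw [hw, ← mul_assoc, ← h', mul_inv_cancel_right]
    have hwc : Commute k' w := by
      have := hc hwP
      rw [Subgroup.mem_center_iff] at this
      exact this k'
    set n := orderOf k * orderOf k' with hn
    have h1 : k ^ n = 1 := by rw [hn, pow_mul, pow_orderOf_eq_one, one_pow]
    have h2 : k' ^ n = 1 := by rw [hn, mul_comm, pow_mul, pow_orderOf_eq_one, one_pow]
    have h3 : w ^ n = 1 := by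
      rw [hkw, hwc.mul_pow, h2, one_mul] at h1
      exact h1
    obtain ⟨j, hj⟩ := P.2 ⟨w, hwP⟩
    have hj' : w ^ p ^ j = 1 := congrArg Subtype.val hj
    have hcop : n.Coprime (p ^ j) := by
      apply Nat.Coprime.pow_right
      rw [hn]
      apply Nat.Coprime.mul_left
      · exact ((Nat.Prime.coprime_iff_not_dvd hp.out).mpr hk).symm
      · exact ((Nat.Prime.coprime_iff_not_dvd hp.out).mpr hk').symm
    have hw1 : w = 1 := by
      have h5 : orderOf w ∣ Nat.gcd n (p ^ j) :=
        Nat.dvd_gcd (orderOf_dvd_of_pow_eq_one h3) (orderOf_dvd_of_pow_eq_one hj')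
      rw [hcop, Nat.dvd_one, orderOf_eq_one_iff] at h5
      exact h5
    have hzz : z' = z := by
      rw [hw, mul_inv_eq_one] at hw1
      exact hw1
    have hkk : k = k' := by rw [hkw, hw1, mul_one]
    subst hzz
    subst hkk
    rfl
  · -- surjective
    intro g
    set q := p ^ a with hq
    set m := Nat.card G / q with hm
    have hqm : q * m = Nat.card G := Nat.ordProj_mul_ordCompl_eq_self _ p
    set w := g ^ q with hw
    have hwm : w ^ m = 1 := by
      rw [hw, ← pow_mul, hqm, pow_card_eq_one']
    have hpm : ¬ p ∣ m := Nat.not_dvd_ordCompl hp.out Nat.card_pos.ne'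
    have hcop : q.Coprime (orderOf w) := by
      apply Nat.Coprime.pow_left
      apply (Nat.Prime.coprime_iff_not_dvd hp.out).mpr
      intro hd
      exact hpm (hd.trans (orderOf_dvd_of_pow_eq_one hwm))
    obtain ⟨t, ht⟩ := exists_pow_eq_self_of_coprime hcop
    set v := w ^ t with hv
    have hvreg : ¬ p ∣ orderOf v := by
      intro hd
      apply hpm
      apply hd.trans
      apply orderOf_dvd_of_pow_eq_one
      rw [hv, ← pow_mul, mul_comm, pow_mul, hwm, one_pow]
    have hgv : Commute g v := by
      rw [hv, hw, ← pow_mul]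
      exact Commute.pow_right (Commute.refl g) _
    set u := v⁻¹ * g with hu
    have huq : u ^ q = 1 := by
      have hc2 : Commute v⁻¹ g := (hgv.symm).inv_left
      rw [hu, hc2.mul_pow, inv_pow]
      have : v ^ q = w := by
        rw [hv, ← pow_mul, mul_comm, pow_mul]
        exact ht
      rw [this, hw, inv_mul_cancel]
    have huP : u ∈ (P : Subgroup G) := by
      have hup : IsPGroup p (Subgroup.zpowers u) := by
        rintro ⟨x, hx⟩
        obtain ⟨i, rfl⟩ := Subgroup.mem_zpowers_iff.mp hx
        refine ⟨a, Subtype.ext ?_⟩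
        show (u ^ i) ^ p ^ a = 1
        rw [← zpow_natCast, ← zpow_mul, mul_comm, zpow_mul, zpow_natCast, ← hq, huq, one_zpow]
      have hsup : IsPGroup p (Subgroup.zpowers u ⊔ (P : Subgroup G) : Subgroup G) :=
        IsPGroup.to_sup_of_normal_right hup P.2
      have := P.is_maximal' hsup le_sup_right
      rw [← this]
      exact Subgroup.mem_sup_left (Subgroup.mem_zpowers u)
    refine ⟨⟨⟨v, hvreg⟩, ⟨u, huP⟩⟩, ?_⟩
    show v * u = g
    rw [hu, mul_inv_cancel_left]

theorem not_dvd_card_pRegular_aux (p : ℕ) [hp : Fact p.Prime] :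
    ∀ n : ℕ, ∀ (G : Type u) [Group G] [Finite G], Nat.card G = n →
      ¬ p ∣ Nat.card {g : G // ¬ p ∣ orderOf g} := by
  intro n
  induction n using Nat.strong_induction_on with
  | _ n ih =>
    intro G _ _ hn
    classical
    obtain ⟨P⟩ : Nonempty (Sylow p G) := inferInstance
    by_cases hc : (P : Subgroup G) ≤ Subgroup.center G
    · have h1 := card_pRegular_mul_card_of_central p P hc
      rw [P.card_eq_multiplicity] at h1
      intro hd
      obtain ⟨c, hc'⟩ := hd
      apply Nat.pow_succ_factorization_not_dvd (n := Nat.card G) Nat.card_pos.ne' hp.out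
      refine ⟨c, ?_⟩
      conv_lhs => rw [← h1, hc']
      ring
    · set C := Subgroup.centralizer ((P : Subgroup G) : Set G) with hC
      have hCtop : C ≠ ⊤ := by
        intro h
        apply hc
        rw [hC, Subgroup.centralizer_eq_top_iff_subset] at h
        exact h
      have hlt : Nat.card C < n := by
        rw [← hn]
        have h1 := Subgroup.card_mul_index C
        have h2 : C.index ≠ 1 := by
          intro h
          exact hCtop (Subgroup.index_eq_one.mp h)
        have h3 : C.index ≠ 0 := Subgroup.index_ne_zero_of_finite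
        have h4 : 2 ≤ C.index := by omega
        have h5 : 0 < Nat.card C := Nat.card_pos
        nlinarith
      have ihC := ih (Nat.card C) hlt C rfl
      let _ := conjActionPReg p (P : Subgroup G)
      have hmod := P.2.card_modEq_card_fixedPoints {g : G // ¬ p ∣ orderOf g}
      have hequiv : Nat.card (MulAction.fixedPoints (P : Subgroup G) {g : G // ¬ p ∣ orderOf g}) =
          Nat.card {c : C // ¬ p ∣ orderOf c} := by
        refine Nat.card_congr ?_
        refine
          { toFun := fun g => ⟨⟨g.1.1, ?_⟩, ?_⟩
            invFun := fun c => ⟨⟨c.1.1, ?_⟩, ?_⟩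
            left_inv := fun g => rfl
            right_inv := fun c => rfl }
        · rw [hC, Subgroup.mem_centralizer_iff]
          intro x hx
          have := g.2 ⟨x, hx⟩
          have h2 : x * g.1.1 * x⁻¹ = g.1.1 := congrArg Subtype.val this
          calc x * g.1.1 = x * g.1.1 * x⁻¹ * x := by group
            _ = g.1.1 * x := by rw [h2]
        · rw [← Subgroup.orderOf_coe]
          exact g.1.2
        · rw [Subgroup.orderOf_coe]
          exact c.2
        · intro x
          apply Subtype.ext
          show (x : G) * c.1.1 * (x : G)⁻¹ = c.1.1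
          have h3 : c.1.1 ∈ Subgroup.centralizer ((P : Subgroup G) : Set G) := c.1.2
          rw [Subgroup.mem_centralizer_iff] at h3
          rw [h3 x x.2, mul_inv_cancel_right]
      intro hd
      apply ihC
      rw [← hequiv]
      exact (Nat.modEq_zero_iff_dvd.mp ((hmod.symm).trans (Nat.modEq_zero_iff_dvd.mpr hd)))

/-- The number of `p`-regular elements of a finite group is prime to `p`. -/
theorem not_dvd_card_pRegular {G : Type u} [Group G] [Finite G] (p : ℕ) [Fact p.Prime] :
    ¬ p ∣ Nat.card {g : G // ¬ p ∣ orderOf g} :=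
  not_dvd_card_pRegular_aux p (Nat.card G) G rfl

end

end Cfsg.Agent.Lib.Helper77
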