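import Cfsg.Agent.Lib.Helper77.NrmAct

set_option autoImplicit false

namespace Cfsg.Agent.Lib.Helper77

open Cfsg MonoidAlgebra Cfsg.Agent.Lib.Helper16
open scoped ComplexConjugate Pointwise

section Unstable

attribute [local instance] nrmMulAction

variable {G : Type*} [Group G] [Fintype G] {M : Ideal AlgInt} [hMp : M.IsPrime]

open scoped Classical in
/-- For a `p`-subgroup `P` normalizing `H`, the sum of the idempotent coefficients of the blocks
of `H` that are not `P`-stable, at an element centralizing `P`, lies in the local ideal. -/
theorem sum_unstable_memLocalIdeal {p : ℕ} [Fact p.Prime] (hM : IsPModular p M)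
    (P H : Subgroup G) [Fintype H] (hP : IsPGroup p P)
    (hPH : P ≤ Subgroup.normalizer (H : Set G)) (z : H)
    (hz : (z : G) ∈ Subgroup.centralizer (P : Set G)) :
    MemLocalIdeal M (∑ f ∈ (blocksFinset M H).filter
      (fun f => ¬ ∀ x ∈ P, StabilizesBlock H f x), blockCoeff f z) := by
  classical
  let _ : MulAction P (Set (IrrCharacter H)) :=
    MulAction.compHom (Set (IrrCharacter H)) (Subgroup.inclusion hPH)
  have hsmul : ∀ (u : P) (f : Set (IrrCharacter H)), u • f = (Subgroup.inclusion hPH u) • f :=
    fun u f => rfl
  have hstab_iff : ∀ f : Set (IrrCharacter H),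
      (∀ x ∈ P, StabilizesBlock H f x) ↔ ∀ u : P, u • f = f := by
    intro f
    constructor
    · intro h u
      rw [hsmul, ← stabilizesBlock_iff]
      exact h u u.2
    · intro h x hx
      have := h ⟨x, hx⟩
      rw [hsmul, ← stabilizesBlock_iff] at this
      exact this
  rw [Finset.sum_filter]
  have : Fintype (Set (IrrCharacter H)) := Fintype.ofFinite _
  have hsum : ∑ f ∈ blocksFinset M H, (if ¬ ∀ x ∈ P, StabilizesBlock H f x then blockCoeff f z else 0)
      = ∑ f : Set (IrrCharacter H), (if IsPBlock M f ∧ ¬ ∀ u : P, u • f = f then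
          blockCoeff f z else 0) := by
    rw [← Finset.sum_filter, ← Finset.sum_filter]
    apply Finset.sum_congr
    · ext f
      simp only [Finset.mem_filter, Finset.mem_univ, true_and, mem_blocksFinset, hstab_iff]
    · intro _ _; rfl
  rw [hsum]
  have hP' : IsPGroup p (P : Type _) := hP
  apply sum_memLocalIdeal_of_pGroup hM hP'
  · intro u f
    have h1 : IsPBlock M (u • f) ↔ IsPBlock M f := by
      rw [hsmul]; exact isPBlock_smul_iff H _
    have h2 : (∀ v : P, v • (u • f) = u • f) ↔ ∀ v : P, v • f = f := by
      constructor
      · intro h v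
        have := h (u * v * u⁻¹)
        rw [← mul_smul, inv_mul_cancel_right, mul_smul] at this
        exact (MulAction.injective u) this
      · intro h v
        have := h (u⁻¹ * v * u)
        calc v • u • f = u • ((u⁻¹ * v * u) • f) := by
              rw [← mul_smul, ← mul_smul]; congr 1; group
          _ = u • f := by rw [this]
    have h3 : blockCoeff (u • f) z = blockCoeff f z := by
      rw [hsmul, blockCoeff_smul]
      congr 1
      apply Subtype.ext
      rw [coe_normalizerMonoidHom_apply]
      have hu : (u : G) ∈ P := u.2
      have hcomm := Subgroup.mem_centralizer_iff.mp hz (u : G) hu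
      -- hcomm : u * z = z * u
      simp only [Subgroup.coe_inv, Subgroup.coe_inclusion, inv_inv]
      calc (u : G)⁻¹ * (z : G) * (u : G) = (u : G)⁻¹ * ((z : G) * (u : G)) := by group
        _ = (u : G)⁻¹ * ((u : G) * (z : G)) := by rw [hcomm]
        _ = (z : G) := by group
    simp only [h1, h2, h3]
  · intro f
    split_ifs with h
    · exact blockCoeff_memLocalRing h.1 z
    · exact memLocalRing_zero hMp.ne_top
  · intro f hf
    rw [if_neg]
    rintro ⟨_, h⟩
    exact h (fun u => hf u)

end Unstable

end Cfsg.Agent.Lib.Helper77
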