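import Cfsg.Agent.Lib.Helper77.BrauerMap

set_option autoImplicit false

namespace Cfsg.Agent.Lib.Helper77

open Cfsg MonoidAlgebra Cfsg.Agent.Lib.Helper16
open scoped ComplexConjugate

section Idem

variable {G : Type*} [Group G] [Fintype G] {M : Ideal AlgInt} [hMp : M.IsPrime]

/-- The element of the group algebra whose coefficients are `blockCoeff B`: the sum of the
central primitive idempotents of the members of `B`. -/
noncomputable def idemOf (B : Set (IrrCharacter G)) : MonoidAlgebra ℂ G :=
  MonoidAlgebra.ofCoeff (Finsupp.equivFunOnFinite.symm (blockCoeff B))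

@[simp] theorem coeff_idemOf (B : Set (IrrCharacter G)) (g : G) :
    (idemOf B).coeff g = blockCoeff B g := by
  simp [idemOf]

theorem idemOf_mem_center (B : Set (IrrCharacter G)) :
    idemOf B ∈ Subalgebra.center ℂ (MonoidAlgebra ℂ G) := by
  apply mem_center_of_coeff_conj
  intro g h
  rw [coeff_idemOf, coeff_idemOf, blockCoeff_conj]

/-- `idemOf B` as an element of the centre. -/
noncomputable def idemC (B : Set (IrrCharacter G)) : Subalgebra.center ℂ (MonoidAlgebra ℂ G) :=
  ⟨idemOf B, idemOf_mem_center B⟩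

open scoped Classical in
theorem omegaHom_idemC (B : Set (IrrCharacter G)) (ψ : IrrCharacter G) :
    omegaHom ψ (idemC B) = if ψ ∈ B then 1 else 0 := by
  have hψ1 : (ψ : G → ℂ) 1 ≠ 0 := Cfsg.Agent.Lib.Helper79.irr_apply_one_ne_zero ψ
  rw [omegaHom_apply]
  unfold omega
  show (∑ g : G, (idemOf B).coeff g * (ψ : G → ℂ) g) / (ψ : G → ℂ) 1 = _
  simp only [coeff_idemOf]
  rw [sum_blockCoeff_mul]
  split_ifs
  · exact div_self hψ1
  · exact zero_div _

theorem idemC_mem_centerOrder {B : Set (IrrCharacter G)} (hB : IsPBlock M B) :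
    idemC B ∈ centerOrder G M := by
  intro g
  show MemLocalRing M ((idemOf B).coeff g)
  rw [coeff_idemOf]
  exact blockCoeff_memLocalRing hB g

theorem idemC_mul_self (B : Set (IrrCharacter G)) : idemC B * idemC B = idemC B := by
  classical
  apply eq_of_forall_omegaHom_eq
  intro ψ
  rw [map_mul, omegaHom_idemC]
  split_ifs <;> simp

theorem idemC_mul_of_disjoint {B B' : Set (IrrCharacter G)} (h : Disjoint B B') :
    idemC B * idemC B' = 0 := by
  classical
  apply eq_of_forall_omegaHom_eq
  intro ψ
  rw [map_mul, omegaHom_idemC, omegaHom_idemC, map_zero]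
  by_cases h1 : ψ ∈ B
  · have h2 : ψ ∉ B' := fun h2 => (Set.disjoint_left.mp h h1) h2
    rw [if_neg h2, mul_zero]
  · rw [if_neg h1, zero_mul]

open scoped Classical in
/-- The finite set of all blocks of `G`. -/
noncomputable def blocksFinset (M : Ideal AlgInt) (G : Type*) [Group G] [Fintype G] :
    Finset (Set (IrrCharacter G)) :=
  haveI : Fintype (IrrCharacter G) := Fintype.ofFinite _
  Finset.univ.image (fun χ : IrrCharacter G => blockOf M (χ : G → ℂ))

omit hMp in
theorem mem_blocksFinset {B : Set (IrrCharacter G)} : B ∈ blocksFinset M G ↔ IsPBlock M B := by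
  classical
  unfold blocksFinset IsPBlock
  simp only [Finset.mem_image, Finset.mem_univ, true_and]
  constructor
  · rintro ⟨χ, rfl⟩; exact ⟨χ, rfl⟩
  · rintro ⟨χ, rfl⟩; exact ⟨χ, rfl⟩

theorem sum_idemC_blocks : ∑ B ∈ blocksFinset M G, idemC B = 1 := by
  classical
  apply eq_of_forall_omegaHom_eq
  intro ψ
  rw [map_sum, map_one]
  rw [Finset.sum_eq_single (blockOf M (ψ : G → ℂ))]
  · rw [omegaHom_idemC, if_pos (self_mem_blockOf hMp.ne_top ψ)]
  · intro B hB hne
    rw [omegaHom_idemC, if_neg]
    intro hψ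
    apply hne
    exact IsPBlock_eq_blockOf (mem_blocksFinset.mp hB) hψ
  · intro h
    exact absurd (mem_blocksFinset.mpr (isPBlock_blockOf ψ)) h

end Idem

end Cfsg.Agent.Lib.Helper77
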