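import Cfsg.Agent.Lib.Helper16.Osima
import Cfsg.Agent.Lib.Helper81.IrrTwist

/-!
# Transport of irreducible characters and blocks along a group isomorphism (helper77)

For `φ : K ≃* H`, `irrTransport φ χ = χ ∘ φ`.  Central characters, `SameBlock`, blocks and the
idempotent coefficients `blockCoeff` are carried along.
-/

set_option autoImplicit false

namespace Cfsg.Agent.Lib.Helper77

open Cfsg Cfsg.Agent.Lib.Helper16
open scoped ComplexConjugate

variable {K H : Type*} [Group K] [Group H]

/-- Transport of an irreducible character along a group isomorphism. -/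
noncomputable def irrTransport (φ : K ≃* H) (χ : IrrCharacter H) : IrrCharacter K :=
  ⟨(χ : H → ℂ) ∘ φ, Helper81.isIrrCharacter_comp_mulEquiv χ.2 φ⟩

theorem irrTransport_apply (φ : K ≃* H) (χ : IrrCharacter H) (k : K) :
    (irrTransport φ χ : K → ℂ) k = (χ : H → ℂ) (φ k) := rfl

theorem irrTransport_symm_irrTransport (φ : K ≃* H) (χ : IrrCharacter H) :
    irrTransport φ.symm (irrTransport φ χ) = χ := by
  apply Subtype.ext
  funext h
  rw [irrTransport_apply, irrTransport_apply, MulEquiv.apply_symm_apply]

theorem irrTransport_irrTransport_symm (φ : K ≃* H) (χ : IrrCharacter K) :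
    irrTransport φ (irrTransport φ.symm χ) = χ := by
  apply Subtype.ext
  funext k
  rw [irrTransport_apply, irrTransport_apply, MulEquiv.symm_apply_apply]

theorem irrTransport_injective (φ : K ≃* H) : Function.Injective (irrTransport φ) := by
  intro χ ψ h
  rw [← irrTransport_symm_irrTransport φ χ, h, irrTransport_symm_irrTransport]

/-- The index of the centralizer of an element is preserved by isomorphisms. -/
theorem index_centralizer_mulEquiv' (φ : K ≃* H) (k : K) :
    (Subgroup.centralizer ({φ k} : Set H)).index = (Subgroup.centralizer ({k} : Set K)).index := by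
  have : (Subgroup.centralizer ({φ k} : Set H)).comap φ.toMonoidHom =
      Subgroup.centralizer ({k} : Set K) := by
    ext x
    rw [Subgroup.mem_comap, Subgroup.mem_centralizer_iff, Subgroup.mem_centralizer_iff]
    simp only [Set.mem_singleton_iff, forall_eq, MulEquiv.coe_toMonoidHom]
    rw [← map_mul, ← map_mul, φ.injective.eq_iff]
  rw [← this, Subgroup.index_comap_of_surjective _ φ.surjective]

theorem centralChar_irrTransport (φ : K ≃* H) (χ : IrrCharacter H) (k : K) :
    centralChar (irrTransport φ χ : K → ℂ) k = centralChar (χ : H → ℂ) (φ k) := by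
  unfold centralChar
  rw [irrTransport_apply, irrTransport_apply, map_one, index_centralizer_mulEquiv']

theorem sameBlock_irrTransport_iff {M : Ideal AlgInt} (φ : K ≃* H) (χ ψ : IrrCharacter H) :
    SameBlock M (irrTransport φ χ : K → ℂ) (irrTransport φ ψ : K → ℂ) ↔
      SameBlock M (χ : H → ℂ) (ψ : H → ℂ) := by
  unfold SameBlock
  simp only [centralChar_irrTransport]
  constructor
  · intro h x
    have := h (φ.symm x)
    rwa [MulEquiv.apply_symm_apply] at this
  · intro h k
    exact h _

theorem mem_image_irrTransport_iff (φ : K ≃* H) (e : Set (IrrCharacter H)) (θ : IrrCharacter K) :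
    θ ∈ irrTransport φ '' e ↔ irrTransport φ.symm θ ∈ e := by
  constructor
  · rintro ⟨χ, hχ, rfl⟩
    rwa [irrTransport_symm_irrTransport]
  · intro h
    exact ⟨_, h, irrTransport_irrTransport_symm φ θ⟩

theorem image_irrTransport_blockOf {M : Ideal AlgInt} (φ : K ≃* H) (χ : IrrCharacter H) :
    irrTransport φ '' blockOf M (χ : H → ℂ) = blockOf M (irrTransport φ χ : K → ℂ) := by
  ext θ
  rw [mem_image_irrTransport_iff]
  show SameBlock M _ _ ↔ SameBlock M _ _
  rw [← sameBlock_irrTransport_iff φ χ (irrTransport φ.symm θ), irrTransport_irrTransport_symm]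

theorem isPBlock_image_irrTransport {M : Ideal AlgInt} (φ : K ≃* H) {e : Set (IrrCharacter H)}
    (he : IsPBlock M e) : IsPBlock M (irrTransport φ '' e) := by
  obtain ⟨χ, rfl⟩ := he
  exact ⟨irrTransport φ χ, image_irrTransport_blockOf φ χ⟩

theorem blockCoeff_image_irrTransport (φ : K ≃* H) (e : Set (IrrCharacter H)) (k : K) :
    blockCoeff (irrTransport φ '' e) k = blockCoeff e (φ k) := by
  unfold blockCoeff
  rw [Nat.card_congr φ.toEquiv]
  congr 1
  rw [finsum_mem_image (fun a _ b _ hab => irrTransport_injective φ hab)]
  apply finsum_mem_congr rfl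
  intro χ _
  rw [irrTransport_apply, irrTransport_apply, map_one]

end Cfsg.Agent.Lib.Helper77
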