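import Cfsg.Agent.Lib.Helper16.PIndex
import Cfsg.Prelude.Def_BlockLocal

/-!
# Blocks of `G` whose idempotent is supported on a normal subgroup (helper77)

Let `N` be normal in `G`, `e` a block of `N`, `B` a block of `G` whose idempotent is supported on
`N`, and suppose some member of `B` lies over a member of `e`.  Then the idempotent of `B` is the
sum of the distinct `G`-conjugates of the idempotent of `e`.
-/

set_option autoImplicit false

namespace Cfsg.Agent.Lib.Helper77

open Cfsg MonoidAlgebra Cfsg.Agent.Lib.Helper16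
open Cfsg.Agent.Lib.Helper75 Cfsg.Agent.Lib.Helper78
open scoped ComplexConjugate

universe u

variable {G : Type u} [Group G] [Fintype G] (N : Subgroup G) [hN : N.Normal] [Fintype N]

omit [Fintype G] [Fintype N] in
theorem conjIrrN_conjIrrN (a b : G) (θ : IrrCharacter N) :
    conjIrrN N a (conjIrrN N b θ) = conjIrrN N (b * a) θ := by
  apply Subtype.ext
  show conjFun N a (conjFun N b (θ : N → ℂ)) = conjFun N (b * a) (θ : N → ℂ)
  rw [conjFun_mul]

omit [Fintype G] [Fintype N] in
theorem conjIrrN_one (θ : IrrCharacter N) : conjIrrN N 1 θ = θ :=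
  Subtype.ext (conjFun_one N _)

omit [Fintype G] [Fintype N] in
/-- The Prelude's `StabilizesBlock` for a normal subgroup in terms of `conjIrrN`. -/
theorem stabilizesBlock_iff_conjIrrN (e : Set (IrrCharacter N)) (x : G) :
    StabilizesBlock N e x ↔ ∀ χ ∈ e, conjIrrN N x⁻¹ χ ∈ e := by
  constructor
  · rintro ⟨-, h⟩ χ hχ
    obtain ⟨χ', hχ', hc⟩ := h χ hχ
    have : conjIrrN N x⁻¹ χ = χ' := by
      apply Subtype.ext
      funext k
      rw [conjIrrN_apply]
      symm
      apply hc
      simp only [inv_inv]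
      group
    rwa [this]
  · intro h
    refine ⟨?_, ?_⟩
    · rw [Subgroup.normalizer_eq_top]
      exact Subgroup.mem_top x
    · intro χ hχ
      refine ⟨conjIrrN N x⁻¹ χ, h χ hχ, ?_⟩
      intro k k' hk
      rw [conjIrrN_apply]
      refine congrArg _ (Subtype.ext ?_)
      show x⁻¹ * (k' : G) * x⁻¹⁻¹ = (k : G)
      rw [hk]
      simp only [inv_inv]
      group

section

variable {M : Ideal AlgInt} [hMp : M.IsPrime]

omit [Fintype G] [Fintype N] in
/-- If conjugation by `x` sends one member of a block into the block, it sends all of them. -/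
theorem conjIrrN_mem_of_exists {e : Set (IrrCharacter N)} (he : IsPBlock M e) (x : G)
    {θ₀ : IrrCharacter N} (hθ₀ : θ₀ ∈ e) (h : conjIrrN N x θ₀ ∈ e) :
    ∀ θ ∈ e, conjIrrN N x θ ∈ e := by
  intro θ hθ
  have h1 := sameBlock_conjIrrN N x (sameBlock_of_mem he hθ₀ hθ)
  rw [IsPBlock_eq_blockOf he h]
  exact h1

open scoped Classical in
/-- The number of elements conjugating `θ` into the block `e`. -/
theorem card_conjIrrN_mem {e : Set (IrrCharacter N)} (he : IsPBlock M e) (T : Subgroup G)
    (hT : ∀ x : G, x ∈ T ↔ ∀ χ ∈ e, conjIrrN N x χ ∈ e) (θ : IrrCharacter N) :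
    (Finset.univ.filter (fun x : G => conjIrrN N x θ ∈ e)).card =
      if θ ∈ conjClosure N e then Nat.card T else 0 := by
  by_cases hθ : θ ∈ conjClosure N e
  · rw [if_pos hθ]
    obtain ⟨g₀, hg₀⟩ := hθ
    set θ₀ := conjIrrN N g₀ θ with hθ₀
    have hθeq : θ = conjIrrN N g₀⁻¹ θ₀ := (conjIrrN_inv_conjIrrN N g₀ θ).symm
    have hiff : ∀ x : G, conjIrrN N x θ ∈ e ↔ g₀⁻¹ * x ∈ T := by
      intro x
      rw [hθeq, conjIrrN_conjIrrN, hT]
      constructor
      · intro h
        exact conjIrrN_mem_of_exists N he _ hg₀ h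
      · intro h
        exact h θ₀ hg₀
    rw [← Nat.card_eq_finsetCard (Finset.univ.filter (fun x : G => conjIrrN N x θ ∈ e))]
    apply Nat.card_congr
    refine ⟨fun x => ⟨g₀⁻¹ * x.1, ?_⟩, fun t => ⟨g₀ * t.1, ?_⟩, ?_, ?_⟩
    · have := x.2
      simp only [Finset.mem_filter, Finset.mem_univ, true_and] at this
      exact (hiff _).mp this
    · simp only [Finset.mem_filter, Finset.mem_univ, true_and]
      rw [hiff, inv_mul_cancel_left]
      exact t.2
    · intro x
      apply Subtype.ext
      simp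
    · intro t
      apply Subtype.ext
      simp
  · rw [if_neg hθ]
    rw [Finset.card_eq_zero, Finset.filter_eq_empty_iff]
    intro x _ hx
    exact hθ ⟨x, hx⟩

open scoped Classical in
/-- Summing the idempotent coefficients of a block of `N` over all conjugates. -/
theorem sum_blockCoeff_conj {e : Set (IrrCharacter N)} (he : IsPBlock M e) (T : Subgroup G)
    (hT : ∀ x : G, x ∈ T ↔ ∀ χ ∈ e, conjIrrN N x χ ∈ e) (n : N) :
    ∑ x : G, blockCoeff e (⟨x⁻¹ * n * x, by
        have := hN.conj_mem n n.2 x⁻¹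
        rwa [inv_inv] at this⟩ : N) =
      (Nat.card T : ℂ) * blockCoeff (conjClosure N e) n := by
  have hmem : ∀ x : G, x⁻¹ * (n : G) * x ∈ N := by
    intro x
    have := hN.conj_mem n n.2 x⁻¹
    rwa [inv_inv] at this
  simp only [blockCoeff_eq_sum]
  rw [← Finset.mul_sum, ← mul_assoc, mul_comm (Nat.card T : ℂ), mul_assoc]
  congr 1
  -- reindex each inner sum
  have h1 : ∀ x : G, ∑ χ ∈ Finset.univ.filter (fun χ : IrrCharacter N => χ ∈ e),
      (χ : N → ℂ) 1 * conj ((χ : N → ℂ) ⟨x⁻¹ * n * x, hmem x⟩) =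
      ∑ θ : IrrCharacter N, if conjIrrN N x θ ∈ e then
        (θ : N → ℂ) 1 * conj ((θ : N → ℂ) n) else 0 := by
    intro x
    rw [← Finset.sum_filter]
    refine Finset.sum_equiv (conjIrrNEquiv N x⁻¹) ?_ ?_
    · intro χ
      simp only [Finset.mem_filter, Finset.mem_univ, true_and]
      show χ ∈ e ↔ conjIrrN N x (conjIrrN N x⁻¹ χ) ∈ e
      rw [conjIrrN_conjIrrN_inv]
    · intro χ _
      show _ = (conjIrrN N x⁻¹ χ : N → ℂ) 1 * conj ((conjIrrN N x⁻¹ χ : N → ℂ) n)
      rw [conjIrrN_apply_one, conjIrrN_apply]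
      simp only [inv_inv]
  rw [Finset.sum_congr rfl (fun x _ => h1 x), Finset.sum_comm]
  have h2 : ∀ θ : IrrCharacter N, ∑ x : G, (if conjIrrN N x θ ∈ e then
      (θ : N → ℂ) 1 * conj ((θ : N → ℂ) n) else 0) =
      if θ ∈ conjClosure N e then (Nat.card T : ℂ) * ((θ : N → ℂ) 1 * conj ((θ : N → ℂ) n))
        else 0 := by
    intro θ
    rw [← Finset.sum_filter, Finset.sum_const, card_conjIrrN_mem N he T hT θ, nsmul_eq_mul]
    split_ifs
    · rfl
    · simp
  rw [Finset.sum_congr rfl (fun θ _ => h2 θ), ← Finset.sum_filter, Finset.mul_sum]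

/-- Characters of `G` over the same block of `N` lie in the same block of `G`, when the block
idempotent of that block of `G` is supported on `N`. -/
theorem mem_block_of_constituents_sameBlock {B : Set (IrrCharacter G)} (hB : IsPBlock M B)
    (hsupp : ∀ g : G, g ∉ N → blockCoeff B g = 0) {χ ψ : IrrCharacter G}
    {θ θ' : IrrCharacter N}
    (hθ : classInner (fun n : N => (χ : G → ℂ) n) (θ : N → ℂ) ≠ 0)
    (hθ' : classInner (fun n : N => (ψ : G → ℂ) n) (θ' : N → ℂ) ≠ 0)
    (h : SameBlock M (θ : N → ℂ) (θ' : N → ℂ)) (hχ : χ ∈ B) : ψ ∈ B := by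
  classical
  have hc := blockElt_mem_center B
  have hsupp' : ∀ g : G, g ∉ N → (blockElt B).coeff g = 0 := by
    intro g hg
    rw [coeff_blockElt]
    exact hsupp g hg
  have h1 := omega_eq_omega_resAlg_of_support N hc hsupp' χ θ hθ
  have h2 := omega_eq_omega_resAlg_of_support N hc hsupp' ψ θ' hθ'
  rw [omega_blockElt, if_pos hχ] at h1
  have hz : resAlgC N ⟨blockElt B, hc⟩ ∈ centerOrder N M := by
    apply resAlgC_mem_centerOrder
    intro g
    show MemLocalRing M ((blockElt B).coeff g)
    rw [coeff_blockElt]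
    exact blockCoeff_memLocalRing hB g
  have h3 := sameBlock_omegaHom_congr h hz
  rw [omegaHom_apply, omegaHom_apply] at h3
  change MemLocalIdeal M (omega (θ : N → ℂ) (resAlg N (blockElt B)) -
    omega (θ' : N → ℂ) (resAlg N (blockElt B))) at h3
  rw [← h1, ← h2, omega_blockElt] at h3
  by_contra hcon
  rw [if_neg hcon, sub_zero] at h3
  exact one_not_memLocalIdeal h3

/-- **Clifford correspondence of idempotents.**  If the idempotent of the block `B` of `G` is
supported on the normal subgroup `N` and some member of `B` lies over a member of the block `e`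
of `N`, then the idempotent of `B` is that of the union of the `G`-conjugates of `e`. -/
theorem blockCoeff_eq_conjClosure {B : Set (IrrCharacter G)} (hB : IsPBlock M B)
    (hsupp : ∀ g : G, g ∉ N → blockCoeff B g = 0) {e : Set (IrrCharacter N)} (he : IsPBlock M e)
    {χ₁ : IrrCharacter G} (hχ₁ : χ₁ ∈ B) {θ₁ : IrrCharacter N} (hθ₁ : θ₁ ∈ e)
    (hover : classInner (fun n : N => (χ₁ : G → ℂ) n) (θ₁ : N → ℂ) ≠ 0) (n : N) :
    blockCoeff B (n : G) = blockCoeff (conjClosure N e) n := by
  classical
  set U := conjClosure N e with hU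
  have hUs : IsGStable N U := isGStable_conjClosure N e
  have hR : ∀ n : N, MemLocalRing M (blockCoeff U n) :=
    blockCoeff_memLocalRing_of_closed N
      (fun θ θ' h1 h2 => conjClosure_sameBlock_closed N he h1 h2)
  have hzc := stableElt_mem_center N hUs
  have hbc := blockElt_mem_center B
  have key : (⟨blockElt B, hbc⟩ : Subalgebra.center ℂ (MonoidAlgebra ℂ G)) =
      ⟨stableElt N U, hzc⟩ := by
    apply eq_of_forall_omegaHom_eq
    intro χ
    rw [omegaHom_apply, omegaHom_apply]
    show omega (χ : G → ℂ) (blockElt B) = omega (χ : G → ℂ) (stableElt N U)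
    obtain ⟨θ, hθ⟩ := exists_constituent N χ
    rw [omega_blockElt, omega_stableElt N hUs χ θ hθ]
    by_cases hχ : χ ∈ B
    · rw [if_pos hχ, if_pos]
      exact (constituent_mem_iff_of_sameBlock (M := M) N hUs hR (sameBlock_of_mem hB hχ₁ hχ)
        hover hθ).mp (subset_conjClosure N e hθ₁)
    · rw [if_neg hχ, if_neg]
      rintro ⟨g, hg⟩
      apply hχ
      have hθg : classInner (fun n : N => (χ : G → ℂ) n) (conjIrrN N g θ : N → ℂ) ≠ 0 := by
        rw [classInner_res_conjIrrN]
        exact hθ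
      exact mem_block_of_constituents_sameBlock N hB hsupp hover hθg
        (sameBlock_of_mem he hθ₁ hg) hχ₁
  have := congrArg (fun z : Subalgebra.center ℂ (MonoidAlgebra ℂ G) =>
    (z : MonoidAlgebra ℂ G).coeff (n : G)) key
  simp only at this
  rw [coeff_blockElt, coeff_stableElt_coe] at this
  exact this

end

end Cfsg.Agent.Lib.Helper77
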