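import Cfsg.Agent.Lib.Helper82.NormalPSupport

set_option autoImplicit false

namespace Cfsg.Agent.Lib.Helper77

open Cfsg MonoidAlgebra Cfsg.Agent.Lib.Helper16
open scoped ComplexConjugate

section SubOsima

variable {G : Type*} [Group G] [Fintype G] {M : Ideal AlgInt} [hMp : M.IsPrime]

/-- **Osima's theorem inside a suborder.**  Let `S` be a subring of the order `Z(RG)` containing
the scalars from the local ring and the class sums of all classes on which two central characters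
differ modulo the ideal.  Then the block idempotent of every block lies in `S`. -/
theorem exists_block_idempotent_in
    (S : Subring (Subalgebra.center ℂ (MonoidAlgebra ℂ G))) (hS : S ≤ centerOrder G M)
    (hSalg : ∀ c : ℂ, MemLocalRing M c →
      algebraMap ℂ (Subalgebra.center ℂ (MonoidAlgebra ℂ G)) c ∈ S)
    (hScls : ∀ (g : G) (χ ψ : IrrCharacter G),
      ¬ MemLocalIdeal M (centralChar (χ : G → ℂ) g - centralChar (ψ : G → ℂ) g) →
        classSumC g ∈ S)
    (χ₀ : IrrCharacter G) :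
    ∃ E ∈ S, (∀ ψ ∈ blockOf M (χ₀ : G → ℂ), omegaHom ψ E = 1) ∧
      (∀ ψ : IrrCharacter G, ψ ∉ blockOf M (χ₀ : G → ℂ) → omegaHom ψ E = 0) := by
  classical
  have hfin : Finite (IrrCharacter G) := finite_irrCharacter
  have := Fintype.ofFinite (IrrCharacter G)
  set B := blockOf M (χ₀ : G → ℂ) with hB
  -- separating elements inside `S`
  have hsep0 : ∀ ψ : IrrCharacter G, ψ ∉ B → ∃ F ∈ S, omegaHom ψ F = 0 ∧
      ∀ θ ∈ B, ¬ MemLocalIdeal M (omegaHom θ F) := by
    intro ψ hψ
    have hne : ¬ SameBlock M (χ₀ : G → ℂ) (ψ : G → ℂ) := hψ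
    unfold SameBlock at hne
    push Not at hne
    obtain ⟨g, hg⟩ := hne
    set d := centralChar (χ₀ : G → ℂ) g - centralChar (ψ : G → ℂ) g with hd
    have hR : ∀ θ : IrrCharacter G, MemLocalRing M (centralChar (θ : G → ℂ) g) := fun θ =>
      memLocalRing_of_isIntegral hMp.ne_top (Cfsg.Agent.Lib.Helper79.isIntegral_centralChar θ g)
    have hdR : MemLocalRing M d := memLocalRing_sub (hR χ₀) (hR ψ)
    have hdinv : MemLocalRing M d⁻¹ := memLocalRing_inv hdR hg
    refine ⟨algebraMap ℂ _ d⁻¹ * (classSumC g - algebraMap ℂ _ (centralChar (ψ : G → ℂ) g)),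
      ?_, ?_, ?_⟩
    · exact S.mul_mem (hSalg _ hdinv) (S.sub_mem (hScls g χ₀ ψ hg) (hSalg _ (hR ψ)))
    · rw [map_mul, map_sub, AlgHom.commutes, AlgHom.commutes, omegaHom_classSumC]
      simp
    · intro θ hθ
      rw [map_mul, map_sub, AlgHom.commutes, AlgHom.commutes, omegaHom_classSumC]
      simp only [Algebra.algebraMap_self, RingHom.id_apply]
      have hθ' : MemLocalIdeal M (centralChar (χ₀ : G → ℂ) g - centralChar (θ : G → ℂ) g) := hθ g
      have h1 : ¬ MemLocalIdeal M (centralChar (θ : G → ℂ) g - centralChar (ψ : G → ℂ) g) := by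
        intro h
        apply hg
        have := memLocalIdeal_add hθ' h
        rwa [sub_add_sub_cancel] at this
      rw [memLocalIdeal_mul_iff hdinv (memLocalRing_sub (hR θ) (hR ψ))]
      push Not
      exact ⟨inv_not_memLocalIdeal hdR hg, h1⟩
  have hsep : ∀ ψ : IrrCharacter G, ∃ F ∈ S, ψ ∉ B → (omegaHom ψ F = 0 ∧
      ∀ θ ∈ B, ¬ MemLocalIdeal M (omegaHom θ F)) := by
    intro ψ
    by_cases hψ : ψ ∈ B
    · exact ⟨1, S.one_mem, fun h => absurd hψ h⟩
    · obtain ⟨F, hF, h1, h2⟩ := hsep0 ψ hψ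
      exact ⟨F, hF, fun _ => ⟨h1, h2⟩⟩
  choose Fs hFs hFs' using hsep
  set Bc : Finset (IrrCharacter G) := Finset.univ.filter (fun ψ => ψ ∉ B) with hBc
  set Bf : Finset (IrrCharacter G) := Finset.univ.filter (fun ψ => ψ ∈ B) with hBf
  set F := ∏ ψ ∈ Bc, Fs ψ with hF
  have hFmem : F ∈ S := S.prod_mem fun ψ _ => hFs ψ
  have hF0 : ∀ ψ, ψ ∉ B → omegaHom ψ F = 0 := by
    intro ψ hψ
    rw [hF, map_prod]
    exact Finset.prod_eq_zero (Finset.mem_filter.mpr ⟨Finset.mem_univ _, hψ⟩) (hFs' ψ hψ).1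
  have hFu : ∀ θ ∈ B, MemLocalRing M (omegaHom θ F) ∧ ¬ MemLocalIdeal M (omegaHom θ F) := by
    intro θ hθ
    rw [hF, map_prod]
    apply not_memLocalIdeal_prod
    intro ψ hψ
    have hψ' : ψ ∉ B := (Finset.mem_filter.mp hψ).2
    exact ⟨omegaHom_memLocalRing θ (hS (hFs ψ)), (hFs' ψ hψ').2 θ hθ⟩
  set P := ∏ θ ∈ Bf, (F - algebraMap ℂ _ (omegaHom θ F)) with hP
  have hPmem : P ∈ S := S.prod_mem fun θ hθ =>
    S.sub_mem hFmem (hSalg _ (hFu θ (Finset.mem_filter.mp hθ).2).1)
  set d := ∏ θ ∈ Bf, (0 - omegaHom θ F) with hd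
  have hdu : MemLocalRing M d ∧ ¬ MemLocalIdeal M d := by
    apply not_memLocalIdeal_prod
    intro θ hθ
    have := hFu θ (Finset.mem_filter.mp hθ).2
    rw [zero_sub]
    exact ⟨memLocalRing_neg this.1, fun h => this.2 (by simpa using memLocalIdeal_neg h)⟩
  have hd0 : d ≠ 0 := ne_zero_of_not_memLocalIdeal hdu.2
  have hPval : ∀ ψ : IrrCharacter G, omegaHom ψ P = ∏ θ ∈ Bf, (omegaHom ψ F - omegaHom θ F) := by
    intro ψ
    rw [hP, map_prod]
    refine Finset.prod_congr rfl fun θ _ => ?_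
    rw [map_sub, AlgHom.commutes]
    rfl
  refine ⟨1 - algebraMap ℂ _ d⁻¹ * P, ?_, ?_, ?_⟩
  · exact S.sub_mem S.one_mem (S.mul_mem (hSalg _ (memLocalRing_inv hdu.1 hdu.2)) hPmem)
  · intro ψ hψ
    rw [map_sub, map_one, map_mul, AlgHom.commutes, hPval]
    simp only [Algebra.algebraMap_self, RingHom.id_apply]
    have : ∏ θ ∈ Bf, (omegaHom ψ F - omegaHom θ F) = 0 :=
      Finset.prod_eq_zero (Finset.mem_filter.mpr ⟨Finset.mem_univ _, hψ⟩) (sub_self _)
    rw [this, mul_zero, sub_zero]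
  · intro ψ hψ
    rw [map_sub, map_one, map_mul, AlgHom.commutes, hPval]
    simp only [Algebra.algebraMap_self, RingHom.id_apply]
    rw [hF0 ψ hψ, ← hd, inv_mul_cancel₀ hd0, sub_self]

/-- The suborder of `Z(RG)` consisting of the elements supported on the subgroup `N`. -/
noncomputable def supportedOrder (M : Ideal AlgInt) [M.IsPrime] (N : Subgroup G) :
    Subring (Subalgebra.center ℂ (MonoidAlgebra ℂ G)) where
  carrier := {z | z ∈ centerOrder G M ∧ ∀ g : G, g ∉ N → (z : MonoidAlgebra ℂ G).coeff g = 0}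
  one_mem' := by
    classical
    refine ⟨(centerOrder G M).one_mem, fun g hg => ?_⟩
    show (1 : MonoidAlgebra ℂ G).coeff g = 0
    rw [coeff_one_apply, if_neg]
    rintro rfl
    exact hg N.one_mem
  mul_mem' := by
    rintro z w ⟨hz, hz0⟩ ⟨hw, hw0⟩
    refine ⟨(centerOrder G M).mul_mem hz hw, fun g hg => ?_⟩
    show ((z : MonoidAlgebra ℂ G) * (w : MonoidAlgebra ℂ G)).coeff g = 0
    rw [coeff_mul_eq_sum_left]
    apply Finset.sum_eq_zero
    intro x _
    by_cases hx : x ∈ N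
    · have : x⁻¹ * g ∉ N := fun h => hg (by simpa using N.mul_mem hx h)
      rw [hw0 _ this, mul_zero]
    · rw [hz0 _ hx, zero_mul]
  zero_mem' := ⟨(centerOrder G M).zero_mem, fun g _ => rfl⟩
  add_mem' := by
    rintro z w ⟨hz, hz0⟩ ⟨hw, hw0⟩
    refine ⟨(centerOrder G M).add_mem hz hw, fun g hg => ?_⟩
    show ((z : MonoidAlgebra ℂ G) + (w : MonoidAlgebra ℂ G)).coeff g = 0
    rw [coeff_add, Finsupp.add_apply, hz0 g hg, hw0 g hg, add_zero]
  neg_mem' := by
    rintro z ⟨hz, hz0⟩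
    refine ⟨(centerOrder G M).neg_mem hz, fun g hg => ?_⟩
    show (-(z : MonoidAlgebra ℂ G)).coeff g = 0
    rw [coeff_neg, Finsupp.neg_apply, hz0 g hg, neg_zero]

theorem mem_supportedOrder {N : Subgroup G} {z : Subalgebra.center ℂ (MonoidAlgebra ℂ G)} :
    z ∈ supportedOrder M N ↔
      z ∈ centerOrder G M ∧ ∀ g : G, g ∉ N → (z : MonoidAlgebra ℂ G).coeff g = 0 := Iff.rfl

/-- If every class on which two central characters differ modulo the ideal lies inside the normal
subgroup `N`, then every block idempotent is supported on `N`. -/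
theorem blockCoeff_eq_zero_of_support (N : Subgroup G) [N.Normal]
    (hN : ∀ (g : G), g ∉ N → ∀ χ : IrrCharacter G, MemLocalIdeal M (centralChar (χ : G → ℂ) g))
    {B : Set (IrrCharacter G)} (hB : IsPBlock M B) (g : G) (hg : g ∉ N) :
    blockCoeff B g = 0 := by
  classical
  obtain ⟨χ₀, rfl⟩ := hB
  obtain ⟨E, hE, h1, h0⟩ := exists_block_idempotent_in (M := M) (supportedOrder M N)
    (fun z hz => hz.1)
    (fun c hc => by
      refine ⟨algebraMap_mem_centerOrder hc, fun g hg => ?_⟩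
      show (algebraMap ℂ (MonoidAlgebra ℂ G) c).coeff g = 0
      rw [coeff_algebraMap_apply, if_neg]
      rintro rfl
      exact hg N.one_mem)
    (fun g χ ψ hne => by
      have hgN : g ∈ N := by
        by_contra hgN
        exact hne (memLocalIdeal_sub (hN g hgN χ) (hN g hgN ψ))
      refine ⟨classSumC_mem_centerOrder g, fun x hx => ?_⟩
      show (classSum g).coeff x = 0
      rw [coeff_classSum, if_neg]
      intro hconj
      obtain ⟨c, hc⟩ := isConj_iff.mp hconj
      apply hx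
      rw [← hc]
      exact ‹N.Normal›.conj_mem g hgN c)
    χ₀
  rw [← coeff_eq_blockCoeff χ₀ h1 h0 g]
  exact hE.2 g hg

end SubOsima

end Cfsg.Agent.Lib.Helper77
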