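import Cfsg.Agent.Lib.Helper77.BrauerUnstable

set_option autoImplicit false

namespace Cfsg.Agent.Lib.Helper77

open Cfsg MonoidAlgebra Cfsg.Agent.Lib.Helper16
open scoped ComplexConjugate

section DPrime

variable {G : Type*} [Group G] [Fintype G] {M : Ideal AlgInt} [hMp : M.IsPrime]

/-- An element which is idempotent modulo the ideal and nilpotent modulo the ideal vanishes
modulo the ideal. -/
theorem coeffsInIdeal_of_sq_sub_self {x : MonoidAlgebra ℂ G} (hx : CoeffsInRing M x)
    (hsq : CoeffsInIdeal M (x * x - x)) (n : ℕ) (hn : CoeffsInIdeal M (x ^ (n + 1))) :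
    CoeffsInIdeal M x := by
  have h1 : CoeffsInIdeal M (-x) := by
    apply coeffsInIdeal_of_sq_add_self (x := -x) _ _ n
    · rw [neg_pow]
      have : CoeffsInRing M ((-1 : MonoidAlgebra ℂ G) ^ (n + 1)) :=
        CoeffsInRing.pow (by
          have := CoeffsInRing.sub (M := M) (a := (0 : MonoidAlgebra ℂ G)) (b := 1)
            (fun g => by simpa using memLocalRing_zero hMp.ne_top) coeffsInRing_one
          simpa using this) _
      exact CoeffsInIdeal.mul_left this hn
    · intro g
      rw [coeff_neg, Finsupp.neg_apply]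
      exact memLocalRing_neg (hx g)
    · have : -x * -x + -x = x * x - x := by noncomm_ring
      rw [this]; exact hsq
  have := h1.neg
  rwa [neg_neg] at this

omit [Fintype G] hMp in
theorem sq_sub_self_identity {R : Type*} [CommRing R] (t E : R) (hEE : E * E = E) :
    (t * E) * (t * E) - t * E = (t * t - t) * E := by
  linear_combination (t * t) * hEE

omit [Fintype G] hMp in
/-- Conjugation invariance of the truncation to `H` extended by zero. -/
theorem conjInv_extend_trunc (S H : Subgroup G) (hS : S ≤ Subgroup.normalizer (H : Set G))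
    {a : MonoidAlgebra ℂ G} (ha : ConjInv S a) : ConjInv S (extend H (trunc H a)) := by
  apply conjInv_extend S H hS
  intro u hu h h' hh'
  rw [coeff_trunc, coeff_trunc, hh']
  exact ha u hu _

/-- **Lemma D'** (Alperin–Broué): if `(Q, f) ⊴ (P, e)` and `(R, g) ⊴ (P, e)` with `Q ≤ R`, then
`(Q, f) ⊴ (R, g)`. -/
theorem isNormalSubpair_of_le {p : ℕ} [Fact p.Prime] (hM : IsPModular p M)
    {P Q R : Subgroup G} [Fintype (Subgroup.centralizer (Q : Set G))]
    [Fintype (Subgroup.centralizer (R : Set G))] [Fintype (Subgroup.centralizer (P : Set G))]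
    {e : Set (IrrCharacter (Subgroup.centralizer (P : Set G)))}
    {f : Set (IrrCharacter (Subgroup.centralizer (Q : Set G)))}
    {g : Set (IrrCharacter (Subgroup.centralizer (R : Set G)))}
    (h1 : IsNormalSubpair p M Q f P e) (h2 : IsNormalSubpair p M R g P e) (hQR : Q ≤ R) :
    IsNormalSubpair p M Q f R g := by
  classical
  obtain ⟨hQf, hPe, hQP, hPNQ, hstabf, hωf⟩ := h1
  obtain ⟨hRg, _, hRP, hPNR, hstabg, hωg⟩ := h2
  have hRNQ : R ≤ Subgroup.normalizer (Q : Set G) := hRP.trans hPNQ
  have hstabfR : ∀ x ∈ R, StabilizesBlock (Subgroup.centralizer (Q : Set G)) f x :=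
    fun x hx => hstabf x (hRP hx)
  refine ⟨hQf, hRg, hQR, hRNQ, hstabfR, ?_⟩
  -- the admissible elements
  obtain ⟨af, haf⟩ : ∃ af, af = extend (Subgroup.centralizer (Q : Set G)) (idemOf f) := ⟨_, rfl⟩
  obtain ⟨ag, hag⟩ : ∃ ag, ag = extend (Subgroup.centralizer (R : Set G)) (idemOf g) := ⟨_, rfl⟩
  have hafR : BrAdm M R af := by
    rw [haf]; exact brAdm_extend_idemOf hQR hRNQ hQf.2 hstabfR
  have hafP : BrAdm M P af := by
    rw [haf]; exact brAdm_extend_idemOf hQP hPNQ hQf.2 hstabf
  have hagP : BrAdm M P ag := by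
    rw [hag]; exact brAdm_extend_idemOf hRP hPNR hRg.2 hstabg
  have hafaf : af * af = af := by
    rw [haf, ← extend_mul]
    congr 1
    exact congrArg Subtype.val (idemC_mul_self f)
  have hleRP : Subgroup.centralizer (P : Set G) ≤ Subgroup.centralizer (R : Set G) :=
    Subgroup.centralizer_le hRP
  -- the truncation of `af` to `C_G(R)`
  obtain ⟨y, hy⟩ : ∃ y, y = truncC R af hafR.invC := ⟨_, rfl⟩
  have hymem : y ∈ centerOrder (Subgroup.centralizer (R : Set G)) M := by
    rw [hy]; exact truncC_mem_centerOrder hafR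
  have hyy : CoeffsInIdeal M (y * y - y).1 := by
    have h := coeffsInIdeal_trunc_mul hM R hRg.1 hafR.ring hafR.ring hafR.invP hafR.invP
    rw [hafaf] at h
    have h3 := h.neg
    rw [neg_sub] at h3
    rw [hy]
    exact h3
  have hEmem : idemC g ∈ centerOrder (Subgroup.centralizer (R : Set G)) M :=
    idemC_mem_centerOrder hRg.2
  intro γ hγ
  rw [subgroupBlockCoeff_eq, brauerOmega_eq_omega, ← haf]
  have hlR : MemLocalRing M (omega (γ : Subgroup.centralizer (R : Set G) → ℂ)
      (trunc (Subgroup.centralizer (R : Set G)) af)) := brOmega_memLocalRing γ hafR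
  have hlsq := brOmega_mul hM hRg.1 γ hafR hafR
  rw [hafaf] at hlsq
  by_contra hcon
  -- then `λ ∈ ideal`
  have hlJ : MemLocalIdeal M (omega (γ : Subgroup.centralizer (R : Set G) → ℂ)
      (trunc (Subgroup.centralizer (R : Set G)) af)) := by
    generalize omega (γ : Subgroup.centralizer (R : Set G) → ℂ)
      (trunc (Subgroup.centralizer (R : Set G)) af) = l at *
    have e : l - l * l = l * (1 - l) := by ring
    rw [e, memLocalIdeal_mul_iff hlR (memLocalRing_sub (memLocalRing_one hMp.ne_top) hlR)]
      at hlsq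
    rcases hlsq with h | h
    · exact h
    · exfalso; apply hcon
      have := memLocalIdeal_neg h
      rwa [neg_sub] at this
  -- `x = y * E_g` has all central characters in the ideal
  obtain ⟨x, hx⟩ : ∃ x, x = y * idemC g := ⟨_, rfl⟩
  have hxmem : x ∈ centerOrder (Subgroup.centralizer (R : Set G)) M := by
    rw [hx]; exact Subring.mul_mem _ hymem hEmem
  have hωx : ∀ φ : IrrCharacter (Subgroup.centralizer (R : Set G)),
      MemLocalIdeal M (omegaHom φ x) := by
    intro φ
    rw [hx, map_mul, omegaHom_idemC]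
    by_cases hφ : φ ∈ g
    · rw [if_pos hφ, mul_one]
      have hsb : SameBlock M (φ : Subgroup.centralizer (R : Set G) → ℂ)
          (γ : Subgroup.centralizer (R : Set G) → ℂ) :=
        sameBlock_of_mem hRg.2 hφ hγ
      have h1 := sameBlock_omegaHom_congr hsb hymem
      have h2 : omegaHom γ y = omega (γ : Subgroup.centralizer (R : Set G) → ℂ)
          (trunc (Subgroup.centralizer (R : Set G)) af) := by
        rw [hy]; rfl
      rw [h2] at h1
      exact (memLocalIdeal_congr h1).mpr hlJ
    · rw [if_neg hφ, mul_zero]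
      exact memLocalIdeal_zero hMp.ne_top
  have hpow := exists_pow_coeffsInIdeal hxmem hωx
  have hxx : CoeffsInIdeal M (x.1 * x.1 - x.1) := by
    have hid : x * x - x = (y * y - y) * idemC g := by
      rw [hx]
      have hEE := idemC_mul_self g
      exact sq_sub_self_identity y (idemC g) hEE
    have h1 : (x * x - x).1 = (y * y - y).1 * (idemC g).1 := by rw [hid]; rfl
    have h2 : (x * x - x).1 = x.1 * x.1 - x.1 := rfl
    rw [← h2, h1]
    exact hyy.mul_right hEmem
  have hxJ : CoeffsInIdeal M x.1 := by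
    rcases Nat.eq_zero_or_pos (Nat.card (IrrCharacter (Subgroup.centralizer (R : Set G))))
      with h0 | hpos
    · exfalso
      rw [h0, pow_zero] at hpow
      have := hpow 1
      rw [show ((1 : Subalgebra.center ℂ (MonoidAlgebra ℂ (Subgroup.centralizer (R : Set G)))).1 :
        MonoidAlgebra ℂ (Subgroup.centralizer (R : Set G))) = 1 from rfl,
        coeff_one_apply, if_pos rfl] at this
      exact one_not_memLocalIdeal this
    · obtain ⟨n, hn⟩ := Nat.exists_eq_succ_of_ne_zero hpos.ne'
      rw [hn] at hpow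
      exact coeffsInIdeal_of_sq_sub_self hxmem hxx n (by
        have : (x ^ (n + 1)).1 = x.1 ^ (n + 1) := rfl
        rw [← this]; exact hpow)
  -- transfer to `G`
  obtain ⟨b', hb'⟩ : ∃ b', b' = extend (Subgroup.centralizer (R : Set G))
      (trunc (Subgroup.centralizer (R : Set G)) af) := ⟨_, rfl⟩
  have hb'P : BrAdm M P b' := by
    rw [hb']
    refine ⟨CoeffsInRing.extend hMp.ne_top _ (CoeffsInRing.trunc _ hafP.ring),
      conjInv_extend_trunc _ _ (hPNR.trans (normalizer_le_normalizer_centralizer' R)) hafP.invP,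
      conjInv_extend_trunc _ _ (hleRP.trans Subgroup.le_normalizer) hafP.invC⟩
  have hJ : CoeffsInIdeal M (b' * ag) := by
    rw [hb', hag, ← extend_mul]
    apply CoeffsInIdeal.extend hMp.ne_top
    have : x.1 = trunc (Subgroup.centralizer (R : Set G)) af * idemOf g := by
      rw [hx, hy]; rfl
    rw [← this]
    exact hxJ
  -- pick a member of `e`
  obtain ⟨ε₀, he⟩ := hPe.2
  have hε₀ : ε₀ ∈ e := by rw [he]; exact self_mem_blockOf hMp.ne_top ε₀
  have k1 := brOmega_mul hM hPe.1 ε₀ hb'P hagP
  have k4 : trunc (Subgroup.centralizer (P : Set G)) b' =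
      trunc (Subgroup.centralizer (P : Set G)) af := by
    rw [hb']; exact trunc_extend_trunc hleRP _
  rw [k4] at k1
  have k2 : MemLocalIdeal M (omega (ε₀ : Subgroup.centralizer (P : Set G) → ℂ)
      (trunc (Subgroup.centralizer (P : Set G)) (b' * ag))) :=
    omega_memLocalIdeal ε₀ (trunc_mem_center _ (hb'P.mul hagP).invC) (CoeffsInIdeal.trunc _ hJ)
  have k3f : MemLocalIdeal M (omega (ε₀ : Subgroup.centralizer (P : Set G) → ℂ)
      (trunc (Subgroup.centralizer (P : Set G)) af) - 1) := by
    have := hωf ε₀ hε₀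
    rw [subgroupBlockCoeff_eq, brauerOmega_eq_omega, ← haf] at this
    exact this
  have k3g : MemLocalIdeal M (omega (ε₀ : Subgroup.centralizer (P : Set G) → ℂ)
      (trunc (Subgroup.centralizer (P : Set G)) ag) - 1) := by
    have := hωg ε₀ hε₀
    rw [subgroupBlockCoeff_eq, brauerOmega_eq_omega, ← hag] at this
    exact this
  have hFR := brOmega_memLocalRing ε₀ hafP
  have hGR := brOmega_memLocalRing ε₀ hagP
  generalize omega (ε₀ : Subgroup.centralizer (P : Set G) → ℂ)
    (trunc (Subgroup.centralizer (P : Set G)) af) = F at *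
  generalize omega (ε₀ : Subgroup.centralizer (P : Set G) → ℂ)
    (trunc (Subgroup.centralizer (P : Set G)) ag) = Gg at *
  generalize omega (ε₀ : Subgroup.centralizer (P : Set G) → ℂ)
    (trunc (Subgroup.centralizer (P : Set G)) (b' * ag)) = Z at *
  apply one_not_memLocalIdeal (M := M)
  have h1R : MemLocalRing M (1 : ℂ) := memLocalRing_one hMp.ne_top
  have m1 : MemLocalIdeal M (F * Gg - 1 * 1) := memLocalIdeal_mul_sub_mul hFR h1R k3f k3g
  have m2 : MemLocalIdeal M (F * Gg) := by
    have := memLocalIdeal_sub k2 k1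
    rwa [sub_sub_cancel] at this
  have := memLocalIdeal_sub m2 m1
  simpa using this

end DPrime

end Cfsg.Agent.Lib.Helper77
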