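import Cfsg.Agent.Lib.Helper77.BrauerStab

set_option autoImplicit false

namespace Cfsg.Agent.Lib.Helper77

open Cfsg MonoidAlgebra Cfsg.Agent.Lib.Helper16
open scoped ComplexConjugate

section Step

variable {G : Type*} [Group G] [Fintype G] {M : Ideal AlgInt} [hMp : M.IsPrime]

omit [Fintype G] hMp in
theorem sq_add_self_identity {R : Type*} [CommRing R] (t E : R) (hEE : E * E = E) :
    (t * E - E) * (t * E - E) + (t * E - E) = (t * t - t) * E := by
  linear_combination (t * t - 2 * t + 1) * hEE

/-- If `(Q, f)` is a `B`-Brauer pair then the truncation `t` of the idempotent of `B` to `C_G(Q)`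
satisfies `t * e_f ≡ e_f` coefficientwise modulo the ideal. -/
theorem coeffsInIdeal_trunc_mul_idem_sub {p : ℕ} [Fact p.Prime] (hM : IsPModular p M)
    {Q : Subgroup G} [Fintype (Subgroup.centralizer (Q : Set G))]
    {B : Set (IrrCharacter G)} {f : Set (IrrCharacter (Subgroup.centralizer (Q : Set G)))}
    (h : IsBrauerPairOf p M B Q f) :
    CoeffsInIdeal M (trunc (Subgroup.centralizer (Q : Set G)) (idemOf B) * idemOf f - idemOf f) := by
  classical
  obtain ⟨⟨hQ, hf⟩, hB, hω⟩ := h
  have hBadm : BrAdm M Q (idemOf B) := brAdm_of_mem_centerOrder Q (idemC_mem_centerOrder hB)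
  set t : Subalgebra.center ℂ (MonoidAlgebra ℂ (Subgroup.centralizer (Q : Set G))) :=
    truncC Q (idemOf B) hBadm.invC with ht
  have htmem : t ∈ centerOrder (Subgroup.centralizer (Q : Set G)) M :=
    truncC_mem_centerOrder hBadm
  set E : Subalgebra.center ℂ (MonoidAlgebra ℂ (Subgroup.centralizer (Q : Set G))) :=
    idemC f with hE
  have hEmem : E ∈ centerOrder (Subgroup.centralizer (Q : Set G)) M := idemC_mem_centerOrder hf
  have hEE : E * E = E := idemC_mul_self f
  set x := t * E - E with hx
  have hxmem : x ∈ centerOrder (Subgroup.centralizer (Q : Set G)) M :=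
    Subring.sub_mem _ (Subring.mul_mem _ htmem hEmem) hEmem
  -- all central characters of x lie in the ideal
  have hωx : ∀ φ : IrrCharacter (Subgroup.centralizer (Q : Set G)),
      MemLocalIdeal M (omegaHom φ x) := by
    intro φ
    rw [hx, map_sub, map_mul, omegaHom_idemC]
    by_cases hφ : φ ∈ f
    · rw [if_pos hφ, mul_one]
      have := hω φ hφ
      rw [show blockCoeff B = fun g => (idemOf B).coeff g from by funext g; rw [coeff_idemOf],
        brauerOmega_eq_omega] at this
      exact this
    · rw [if_neg hφ, mul_zero, sub_zero]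
      exact memLocalIdeal_zero hMp.ne_top
  have hpow := exists_pow_coeffsInIdeal hxmem hωx
  -- x * x + x = (t * t - t) * E
  have hid : x * x + x = (t * t - t) * E := by
    rw [hx]
    exact sq_add_self_identity t E hEE
  have htt : CoeffsInIdeal M (t * t - t).1 := by
    have h1 := coeffsInIdeal_trunc_mul hM Q hQ hBadm.ring hBadm.ring hBadm.invP hBadm.invP
    have h2 : idemOf B * idemOf B = idemOf B := congrArg Subtype.val (idemC_mul_self B)
    rw [h2] at h1
    have h3 := h1.neg
    rw [neg_sub] at h3
    exact h3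
  have hsq : CoeffsInIdeal M (x.1 * x.1 + x.1) := by
    have h1 : (x * x + x).1 = (t * t - t).1 * E.1 := by
      rw [hid]; rfl
    have h2 : (x * x + x).1 = x.1 * x.1 + x.1 := rfl
    rw [← h2, h1]
    exact htt.mul_right hEmem
  have hxJ : CoeffsInIdeal M x.1 := by
    rcases Nat.eq_zero_or_pos (Nat.card (IrrCharacter (Subgroup.centralizer (Q : Set G))))
      with h0 | hpos
    · exfalso
      rw [h0, pow_zero] at hpow
      have := hpow 1
      rw [show ((1 : Subalgebra.center ℂ (MonoidAlgebra ℂ (Subgroup.centralizer (Q : Set G)))).1 :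
        MonoidAlgebra ℂ (Subgroup.centralizer (Q : Set G))) = 1 from rfl,
        coeff_one_apply, if_pos rfl] at this
      exact one_not_memLocalIdeal this
    · obtain ⟨n, hn⟩ := Nat.exists_eq_succ_of_ne_zero hpos.ne'
      rw [hn] at hpow
      exact coeffsInIdeal_of_sq_add_self hxmem hsq n (by
        have : (x ^ (n + 1)).1 = x.1 ^ (n + 1) := rfl
        rw [← this]; exact hpow)
  exact hxJ

/-- One step of the inclusion of Brauer pairs: if `(Q, f) ⊴ (P, e)` and `(Q, f)` is a Brauer pair
of the block `B`, then so is `(P, e)`. -/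
theorem isBrauerPairOf_of_isNormalSubpair {p : ℕ} [Fact p.Prime] (hM : IsPModular p M)
    {P Q : Subgroup G} [Fintype (Subgroup.centralizer (Q : Set G))]
    [Fintype (Subgroup.centralizer (P : Set G))]
    {B : Set (IrrCharacter G)} {f : Set (IrrCharacter (Subgroup.centralizer (Q : Set G)))}
    {e : Set (IrrCharacter (Subgroup.centralizer (P : Set G)))}
    (hN : IsNormalSubpair p M Q f P e) (hBQ : IsBrauerPairOf p M B Q f) :
    IsBrauerPairOf p M B P e := by
  classical
  obtain ⟨hQf, hPe, hQP, hPN, hstab, hωe⟩ := hN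
  have hB : IsPBlock M B := hBQ.2.1
  unfold IsBrauerPairOf
  refine ⟨hPe, hB, ?_⟩
  intro ξ hξ
  have hle : Subgroup.centralizer (P : Set G) ≤ Subgroup.centralizer (Q : Set G) :=
    Subgroup.centralizer_le hQP
  obtain ⟨af, haf⟩ : ∃ af, af = extend (Subgroup.centralizer (Q : Set G)) (idemOf f) := ⟨_, rfl⟩
  obtain ⟨b, hb⟩ : ∃ b, b = extend (Subgroup.centralizer (Q : Set G))
    (trunc (Subgroup.centralizer (Q : Set G)) (idemOf B)) := ⟨_, rfl⟩
  have hadm_af : BrAdm M P af := by
    rw [haf]
    exact brAdm_extend_idemOf hQP hPN hQf.2 hstab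
  have hBR : CoeffsInRing M (idemOf B) := idemC_mem_centerOrder hB
  have hadm_b : BrAdm M P b := by
    rw [hb]
    exact brAdm_extend_trunc hQP hPN (idemOf_mem_center B) hBR
  have hadm_B : BrAdm M P (idemOf B) := brAdm_of_mem_centerOrder P (idemC_mem_centerOrder hB)
  have hJ : CoeffsInIdeal M (b * af - af) := by
    rw [hb, haf, ← extend_mul, ← extend_sub]
    exact CoeffsInIdeal.extend hMp.ne_top _ (coeffsInIdeal_trunc_mul_idem_sub hM hBQ)
  have h1 := brOmega_mul hM hPe.1 ξ hadm_b hadm_af
  have h4 : trunc (Subgroup.centralizer (P : Set G)) b =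
      trunc (Subgroup.centralizer (P : Set G)) (idemOf B) := by
    rw [hb]
    exact trunc_extend_trunc hle _
  rw [h4] at h1
  have h2 : MemLocalIdeal M
      (omega (ξ : Subgroup.centralizer (P : Set G) → ℂ)
          (trunc (Subgroup.centralizer (P : Set G)) (b * af)) -
        omega (ξ : Subgroup.centralizer (P : Set G) → ℂ)
          (trunc (Subgroup.centralizer (P : Set G)) af)) := by
    rw [← omega_sub, ← trunc_sub]
    exact omega_memLocalIdeal ξ (trunc_mem_center _ ((hadm_b.mul hadm_af).sub hadm_af).invC)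
      (CoeffsInIdeal.trunc _ hJ)
  have h3 : MemLocalIdeal M (omega (ξ : Subgroup.centralizer (P : Set G) → ℂ)
      (trunc (Subgroup.centralizer (P : Set G)) af) - 1) := by
    have := hωe ξ hξ
    rw [subgroupBlockCoeff_eq, brauerOmega_eq_omega, ← haf] at this
    exact this
  rw [show blockCoeff B = fun g => (idemOf B).coeff g from by funext g; rw [coeff_idemOf],
    brauerOmega_eq_omega]
  have hAR := brOmega_memLocalRing ξ hadm_B
  have hFR := brOmega_memLocalRing ξ hadm_af
  generalize omega (ξ : Subgroup.centralizer (P : Set G) → ℂ)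
    (trunc (Subgroup.centralizer (P : Set G)) (idemOf B)) = A at *
  generalize omega (ξ : Subgroup.centralizer (P : Set G) → ℂ)
    (trunc (Subgroup.centralizer (P : Set G)) af) = F at *
  have h1R : MemLocalRing M (1 : ℂ) := memLocalRing_one hMp.ne_top
  have hFn : ¬ MemLocalIdeal M F := by
    intro hF'
    apply one_not_memLocalIdeal (M := M)
    have := memLocalIdeal_sub hF' h3
    simpa using this
  have h5 : MemLocalIdeal M ((A - 1) * F) := by
    have := memLocalIdeal_sub h2 h1
    rw [sub_sub_sub_cancel_left] at this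
    have e : (A - 1) * F = A * F - F := by ring
    rw [e]
    exact this
  rw [memLocalIdeal_mul_iff (memLocalRing_sub hAR h1R) hFR] at h5
  exact h5.resolve_right hFn

end Step

end Cfsg.Agent.Lib.Helper77
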