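import Cfsg.Agent.Lib.Helper77.BrauerPairs
import Cfsg.Agent.Lib.Helper81.IrrTwist

set_option autoImplicit false

namespace Cfsg.Agent.Lib.Helper77

open Cfsg MonoidAlgebra Cfsg.Agent.Lib.Helper16
open scoped ComplexConjugate Pointwise

section NrmAct

variable {G : Type*} [Group G] (H : Subgroup G)

/-- The conjugate of an irreducible character of `H` by an element `u` of `N_G(H)`:
`(u • χ) h = χ (u⁻¹ h u)`. -/
noncomputable def nrmSmul (u : Subgroup.normalizer (H : Set G)) (χ : IrrCharacter H) :
    IrrCharacter H :=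
  ⟨(χ : H → ℂ) ∘ (H.normalizerMonoidHom u⁻¹),
    Cfsg.Agent.Lib.Helper81.isIrrCharacter_comp_mulEquiv χ.2 (H.normalizerMonoidHom u⁻¹)⟩

theorem nrmSmul_apply (u : Subgroup.normalizer (H : Set G)) (χ : IrrCharacter H) (h : H) :
    (nrmSmul H u χ : H → ℂ) h = (χ : H → ℂ) (H.normalizerMonoidHom u⁻¹ h) := rfl

/-- The conjugation action of `N_G(H)` on the irreducible characters of `H`. -/
@[instance_reducible]
noncomputable def nrmMulAction : MulAction (Subgroup.normalizer (H : Set G)) (IrrCharacter H) where
  smul u χ := nrmSmul H u χ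
  one_smul χ := by
    apply Subtype.ext
    funext h
    show (nrmSmul H 1 χ : H → ℂ) h = _
    rw [nrmSmul_apply]
    simp
  mul_smul u v χ := by
    apply Subtype.ext
    funext h
    show (nrmSmul H (u * v) χ : H → ℂ) h = (nrmSmul H u (nrmSmul H v χ) : H → ℂ) h
    rw [nrmSmul_apply, nrmSmul_apply, nrmSmul_apply, mul_inv_rev, map_mul]
    rfl

attribute [local instance] nrmMulAction

theorem nrm_smul_apply (u : Subgroup.normalizer (H : Set G)) (χ : IrrCharacter H) (h : H) :
    ((u • χ : IrrCharacter H) : H → ℂ) h = (χ : H → ℂ) (H.normalizerMonoidHom u⁻¹ h) := rfl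

theorem coe_normalizerMonoidHom_apply (u : Subgroup.normalizer (H : Set G)) (h : H) :
    ((H.normalizerMonoidHom u h : H) : G) = (u : G) * (h : G) * (u : G)⁻¹ := rfl

theorem nrm_smul_one (u : Subgroup.normalizer (H : Set G)) (χ : IrrCharacter H) :
    ((u • χ : IrrCharacter H) : H → ℂ) 1 = (χ : H → ℂ) 1 := by
  rw [nrm_smul_apply, map_one]

/-- `u • χ` is the `u`-conjugate of `χ` in the sense of the Prelude. -/
theorem isConjCharOf_smul (u : Subgroup.normalizer (H : Set G)) (χ : IrrCharacter H) :
    IsConjCharOf H (u : G) (χ : H → ℂ) ((u • χ : IrrCharacter H) : H → ℂ) := by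
  intro k k' hk
  rw [nrm_smul_apply]
  have : H.normalizerMonoidHom u⁻¹ k' = k := by
    apply Subtype.ext
    rw [coe_normalizerMonoidHom_apply, hk]
    simp only [Subgroup.coe_inv, inv_inv]
    group
  rw [this]

theorem eq_smul_of_isConjCharOf (u : Subgroup.normalizer (H : Set G)) (χ χ' : IrrCharacter H)
    (h : IsConjCharOf H (u : G) (χ : H → ℂ) (χ' : H → ℂ)) : χ' = u • χ := by
  apply Subtype.ext
  funext k'
  rw [nrm_smul_apply]
  apply h
  rw [coe_normalizerMonoidHom_apply]
  simp only [Subgroup.coe_inv, inv_inv]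
  group

/-- The index of the centralizer of an element is invariant under automorphisms. -/
theorem index_centralizer_mulEquiv {K : Type*} [Group K] (e : K ≃* K) (k : K) :
    (Subgroup.centralizer ({e k} : Set K)).index = (Subgroup.centralizer ({k} : Set K)).index := by
  have : (Subgroup.centralizer ({e k} : Set K)).comap e.toMonoidHom =
      Subgroup.centralizer ({k} : Set K) := by
    ext x
    rw [Subgroup.mem_comap, Subgroup.mem_centralizer_iff, Subgroup.mem_centralizer_iff]
    simp only [Set.mem_singleton_iff, forall_eq, MulEquiv.coe_toMonoidHom]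
    rw [← map_mul, ← map_mul, e.injective.eq_iff]
  rw [← this, Subgroup.index_comap_of_surjective _ e.surjective]

theorem centralChar_smul (u : Subgroup.normalizer (H : Set G)) (χ : IrrCharacter H) (h : H) :
    centralChar ((u • χ : IrrCharacter H) : H → ℂ) h =
      centralChar (χ : H → ℂ) (H.normalizerMonoidHom u⁻¹ h) := by
  unfold centralChar
  rw [nrm_smul_one, nrm_smul_apply, index_centralizer_mulEquiv]

theorem sameBlock_smul_iff {M : Ideal AlgInt} (u : Subgroup.normalizer (H : Set G))
    (χ ψ : IrrCharacter H) :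
    SameBlock M ((u • χ : IrrCharacter H) : H → ℂ) ((u • ψ : IrrCharacter H) : H → ℂ) ↔
      SameBlock M (χ : H → ℂ) (ψ : H → ℂ) := by
  unfold SameBlock
  simp only [centralChar_smul]
  constructor
  · intro h k
    have := h (H.normalizerMonoidHom u k)
    rwa [map_inv, MulAut.inv_apply_self] at this
  · intro h k
    exact h _

theorem blockOf_smul {M : Ideal AlgInt} (u : Subgroup.normalizer (H : Set G))
    (χ : IrrCharacter H) :
    blockOf M ((u • χ : IrrCharacter H) : H → ℂ) = u • blockOf M (χ : H → ℂ) := by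
  ext ψ
  rw [Set.mem_smul_set_iff_inv_smul_mem]
  show SameBlock M _ _ ↔ SameBlock M _ _
  rw [← sameBlock_smul_iff H u χ (u⁻¹ • ψ), smul_inv_smul]

theorem isPBlock_smul {M : Ideal AlgInt} (u : Subgroup.normalizer (H : Set G))
    {f : Set (IrrCharacter H)} (hf : IsPBlock M f) : IsPBlock M (u • f) := by
  obtain ⟨χ, rfl⟩ := hf
  exact ⟨u • χ, (blockOf_smul H u χ).symm⟩

theorem isPBlock_smul_iff {M : Ideal AlgInt} (u : Subgroup.normalizer (H : Set G))
    {f : Set (IrrCharacter H)} : IsPBlock M (u • f) ↔ IsPBlock M f := by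
  constructor
  · intro h
    have := isPBlock_smul H u⁻¹ h
    rwa [inv_smul_smul] at this
  · exact isPBlock_smul H u

theorem blockCoeff_smul (u : Subgroup.normalizer (H : Set G)) (f : Set (IrrCharacter H)) (h : H) :
    blockCoeff (u • f) h = blockCoeff f (H.normalizerMonoidHom u⁻¹ h) := by
  unfold blockCoeff
  congr 1
  show ∑ᶠ χ ∈ (fun χ => u • χ) '' f, _ = _
  rw [finsum_mem_image (fun a _ b _ hab => MulAction.injective u hab)]
  apply finsum_mem_congr rfl
  intro χ _
  rw [nrm_smul_one, nrm_smul_apply]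

/-- The Prelude's `StabilizesBlock` in terms of the action on sets of characters. -/
theorem stabilizesBlock_iff [Finite G] (u : Subgroup.normalizer (H : Set G))
    (f : Set (IrrCharacter H)) : StabilizesBlock H f (u : G) ↔ u • f = f := by
  constructor
  · rintro ⟨_, h⟩
    have hsub : u • f ⊆ f := by
      rintro _ ⟨χ, hχ, rfl⟩
      obtain ⟨χ', hχ', hc⟩ := h χ hχ
      have := eq_smul_of_isConjCharOf H u χ χ' hc
      show u • χ ∈ f
      rw [← this]; exact hχ'
    have hfin : f.Finite := Set.toFinite f
    apply Set.eq_of_subset_of_ncard_le hsub _ hfin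
    have : (u • f).ncard = f.ncard := by
      show ((fun χ => u • χ) '' f).ncard = _
      exact Set.ncard_image_of_injective f (MulAction.injective u)
    rw [this]
  · intro h
    refine ⟨u.2, fun χ hχ => ⟨u • χ, ?_, isConjCharOf_smul H u χ⟩⟩
    rw [← h]
    exact Set.smul_mem_smul_set hχ

end NrmAct

end Cfsg.Agent.Lib.Helper77
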