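import Cfsg.Agent.Lib.Helper77.WAT.Defs
import Cfsg.Agent.Lib.Helper16.InducedPair
import Cfsg.Agent.Lib.Helper16.NilStab
import Cfsg.Agent.Lib.Helper82.NilAbelLocal
import Cfsg.Agent.Lib.Helper82.PullRank

/-!
# Project WAT (helper77), modules WAT-[LOC], WAT-[MAXQ], WAT-[CENT]

Transport of the local blocks of `f_Q` (computed in the type `↥C_G(Q)`) to `G`.
-/

set_option autoImplicit false
set_option linter.unusedSectionVars false
set_option linter.unusedVariables false

namespace Cfsg.Agent.Lib.Helper77.WAT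

open Cfsg Cfsg.Agent.Lib.Helper16 Cfsg.Agent.Lib.Helper16.BP Cfsg.Agent.Lib.Helper82
open scoped ComplexConjugate

universe u

section General

variable {G : Type u} [Group G] {M : Ideal AlgInt}

/-- transport of `IsInducedBlockIn` from the ambient group `↥L` to `G` -/
theorem isInducedBlockIn_of_sub (L : Subgroup G) (H' K' : Subgroup ↥L) (H K : Subgroup G)
    (φH : ↥H' ≃* ↥H) (hφH : ∀ x : H', ((φH x : H) : G) = ((x : ↥L) : G))
    (φK : ↥K' ≃* ↥K) (hφK : ∀ x : K', ((φK x : K) : G) = ((x : ↥L) : G))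
    (e : Set (IrrCharacter K)) (f' : Set (IrrCharacter H'))
    (h : IsInducedBlockIn M H' K' (pullBlock φK e) f') :
    IsInducedBlockIn M H K e (pullBlock φH.symm f') := by
  obtain ⟨he', hf', hmain⟩ := h
  refine ⟨?_, isPBlock_pullBlock _ hf', ?_⟩
  · have := isPBlock_pullBlock φK.symm he'
    rwa [pullBlock_symm_pullBlock] at this
  · intro ξ hξ χ hχ h
    obtain ⟨χ', hχ', rfl⟩ := hχ
    have h1 := hmain (irrPull φK ξ) (irrPull_mem_pullBlock _ hξ) χ' hχ' (φH.symm h)
    have hcoe : (((φH.symm h : H') : ↥L) : G) = (h : G) := by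
      rw [← hφH, MulEquiv.apply_symm_apply]
    have h2 : centralChar (irrPull φH.symm χ' : H → ℂ) h = centralChar (χ' : H' → ℂ) (φH.symm h) := by
      have : (irrPull φH.symm χ' : H → ℂ) = (χ' : H' → ℂ) ∘ φH.symm := rfl
      rw [this, centralChar_comp_mulEquiv]
    have h3 : inducedCentralCharIn H' K' (irrPull φK ξ : K' → ℂ) ((φH.symm h : H') : ↥L) =
        inducedCentralCharIn H K (ξ : K → ℂ) (h : G) := by
      unfold inducedCentralCharIn
      apply finsum_mem_eq_of_bijOn (fun k' => φK k')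
      · refine ⟨?_, ?_, ?_⟩
        · rintro k' ⟨x', hx'⟩
          refine ⟨φH x', ?_⟩
          rw [hφH, hφK, ← hcoe, ← hx']
          rfl
        · intro a _ b _ hab
          exact φK.injective hab
        · rintro k ⟨x, hx⟩
          refine ⟨φK.symm k, ⟨φH.symm x, ?_⟩, MulEquiv.apply_symm_apply _ _⟩
          apply Subtype.ext
          have hxc : (((φH.symm x : H') : ↥L) : G) = (x : G) := by
            rw [← hφH, MulEquiv.apply_symm_apply]
          have hkc : (((φK.symm k : K') : ↥L) : G) = (k : G) := by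
            rw [← hφK, MulEquiv.apply_symm_apply]
          show (((φH.symm x : H') : ↥L) : G) * (((φK.symm k : K') : ↥L) : G) *
            (((φH.symm x : H') : ↥L) : G)⁻¹ = (((φH.symm h : H') : ↥L) : G)
          rw [hxc, hkc, hcoe, hx]
      · intro k' _
        rw [irrPull_apply, irrPull_apply, map_one]
    rw [h2, ← h3]
    exact h1

/-- a block induced inside `H` from `e` is unique -/
theorem isInducedBlockIn_unique [hMp : M.IsPrime] {H K : Subgroup G} {e : Set (IrrCharacter K)}
    {f₁ f₂ : Set (IrrCharacter H)} (h₁ : IsInducedBlockIn M H K e f₁)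
    (h₂ : IsInducedBlockIn M H K e f₂) : f₁ = f₂ := by
  obtain ⟨ξ, hξ⟩ := IsPBlock_nonempty hMp.ne_top h₁.1
  obtain ⟨χ₁, hχ₁⟩ := IsPBlock_nonempty hMp.ne_top h₁.2.1
  obtain ⟨χ₂, hχ₂⟩ := IsPBlock_nonempty hMp.ne_top h₂.2.1
  have hsame : SameBlock M (χ₁ : H → ℂ) (χ₂ : H → ℂ) := by
    intro h
    have a := h₁.2.2 ξ hξ χ₁ hχ₁ h
    have b := h₂.2.2 ξ hξ χ₂ hχ₂ h
    have := memLocalIdeal_sub b a
    have e1 : inducedCentralCharIn H K (ξ : K → ℂ) (h : G) - centralChar (χ₂ : H → ℂ) h -
        (inducedCentralCharIn H K (ξ : K → ℂ) (h : G) - centralChar (χ₁ : H → ℂ) h) =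
        centralChar (χ₁ : H → ℂ) h - centralChar (χ₂ : H → ℂ) h := by ring
    rwa [e1] at this
  rw [IsPBlock_eq_blockOf h₁.2.1 hχ₁, IsPBlock_eq_blockOf h₂.2.1 hχ₂]
  exact blockOf_eq_of_sameBlock hsame

end General


section Spec

variable {G : Type u} [Group G] [Fintype G] {M : Ideal AlgInt} {p : ℕ} [Fact p.Prime]
  {B : Set (IrrCharacter G)} {P : Subgroup G}
  {e : Set (IrrCharacter (Subgroup.centralizer (P : Set G)))}

theorem subFQ_spec (hM : IsPModular p M) (hPe : IsBrauerPair p M P e) {Q : Subgroup G}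
    (hQP : Q ≤ P) :
    IsPBlock M (subFQ p M P e Q) ∧ SubpairLE p M Q (subFQ p M P e Q) P e := by
  have hex : ∃ f : Set (IrrCharacter (Subgroup.centralizer (Q : Set G))),
      IsPBlock M f ∧ SubpairLE p M Q f P e :=
    (Cfsg.Agent.S4655.result p M hM P Q e hPe hQP).exists
  unfold subFQ
  rw [dif_pos hex]
  exact hex.choose_spec

theorem eq_subFQ (hM : IsPModular p M) (hPe : IsBrauerPair p M P e) {Q : Subgroup G}
    (hQP : Q ≤ P) {f : Set (IrrCharacter (Subgroup.centralizer (Q : Set G)))}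
    (hf : SubpairLE p M Q f P e) : f = subFQ p M P e Q := by
  have hblock : IsPBlock M f := (Cfsg.Agent.S4655.le_pair_left hf hPe).2
  exact (Cfsg.Agent.S4655.result p M hM P Q e hPe hQP).unique ⟨hblock, hf⟩
    (subFQ_spec hM hPe hQP)

theorem subF_eq_subFQ (hM : IsPModular p M) (hPe : IsBrauerPair p M P e) {v : G} (hv : v ∈ P) :
    subF p M P e v = subFQ p M P e (Subgroup.zpowers v) :=
  eq_subFQ hM hPe ((Subgroup.zpowers_le).mpr hv) (subF_spec hM hPe hv).2

theorem le_centralizer_of_abelian (hPab : ∀ x ∈ P, ∀ y ∈ P, x * y = y * x) {Q : Subgroup G}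
    (hQP : Q ≤ P) : P ≤ Subgroup.centralizer (Q : Set G) := by
  intro y hy
  rw [Subgroup.mem_centralizer_iff]
  intro q hq
  exact hPab q (hQP hq) y hy

/-- the restricted pair is a pair of `f_Q` -/
theorem isBrauerPairOf_subFQ (hM : IsPModular p M) (hmax : IsMaximalBrauerPair p M B P e)
    {Q : Subgroup G} (hQP : Q ≤ P)
    (hPL : P ≤ Subgroup.centralizer (Q : Set G))
    (hCP : Subgroup.centralizer (P : Set G) ≤ Subgroup.centralizer (Q : Set G)) :
    IsBrauerPairOf p M (subFQ p M P e Q) (P.subgroupOf (Subgroup.centralizer (Q : Set G)))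
      (pullBlock (centEquivIn (Subgroup.centralizer (Q : Set G)) P hPL hCP) e) := by
  obtain ⟨f, hle, _, hpair⟩ := NilAbel.exists_local_pair hM hmax hQP hPL hCP
  have := eq_subFQ hM hmax.1.1 hQP hle
  rw [← this]
  exact hpair

/-- WAT-[MAXQ] : the restricted pair is a maximal pair of `f_Q` -/
theorem isMaximalBrauerPair_subFQ (hM : IsPModular p M) (hmax : IsMaximalBrauerPair p M B P e)
    (hPab : ∀ x ∈ P, ∀ y ∈ P, x * y = y * x) {Q : Subgroup G} (hQP : Q ≤ P)
    (hPL : P ≤ Subgroup.centralizer (Q : Set G))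
    (hCP : Subgroup.centralizer (P : Set G) ≤ Subgroup.centralizer (Q : Set G)) :
    IsMaximalBrauerPair p M (subFQ p M P e Q) (P.subgroupOf (Subgroup.centralizer (Q : Set G)))
      (pullBlock (centEquivIn (Subgroup.centralizer (Q : Set G)) P hPL hCP) e) := by
  classical
  have : Fintype ↥(Subgroup.centralizer (Q : Set G)) := Fintype.ofFinite _
  have hQL : Q ≤ Subgroup.centralizer (Q : Set G) := hQP.trans hPL
  exact isMaximalBrauerPair_restrictPair hM hmax hQL le_rfl hQP hPL hCP
    (isBrauerPairOf_subFQ hM hmax hQP hPL hCP)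

/-- `f_Q` is induced from `e` inside `C_G(Q)` -/
theorem isInducedBlockIn_subFQ (hM : IsPModular p M) (hmax : IsMaximalBrauerPair p M B P e)
    (hPab : ∀ x ∈ P, ∀ y ∈ P, x * y = y * x) {Q : Subgroup G} (hQP : Q ≤ P) :
    IsInducedBlockIn M (Subgroup.centralizer (Q : Set G)) (Subgroup.centralizer (P : Set G)) e
      (subFQ p M P e Q) := by
  classical
  have : Fintype ↥(Subgroup.centralizer (Q : Set G)) := Fintype.ofFinite _
  have hPL := le_centralizer_of_abelian hPab hQP
  have hCP : Subgroup.centralizer (P : Set G) ≤ Subgroup.centralizer (Q : Set G) :=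
    Subgroup.centralizer_le hQP
  have hpair := isBrauerPairOf_subFQ hM hmax hQP hPL hCP
  have hab : P.subgroupOf (Subgroup.centralizer (Q : Set G)) ≤
      Subgroup.centralizer ((P.subgroupOf (Subgroup.centralizer (Q : Set G)) :
        Subgroup ↥(Subgroup.centralizer (Q : Set G))) : Set ↥(Subgroup.centralizer (Q : Set G))) := by
    intro x hx
    rw [Subgroup.mem_centralizer_iff]
    intro y hy
    apply Subtype.ext
    exact hPab _ (Subgroup.mem_subgroupOf.mp hy) _ (Subgroup.mem_subgroupOf.mp hx)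
  have h1 := isInducedBlock_of_isBrauerPairOf hM hab hpair
  exact (isInducedBlock_centEquivIn_iff _ P hPL hCP e _).mp h1

end Spec

section Loc

variable {G : Type u} [Group G] [Fintype G] {M : Ideal AlgInt} {p : ℕ} [Fact p.Prime]
  {B : Set (IrrCharacter G)} {P : Subgroup G}
  {e : Set (IrrCharacter (Subgroup.centralizer (P : Set G)))}

omit [Fintype G] in
theorem coe_mem_centralizer_sup (Q : Subgroup G) (v : G)
    (hvL : v ∈ Subgroup.centralizer (Q : Set G))
    (c : ↥(Subgroup.centralizer ((Subgroup.zpowers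
      (⟨v, hvL⟩ : ↥(Subgroup.centralizer (Q : Set G))) : Subgroup _) :
        Set ↥(Subgroup.centralizer (Q : Set G))))) :
    ((c : ↥(Subgroup.centralizer (Q : Set G))) : G) ∈
      Subgroup.centralizer ((Q ⊔ Subgroup.zpowers v : Subgroup G) : Set G) := by
  have hcQ : ((c : ↥(Subgroup.centralizer (Q : Set G))) : G) ∈
      Subgroup.centralizer (Q : Set G) := (c : ↥(Subgroup.centralizer (Q : Set G))).2
  have hcv : Commute (⟨v, hvL⟩ : ↥(Subgroup.centralizer (Q : Set G)))
      (c : ↥(Subgroup.centralizer (Q : Set G))) :=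
    (Cfsg.Agent.Lib.Helper78.mem_centralizer_zpowers_iff _ _).mp c.2
  have hcv' : v * ((c : ↥(Subgroup.centralizer (Q : Set G))) : G) =
      ((c : ↥(Subgroup.centralizer (Q : Set G))) : G) * v := congrArg Subtype.val hcv.eq
  have hle : Q ⊔ Subgroup.zpowers v ≤
      Subgroup.centralizer ({((c : ↥(Subgroup.centralizer (Q : Set G))) : G)} : Set G) := by
    apply sup_le
    · intro q hq
      rw [Subgroup.mem_centralizer_iff]
      intro x hx
      rw [Set.mem_singleton_iff] at hx
      rw [hx]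
      exact (Subgroup.mem_centralizer_iff.mp hcQ q hq).symm
    · rw [Subgroup.zpowers_le, Subgroup.mem_centralizer_iff]
      intro x hx
      rw [Set.mem_singleton_iff] at hx
      rw [hx]
      exact hcv'.symm
  rw [Subgroup.mem_centralizer_iff]
  intro r hr
  have := Subgroup.mem_centralizer_iff.mp (hle hr) _ (Set.mem_singleton _)
  exact this.symm

omit [Fintype G] in
theorem mk_mem_centralizer_zpowers (Q : Subgroup G) (v : G)
    (hvL : v ∈ Subgroup.centralizer (Q : Set G))
    (c : ↥(Subgroup.centralizer ((Q ⊔ Subgroup.zpowers v : Subgroup G) : Set G))) :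
    (⟨(c : G), Subgroup.centralizer_le (le_sup_left : Q ≤ Q ⊔ Subgroup.zpowers v) c.2⟩ :
      ↥(Subgroup.centralizer (Q : Set G))) ∈
      Subgroup.centralizer ((Subgroup.zpowers
        (⟨v, hvL⟩ : ↥(Subgroup.centralizer (Q : Set G))) : Subgroup _) :
          Set ↥(Subgroup.centralizer (Q : Set G))) := by
  rw [Cfsg.Agent.Lib.Helper78.mem_centralizer_zpowers_iff]
  apply Subtype.ext
  show v * (c : G) = (c : G) * v
  have hv : v ∈ Q ⊔ Subgroup.zpowers v :=
    (le_sup_right : Subgroup.zpowers v ≤ Q ⊔ Subgroup.zpowers v) (Subgroup.mem_zpowers v)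
  exact Subgroup.mem_centralizer_iff.mp c.2 v hv

/-- the isomorphism `C_L(v_L) ≃* C_G(Q ⊔ ⟨v⟩)` for `L = C_G(Q)` -/
noncomputable def locEquiv (Q : Subgroup G) (v : G)
    (hvL : v ∈ Subgroup.centralizer (Q : Set G)) :
    ↥(Subgroup.centralizer ((Subgroup.zpowers
      (⟨v, hvL⟩ : ↥(Subgroup.centralizer (Q : Set G))) : Subgroup _) :
        Set ↥(Subgroup.centralizer (Q : Set G)))) ≃*
      ↥(Subgroup.centralizer ((Q ⊔ Subgroup.zpowers v : Subgroup G) : Set G)) where
  toFun c := ⟨((c : ↥(Subgroup.centralizer (Q : Set G))) : G), coe_mem_centralizer_sup Q v hvL c⟩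
  invFun c := ⟨⟨(c : G), Subgroup.centralizer_le (le_sup_left : Q ≤ Q ⊔ Subgroup.zpowers v) c.2⟩,
    mk_mem_centralizer_zpowers Q v hvL c⟩
  left_inv _ := rfl
  right_inv _ := rfl
  map_mul' _ _ := rfl

/-- WAT-[LOC] : the local block at `v` of the block `f_Q` of `L = C_G(Q)`, computed inside the type
`↥L` with the restricted pair, has the same rank as `f_{Q⟨v⟩}` computed in `G` -/
theorem blockRank_subF_restrict (hM : IsPModular p M) (hmax : IsMaximalBrauerPair p M B P e)
    (hPab : ∀ x ∈ P, ∀ y ∈ P, x * y = y * x) {Q : Subgroup G} (hQP : Q ≤ P)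
    (hPL : P ≤ Subgroup.centralizer (Q : Set G))
    (hCP : Subgroup.centralizer (P : Set G) ≤ Subgroup.centralizer (Q : Set G))
    [Fintype ↥(Subgroup.centralizer (Q : Set G))] {v : G} (hv : v ∈ P)
    (hvL : v ∈ Subgroup.centralizer (Q : Set G)) :
    blockRank p (subF p M (P.subgroupOf (Subgroup.centralizer (Q : Set G)))
        (pullBlock (centEquivIn (Subgroup.centralizer (Q : Set G)) P hPL hCP) e)
        (⟨v, hvL⟩ : ↥(Subgroup.centralizer (Q : Set G)))) =
      rk p M P e (Q ⊔ Subgroup.zpowers v) := by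
  have hMp := isPModular_isPrime hM
  have hmaxL := isMaximalBrauerPair_subFQ hM hmax hPab hQP hPL hCP
  have hPabL : ∀ x ∈ P.subgroupOf (Subgroup.centralizer (Q : Set G)),
      ∀ y ∈ P.subgroupOf (Subgroup.centralizer (Q : Set G)), x * y = y * x := by
    intro x hx y hy
    apply Subtype.ext
    exact hPab _ (Subgroup.mem_subgroupOf.mp hx) _ (Subgroup.mem_subgroupOf.mp hy)
  have hvmem : (⟨v, hvL⟩ : ↥(Subgroup.centralizer (Q : Set G))) ∈
      P.subgroupOf (Subgroup.centralizer (Q : Set G)) := Subgroup.mem_subgroupOf.mpr hv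
  have hQ'P : Subgroup.zpowers (⟨v, hvL⟩ : ↥(Subgroup.centralizer (Q : Set G))) ≤
      P.subgroupOf (Subgroup.centralizer (Q : Set G)) := (Subgroup.zpowers_le).mpr hvmem
  have h1 := isInducedBlockIn_subFQ hM hmaxL hPabL hQ'P
  rw [← subF_eq_subFQ hM hmaxL.1.1 hvmem] at h1
  have h2 := isInducedBlockIn_of_sub (Subgroup.centralizer (Q : Set G)) _ _
    (Subgroup.centralizer ((Q ⊔ Subgroup.zpowers v : Subgroup G) : Set G))
    (Subgroup.centralizer (P : Set G)) (locEquiv Q v hvL) (fun x => rfl)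
    (centEquivIn (Subgroup.centralizer (Q : Set G)) P hPL hCP)
    (fun x => rfl) e _ h1
  have hRP : Q ⊔ Subgroup.zpowers v ≤ P := sup_le hQP ((Subgroup.zpowers_le).mpr hv)
  have h3 := isInducedBlockIn_subFQ hM hmax hPab hRP
  have h4 := isInducedBlockIn_unique h2 h3
  unfold rk
  rw [← h4, blockRank_pullBlock]

/-- WAT-[CENT] : a central element of `C_G(Q)` does not change the local rank -/
theorem rk_sup_zpowers_of_central (hM : IsPModular p M) (hmax : IsMaximalBrauerPair p M B P e)
    (hPab : ∀ x ∈ P, ∀ y ∈ P, x * y = y * x) {Q : Subgroup G} (hQP : Q ≤ P) {v : G} (hv : v ∈ P)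
    (hvc : ∀ g ∈ Subgroup.centralizer (Q : Set G), g * v = v * g) :
    rk p M P e (Q ⊔ Subgroup.zpowers v) = rk p M P e Q := by
  classical
  have hMp := isPModular_isPrime hM
  have : Fintype ↥(Subgroup.centralizer (Q : Set G)) := Fintype.ofFinite _
  have hPL := le_centralizer_of_abelian hPab hQP
  have hCP : Subgroup.centralizer (P : Set G) ≤ Subgroup.centralizer (Q : Set G) :=
    Subgroup.centralizer_le hQP
  have hvL : v ∈ Subgroup.centralizer (Q : Set G) := hPL hv
  rw [← blockRank_subF_restrict hM hmax hPab hQP hPL hCP hv hvL]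
  have hmaxL := isMaximalBrauerPair_subFQ hM hmax hPab hQP hPL hCP
  have hvmem : (⟨v, hvL⟩ : ↥(Subgroup.centralizer (Q : Set G))) ∈
      P.subgroupOf (Subgroup.centralizer (Q : Set G)) := Subgroup.mem_subgroupOf.mpr hv
  have hind := isInducedBlock_subF hM hmaxL hvmem
  have htop : locC (⟨v, hvL⟩ : ↥(Subgroup.centralizer (Q : Set G))) = ⊤ := by
    rw [eq_top_iff]
    intro g _
    rw [Cfsg.Agent.Lib.Helper78.mem_centralizer_zpowers_iff]
    apply Subtype.ext
    exact (hvc (g : G) g.2).symm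
  have : Fintype ↥(locC (⟨v, hvL⟩ : ↥(Subgroup.centralizer (Q : Set G)))) := Fintype.ofFinite _
  have h1 := (isInducedBlock_iff_of_eq_top htop hind.1 hind.2.1).mp hind
  unfold rk
  rw [h1, blockRank_pullBlock]

end Loc

end Cfsg.Agent.Lib.Helper77.WAT
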