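import Cfsg.Agent.Lib.Helper16.Induced
import Cfsg.Agent.Lib.Helper77.PRegCount
import Cfsg.Agent.Lib.Helper80.CharBasic

/-!
# Central elements supported on the `p`-regular elements (helper77)

For a class function `f`, `pRegElt p f = ∑_{g p-regular} f(g) g` is a central element of the group
algebra.  Its central characters are the `p`-regular inner products:
`ω_χ(pRegElt p f) = (∑_{g p-regular} f(g) χ(g)) / χ(1)`.  Combined with
`Helper16.isInducedBlock_congr` this gives the comparison lemma `sum_pRegular_congr_of_induced`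
behind the third main theorem and the theorems of Blau and Okuyama.
-/

set_option autoImplicit false

namespace Cfsg.Agent.Lib.Helper77

open Cfsg Cfsg.Agent.Lib.Helper16 MonoidAlgebra
open scoped ComplexConjugate

section

variable {G : Type*} [Group G] [Fintype G]

open scoped Classical in
/-- The element `∑_{g p-regular} f(g) g` of the group algebra. -/
noncomputable def pRegElt (p : ℕ) (f : G → ℂ) : MonoidAlgebra ℂ G :=
  ∑ g ∈ Finset.univ.filter (fun g : G => ¬ p ∣ orderOf g), single g (f g)

open scoped Classical in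
theorem coeff_pRegElt (p : ℕ) (f : G → ℂ) (x : G) :
    (pRegElt p f).coeff x = if ¬ p ∣ orderOf x then f x else 0 := by
  unfold pRegElt
  rw [coeff_sum, Finsupp.finsetSum_apply]
  simp only [coeff_single, Finsupp.single_apply]
  rw [Finset.sum_ite_eq' (Finset.univ.filter (fun g : G => ¬ p ∣ orderOf g)) x (fun g => f g)]
  simp only [Finset.mem_filter, Finset.mem_univ, true_and]

theorem pRegElt_mem_center (p : ℕ) {f : G → ℂ} (hf : IsClassFunction G f) :
    pRegElt p f ∈ Subalgebra.center ℂ (MonoidAlgebra ℂ G) := by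
  classical
  apply mem_center_of_coeff_conj
  intro g h
  rw [coeff_pRegElt, coeff_pRegElt, orderOf_conj_mul_inv, hf g h]

/-- `pRegElt p f` as an element of the centre. -/
noncomputable def pRegEltC (p : ℕ) {f : G → ℂ} (hf : IsClassFunction G f) :
    Subalgebra.center ℂ (MonoidAlgebra ℂ G) :=
  ⟨pRegElt p f, pRegElt_mem_center p hf⟩

theorem pRegEltC_mem_centerOrder (p : ℕ) {M : Ideal AlgInt} [hMp : M.IsPrime] {f : G → ℂ}
    (hf : IsClassFunction G f) (hR : ∀ g : G, MemLocalRing M (f g)) :
    pRegEltC p hf ∈ centerOrder G M := by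
  classical
  intro x
  show MemLocalRing M ((pRegElt p f).coeff x)
  rw [coeff_pRegElt]
  split_ifs
  · exact memLocalRing_zero hMp.ne_top
  · exact hR x

open scoped Classical in
theorem omega_pRegElt (p : ℕ) (f χ : G → ℂ) :
    omega χ (pRegElt p f) =
      (∑ g ∈ Finset.univ.filter (fun g : G => ¬ p ∣ orderOf g), f g * χ g) / χ 1 := by
  unfold omega
  congr 1
  rw [Finset.sum_filter]
  refine Finset.sum_congr rfl fun g _ => ?_
  rw [coeff_pRegElt]
  split_ifs <;> simp

open scoped Classical in
theorem omega_resAlg_pRegElt (p : ℕ) (H : Subgroup G) [Fintype H] (f : G → ℂ) (ξ : H → ℂ) :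
    omega ξ (resAlg H (pRegElt p f)) =
      (∑ h ∈ Finset.univ.filter (fun h : H => ¬ p ∣ orderOf h), f (h : G) * ξ h) / ξ 1 := by
  unfold omega
  congr 1
  rw [Finset.sum_filter]
  refine Finset.sum_congr rfl fun h _ => ?_
  rw [coeff_resAlg, coeff_pRegElt, Subgroup.orderOf_coe]
  split_ifs <;> simp

open scoped Classical in
/-- **Comparison lemma.**  If `b` induces `B`, `ψ ∈ b`, `χ' ∈ B` and `f` is a class function of `G`
with values in the local ring, then the `ψ`-weighted sum of `f` over the `p`-regular elements of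
`H` is congruent to the `χ'`-weighted sum of `f` over the `p`-regular elements of `G`. -/
theorem sum_pRegular_congr_of_induced (p : ℕ) {M : Ideal AlgInt} [hMp : M.IsPrime]
    (H : Subgroup G) [Fintype H] {b : Set (IrrCharacter H)} {B : Set (IrrCharacter G)}
    (hind : IsInducedBlock M H b B) {ψ : IrrCharacter H} (hψ : ψ ∈ b) {χ' : IrrCharacter G}
    (hχ' : χ' ∈ B) {f : G → ℂ} (hf : IsClassFunction G f) (hR : ∀ g : G, MemLocalRing M (f g)) :
    MemLocalIdeal M
      ((∑ h ∈ Finset.univ.filter (fun h : H => ¬ p ∣ orderOf h), f (h : G) * (ψ : H → ℂ) h) /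
          (ψ : H → ℂ) 1 -
        (∑ g ∈ Finset.univ.filter (fun g : G => ¬ p ∣ orderOf g), f g * (χ' : G → ℂ) g) /
          (χ' : G → ℂ) 1) := by
  have h := isInducedBlock_congr H hind hψ hχ' (pRegEltC_mem_centerOrder p (M := M) hf hR)
  rw [omegaHom_apply] at h
  change MemLocalIdeal M (omega (ψ : H → ℂ) (resAlg H (pRegElt p f)) -
    omega (χ' : G → ℂ) (pRegElt p f)) at h
  rwa [omega_resAlg_pRegElt, omega_pRegElt] at h

omit [Fintype G] in
/-- The complex conjugate of an irreducible character is a class function. -/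
theorem isClassFunction_conj_irr (χ : IrrCharacter G) :
    IsClassFunction G (fun g => conj ((χ : G → ℂ) g)) := by
  intro g h
  show conj ((χ : G → ℂ) (h * g * h⁻¹)) = conj ((χ : G → ℂ) g)
  rw [irr_conj]

open scoped Classical in
/-- Over the `p`-regular elements, `∑ conj α · β = ∑ α · conj β` for functions with
`α g⁻¹ = conj (α g)` and `β g⁻¹ = conj (β g)`. -/
theorem sum_pRegular_conj_mul (p : ℕ) {K : Type*} [Group K] [Fintype K] {α β : K → ℂ}
    (hα : ∀ g : K, α g⁻¹ = conj (α g)) (hβ : ∀ g : K, β g⁻¹ = conj (β g)) :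
    ∑ g ∈ Finset.univ.filter (fun g : K => ¬ p ∣ orderOf g), conj (α g) * β g =
      ∑ g ∈ Finset.univ.filter (fun g : K => ¬ p ∣ orderOf g), α g * conj (β g) := by
  refine Finset.sum_bij' (fun g _ => g⁻¹) (fun g _ => g⁻¹) ?_ ?_ ?_ ?_ ?_
  · intro g hg
    simp only [Finset.mem_filter, Finset.mem_univ, true_and, orderOf_inv] at hg ⊢
    exact hg
  · intro g hg
    simp only [Finset.mem_filter, Finset.mem_univ, true_and, orderOf_inv] at hg ⊢
    exact hg
  · intro g _
    exact inv_inv g
  · intro g _
    exact inv_inv g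
  · intro g _
    rw [hα, hβ, Complex.conj_conj]

omit [Fintype G] in
theorem irr_inv_eq_conj [Finite G] (χ : IrrCharacter G) (g : G) :
    (χ : G → ℂ) g⁻¹ = conj ((χ : G → ℂ) g) :=
  Helper80.char_inv_eq_conj (Helper80.isCharacter_of_isIrr χ.2) g

end

end Cfsg.Agent.Lib.Helper77
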