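import Mathlib
import Cfsg.Prelude.Def_Blocks
import Cfsg.Agent.S0970
import Cfsg.Agent.S0964
import Cfsg.Agent.S0906
import Cfsg.Agent.S0937
import Cfsg.Agent.Lib.Helper75.IndNormal
import Cfsg.Agent.Lib.Helper80.ItoMichler
import Cfsg.Agent.Lib.Helper16.NormalSub

set_option autoImplicit false

namespace Cfsg.Agent.Lib.Helper77

open Cfsg Cfsg.Agent.Lib.Helper16 Cfsg.Agent.Lib.Helper75 Cfsg.Agent.Lib.Helper78

universe u

section

variable {G : Type u} [Group G] [Fintype G] (N : Subgroup G) [hN : N.Normal] [Fintype N]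

/-- Clifford degree formula: `χ(1) = e · |orbit| · θ(1)`. -/
theorem charDegree_eq_mul_card_conjOrbit {χ : G → ℂ} (hχ : IsIrrCharacter G χ) {θ : N → ℂ}
    (hθ : IsIrrCharacter N θ) (hover : classInner (fun n : N => χ n) θ ≠ 0) :
    ∃ e : ℕ, e ≠ 0 ∧ charDegree χ = e * ((conjOrbit N θ).card * charDegree θ) := by
  classical
  have hcl := clifford_finset N hχ hθ hover
  obtain ⟨k, hk⟩ := IsCharacter.exists_nat_classInner
    (isCharacter_res N (IsIrrCharacter.isCharacter hχ)) ⟨θ, hθ⟩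
  have h1 := congrFun hcl 1
  simp only [Pi.smul_apply, Finset.sum_apply, smul_eq_mul] at h1
  have h2 : ∀ φ ∈ conjOrbit N θ, (φ : N → ℂ) 1 = θ 1 := by
    intro φ hφ
    obtain ⟨g, hg⟩ := (mem_conjOrbit N).mp hφ
    rw [← hg, Helper75.conjFun_apply]
    congr 1
    apply Subtype.ext
    simp
  rw [Finset.sum_congr rfl h2, Finset.sum_const, nsmul_eq_mul] at h1
  change classInner (fun n : N => χ n) θ = (k : ℂ) at hk
  rw [hk, IsCharacter.apply_one_eq_charDegree (IsIrrCharacter.isCharacter hθ)] at h1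
  have h3 : χ 1 = (charDegree χ : ℂ) :=
    IsCharacter.apply_one_eq_charDegree (IsIrrCharacter.isCharacter hχ)
  change χ 1 = _ at h1
  rw [h3] at h1
  have h4 : charDegree χ = k * ((conjOrbit N θ).card * charDegree θ) := by
    exact_mod_cast h1
  refine ⟨k, ?_, h4⟩
  rintro rfl
  apply hover
  rw [hk]
  simp

/-- Orbit-stabilizer for the conjugation action on the irreducible characters of a normal
subgroup. -/
theorem card_conjOrbit_mul_card_inertia {θ : N → ℂ} (hθ : IsIrrCharacter N θ) :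
    (conjOrbit N θ).card * Nat.card (inertia N θ) = Nat.card G := by
  classical
  have h := congrFun (sum_conjFun_eq N hθ) 1
  simp only [Finset.sum_apply, Pi.smul_apply, smul_eq_mul] at h
  have h2 : ∀ φ ∈ conjOrbit N θ, (φ : N → ℂ) 1 = θ 1 := by
    intro φ hφ
    obtain ⟨g, hg⟩ := (mem_conjOrbit N).mp hφ
    rw [← hg, Helper75.conjFun_apply]
    congr 1
    apply Subtype.ext
    simp
  have h3 : ∀ x : G, Helper75.conjFun N x θ 1 = θ 1 := by
    intro x
    rw [Helper75.conjFun_apply]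
    congr 1
    apply Subtype.ext
    simp
  rw [Finset.sum_congr rfl h2, Finset.sum_congr rfl (fun x _ => h3 x), Finset.sum_const,
    Finset.sum_const, nsmul_eq_mul, nsmul_eq_mul, Finset.card_univ] at h
  have hθ1 : θ 1 ≠ 0 := IsIrrCharacter.apply_one_ne_zero hθ
  have h4 : (Fintype.card G : ℂ) = (Nat.card (inertia N θ) : ℂ) * ((conjOrbit N θ).card : ℂ) := by
    have := h
    rw [← mul_assoc] at this
    exact mul_right_cancel₀ hθ1 this
  rw [Nat.card_eq_fintype_card (α := G)]
  have h5 : Fintype.card G = Nat.card (inertia N θ) * (conjOrbit N θ).card := by exact_mod_cast h4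
  rw [h5, mul_comm]

theorem card_conjOrbit_eq_index {θ : N → ℂ} (hθ : IsIrrCharacter N θ) :
    (conjOrbit N θ).card = (inertia N θ).index := by
  have h1 := card_conjOrbit_mul_card_inertia N hθ
  have h2 := (inertia N θ).card_mul_index
  have hpos : 0 < Nat.card (inertia N θ) := Nat.card_pos
  have : (conjOrbit N θ).card * Nat.card (inertia N θ) =
      (inertia N θ).index * Nat.card (inertia N θ) := by
    rw [h1, mul_comm, h2]
  exact Nat.eq_of_mul_eq_mul_right hpos this

/-- **A block stable under the whole group contains a height-zero character whose inertia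
group has index prime to `p`.** -/
theorem exists_heightZero_inertia (p : ℕ) [Fact p.Prime] (M : Ideal AlgInt)
    (hM : IsPModular p M) (b : Set (IrrCharacter N)) (hb : IsPBlock M b)
    (hinv : ∀ g : G, ∀ θ ∈ b, conjIrrN N g θ ∈ b) :
    ∃ θ ∈ b, blockHeight p b (θ : N → ℂ) = 0 ∧
      ¬ p ∣ (inertia N (θ : N → ℂ)).index := by
  classical
  have hMp : M.IsPrime := isPModular_isPrime hM
  have hMt : M ≠ ⊤ := hMp.ne_top
  have hp : p.Prime := Fact.out
  obtain ⟨θ₀, hθ₀⟩ := IsPBlock_nonempty hMt hb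
  -- irreducible characters of `G` lying over `b`
  set 𝒳 : Finset (IrrCharacter G) := Finset.univ.filter (fun χ : IrrCharacter G =>
    ∃ θ ∈ b, classInner (fun n : N => (χ : G → ℂ) n) (θ : N → ℂ) ≠ 0) with h𝒳
  have h𝒳ne : 𝒳.Nonempty := by
    obtain ⟨χ, hχ, hover⟩ := Helper80.exists_irr_over' N θ₀.2
    exact ⟨⟨χ, hχ⟩, Finset.mem_filter.mpr ⟨Finset.mem_univ _, θ₀, hθ₀, hover⟩⟩
  obtain ⟨χm, hχm, hmaxχ⟩ := Finset.exists_max_image 𝒳
    (fun χ : IrrCharacter G => blockDefect p (blockOf M (χ : G → ℂ))) h𝒳ne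
  obtain ⟨θm, hθm, hoverm⟩ := (Finset.mem_filter.mp hχm).2
  set B := blockOf M (χm : G → ℂ) with hBdef
  have hB : IsPBlock M B := isPBlock_blockOf χm
  have hχmB : χm ∈ B := self_mem_blockOf hMt χm
  have hcov : ∃ χ ∈ B, ∃ θ ∈ b, classInner (fun n : N => (χ : G → ℂ) n) (θ : N → ℂ) ≠ 0 :=
    ⟨χm, hχmB, θm, hθm, hoverm⟩
  have hmax : ∀ B' : Set (IrrCharacter G), IsPBlock M B' →
      (∃ χ ∈ B', ∃ θ ∈ b, classInner (fun n : N => (χ : G → ℂ) n) (θ : N → ℂ) ≠ 0) →
      blockDefect p B' ≤ blockDefect p B := by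
    rintro B' hB' ⟨χ, hχB', θ, hθ, hover⟩
    rw [IsPBlock_eq_blockOf hB' hχB']
    exact hmaxχ χ (Finset.mem_filter.mpr ⟨Finset.mem_univ _, θ, hθ, hover⟩)
  have hinv' : ∀ g : G, ∀ θ ∈ b, ∀ θ' : IrrCharacter N,
      (∀ n : N, (θ' : N → ℂ) n = (θ : N → ℂ) ⟨g * n * g⁻¹, hN.conj_mem n n.2 g⟩) → θ' ∈ b := by
    intro g θ hθ θ' h
    have : θ' = conjIrrN N g θ := by
      apply Subtype.ext
      funext n
      rw [h n, conjIrrN_apply]
    rw [this]
    exact hinv g θ hθ
  -- a defect group of `B`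
  obtain ⟨g₀, hg₀⟩ := Cfsg.Agent.S0906.result p M hM B hB
  obtain ⟨S⟩ : Nonempty (Sylow p (Subgroup.centralizer ({g₀} : Set G))) := inferInstance
  have hP : IsDefectGroup p M B
      ((S : Subgroup (Subgroup.centralizer ({g₀} : Set G))).map
        (Subgroup.centralizer ({g₀} : Set G)).subtype) := ⟨g₀, hg₀, S, rfl⟩
  have hfong := (Cfsg.Agent.S0970.result p M hM N b hb hinv' B hB hcov hmax _ hP).2.2
  -- a height-zero character of `B` and a constituent
  obtain ⟨χ₁, hχ₁B, hχ₁0⟩ := Cfsg.Agent.S0937.exists_blockHeight_eq_zero (p := p)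
    (IsPBlock_nonempty hMt hB)
  obtain ⟨θ₁, hθ₁⟩ := exists_constituent N χ₁
  have hθ₁b : θ₁ ∈ b := by
    obtain ⟨g, θ', hθ', hconj⟩ := Cfsg.Agent.S0964.result p M hM N B hB b hb χm hχmB θm hθm hoverm
      χ₁ hχ₁B θ₁ hθ₁
    have : θ₁ = conjIrrN N g θ' := by
      apply Subtype.ext
      funext n
      rw [hconj n, conjIrrN_apply]
    rw [this]
    exact hinv g θ' hθ'
  refine ⟨θ₁, hθ₁b, ?_⟩
  -- degrees
  obtain ⟨e, he0, hdeg⟩ := charDegree_eq_mul_card_conjOrbit N χ₁.2 θ₁.2 hθ₁
  have hO := card_conjOrbit_eq_index N θ₁.2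
  set mB := sInf ((fun ψ : IrrCharacter G => (charDegree (ψ : G → ℂ)).factorization p) '' B)
    with hmB
  set mb := sInf ((fun ψ : IrrCharacter N => (charDegree (ψ : N → ℂ)).factorization p) '' b)
    with hmb
  have h1 : mB ≤ (charDegree (χ₁ : G → ℂ)).factorization p :=
    Cfsg.Agent.S0937.sInf_le_factorization hχ₁B
  have h2 : (charDegree (χ₁ : G → ℂ)).factorization p = mB := by
    unfold blockHeight at hχ₁0
    rw [← hmB] at hχ₁0
    omega
  have h3 : mb ≤ (charDegree (θ₁ : N → ℂ)).factorization p :=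
    Cfsg.Agent.S0937.sInf_le_factorization hθ₁b
  have hdχ : (charDegree (χ₁ : G → ℂ)).factorization p ≤ (Nat.card G).factorization p :=
    (Nat.factorization_le_iff_dvd (Helper79.irr_charDegree_pos χ₁).ne' Nat.card_pos.ne').mpr
      (Helper79.irr_charDegree_dvd_card χ₁) p
  have hdθ : (charDegree (θ₁ : N → ℂ)).factorization p ≤ (Nat.card N).factorization p :=
    (Nat.factorization_le_iff_dvd (Helper79.irr_charDegree_pos θ₁).ne' Nat.card_pos.ne').mpr
      (Helper79.irr_charDegree_dvd_card θ₁) p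
  have hcard : (Nat.card G).factorization p =
      (Nat.card N).factorization p + N.index.factorization p := by
    rw [← N.card_mul_index, Nat.factorization_mul Nat.card_pos.ne' Subgroup.index_ne_zero_of_finite]
    rfl
  have hdB : blockDefect p B = (Nat.card G).factorization p - mB := rfl
  have hdb : blockDefect p b = (Nat.card N).factorization p - mb := rfl
  -- valuation of the degree formula
  have hθ1pos : charDegree (θ₁ : N → ℂ) ≠ 0 := (Helper79.irr_charDegree_pos θ₁).ne'
  have hχ1pos : charDegree (χ₁ : G → ℂ) ≠ 0 := (Helper79.irr_charDegree_pos χ₁).ne'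
  have hOpos : (conjOrbit N (θ₁ : N → ℂ)).card ≠ 0 := by
    intro h0
    rw [h0] at hdeg
    simp at hdeg
    exact hχ1pos hdeg
  have hval : (charDegree (χ₁ : G → ℂ)).factorization p =
      e.factorization p + ((conjOrbit N (θ₁ : N → ℂ)).card.factorization p +
        (charDegree (θ₁ : N → ℂ)).factorization p) := by
    rw [hdeg, Nat.factorization_mul he0 (Nat.mul_ne_zero hOpos hθ1pos),
      Nat.factorization_mul hOpos hθ1pos]
    rfl
  have hmbN : mb ≤ (Nat.card N).factorization p := le_trans h3 hdθ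
  have hkey : (conjOrbit N (θ₁ : N → ℂ)).card.factorization p = 0 ∧
      (charDegree (θ₁ : N → ℂ)).factorization p = mb := by
    omega
  constructor
  · unfold blockHeight
    rw [← hmb, hkey.2, Nat.sub_self]
  · rw [← hO]
    intro hdvd
    have := (hp.dvd_iff_one_le_factorization hOpos).mp hdvd
    omega

end

end Cfsg.Agent.Lib.Helper77
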