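import Mathlib

set_option autoImplicit false
set_option linter.unusedSectionVars false
set_option linter.style.haveILetI false

namespace Cfsg.Agent.Lib.Helper77

open Subgroup

section CyclicAutomizer

variable {G : Type*} [Group G] [Finite G] {p : ℕ} [hp : Fact p.Prime]

/-- Sub-lemma: conjugation by `g` raises the generator `x₀` of the cyclic `p`-group `P` to the
power `k ≡ 1 (mod p)`; if `|T : C_T(P)|` is prime to `p` then `g` centralizes `P`. -/
theorem mem_centralizer_of_conj_eq_zpow (P T : Subgroup G) (x₀ : G) (hx₀ : P = zpowers x₀)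
    (n : ℕ) (hn : orderOf x₀ = p ^ (n + 1))
    [hnorm : ((centralizer (P : Set G)).subgroupOf T).Normal]
    (hidx : ¬ p ∣ (centralizer (P : Set G)).relIndex T) {g : G} (hgT : g ∈ T) (k : ℤ)
    (hk : g * x₀ * g⁻¹ = x₀ ^ k) (hpk : (p : ℤ) ∣ k - 1) : g ∈ centralizer (P : Set G) := by
  have hpp : p.Prime := hp.out
  -- powers of `g`
  have hpow : ∀ j : ℕ, g ^ j * x₀ * (g ^ j)⁻¹ = x₀ ^ (k ^ j) := by
    intro j
    induction j with
    | zero => simp
    | succ j ih =>
      have : g ^ (j + 1) * x₀ * (g ^ (j + 1))⁻¹ = g * (g ^ j * x₀ * (g ^ j)⁻¹) * g⁻¹ := by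
        rw [pow_succ']
        group
      rw [this, ih, ← conj_zpow, hk, ← zpow_mul, pow_succ, mul_comm]
  -- `k ^ p ^ n ≡ 1 mod p ^ (n+1)`
  have hdvd : ((p : ℤ)) ^ (n + 1) ∣ k ^ p ^ n - 1 ^ p ^ n := dvd_sub_pow_of_dvd_sub hpk n
  rw [one_pow] at hdvd
  have hx1 : x₀ ^ (k ^ p ^ n) = x₀ := by
    have h1 : x₀ ^ (k ^ p ^ n - 1) = 1 := by
      rw [← orderOf_dvd_iff_zpow_eq_one, hn]
      exact_mod_cast hdvd
    have : x₀ ^ (k ^ p ^ n) = x₀ ^ (k ^ p ^ n - 1) * x₀ := by
      rw [← zpow_add_one]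
      congr 1
      ring
    rw [this, h1, one_mul]
  -- `g ^ p ^ n` centralizes `P`
  have hgpC : g ^ p ^ n ∈ centralizer (P : Set G) := by
    have h2 := hpow (p ^ n)
    rw [hx1] at h2
    rw [hx₀]
    intro y hy
    obtain ⟨m, rfl⟩ := mem_zpowers_iff.mp hy
    have h3 : g ^ p ^ n * x₀ = x₀ * g ^ p ^ n := by
      have := congrArg (· * g ^ p ^ n) h2
      simpa [mul_assoc] using this
    exact ((Commute.zpow_right (show Commute (g ^ p ^ n) x₀ from h3) m).eq).symm
  -- in the quotient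
  set Q := T ⧸ (centralizer (P : Set G)).subgroupOf T with hQ
  have h4 : ((⟨g, hgT⟩ : T) : Q) ^ p ^ n = 1 := by
    rw [← QuotientGroup.mk_pow]
    apply (QuotientGroup.eq_one_iff _).mpr
    rw [mem_subgroupOf]
    exact hgpC
  have h5 : ((⟨g, hgT⟩ : T) : Q) ^ (centralizer (P : Set G)).relIndex T = 1 := by
    have : Nat.card Q = (centralizer (P : Set G)).relIndex T := rfl
    rw [← this]
    exact pow_card_eq_one'
  have h7 : orderOf ((⟨g, hgT⟩ : T) : Q) ∣ Nat.gcd ((centralizer (P : Set G)).relIndex T) (p ^ n) :=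
    Nat.dvd_gcd (orderOf_dvd_of_pow_eq_one h5) (orderOf_dvd_of_pow_eq_one h4)
  have hcop : Nat.Coprime ((centralizer (P : Set G)).relIndex T) (p ^ n) := by
    apply Nat.Coprime.pow_right
    rw [Nat.coprime_comm]
    exact (Nat.Prime.coprime_iff_not_dvd hpp).mpr hidx
  rw [hcop, Nat.dvd_one, orderOf_eq_one_iff] at h7
  have := (QuotientGroup.eq_one_iff _).mp h7
  rwa [mem_subgroupOf] at this


/-- **The automizer of a cyclic `p`-group, `p'`-part.**  Let `P` be a nontrivial cyclic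
`p`-subgroup of `G` and `T ≤ N_G(P)` with `|T : C_T(P)|` prime to `p`.  Then `T / C_T(P)` is cyclic
of order dividing `p - 1` and acts freely on `P ∖ {1}`. -/
theorem cyclic_pGroup_automizer (P T : Subgroup G) (hPp : IsPGroup p P) (hP1 : P ≠ ⊥)
    (hcyc : IsCyclic P) (hTN : T ≤ normalizer (P : Set G))
    [hnorm : ((centralizer (P : Set G)).subgroupOf T).Normal]
    (hidx : ¬ p ∣ (centralizer (P : Set G)).relIndex T) :
    IsCyclic (T ⧸ (centralizer (P : Set G)).subgroupOf T) ∧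
      (centralizer (P : Set G)).relIndex T ∣ p - 1 ∧
      ∀ g ∈ T, ∀ x ∈ P, x ≠ 1 → g * x * g⁻¹ = x → g ∈ centralizer (P : Set G) := by
  classical
  have hpp : p.Prime := hp.out
  -- a generator
  obtain ⟨⟨x₀, hx₀P⟩, hgen⟩ := IsCyclic.exists_generator (α := P)
  have hx₀ : P = zpowers x₀ := by
    apply le_antisymm
    · intro y hy
      obtain ⟨m, hm⟩ := mem_zpowers_iff.mp (hgen ⟨y, hy⟩)
      have := congrArg Subtype.val hm
      rw [mem_zpowers_iff]
      exact ⟨m, by simpa using this⟩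
    · rw [zpowers_le]
      exact hx₀P
  obtain ⟨m, hm⟩ := IsPGroup.iff_card.mp hPp
  have hm0 : m ≠ 0 := by
    rintro rfl
    rw [pow_zero] at hm
    exact hP1 (Subgroup.eq_bot_of_card_eq P hm)
  obtain ⟨n, rfl⟩ := Nat.exists_eq_succ_of_ne_zero hm0
  have hn : orderOf x₀ = p ^ (n + 1) := by
    rw [← Nat.card_zpowers, ← hx₀, hm]
  -- the element of order `p`
  set y₀ := x₀ ^ p ^ n with hy₀
  have hy₀ord : orderOf y₀ = p := by
    rw [hy₀, orderOf_pow' x₀ (pow_ne_zero n hpp.pos.ne'), hn,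
      Nat.gcd_eq_right (pow_dvd_pow p (Nat.le_succ n)), pow_succ,
      Nat.mul_div_cancel_left _ (pow_pos hpp.pos n)]
  have hy₀P : y₀ ∈ P := P.pow_mem hx₀P _
  -- exponents
  have hexp : ∀ g ∈ T, ∃ k : ℤ, g * x₀ * g⁻¹ = x₀ ^ k := by
    intro g hg
    have h1 := (mem_normalizer_iff.mp (hTN hg) x₀).mp hx₀P
    rw [hx₀, mem_zpowers_iff] at h1
    obtain ⟨k, hk⟩ := h1
    exact ⟨k, hk.symm⟩
  have hexpy : ∀ g : G, ∀ k : ℤ, g * x₀ * g⁻¹ = x₀ ^ k → g * y₀ * g⁻¹ = y₀ ^ k := by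
    intro g k hk
    rw [hy₀, ← conj_pow, hk, ← zpow_natCast, ← zpow_natCast, ← zpow_mul, ← zpow_mul, mul_comm]
  -- `T` normalizes `Ω = ⟨y₀⟩`
  have hfwd : ∀ g ∈ T, ∀ h ∈ zpowers y₀, g * h * g⁻¹ ∈ zpowers y₀ := by
    intro g hg h hh
    obtain ⟨k, hk⟩ := hexp g hg
    obtain ⟨j, rfl⟩ := mem_zpowers_iff.mp hh
    rw [← conj_zpow, hexpy g k hk]
    exact zpow_mem (zpow_mem (mem_zpowers y₀) _) _
  have hTΩ : T ≤ normalizer ((zpowers y₀ : Subgroup G) : Set G) := by
    intro g hg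
    rw [mem_normalizer_iff]
    intro h
    constructor
    · exact hfwd g hg h
    · intro hh
      have := hfwd g⁻¹ (T.inv_mem hg) _ hh
      simpa [mul_assoc] using this
  -- the action on `Ω`
  let Ψ : T →* MulAut (zpowers y₀) := (zpowers y₀).normalizerMonoidHom.comp (inclusion hTΩ)
  have hΨ : ∀ (t : T) (ω : zpowers y₀), ((Ψ t ω : zpowers y₀) : G) = (t : G) * ω * (t : G)⁻¹ :=
    fun t ω => rfl
  have hker : Ψ.ker = (centralizer (P : Set G)).subgroupOf T := by
    ext t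
    rw [MonoidHom.mem_ker, mem_subgroupOf]
    constructor
    · intro h
      obtain ⟨k, hk⟩ := hexp t t.2
      have h1 := hΨ t ⟨y₀, mem_zpowers y₀⟩
      rw [h] at h1
      have h2 : y₀ ^ k = y₀ := by
        rw [← hexpy _ k hk]
        exact h1.symm
      have h3 : y₀ ^ (k - 1) = 1 := by
        rw [zpow_sub_one, h2, mul_inv_cancel]
      have h4 : (p : ℤ) ∣ k - 1 := by
        rw [← hy₀ord]
        exact orderOf_dvd_iff_zpow_eq_one.mpr h3
      exact mem_centralizer_of_conj_eq_zpow P T x₀ hx₀ n hn hidx t.2 k hk h4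
    · intro h
      ext ω
      rw [hΨ]
      have hωP : (ω : G) ∈ P := by
        have : zpowers y₀ ≤ P := by rw [zpowers_le]; exact hy₀P
        exact this ω.2
      have := h (ω : G) hωP
      rw [MulAut.one_apply, ← this]
      group
  have hcardΩ : Nat.card (zpowers y₀) = p := by rw [Nat.card_zpowers, hy₀ord]
  haveI : Fact (Nat.card (zpowers y₀)).Prime := ⟨by rw [hcardΩ]; exact hpp⟩
  haveI hAutCyc : IsCyclic (MulAut (zpowers y₀)) :=
    (IsCyclic.mulAutMulEquiv (zpowers y₀)).isCyclic.mpr inferInstance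
  have hAutCard : Nat.card (MulAut (zpowers y₀)) = p - 1 := by
    rw [IsCyclic.card_mulAut, hcardΩ, Nat.totient_prime hpp]
  refine ⟨?_, ?_, ?_⟩
  · have h1 : IsCyclic (T ⧸ Ψ.ker) :=
      (QuotientGroup.quotientKerEquivRange Ψ).isCyclic.mpr inferInstance
    exact (QuotientGroup.quotientMulEquivOfEq hker).isCyclic.mp h1
  · have h1 : (centralizer (P : Set G)).relIndex T = Nat.card Ψ.range := by
      rw [← Subgroup.index_ker, hker]
      rfl
    rw [h1, ← hAutCard]
    exact Subgroup.card_subgroup_dvd_card _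
  · intro g hg x hx hx1 hgx
    obtain ⟨k, hk⟩ := hexp g hg
    have hxz := hx
    rw [hx₀, mem_zpowers_iff] at hxz
    obtain ⟨j, rfl⟩ := hxz
    have h1 : x₀ ^ (k * j) = x₀ ^ j := by
      rw [zpow_mul, ← hk, conj_zpow]
      exact hgx
    have h2 : x₀ ^ ((k - 1) * j) = 1 := by
      rw [sub_mul, one_mul, zpow_sub, h1, mul_inv_cancel]
    have h3 : ((p : ℤ)) ^ (n + 1) ∣ (k - 1) * j := by
      have := orderOf_dvd_iff_zpow_eq_one.mpr h2
      rw [hn] at this
      exact_mod_cast this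
    have h4 : (p : ℤ) ∣ k - 1 := by
      by_contra hnd
      have hprime : Prime (p : ℤ) := Nat.prime_iff_prime_int.mp hpp
      have hcop : IsCoprime ((p : ℤ) ^ (n + 1)) (k - 1) :=
        IsCoprime.pow_left ((Irreducible.coprime_iff_not_dvd hprime.irreducible).mpr hnd)
      have h5 : ((p : ℤ)) ^ (n + 1) ∣ j := hcop.dvd_of_dvd_mul_left h3
      apply hx1
      have : ((orderOf x₀ : ℕ) : ℤ) ∣ j := by rw [hn]; exact_mod_cast h5
      exact orderOf_dvd_iff_zpow_eq_one.mp this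
    exact mem_centralizer_of_conj_eq_zpow P T x₀ hx₀ n hn hidx hg k hk h4

end CyclicAutomizer

end Cfsg.Agent.Lib.Helper77
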