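import Mathlib

set_option autoImplicit false

namespace Cfsg.Agent.Lib.Helper77

section W2pEig

/-- The dimension of an eigenspace of an element of finite order, as a character sum. -/
theorem finrank_eigenspace_eq {G : Type*} [Group G] {n : ℕ}
    (ρ : Representation ℂ G (Fin n → ℂ)) (π : G) (p : ℕ) (hp : 0 < p) (hπ : π ^ p = 1)
    (ω : ℂ) (hω : ω ^ p = 1) :
    (Module.finrank ℂ (Module.End.eigenspace (ρ π) ω) : ℂ) =
      (p : ℂ)⁻¹ * ∑ s ∈ Finset.range p, (ω⁻¹) ^ s * ρ.character (π ^ s) := by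
  set A : Module.End ℂ (Fin n → ℂ) := ρ π with hA
  have hAp : A ^ p = 1 := by
    rw [hA, ← map_pow, hπ, map_one]
  have hω0 : ω ≠ 0 := by
    intro h
    rw [h, zero_pow hp.ne'] at hω
    exact zero_ne_one hω
  have hωi : (ω⁻¹) ^ p = 1 := by rw [inv_pow, hω, inv_one]
  have hp0 : (p : ℂ) ≠ 0 := by exact_mod_cast hp.ne'
  set f : ℕ → Module.End ℂ (Fin n → ℂ) := fun s => (ω⁻¹) ^ s • A ^ s with hf
  have hf0 : f 0 = 1 := by simp [hf]
  have hfp : f p = 1 := by
    simp only [hf]
    rw [hωi, hAp, one_smul]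
  have hshift : ∑ s ∈ Finset.range p, f (s + 1) = ∑ s ∈ Finset.range p, f s := by
    have h1 := Finset.sum_range_succ' f p
    have h2 := Finset.sum_range_succ f p
    rw [h1, hf0, hfp] at h2
    exact add_right_cancel h2
  set E : Module.End ℂ (Fin n → ℂ) := (p : ℂ)⁻¹ • ∑ s ∈ Finset.range p, f s with hE
  have hterm : ∀ s : ℕ, A * f s = ω • f (s + 1) := by
    intro s
    simp only [hf]
    rw [mul_smul_comm, ← pow_succ', smul_smul]
    congr 1
    rw [pow_succ, mul_comm _ ω⁻¹, ← mul_assoc, mul_inv_cancel₀ hω0, one_mul]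
  have hAE : A * E = ω • E := by
    calc A * E = (p : ℂ)⁻¹ • ∑ s ∈ Finset.range p, A * f s := by
          rw [hE, mul_smul_comm, Finset.mul_sum]
      _ = (p : ℂ)⁻¹ • ∑ s ∈ Finset.range p, ω • f (s + 1) := by
          congr 1
          exact Finset.sum_congr rfl (fun s _ => hterm s)
      _ = (p : ℂ)⁻¹ • ω • ∑ s ∈ Finset.range p, f (s + 1) := by
          congr 1
          rw [Finset.smul_sum]
      _ = ω • E := by rw [hshift, hE, smul_comm]
  have hmem : ∀ x, E x ∈ Module.End.eigenspace A ω := by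
    intro x
    rw [Module.End.mem_eigenspace_iff]
    have := LinearMap.congr_fun hAE x
    simpa using this
  have hpow : ∀ x ∈ Module.End.eigenspace A ω, ∀ s : ℕ, (A ^ s) x = ω ^ s • x := by
    intro x hx s
    rw [Module.End.mem_eigenspace_iff] at hx
    induction s with
    | zero => simp
    | succ s ih =>
      rw [pow_succ', Module.End.mul_apply, ih, map_smul, hx, smul_smul, pow_succ]
  have hid : ∀ x ∈ Module.End.eigenspace A ω, E x = x := by
    intro x hx
    rw [hE, LinearMap.smul_apply, LinearMap.sum_apply]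
    have : ∀ s ∈ Finset.range p, f s x = x := by
      intro s _
      simp only [hf, LinearMap.smul_apply]
      rw [hpow x hx s, smul_smul, ← mul_pow, inv_mul_cancel₀ hω0, one_pow, one_smul]
    rw [Finset.sum_congr rfl this, Finset.sum_const, Finset.card_range, ← Nat.cast_smul_eq_nsmul ℂ,
      smul_smul, inv_mul_cancel₀ hp0, one_smul]
  have hproj : LinearMap.IsProj (Module.End.eigenspace A ω) E := ⟨hmem, hid⟩
  have htr := hproj.trace
  rw [← htr, hE, map_smul, map_sum, smul_eq_mul]
  congr 1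
  apply Finset.sum_congr rfl
  intro s _
  simp only [hf]
  rw [map_smul, smul_eq_mul]
  congr 1
  change LinearMap.trace ℂ _ (A ^ s) = LinearMap.trace ℂ _ (ρ (π ^ s))
  rw [map_pow ρ π s]

end W2pEig

end Cfsg.Agent.Lib.Helper77
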