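import Mathlib

set_option autoImplicit false
set_option linter.unusedSectionVars false

namespace Cfsg.Agent.Lib.Helper77.SymAlg

open Module

/-- commutator subspace -/
def commSub (F : Type*) [Field F] (B : Type*) [Ring B] [Algebra F B] : Submodule F B :=
  Submodule.span F {x | ∃ a b : B, x = a * b - b * a}

variable {F : Type*} [Field F] {B : Type*} [Ring B] [Algebra F B]

theorem comm_mem_commSub (a b : B) : a * b - b * a ∈ commSub F B :=
  Submodule.subset_span ⟨a, b, rfl⟩

variable (lam : B →ₗ[F] F)

/-- the bilinear form `(a,b) ↦ λ(ab)` -/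
def form : LinearMap.BilinForm F B := (LinearMap.mul F B).compr₂ lam

@[simp] theorem form_apply (a b : B) : form lam a b = lam (a * b) := rfl

/-- `lam` is a symmetrizing form -/
structure IsSymmetrizing : Prop where
  symm : ∀ a b, lam (a * b) = lam (b * a)
  nondeg : ∀ a, (∀ b, lam (a * b) = 0) → a = 0

variable {lam}

theorem form_nondegenerate (h : IsSymmetrizing lam) : (form lam).Nondegenerate := by
  constructor
  · intro x hx
    exact h.nondeg x hx
  · intro y hy
    apply h.nondeg y
    intro b
    rw [h.symm]
    exact hy b

theorem form_isRefl (h : IsSymmetrizing lam) : (form lam).IsRefl := by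
  intro a b hab
  rw [form_apply] at hab ⊢
  rw [h.symm]; exact hab

/-- orthogonal complement w.r.t. the form -/
def perp (lam : B →ₗ[F] F) (W : Submodule F B) : Submodule F B := (form lam).orthogonal W

theorem mem_perp {W : Submodule F B} {x : B} :
    x ∈ perp lam W ↔ ∀ w ∈ W, lam (w * x) = 0 := by
  unfold perp
  rw [LinearMap.BilinForm.mem_orthogonal_iff]
  rfl

theorem finrank_perp [FiniteDimensional F B] (h : IsSymmetrizing lam) (W : Submodule F B) :
    finrank F (perp lam W) = finrank F B - finrank F W :=
  LinearMap.BilinForm.finrank_orthogonal (form_nondegenerate h) W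

theorem perp_perp [FiniteDimensional F B] (h : IsSymmetrizing lam) (W : Submodule F B) :
    perp lam (perp lam W) = W :=
  LinearMap.BilinForm.orthogonal_orthogonal (form_nondegenerate h) (form_isRefl h) W

theorem perp_anti {V W : Submodule F B} (hVW : V ≤ W) : perp lam W ≤ perp lam V := by
  intro x hx
  rw [mem_perp] at hx ⊢
  exact fun w hw => hx w (hVW hw)

theorem mem_perp_commSub_iff (h : IsSymmetrizing lam) {x : B} :
    x ∈ perp lam (commSub F B) ↔ ∀ a, a * x = x * a := by
  rw [mem_perp]
  constructor
  · intro hx a
    have h1 : x * a - a * x = 0 := by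
      apply h.nondeg
      intro b
      have h2 := hx _ (comm_mem_commSub (F := F) a b)
      have h3 : lam ((x * a - a * x) * b) = lam ((a * b - b * a) * x) := by
        rw [sub_mul, sub_mul, map_sub, map_sub]
        have e1 : lam (x * a * b) = lam (a * b * x) := by
          rw [mul_assoc, h.symm]
        have e2 : lam (a * x * b) = lam (b * a * x) := by
          rw [h.symm, ← mul_assoc]
        rw [e1, e2]
      rw [h3, h2]
    exact (sub_eq_zero.mp h1).symm
  · intro hx w hw
    unfold commSub at hw
    induction hw using Submodule.span_induction with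
    | mem y hy =>
      obtain ⟨a, b, rfl⟩ := hy
      rw [sub_mul, map_sub]
      have e1 : lam (b * a * x) = lam (a * b * x) := by
        rw [mul_assoc b a x, hx a, ← mul_assoc, h.symm, ← mul_assoc]
      rw [e1, sub_self]
    | zero => simp
    | add y z _ _ hy hz => rw [add_mul, map_add, hy, hz, add_zero]
    | smul c y _ hy => rw [smul_mul_assoc, map_smul, hy, smul_zero]

theorem perp_commSub (h : IsSymmetrizing lam) :
    perp lam (commSub F B) = Subalgebra.toSubmodule (Subalgebra.center F B) := by
  ext x
  rw [mem_perp_commSub_iff h, Subalgebra.mem_toSubmodule, Subalgebra.mem_center_iff]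

theorem finrank_center [FiniteDimensional F B] (h : IsSymmetrizing lam) :
    finrank F (Subalgebra.center F B) = finrank F B - finrank F (commSub F B) := by
  rw [← finrank_perp h, perp_commSub h]
  rfl

end Cfsg.Agent.Lib.Helper77.SymAlg
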