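import Mathlib
import Cfsg.Agent.Lib.Helper77.SymAlg

set_option autoImplicit false
set_option linter.unusedSectionVars false

namespace Cfsg.Agent.Lib.Helper77.BlockQuot

open Module Cfsg.Agent.Lib.Helper77.SymAlg

variable {F : Type*} [Field F] {A : Type*} [Ring A] [Algebra F A]

/-- the annihilator ideal of an element (two-sided when the element is central) -/
def annI (e : A) : Ideal A := LinearMap.ker (LinearMap.toSpanSingleton A A e)

theorem mem_annI {e a : A} : a ∈ annI e ↔ a * e = 0 := by
  unfold annI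
  rw [LinearMap.mem_ker, LinearMap.toSpanSingleton_apply, smul_eq_mul]

theorem annI_isTwoSided {e : A} (he : ∀ b, b * e = e * b) : (annI e).IsTwoSided :=
  ⟨fun {a} b ha => by
    rw [mem_annI] at ha ⊢
    rw [mul_assoc, he b, ← mul_assoc, ha, zero_mul]⟩

variable (e : A) [hI : (annI e).IsTwoSided]

/-- the block algebra of a central idempotent, as a quotient -/
abbrev Quo : Type _ := A ⧸ annI e

/-- the embedding of the block algebra into the algebra -/
noncomputable def theta : Quo e →ₗ[F] A :=
  ((annI e).liftQ (LinearMap.toSpanSingleton A A e) le_rfl).restrictScalars F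

theorem theta_mk (a : A) : theta (F := F) e (Ideal.Quotient.mk (annI e) a) = a * e := rfl

theorem theta_injective : Function.Injective (theta (F := F) e) := by
  rw [injective_iff_map_eq_zero]
  intro x hx
  obtain ⟨a, rfl⟩ := Ideal.Quotient.mk_surjective x
  rw [theta_mk] at hx
  rw [Ideal.Quotient.eq_zero_iff_mem, mem_annI]
  exact hx

theorem mk_e (he : e * e = e) : Ideal.Quotient.mk (annI e) e = 1 := by
  rw [← map_one (Ideal.Quotient.mk (annI e)), Ideal.Quotient.mk_eq_mk_iff_sub_mem, mem_annI,
    sub_mul, he, one_mul, sub_self]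

theorem range_theta (hc : ∀ b, b * e = e * b) :
    LinearMap.range (theta (F := F) e) = LinearMap.range (LinearMap.mulLeft F e) := by
  ext y
  rw [LinearMap.mem_range, LinearMap.mem_range]
  constructor
  · rintro ⟨x, rfl⟩
    obtain ⟨a, rfl⟩ := Ideal.Quotient.mk_surjective x
    exact ⟨a, by rw [theta_mk, LinearMap.mulLeft_apply, hc]⟩
  · rintro ⟨a, rfl⟩
    exact ⟨Ideal.Quotient.mk _ a, by rw [theta_mk, LinearMap.mulLeft_apply, hc]⟩

theorem finrank_quo [FiniteDimensional F A] (hc : ∀ b, b * e = e * b) :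
    finrank F (Quo e) = finrank F (LinearMap.range (LinearMap.mulLeft F e)) := by
  rw [← range_theta e hc, LinearMap.finrank_range_of_inj (theta_injective e)]

theorem finiteDimensional_quo [FiniteDimensional F A] : FiniteDimensional F (Quo e) :=
  Module.Finite.of_surjective (Ideal.Quotient.mkₐ F (annI e)).toLinearMap
    (Ideal.Quotient.mkₐ_surjective F (annI e))

/-- a central element of the block algebra is represented by a central element -/
theorem central_of_mk_central (hc : ∀ b, b * e = e * b) {a : A}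
    (hz : Ideal.Quotient.mk (annI e) a ∈ Subalgebra.center F (Quo e)) :
    ∀ b, b * (a * e) = (a * e) * b := by
  intro b
  rw [Subalgebra.mem_center_iff] at hz
  have h1 := congrArg (theta (F := F) e) (hz (Ideal.Quotient.mk (annI e) b))
  rw [← map_mul, ← map_mul, theta_mk, theta_mk] at h1
  rw [← mul_assoc, h1, mul_assoc, mul_assoc, hc b]

theorem mk_mem_center {a : A} (ha : ∀ b, b * a = a * b) :
    Ideal.Quotient.mk (annI e) a ∈ Subalgebra.center F (Quo e) := by
  rw [Subalgebra.mem_center_iff]
  intro x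
  obtain ⟨b, rfl⟩ := Ideal.Quotient.mk_surjective x
  rw [← map_mul, ← map_mul, ha b]

theorem map_center_eq (hc : ∀ b, b * e = e * b) (he : e * e = e) (P : A →ₗ[F] A)
    (hP1 : ∀ a b, b * P a = P a * b) (hP2 : ∀ a, (∀ b, b * a = a * b) → P a = a) :
    (Subalgebra.toSubmodule (Subalgebra.center F (Quo e))).map (theta (F := F) e) =
      LinearMap.range ((LinearMap.mulLeft F e).comp P) := by
  ext y
  rw [Submodule.mem_map, LinearMap.mem_range]
  constructor
  · rintro ⟨z, hz, rfl⟩
    obtain ⟨a, rfl⟩ := Ideal.Quotient.mk_surjective z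
    rw [Subalgebra.mem_toSubmodule] at hz
    have h1 := central_of_mk_central e hc hz
    refine ⟨a * e, ?_⟩
    rw [LinearMap.comp_apply, hP2 _ h1, LinearMap.mulLeft_apply, theta_mk, ← hc, mul_assoc, he]
  · rintro ⟨a, rfl⟩
    refine ⟨Ideal.Quotient.mk _ (P a), ?_, ?_⟩
    · rw [Subalgebra.mem_toSubmodule]
      exact mk_mem_center e (hP1 a)
    · rw [theta_mk, LinearMap.comp_apply, LinearMap.mulLeft_apply, hc]

theorem finrank_center_quo [FiniteDimensional F A] (hc : ∀ b, b * e = e * b) (he : e * e = e)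
    (P : A →ₗ[F] A)
    (hP1 : ∀ a b, b * P a = P a * b) (hP2 : ∀ a, (∀ b, b * a = a * b) → P a = a) :
    finrank F (Subalgebra.center F (Quo e)) =
      finrank F (LinearMap.range ((LinearMap.mulLeft F e).comp P)) := by
  rw [← map_center_eq e hc he P hP1 hP2]
  exact ((Submodule.equivMapOfInjective (theta (F := F) e) (theta_injective e)
    (Subalgebra.toSubmodule (Subalgebra.center F (Quo e)))).finrank_eq)

/-- the induced symmetrizing form -/
noncomputable def lamQ (lam : A →ₗ[F] F) : Quo e →ₗ[F] F := lam.comp (theta (F := F) e)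

theorem lamQ_mk (lam : A →ₗ[F] F) (a : A) :
    lamQ e lam (Ideal.Quotient.mk (annI e) a) = lam (a * e) := rfl

theorem isSymmetrizing_lamQ (hc : ∀ b, b * e = e * b) {lam : A →ₗ[F] F}
    (hlam : IsSymmetrizing lam) : IsSymmetrizing (lamQ e lam) := by
  constructor
  · intro x y
    obtain ⟨a, rfl⟩ := Ideal.Quotient.mk_surjective x
    obtain ⟨b, rfl⟩ := Ideal.Quotient.mk_surjective y
    rw [← map_mul, ← map_mul, lamQ_mk, lamQ_mk]
    rw [mul_assoc, hlam.symm, mul_assoc, ← hc a, ← mul_assoc]
  · intro x hx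
    obtain ⟨a, rfl⟩ := Ideal.Quotient.mk_surjective x
    rw [Ideal.Quotient.eq_zero_iff_mem, mem_annI]
    apply hlam.nondeg
    intro b
    have := hx (Ideal.Quotient.mk _ b)
    rw [← map_mul, lamQ_mk] at this
    rw [mul_assoc, ← hc b, ← mul_assoc]
    exact this

theorem hloc_quo (hc : ∀ b, b * e = e * b) (he : e * e = e)
    (hnil : ∀ a : A, (∀ b, b * a = a * b) → ∃ c : F, IsNilpotent (e * (a - algebraMap F A c))) :
    ∀ z ∈ Subalgebra.center F (Quo e), ∃ c : F, IsNilpotent (z - algebraMap F (Quo e) c) := by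
  intro z hz
  obtain ⟨a, rfl⟩ := Ideal.Quotient.mk_surjective z
  have h1 := central_of_mk_central e hc hz
  obtain ⟨c, k, hk⟩ := hnil _ h1
  refine ⟨c, k, ?_⟩
  have h2 := congrArg (Ideal.Quotient.mk (annI e)) hk
  rw [map_pow, map_mul, map_sub, map_mul, mk_e e he, one_mul, mul_one, map_zero] at h2
  exact h2

end Cfsg.Agent.Lib.Helper77.BlockQuot
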