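import Mathlib

set_option autoImplicit false
set_option linter.unusedSectionVars false

namespace Cfsg.Agent.Lib.Helper77.GrpAlg

open MonoidAlgebra Module

variable {k : Type*} [CommRing k] {G : Type*} [Group G]

/-- a chosen representative of the conjugacy class of `g` -/
noncomputable def rep (g : G) : G := Quotient.out (ConjClasses.mk g)

theorem isConj_rep (g : G) : IsConj (rep g) g :=
  ConjClasses.mk_eq_mk_iff_isConj.mp (Quotient.out_eq _)

theorem rep_conj (g h : G) : rep (h * g * h⁻¹) = rep g := by
  unfold rep
  congr 1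
  exact ConjClasses.mk_eq_mk_iff_isConj.mpr (isConj_iff.mpr ⟨h⁻¹, by group⟩)

theorem central_of_forall_single {z : MonoidAlgebra k G}
    (h : ∀ g : G, single g (1 : k) * z = z * single g 1) : ∀ b, b * z = z * b := by
  intro b
  induction b using MonoidAlgebra.induction_linear with
  | zero => simp
  | add x y hx hy => rw [add_mul, mul_add, hx, hy]
  | single g c =>
    have : single g c = c • single g (1 : k) := by
      rw [smul_single, smul_eq_mul, mul_one]
    rw [this, smul_mul_assoc, mul_smul_comm, h g]

theorem coeff_conj_of_central {z : MonoidAlgebra k G} (hz : ∀ b, b * z = z * b) (g h : G) :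
    z.coeff (h * g * h⁻¹) = z.coeff g := by
  have h1 := hz (single h 1)
  have h2 : (single h (1 : k) * z).coeff (h * g) = z.coeff g := by
    rw [coeff_single_mul_mul, one_mul]
  have h3 : (z * single h (1 : k)).coeff (h * g * h⁻¹ * h) = z.coeff (h * g * h⁻¹) := by
    rw [coeff_mul_single_mul, mul_one]
  rw [← h3, ← h1, inv_mul_cancel_right, h2]

theorem central_of_coeff_conj {z : MonoidAlgebra k G}
    (hz : ∀ g h : G, z.coeff (h * g * h⁻¹) = z.coeff g) : ∀ b, b * z = z * b := by
  apply central_of_forall_single
  intro h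
  ext x
  have h2 : (single h (1 : k) * z).coeff (h * (h⁻¹ * x)) = z.coeff (h⁻¹ * x) := by
    rw [coeff_single_mul_mul, one_mul]
  have h3 : (z * single h (1 : k)).coeff (x * h⁻¹ * h) = z.coeff (x * h⁻¹) := by
    rw [coeff_mul_single_mul, mul_one]
  rw [mul_inv_cancel_left] at h2
  rw [inv_mul_cancel_right] at h3
  rw [h2, h3, ← hz (h⁻¹ * x) h]
  congr 1
  group

theorem coeff_eq_of_isConj {z : MonoidAlgebra k G} (hz : ∀ b, b * z = z * b) {g g' : G}
    (h : IsConj g g') : z.coeff g = z.coeff g' := by
  obtain ⟨c, hc⟩ := isConj_iff.mp h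
  rw [← hc, coeff_conj_of_central hz]

/-- the form `a ↦ a.coeff 1` -/
noncomputable def coeffOne : MonoidAlgebra k G →ₗ[k] k where
  toFun a := a.coeff 1
  map_add' a b := by rw [coeff_add, Finsupp.add_apply]
  map_smul' c a := by rw [coeff_smul, Finsupp.smul_apply, RingHom.id_apply]

theorem coeffOne_apply (a : MonoidAlgebra k G) : coeffOne a = a.coeff 1 := rfl

theorem coeffOne_mul_comm (a b : MonoidAlgebra k G) : coeffOne (a * b) = coeffOne (b * a) := by
  induction a using MonoidAlgebra.induction_linear with
  | zero => simp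
  | add x y hx hy => rw [add_mul, mul_add, map_add, map_add, hx, hy]
  | single g r =>
    rw [coeffOne_apply, coeffOne_apply]
    have h1 : (single g r * b).coeff (g * g⁻¹) = r * b.coeff g⁻¹ := coeff_single_mul_mul _ _ _ _
    have h2 : (b * single g r).coeff (g⁻¹ * g) = b.coeff g⁻¹ * r := coeff_mul_single_mul _ _ _ _
    rw [mul_inv_cancel] at h1
    rw [inv_mul_cancel] at h2
    rw [h1, h2, mul_comm]

theorem eq_zero_of_coeffOne_mul {a : MonoidAlgebra k G} (h : ∀ b, coeffOne (a * b) = 0) :
    a = 0 := by
  ext g
  have h1 := h (single g⁻¹ 1)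
  rw [coeffOne_apply] at h1
  have h2 : (a * single g⁻¹ (1 : k)).coeff (g * g⁻¹) = a.coeff g * 1 := coeff_mul_single_mul _ _ _ _
  rw [mul_inv_cancel, mul_one] at h2
  rw [← h2, h1]
  rfl

section Fin

variable [Finite G]

/-- the class projection: evaluate the coefficient function at class representatives -/
noncomputable def classProj : MonoidAlgebra k G →ₗ[k] MonoidAlgebra k G where
  toFun a := ofCoeff (Finsupp.equivFunOnFinite.symm fun g => a.coeff (rep g))
  map_add' a b := by
    ext g
    simp
  map_smul' c a := by
    ext g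
    simp

theorem coeff_classProj (a : MonoidAlgebra k G) (g : G) :
    (classProj a).coeff g = a.coeff (rep g) := by
  simp [classProj]

theorem classProj_central (a : MonoidAlgebra k G) : ∀ b, b * classProj a = classProj a * b := by
  apply central_of_coeff_conj
  intro g h
  rw [coeff_classProj, coeff_classProj, rep_conj]

theorem classProj_of_central {a : MonoidAlgebra k G} (ha : ∀ b, b * a = a * b) :
    classProj a = a := by
  ext g
  rw [coeff_classProj]
  exact coeff_eq_of_isConj ha (isConj_rep g)

theorem mapRingHom_classProj {k' : Type*} [CommRing k'] (f : k →+* k') (a : MonoidAlgebra k G) :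
    mapRingHom G f (classProj a) = classProj (mapRingHom G f a) := by
  ext g
  rw [coeff_mapRingHom, coeff_classProj, coeff_classProj, coeff_mapRingHom]

end Fin

theorem trace_mulLeft {K : Type*} [Field K] [Fintype G] (a : MonoidAlgebra K G) :
    LinearMap.trace K (MonoidAlgebra K G) (LinearMap.mulLeft K a) =
      (Fintype.card G : K) * a.coeff 1 := by
  classical
  rw [LinearMap.trace_eq_matrix_trace K (MonoidAlgebra.basis G K), Matrix.trace]
  have : ∀ g : G, (LinearMap.toMatrix (MonoidAlgebra.basis G K) (MonoidAlgebra.basis G K)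
      (LinearMap.mulLeft K a)).diag g = a.coeff 1 := by
    intro g
    rw [Matrix.diag_apply, LinearMap.toMatrix_apply, MonoidAlgebra.basis_apply,
      LinearMap.mulLeft_apply]
    have h2 : (a * single g (1 : K)).coeff (1 * g) = a.coeff 1 * 1 := coeff_mul_single_mul _ _ _ _
    rw [one_mul, mul_one] at h2
    rw [← h2]
    rfl
  rw [Finset.sum_congr rfl (fun g _ => this g), Finset.sum_const, Finset.card_univ, nsmul_eq_mul]

theorem finrank_eq_card {K : Type*} [Field K] [Fintype G] :
    finrank K (MonoidAlgebra K G) = Fintype.card G := by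
  rw [Module.finrank_eq_card_basis (MonoidAlgebra.basis G K)]

end Cfsg.Agent.Lib.Helper77.GrpAlg
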