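import Mathlib
import Cfsg.Agent.Lib.Helper77.BlockIdem
import Cfsg.Agent.Lib.Helper77.GrpAlg
import Cfsg.Agent.Lib.Helper16.Osima

set_option autoImplicit false
set_option linter.unusedSectionVars false

namespace Cfsg.Agent.Lib.Helper77.BlockDimC

open Cfsg MonoidAlgebra Module Cfsg.Agent.Lib.Helper16 Cfsg.Agent.Lib.Helper77
  Cfsg.Agent.Lib.Helper77.GrpAlg
open scoped ComplexConjugate

variable {G : Type*} [Group G] [Fintype G]

theorem idemOf_mul_self (B : Set (IrrCharacter G)) : idemOf B * idemOf B = idemOf B :=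
  congrArg Subtype.val (idemC_mul_self B)

theorem idemOf_central (B : Set (IrrCharacter G)) : ∀ b, b * idemOf B = idemOf B * b :=
  fun b => (Subalgebra.mem_center_iff.mp (idemOf_mem_center B)) b

/-- the dimension of the complex block algebra -/
theorem finrank_range_mulLeft_idemOf (B : Set (IrrCharacter G)) :
    (finrank ℂ (LinearMap.range (LinearMap.mulLeft ℂ (idemOf B))) : ℂ) =
      ∑ᶠ χ ∈ B, (χ : G → ℂ) 1 * conj ((χ : G → ℂ) 1) := by
  have hidem : IsIdempotentElem (LinearMap.mulLeft ℂ (idemOf B)) := by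
    apply LinearMap.ext
    intro v
    rw [Module.End.mul_apply, LinearMap.mulLeft_apply, LinearMap.mulLeft_apply, ← mul_assoc,
      idemOf_mul_self]
  have h1 := (LinearMap.IsIdempotentElem.isProj_range _ hidem).trace
  rw [← h1, trace_mulLeft, coeff_idemOf]
  unfold blockCoeff
  rw [Nat.card_eq_fintype_card, ← mul_assoc, mul_inv_cancel₀, one_mul]
  have : 0 < Fintype.card G := Fintype.card_pos
  exact_mod_cast this.ne'

/-- `omega χ` as a linear functional -/
noncomputable def omegaLin (χ : G → ℂ) : MonoidAlgebra ℂ G →ₗ[ℂ] ℂ where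
  toFun := omega χ
  map_add' := omega_add χ
  map_smul' c z := by rw [omega_smul, RingHom.id_apply, smul_eq_mul]

theorem mem_center_of_central {z : MonoidAlgebra ℂ G} (hz : ∀ b, b * z = z * b) :
    z ∈ Subalgebra.center ℂ (MonoidAlgebra ℂ G) := Subalgebra.mem_center_iff.mpr hz

theorem idemOf_mul_singleton {B : Set (IrrCharacter G)} {χ : IrrCharacter G} (hχ : χ ∈ B) :
    idemOf B * idemOf {χ} = idemOf ({χ} : Set (IrrCharacter G)) := by
  classical
  have : idemC B * idemC {χ} = idemC ({χ} : Set (IrrCharacter G)) := by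
    apply eq_of_forall_omegaHom_eq
    intro ψ
    rw [map_mul, omegaHom_idemC, omegaHom_idemC]
    by_cases h : ψ ∈ ({χ} : Set (IrrCharacter G))
    · rw [if_pos h]
      rw [Set.mem_singleton_iff] at h
      rw [h, if_pos hχ, mul_one]
    · rw [if_neg h, mul_zero]
  exact congrArg Subtype.val this

/-- the dimension of the centre of the complex block algebra -/
theorem finrank_range_mulLeft_classProj_idemOf (B : Set (IrrCharacter G)) :
    finrank ℂ (LinearMap.range ((LinearMap.mulLeft ℂ (idemOf B)).comp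
      (classProj : MonoidAlgebra ℂ G →ₗ[ℂ] MonoidAlgebra ℂ G))) = Nat.card B := by
  classical
  have hfin : Finite (IrrCharacter G) := finite_irrCharacter
  have hfinB : Fintype B := Fintype.ofFinite _
  obtain ⟨W, hW⟩ : ∃ W, W = LinearMap.range ((LinearMap.mulLeft ℂ (idemOf B)).comp
      (classProj : MonoidAlgebra ℂ G →ₗ[ℂ] MonoidAlgebra ℂ G)) := ⟨_, rfl⟩
  rw [← hW]
  -- membership in `W`
  have hmem : ∀ w : MonoidAlgebra ℂ G, w ∈ W ↔ (∀ b, b * w = w * b) ∧ idemOf B * w = w := by
    intro w
    rw [hW, LinearMap.mem_range]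
    constructor
    · rintro ⟨a, rfl⟩
      rw [LinearMap.comp_apply, LinearMap.mulLeft_apply]
      refine ⟨?_, ?_⟩
      · intro b
        rw [← mul_assoc, idemOf_central B b, mul_assoc, classProj_central a b, mul_assoc]
      · rw [← mul_assoc, idemOf_mul_self]
    · rintro ⟨h1, h2⟩
      refine ⟨w, ?_⟩
      rw [LinearMap.comp_apply, LinearMap.mulLeft_apply, classProj_of_central h1, h2]
  -- the evaluation map
  obtain ⟨T, hT⟩ : ∃ T : W →ₗ[ℂ] (B → ℂ), T = LinearMap.pi (fun χ : B =>
      (omegaLin ((χ : IrrCharacter G) : G → ℂ)).comp W.subtype) := ⟨_, rfl⟩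
  have hTapp : ∀ (w : W) (χ : B), T w χ = omega ((χ : IrrCharacter G) : G → ℂ) (w : MonoidAlgebra ℂ G) := by
    intro w χ
    rw [hT]
    rfl
  have hinj : Function.Injective T := by
    rw [injective_iff_map_eq_zero]
    intro w hw
    obtain ⟨h1, h2⟩ := (hmem w).mp w.2
    have hz : (⟨(w : MonoidAlgebra ℂ G), mem_center_of_central h1⟩ :
        Subalgebra.center ℂ (MonoidAlgebra ℂ G)) = 0 := by
      apply eq_zero_of_forall_omegaHom_eq_zero
      intro ψ
      by_cases hψ : ψ ∈ B
      · have := congrFun hw ⟨ψ, hψ⟩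
        rw [hTapp] at this
        exact this
      · have h3 : (⟨(w : MonoidAlgebra ℂ G), mem_center_of_central h1⟩ :
            Subalgebra.center ℂ (MonoidAlgebra ℂ G)) =
            idemC B * ⟨(w : MonoidAlgebra ℂ G), mem_center_of_central h1⟩ := by
          apply Subtype.ext
          exact h2.symm
        rw [h3, map_mul, omegaHom_idemC, if_neg hψ, zero_mul]
    apply Subtype.ext
    have h4 := congrArg (fun z : Subalgebra.center ℂ (MonoidAlgebra ℂ G) =>
      (z : MonoidAlgebra ℂ G)) hz
    exact h4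
  have hsurj : Function.Surjective T := by
    intro f
    have hw : (∑ χ : B, f χ • idemOf ({(χ : IrrCharacter G)} : Set (IrrCharacter G))) ∈ W := by
      apply Submodule.sum_mem
      intro χ _
      apply Submodule.smul_mem
      rw [hmem]
      exact ⟨idemOf_central _, idemOf_mul_singleton χ.2⟩
    refine ⟨⟨_, hw⟩, ?_⟩
    funext ψ
    rw [hTapp]
    show omega ((ψ : IrrCharacter G) : G → ℂ)
      (∑ χ : B, f χ • idemOf ({(χ : IrrCharacter G)} : Set (IrrCharacter G))) = f ψ
    rw [omega_sum]
    simp only [omega_smul]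
    have h5 : ∀ χ : B, omega ((ψ : IrrCharacter G) : G → ℂ)
        (idemOf ({(χ : IrrCharacter G)} : Set (IrrCharacter G))) = if ψ = χ then 1 else 0 := by
      intro χ
      have := omegaHom_idemC ({(χ : IrrCharacter G)} : Set (IrrCharacter G)) (ψ : IrrCharacter G)
      rw [omegaHom_apply] at this
      rw [show (idemOf ({(χ : IrrCharacter G)} : Set (IrrCharacter G))) =
        ((idemC ({(χ : IrrCharacter G)} : Set (IrrCharacter G)) :
          Subalgebra.center ℂ (MonoidAlgebra ℂ G)) : MonoidAlgebra ℂ G) from rfl, this]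
      simp only [Set.mem_singleton_iff, Subtype.ext_iff]
    simp only [h5, mul_ite, mul_one, mul_zero]
    rw [Finset.sum_ite_eq Finset.univ ψ f, if_pos (Finset.mem_univ _)]
  have e := LinearEquiv.ofBijective T ⟨hinj, hsurj⟩
  rw [e.finrank_eq, Module.finrank_fintype_fun_eq_card, Nat.card_eq_fintype_card]

end Cfsg.Agent.Lib.Helper77.BlockDimC
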