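import Mathlib

set_option autoImplicit false
set_option linter.unusedSectionVars false

namespace Cfsg.Agent.Lib.Helper77.ModLift

open Module

variable {R : Type*} [CommRing R] [IsLocalRing R]
  {F : Type*} [Field F] [Algebra R F]
  {K : Type*} [Field K] [Algebra R K]
  {VR VF VK : Type*} [AddCommGroup VR] [Module R VR] [Module.Finite R VR]
  [AddCommGroup VF] [Module F VF] [Module R VF] [IsScalarTower R F VF] [FiniteDimensional F VF]
  [AddCommGroup VK] [Module K VK] [Module R VK] [IsScalarTower R K VK] [FiniteDimensional K VK]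

/-- the `R`-span of a set maps onto an `F`-subspace when `R → F` is surjective -/
theorem span_F_le_map (hπ : Function.Surjective (algebraMap R F)) (ρ : VR →ₗ[R] VF)
    (S : Submodule R VR) (T : Set VF) (hT : T ⊆ ρ '' S) :
    (Submodule.span F T : Set VF) ⊆ ρ '' S := by
  intro x hx
  induction hx using Submodule.span_induction with
  | mem y hy => exact hT hy
  | zero => exact ⟨0, S.zero_mem, map_zero ρ⟩
  | add y z _ _ hy hz =>
    obtain ⟨a, ha, rfl⟩ := hy
    obtain ⟨b, hb, rfl⟩ := hz
    exact ⟨a + b, S.add_mem ha hb, map_add ρ a b⟩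
  | smul c y _ hy =>
    obtain ⟨a, ha, rfl⟩ := hy
    obtain ⟨r, rfl⟩ := hπ c
    refine ⟨r • a, S.smul_mem r ha, ?_⟩
    rw [map_smul, algebraMap_smul]

theorem finrank_range_le_of_lift
    (hπ : Function.Surjective (algebraMap R F))
    (ρ : VR →ₗ[R] VF) (γ : VR →ₗ[R] VK)
    (hρ : Function.Surjective ρ)
    (hρker : LinearMap.ker ρ ≤ (IsLocalRing.maximalIdeal R) • (⊤ : Submodule R VR))
    (hγ : Submodule.span K (Set.range γ) = ⊤)
    (ER : VR →ₗ[R] VR) (EF : VF →ₗ[F] VF) (EK : VK →ₗ[K] VK)
    (hER : ∀ v, ER (ER v) = ER v) (hEF : ∀ v, EF (EF v) = EF v)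
    (hρE : ∀ v, ρ (ER v) = EF (ρ v)) (hγE : ∀ v, γ (ER v) = EK (γ v)) :
    finrank K (LinearMap.range EK) ≤ finrank F (LinearMap.range EF) ∧
    finrank K (LinearMap.ker EK) ≤ finrank F (LinearMap.ker EF) := by
  classical
  -- bases of range and kernel of `EF`
  let bR := Module.finBasis F (LinearMap.range EF)
  let bK := Module.finBasis F (LinearMap.ker EF)
  -- lifts
  have hlift : ∀ x : VF, ∃ v : VR, ρ v = x := hρ
  choose lft hlft using hlift
  let v : Fin (finrank F (LinearMap.range EF)) → VR := fun k => ER (lft (bR k : VF))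
  let u : Fin (finrank F (LinearMap.ker EF)) → VR :=
    fun l => lft (bK l : VF) - ER (lft (bK l : VF))
  have hv1 : ∀ k, ρ (v k) = (bR k : VF) := by
    intro k
    show ρ (ER (lft (bR k : VF))) = _
    rw [hρE, hlft]
    obtain ⟨w, hw⟩ := (bR k).2
    rw [← hw, hEF]
  have hv2 : ∀ k, ER (v k) = v k := fun k => hER _
  have hu1 : ∀ l, ρ (u l) = (bK l : VF) := by
    intro l
    show ρ (lft (bK l : VF) - ER (lft (bK l : VF))) = _
    rw [map_sub, hρE, hlft]
    have : EF (bK l : VF) = 0 := (bK l).2
    rw [this, sub_zero]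
  have hu2 : ∀ l, ER (u l) = 0 := by
    intro l
    show ER (lft (bK l : VF) - ER (lft (bK l : VF))) = 0
    rw [map_sub, hER, sub_self]
  -- the span of the lifts is everything
  let S : Submodule R VR := Submodule.span R (Set.range v ∪ Set.range u)
  have hSimg : ∀ x : VF, x ∈ ρ '' S := by
    intro x
    -- x = EF x + (x - EF x)
    have hx1 : EF x ∈ ρ '' (S : Set VR) := by
      have h1 : EF x ∈ Submodule.span F (Set.range fun k => (bR k : VF)) := by
        have := bR.mem_span ⟨EF x, LinearMap.mem_range_self EF x⟩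
        have h2 := Submodule.apply_mem_span_image_of_mem_span
          (LinearMap.range EF).subtype this
        simpa [Set.range_comp'] using h2
      apply span_F_le_map hπ ρ S _ _ h1
      rintro _ ⟨k, rfl⟩
      exact ⟨v k, Submodule.subset_span (Or.inl ⟨k, rfl⟩), hv1 k⟩
    have hx2 : x - EF x ∈ ρ '' (S : Set VR) := by
      have hmem : x - EF x ∈ LinearMap.ker EF := by
        rw [LinearMap.mem_ker, map_sub, hEF, sub_self]
      have h1 : x - EF x ∈ Submodule.span F (Set.range fun l => (bK l : VF)) := by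
        have := bK.mem_span ⟨x - EF x, hmem⟩
        have h2 := Submodule.apply_mem_span_image_of_mem_span
          (LinearMap.ker EF).subtype this
        simpa [Set.range_comp'] using h2
      apply span_F_le_map hπ ρ S _ _ h1
      rintro _ ⟨l, rfl⟩
      exact ⟨u l, Submodule.subset_span (Or.inr ⟨l, rfl⟩), hu1 l⟩
    obtain ⟨a, ha, ha'⟩ := hx1
    obtain ⟨b, hb, hb'⟩ := hx2
    refine ⟨a + b, S.add_mem ha hb, ?_⟩
    rw [map_add, ha', hb']
    abel
  have hStop : S = ⊤ := by
    rw [eq_top_iff]
    apply Submodule.le_of_le_smul_of_le_jacobson_bot (Module.Finite.fg_top)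
      (IsLocalRing.maximalIdeal_le_jacobson ⊥)
    intro x _
    obtain ⟨a, ha, hax⟩ := hSimg (ρ x)
    have h1 : x - a ∈ LinearMap.ker ρ := by
      rw [LinearMap.mem_ker, map_sub, hax, sub_self]
    have h2 := hρker h1
    have : x = a + (x - a) := by abel
    rw [this]
    exact Submodule.add_mem _ (Submodule.mem_sup_left ha) (Submodule.mem_sup_right h2)
  -- images in `VK`
  have hγspan : (⊤ : Submodule K VK) ≤
      Submodule.span K (Set.range (γ ∘ v)) ⊔ Submodule.span K (Set.range (γ ∘ u)) := by
    rw [← hγ, Submodule.span_le]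
    rintro _ ⟨x, rfl⟩
    have hx : x ∈ S := hStop ▸ Submodule.mem_top
    induction hx using Submodule.span_induction with
    | mem y hy =>
      rcases hy with ⟨k, rfl⟩ | ⟨l, rfl⟩
      · exact Submodule.mem_sup_left (Submodule.subset_span ⟨k, rfl⟩)
      · exact Submodule.mem_sup_right (Submodule.subset_span ⟨l, rfl⟩)
    | zero => rw [map_zero]; exact Submodule.zero_mem _
    | add y z _ _ hy hz => rw [map_add]; exact Submodule.add_mem _ hy hz
    | smul c y _ hy =>
      rw [map_smul, ← algebraMap_smul K c (γ y)]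
      exact Submodule.smul_mem _ _ hy
  have hEKv : ∀ k, EK (γ (v k)) = γ (v k) := fun k => by rw [← hγE, hv2]
  have hEKu : ∀ l, EK (γ (u l)) = 0 := fun l => by rw [← hγE, hu2, map_zero]
  have hfix : ∀ a ∈ Submodule.span K (Set.range (γ ∘ v)), EK a = a := by
    intro a ha
    induction ha using Submodule.span_induction with
    | mem y hy => obtain ⟨k, rfl⟩ := hy; exact hEKv k
    | zero => rw [map_zero]
    | add y z _ _ hy hz => rw [map_add, hy, hz]
    | smul c y _ hy => rw [map_smul, hy]
  have hkill : ∀ b ∈ Submodule.span K (Set.range (γ ∘ u)), EK b = 0 := by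
    intro b hb
    induction hb using Submodule.span_induction with
    | mem y hy => obtain ⟨l, rfl⟩ := hy; exact hEKu l
    | zero => rw [map_zero]
    | add y z _ _ hy hz => rw [map_add, hy, hz, add_zero]
    | smul c y _ hy => rw [map_smul, hy, smul_zero]
  constructor
  · -- range EK ≤ span (γ ∘ v)
    have hle : LinearMap.range EK ≤ Submodule.span K (Set.range (γ ∘ v)) := by
      rintro _ ⟨x, rfl⟩
      have hx := hγspan (Submodule.mem_top : x ∈ ⊤)
      obtain ⟨a, ha, b, hb, rfl⟩ := Submodule.mem_sup.mp hx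
      rw [map_add, hfix a ha, hkill b hb, add_zero]
      exact ha
    calc finrank K (LinearMap.range EK) ≤ finrank K (Submodule.span K (Set.range (γ ∘ v))) :=
          Submodule.finrank_mono hle
      _ ≤ Fintype.card (Fin (finrank F (LinearMap.range EF))) := finrank_range_le_card _
      _ = finrank F (LinearMap.range EF) := Fintype.card_fin _
  · have hle : LinearMap.ker EK ≤ Submodule.span K (Set.range (γ ∘ u)) := by
      intro x hxk
      rw [LinearMap.mem_ker] at hxk
      have hx := hγspan (Submodule.mem_top : x ∈ ⊤)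
      obtain ⟨a, ha, b, hb, rfl⟩ := Submodule.mem_sup.mp hx
      rw [map_add, hfix a ha, hkill b hb, add_zero] at hxk
      rw [hxk, zero_add]
      exact hb
    calc finrank K (LinearMap.ker EK) ≤ finrank K (Submodule.span K (Set.range (γ ∘ u))) :=
          Submodule.finrank_mono hle
      _ ≤ Fintype.card (Fin (finrank F (LinearMap.ker EF))) := finrank_range_le_card _
      _ = finrank F (LinearMap.ker EF) := Fintype.card_fin _

/-- the rank of an idempotent is preserved under reduction and extension of scalars -/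
theorem finrank_range_eq_of_lift
    (hπ : Function.Surjective (algebraMap R F))
    (ρ : VR →ₗ[R] VF) (γ : VR →ₗ[R] VK)
    (hρ : Function.Surjective ρ)
    (hρker : LinearMap.ker ρ ≤ (IsLocalRing.maximalIdeal R) • (⊤ : Submodule R VR))
    (hγ : Submodule.span K (Set.range γ) = ⊤)
    (hdim : finrank F VF = finrank K VK)
    (ER : VR →ₗ[R] VR) (EF : VF →ₗ[F] VF) (EK : VK →ₗ[K] VK)
    (hER : ∀ v, ER (ER v) = ER v) (hEF : ∀ v, EF (EF v) = EF v)
    (hρE : ∀ v, ρ (ER v) = EF (ρ v)) (hγE : ∀ v, γ (ER v) = EK (γ v)) :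
    finrank F (LinearMap.range EF) = finrank K (LinearMap.range EK) := by
  obtain ⟨h1, h2⟩ := finrank_range_le_of_lift hπ ρ γ hρ hρker hγ ER EF EK hER hEF hρE hγE
  have h3 := LinearMap.finrank_range_add_finrank_ker EF
  have h4 := LinearMap.finrank_range_add_finrank_ker EK
  omega

end Cfsg.Agent.Lib.Helper77.ModLift
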