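import Mathlib
import Cfsg.Agent.Lib.Helper77.GrpAlg
import Cfsg.Agent.Lib.Helper77.ModLift

set_option autoImplicit false
set_option linter.unusedSectionVars false

namespace Cfsg.Agent.Lib.Helper77.GrpRed

open MonoidAlgebra Module Cfsg.Agent.Lib.Helper77.GrpAlg

variable {R : Type*} [CommRing R] {G : Type*} [Group G]

/-- base change of group algebras along an algebra map -/
noncomputable def bc (S : Type*) [CommRing S] [Algebra R S] :
    MonoidAlgebra R G →ₐ[R] MonoidAlgebra S G := mapAlgHom G (Algebra.ofId R S)

theorem coeff_bc (S : Type*) [CommRing S] [Algebra R S] (a : MonoidAlgebra R G) (g : G) :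
    (bc S a).coeff g = algebraMap R S (a.coeff g) := coeff_mapAlgHom _ _ _

theorem bc_single (S : Type*) [CommRing S] [Algebra R S] (g : G) (r : R) :
    bc S (single g r) = single g (algebraMap R S r) := mapAlgHom_single _ _ _

theorem bc_injective (S : Type*) [CommRing S] [Algebra R S]
    (hinj : Function.Injective (algebraMap R S)) :
    Function.Injective (bc S : MonoidAlgebra R G → MonoidAlgebra S G) := by
  intro a b hab
  ext g
  apply hinj
  rw [← coeff_bc, ← coeff_bc, hab]

theorem bc_classProj [Finite G] (S : Type*) [CommRing S] [Algebra R S] (a : MonoidAlgebra R G) :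
    bc S (classProj a) = classProj (bc S a) := by
  ext g
  rw [coeff_bc, coeff_classProj, coeff_classProj, coeff_bc]

theorem bc_surjective [Finite G] (S : Type*) [CommRing S] [Algebra R S]
    (hπ : Function.Surjective (algebraMap R S)) :
    Function.Surjective (bc S : MonoidAlgebra R G → MonoidAlgebra S G) := by
  intro b
  refine ⟨ofCoeff (Finsupp.equivFunOnFinite.symm fun g => (hπ (b.coeff g)).choose), ?_⟩
  ext g
  rw [coeff_bc]
  simp only [Finsupp.equivFunOnFinite_symm_apply_apply]
  exact (hπ (b.coeff g)).choose_spec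

theorem eq_sum_single [Fintype G] (a : MonoidAlgebra R G) :
    a = ∑ g : G, a.coeff g • single g (1 : R) := by
  exact ((MonoidAlgebra.basis G R).sum_repr a).symm

theorem ker_bc_le [Fintype G] [IsLocalRing R] (S : Type*) [CommRing S] [Algebra R S]
    (hker : ∀ r : R, algebraMap R S r = 0 → r ∈ IsLocalRing.maximalIdeal R) :
    LinearMap.ker (bc S : MonoidAlgebra R G →ₐ[R] MonoidAlgebra S G).toLinearMap ≤
      (IsLocalRing.maximalIdeal R) • (⊤ : Submodule R (MonoidAlgebra R G)) := by
  intro a ha
  rw [LinearMap.mem_ker, AlgHom.toLinearMap_apply] at ha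
  rw [eq_sum_single a]
  apply Submodule.sum_mem
  intro g _
  apply Submodule.smul_mem_smul _ Submodule.mem_top
  apply hker
  rw [← coeff_bc, ha]
  rfl

theorem span_range_bc [Fintype G] (K : Type*) [Field K] [Algebra R K] :
    Submodule.span K (Set.range (bc K : MonoidAlgebra R G →ₐ[R] MonoidAlgebra K G).toLinearMap) =
      ⊤ := by
  rw [eq_top_iff, ← (MonoidAlgebra.basis G K).span_eq]
  apply Submodule.span_mono
  rintro _ ⟨g, rfl⟩
  refine ⟨single g 1, ?_⟩
  rw [AlgHom.toLinearMap_apply, bc_single, map_one, MonoidAlgebra.basis_apply]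

section Transfer

open Cfsg.Agent.Lib.Helper77.ModLift

variable {R : Type*} [CommRing R] [IsLocalRing R] {G : Type*} [Group G] [Fintype G]
  {F : Type*} [Field F] [Algebra R F] {K : Type*} [Field K] [Algebra R K]

/-- the rank of left multiplication by an idempotent is the same over `F` and over `K` -/
theorem finrank_range_mulLeft (hπ : Function.Surjective (algebraMap R F))
    (hker : ∀ r : R, algebraMap R F r = 0 → r ∈ IsLocalRing.maximalIdeal R)
    {eR : MonoidAlgebra R G} (he : eR * eR = eR) :
    finrank F (LinearMap.range (LinearMap.mulLeft F (bc F eR))) =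
      finrank K (LinearMap.range (LinearMap.mulLeft K (bc K eR))) := by
  have hdim : finrank F (MonoidAlgebra F G) = finrank K (MonoidAlgebra K G) := by
    rw [finrank_eq_card, finrank_eq_card]
  refine finrank_range_eq_of_lift hπ (bc F : MonoidAlgebra R G →ₐ[R] MonoidAlgebra F G).toLinearMap
    (bc K : MonoidAlgebra R G →ₐ[R] MonoidAlgebra K G).toLinearMap (bc_surjective F hπ)
    (ker_bc_le F hker) (span_range_bc K) hdim (LinearMap.mulLeft R eR) _ _ ?_ ?_ ?_ ?_
  · intro v
    rw [LinearMap.mulLeft_apply, LinearMap.mulLeft_apply, ← mul_assoc, he]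
  · intro v
    rw [LinearMap.mulLeft_apply, LinearMap.mulLeft_apply, ← mul_assoc, ← map_mul, he]
  · intro v
    rw [LinearMap.mulLeft_apply, LinearMap.mulLeft_apply, AlgHom.toLinearMap_apply, map_mul,
      AlgHom.toLinearMap_apply]
  · intro v
    rw [LinearMap.mulLeft_apply, LinearMap.mulLeft_apply, AlgHom.toLinearMap_apply, map_mul,
      AlgHom.toLinearMap_apply]

/-- the rank of `a ↦ e * classProj a` is the same over `F` and over `K` -/
theorem finrank_range_mulLeft_classProj (hπ : Function.Surjective (algebraMap R F))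
    (hker : ∀ r : R, algebraMap R F r = 0 → r ∈ IsLocalRing.maximalIdeal R)
    {eR : MonoidAlgebra R G} (he : eR * eR = eR) (hc : ∀ b, b * eR = eR * b) :
    finrank F (LinearMap.range ((LinearMap.mulLeft F (bc F eR)).comp classProj)) =
      finrank K (LinearMap.range ((LinearMap.mulLeft K (bc K eR)).comp classProj)) := by
  have hdim : finrank F (MonoidAlgebra F G) = finrank K (MonoidAlgebra K G) := by
    rw [finrank_eq_card, finrank_eq_card]
  have hER : ∀ v : MonoidAlgebra R G,
      eR * classProj (eR * classProj v) = eR * classProj v := by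
    intro v
    have h1 : ∀ b, b * (eR * classProj v) = (eR * classProj v) * b := by
      intro b
      rw [← mul_assoc, hc b, mul_assoc, classProj_central v b, mul_assoc]
    rw [classProj_of_central h1, ← mul_assoc, he]
  refine finrank_range_eq_of_lift hπ (bc F : MonoidAlgebra R G →ₐ[R] MonoidAlgebra F G).toLinearMap
    (bc K : MonoidAlgebra R G →ₐ[R] MonoidAlgebra K G).toLinearMap (bc_surjective F hπ)
    (ker_bc_le F hker) (span_range_bc K) hdim ((LinearMap.mulLeft R eR).comp classProj) _ _
    ?_ ?_ ?_ ?_
  · intro v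
    simp only [LinearMap.comp_apply, LinearMap.mulLeft_apply]
    exact hER v
  · intro w
    obtain ⟨v, rfl⟩ := bc_surjective F hπ w
    simp only [LinearMap.comp_apply, LinearMap.mulLeft_apply]
    rw [← bc_classProj, ← map_mul, ← bc_classProj, ← map_mul, hER]
  · intro v
    simp only [LinearMap.comp_apply, LinearMap.mulLeft_apply, AlgHom.toLinearMap_apply]
    rw [map_mul, bc_classProj]
  · intro v
    simp only [LinearMap.comp_apply, LinearMap.mulLeft_apply, AlgHom.toLinearMap_apply]
    rw [map_mul, bc_classProj]

end Transfer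

end Cfsg.Agent.Lib.Helper77.GrpRed
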