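import Mathlib
import Cfsg.Agent.Lib.Helper16.LocalRing

set_option autoImplicit false
set_option linter.unusedSectionVars false

namespace Cfsg.Agent.Lib.Helper77.Modular

open Cfsg Cfsg.Agent.Lib.Helper16

variable (M : Ideal AlgInt) [hMp : M.IsPrime]

/-- the residue field of the local ring at `M` -/
abbrev ResF : Type := localSubring M ⧸ localIdeal M

noncomputable instance resF_field : Field (ResF M) := Ideal.Quotient.field (localIdeal M)

/-- the inclusion of the algebraic integers in the local ring -/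
def algIntToLocal : AlgInt →+* localSubring M where
  toFun a := ⟨(a : ℂ), memLocalRing_algInt hMp.ne_top a⟩
  map_one' := rfl
  map_mul' _ _ := rfl
  map_zero' := rfl
  map_add' _ _ := rfl

theorem mem_localSubring_of_isIntegral {z : ℂ} (hz : IsIntegral (localSubring M) z) :
    z ∈ localSubring M := by
  let _ : Algebra AlgInt (localSubring M) := (algIntToLocal M).toAlgebra
  have : IsScalarTower AlgInt (localSubring M) ℂ := IsScalarTower.of_algebraMap_eq (fun _ => rfl)
  have : IsLocalization M.primeCompl (localSubring M) := by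
    refine ⟨?_, ?_, ?_⟩
    · rintro ⟨b, hb⟩
      apply isUnit_of_not_mem_localIdeal
      rw [mem_localIdeal]
      show ¬ MemLocalIdeal M ((b : AlgInt) : ℂ)
      rw [memLocalIdeal_coe_iff]
      exact hb
    · rintro ⟨z, a, b, hb, rfl⟩
      refine ⟨(a, ⟨b, hb⟩), ?_⟩
      apply Subtype.ext
      show (a : ℂ) / (b : ℂ) * (b : ℂ) = (a : ℂ)
      rw [div_mul_cancel₀ _ (coe_ne_zero_of_not_mem hb)]
    · intro x y hxy
      refine ⟨1, ?_⟩
      have h1 : (x : ℂ) = (y : ℂ) := congrArg (fun t : localSubring M => (t : ℂ)) hxy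
      have h2 : x = y := Subtype.ext h1
      rw [h2]
  obtain ⟨m, hm⟩ := IsIntegral.exists_multiple_integral_of_isLocalization M.primeCompl z hz
  have h1 : IsIntegral ℤ (m • z) := isIntegral_trans _ hm
  have h2 : m • z = ((m : AlgInt) : ℂ) * z := rfl
  rw [h2] at h1
  have hm0 : ((m : AlgInt) : ℂ) ≠ 0 := coe_ne_zero_of_not_mem m.2
  refine ⟨⟨((m : AlgInt) : ℂ) * z, h1⟩, (m : AlgInt), m.2, ?_⟩
  show ((m : AlgInt) : ℂ) * z / ((m : AlgInt) : ℂ) = z
  rw [mul_div_cancel_left₀ _ hm0]

instance resF_isAlgClosed : IsAlgClosed (ResF M) := by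
  apply IsAlgClosed.of_exists_root
  intro p hp hirr
  have hsurj : Function.Surjective (Ideal.Quotient.mk (localIdeal M)) :=
    Ideal.Quotient.mk_surjective
  have hlifts : p ∈ Polynomial.lifts (Ideal.Quotient.mk (localIdeal M)) := by
    rw [Polynomial.lifts_iff_coeff_lifts]
    intro n
    obtain ⟨r, hr⟩ := hsurj (p.coeff n)
    exact ⟨r, hr⟩
  obtain ⟨q, hq1, hq2, hq3⟩ := Polynomial.lifts_and_degree_eq_and_monic hlifts hp
  have hdeg : (q.map (localSubring M).subtype).degree ≠ 0 := by
    rw [Polynomial.degree_map_eq_of_injective Subtype.val_injective, hq2]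
    exact Polynomial.degree_pos_of_irreducible hirr |>.ne'
  obtain ⟨z, hz⟩ := IsAlgClosed.exists_root (q.map (localSubring M).subtype) hdeg
  have hzint : IsIntegral (localSubring M) z := by
    refine ⟨q, hq3, ?_⟩
    rw [Polynomial.IsRoot.def, Polynomial.eval_map] at hz
    exact hz
  have hzmem := mem_localSubring_of_isIntegral M hzint
  refine ⟨Ideal.Quotient.mk (localIdeal M) ⟨z, hzmem⟩, ?_⟩
  rw [← hq1, Polynomial.eval_map, Polynomial.eval₂_hom]
  have h3 : Polynomial.eval (⟨z, hzmem⟩ : localSubring M) q = 0 := by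
    apply Subtype.val_injective
    have h5 := Polynomial.hom_eval₂ q (RingHom.id _) (localSubring M).subtype
      (⟨z, hzmem⟩ : localSubring M)
    rw [Polynomial.eval₂_id] at h5
    rw [Polynomial.IsRoot.def, Polynomial.eval_map] at hz
    show (localSubring M).subtype (Polynomial.eval (⟨z, hzmem⟩ : localSubring M) q) = 0
    rw [h5]
    exact hz
  rw [h3, map_zero]

end Cfsg.Agent.Lib.Helper77.Modular
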