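import Mathlib
import Cfsg.Agent.Lib.Helper77.BlockDimC
import Cfsg.Agent.Lib.Helper77.GrpRed
import Cfsg.Agent.Lib.Helper77.ModResidue
import Cfsg.Agent.Lib.Helper16.MinMax

set_option autoImplicit false
set_option linter.unusedSectionVars false

namespace Cfsg.Agent.Lib.Helper77.BlockRed

open Cfsg MonoidAlgebra Module Cfsg.Agent.Lib.Helper16 Cfsg.Agent.Lib.Helper77
  Cfsg.Agent.Lib.Helper77.GrpAlg Cfsg.Agent.Lib.Helper77.GrpRed Cfsg.Agent.Lib.Helper77.Modular
  Cfsg.Agent.Lib.Helper77.BlockDimC
open scoped ComplexConjugate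

variable {G : Type*} [Group G] [Fintype G] {M : Ideal AlgInt} [hMp : M.IsPrime]

theorem algebraMap_resF_surjective :
    Function.Surjective (algebraMap (localSubring M) (ResF M)) :=
  Ideal.Quotient.mk_surjective

theorem algebraMap_resF_eq_zero (r : localSubring M) :
    algebraMap (localSubring M) (ResF M) r = 0 ↔ r ∈ localIdeal M :=
  Ideal.Quotient.eq_zero_iff_mem

theorem algebraMap_resF_ker (r : localSubring M)
    (h : algebraMap (localSubring M) (ResF M) r = 0) :
    r ∈ IsLocalRing.maximalIdeal (localSubring M) := by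
  rw [maximalIdeal_localSubring]
  exact (algebraMap_resF_eq_zero r).mp h

theorem algebraMap_complex_injective :
    Function.Injective (algebraMap (localSubring M) ℂ) := Subtype.val_injective

theorem algebraMap_complex_apply (r : localSubring M) :
    algebraMap (localSubring M) ℂ r = (r : ℂ) := rfl

/-- an element of the complex group algebra with local-integer coefficients comes from `R[G]` -/
theorem exists_lift {z : MonoidAlgebra ℂ G} (hz : ∀ g, MemLocalRing M (z.coeff g)) :
    ∃ zR : MonoidAlgebra (localSubring M) G, bc ℂ zR = z := by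
  refine ⟨ofCoeff (Finsupp.equivFunOnFinite.symm fun g => (⟨z.coeff g, hz g⟩ : localSubring M)), ?_⟩
  ext g
  rw [coeff_bc]
  simp only [Finsupp.equivFunOnFinite_symm_apply_apply]
  rfl

theorem central_of_bc_central {zR : MonoidAlgebra (localSubring M) G}
    (hz : ∀ b, b * bc ℂ zR = bc ℂ zR * b) : ∀ b, b * zR = zR * b := by
  intro b
  apply bc_injective ℂ algebraMap_complex_injective
  rw [map_mul, map_mul, hz]

/-- the block idempotent over the local ring -/
theorem exists_blockIdem_local {B : Set (IrrCharacter G)} (hB : IsPBlock M B) :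
    ∃ eR : MonoidAlgebra (localSubring M) G, bc ℂ eR = idemOf B ∧ eR * eR = eR ∧
      ∀ b, b * eR = eR * b := by
  obtain ⟨eR, heR⟩ := exists_lift (M := M) (z := idemOf B) (fun g => by
    rw [coeff_idemOf]; exact blockCoeff_memLocalRing hB g)
  refine ⟨eR, heR, ?_, ?_⟩
  · apply bc_injective ℂ algebraMap_complex_injective
    rw [map_mul, heR, idemOf_mul_self]
  · apply central_of_bc_central
    rw [heR]
    exact idemOf_central B

theorem algebraMap_eq_single {k : Type*} [CommRing k] (c : k) :
    algebraMap k (MonoidAlgebra k G) c = single 1 c := by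
  rw [Algebra.algebraMap_eq_smul_one, one_def, smul_single, smul_eq_mul, mul_one]

/-- the centre of the block algebra over the residue field is local -/
theorem exists_nilpotent {B : Set (IrrCharacter G)} (hB : IsPBlock M B)
    {eR : MonoidAlgebra (localSubring M) G} (heR : bc ℂ eR = idemOf B)
    {a : MonoidAlgebra (ResF M) G} (ha : ∀ b, b * a = a * b) :
    ∃ c : ResF M, IsNilpotent (bc (ResF M) eR * (a - algebraMap (ResF M) _ c)) := by
  classical
  -- a central lift of `a`
  obtain ⟨a₀, ha₀⟩ := bc_surjective (G := G) (ResF M) (algebraMap_resF_surjective (M := M)) a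
  obtain ⟨aR, haR⟩ : ∃ aR : MonoidAlgebra (localSubring M) G, aR = classProj a₀ := ⟨_, rfl⟩
  have haRF : bc (ResF M) aR = a := by
    rw [haR, bc_classProj, ha₀, classProj_of_central ha]
  have hzc : bc ℂ aR ∈ Subalgebra.center ℂ (MonoidAlgebra ℂ G) := by
    apply mem_center_of_central
    rw [haR, bc_classProj]
    exact classProj_central _
  obtain ⟨z, hz⟩ : ∃ z : Subalgebra.center ℂ (MonoidAlgebra ℂ G), z = ⟨bc ℂ aR, hzc⟩ := ⟨_, rfl⟩
  have hzval : (z : MonoidAlgebra ℂ G) = bc ℂ aR := by rw [hz]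
  have hzO : z ∈ centerOrder G M := by
    intro g
    rw [hzval, coeff_bc]
    exact (aR.coeff g).2
  obtain ⟨χ₁, hχ₁⟩ := IsPBlock_nonempty hMp.ne_top hB
  have hw₁ : MemLocalRing M (omegaHom χ₁ z) := omegaHom_memLocalRing χ₁ hzO
  obtain ⟨wR, hwR⟩ : ∃ wR : localSubring M, wR = ⟨omegaHom χ₁ z, hw₁⟩ := ⟨_, rfl⟩
  have hwRval : (wR : ℂ) = omegaHom χ₁ z := by rw [hwR]
  refine ⟨algebraMap (localSubring M) (ResF M) wR, Nat.card (IrrCharacter G), ?_⟩
  -- the element `y`
  obtain ⟨y, hy⟩ : ∃ y : Subalgebra.center ℂ (MonoidAlgebra ℂ G),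
      y = idemC B * (z - algebraMap ℂ _ (omegaHom χ₁ z)) := ⟨_, rfl⟩
  have hyO : y ∈ centerOrder G M := by
    rw [hy]
    exact (centerOrder G M).mul_mem (idemC_mem_centerOrder hB)
      ((centerOrder G M).sub_mem hzO (algebraMap_mem_centerOrder hw₁))
  have hω : ∀ ψ : IrrCharacter G, MemLocalIdeal M (omegaHom ψ y) := by
    intro ψ
    rw [hy, map_mul, omegaHom_idemC, map_sub, AlgHom.commutes]
    by_cases hψ : ψ ∈ B
    · rw [if_pos hψ, one_mul]
      exact sameBlock_omegaHom_congr (sameBlock_of_mem hB hψ hχ₁) hzO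
    · rw [if_neg hψ, zero_mul]
      exact memLocalIdeal_zero hMp.ne_top
  have hpow := exists_pow_coeffsInIdeal hyO hω
  -- the element over `R`
  obtain ⟨yR, hyR⟩ : ∃ yR : MonoidAlgebra (localSubring M) G,
      yR = eR * (aR - single 1 wR) := ⟨_, rfl⟩
  have hyRC : bc ℂ yR = (y : MonoidAlgebra ℂ G) := by
    rw [hyR, hy, map_mul, map_sub, heR, bc_single, algebraMap_complex_apply, hwRval]
    push_cast
    rw [hzval, algebraMap_eq_single]
    rfl
  have hyRF : bc (ResF M) yR =
      bc (ResF M) eR * (a - algebraMap (ResF M) _ (algebraMap (localSubring M) (ResF M) wR)) := by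
    rw [hyR, map_mul, map_sub, haRF, bc_single, algebraMap_eq_single]
  rw [← hyRF, ← map_pow]
  ext g
  rw [coeff_bc, coeff_zero, Finsupp.zero_apply, algebraMap_resF_eq_zero, mem_localIdeal]
  have h1 := hpow g
  have h2 : ((y ^ Nat.card (IrrCharacter G) : Subalgebra.center ℂ (MonoidAlgebra ℂ G)) :
      MonoidAlgebra ℂ G) = bc ℂ (yR ^ Nat.card (IrrCharacter G)) := by
    rw [map_pow, hyRC]
    rfl
  rw [h2, coeff_bc] at h1
  exact h1

end Cfsg.Agent.Lib.Helper77.BlockRed
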