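import Cfsg.Agent.Lib.Helper77.SymAlgKer

set_option autoImplicit false
set_option linter.unusedSectionVars false

namespace Cfsg.Agent.Lib.Helper77.SymAlg

open Module

variable {F : Type*} [Field F] {B : Type*} [Ring B] [Algebra F B]
variable {d : ℕ} {Ψ : B →ₐ[F] Matrix (Fin d) (Fin d) F}

theorem mul_eq_zero_aux {ε : B} (hidem : IsIdempotentElem ε) {x y : Fin d → B}
    (hxy : ∑ i, x i * ε * y i = 1) (hJJ : JA Ψ ε * JA Ψ ε = ⊥) {p q : B}
    (hp : Ψ p = 0) (hq : Ψ q = 0) (hpε : p * ε = p) (hεq : ε * q = q) : p * q = 0 := by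
  have h1 : p = ∑ i, x i * (ε * y i * p) := by
    conv_lhs => rw [← one_mul p, ← hxy, Finset.sum_mul]
    apply Finset.sum_congr rfl
    intro i _
    simp only [mul_assoc]
  have h2 : q = ∑ l, (q * x l * ε) * y l := by
    conv_lhs => rw [← mul_one q, ← hxy, Finset.mul_sum]
    apply Finset.sum_congr rfl
    intro i _
    simp only [mul_assoc]
  have h3 : ∀ i l, (ε * y i * p) * (q * x l * ε) = 0 := by
    intro i l
    have m1 : ε * y i * p ∈ JA Ψ ε := by
      refine Submodule.mem_inf.mpr ⟨?_, ?_, ?_⟩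
      · rw [mem_kerSub, map_mul, hp, mul_zero]
      · rw [← mul_assoc, ← mul_assoc, hidem.eq]
      · rw [mul_assoc, hpε]
    have m2 : q * x l * ε ∈ JA Ψ ε := by
      refine Submodule.mem_inf.mpr ⟨?_, ?_, ?_⟩
      · rw [mem_kerSub, map_mul, map_mul, hq, zero_mul, zero_mul]
      · rw [← mul_assoc, ← mul_assoc, hεq]
      · rw [mul_assoc, hidem.eq]
    have m3 := Submodule.mul_mem_mul m1 m2
    rw [hJJ] at m3
    simpa using m3
  rw [h1, h2, Finset.sum_mul_sum]
  apply Finset.sum_eq_zero
  intro i _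
  apply Finset.sum_eq_zero
  intro l _
  have : x i * (ε * y i * p) * (q * x l * ε * y l) =
      x i * ((ε * y i * p) * (q * x l * ε)) * y l := by
    simp only [mul_assoc]
  rw [this, h3, mul_zero, zero_mul]

theorem mul_eq_zero_of_mem_ker {ε : B} (hidem : IsIdempotentElem ε) {x y : Fin d → B}
    (hxy : ∑ i, x i * ε * y i = 1) (hJJ : JA Ψ ε * JA Ψ ε = ⊥) {j j' : B}
    (hj : Ψ j = 0) (hj' : Ψ j' = 0) : j * j' = 0 := by
  have h1 : j * j' = ∑ l, (j * x l * ε) * (ε * y l * j') := by
    conv_lhs => rw [← mul_one j, ← hxy, Finset.mul_sum, Finset.sum_mul]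
    apply Finset.sum_congr rfl
    intro l _
    have : j * x l * ε * (ε * y l * j') = j * x l * (ε * ε) * y l * j' := by
      simp only [mul_assoc]
    rw [this, hidem.eq]
    simp only [mul_assoc]
  rw [h1]
  apply Finset.sum_eq_zero
  intro l _
  apply mul_eq_zero_aux hidem hxy hJJ
  · rw [map_mul, map_mul, hj, zero_mul, zero_mul]
  · rw [map_mul, hj', mul_zero]
  · rw [mul_assoc, hidem.eq]
  · rw [← mul_assoc, ← mul_assoc, hidem.eq]

theorem finrank_eq_of_sq_zero [FiniteDimensional F B] {lam : B →ₗ[F] F}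
    (hsym : IsSymmetrizing lam) (hsurj : Function.Surjective Ψ) (hnil : KerNil Ψ)
    (hJJ : ∀ j j' : B, Ψ j = 0 → Ψ j' = 0 → j * j' = 0) (hne : ∃ j : B, Ψ j = 0 ∧ j ≠ 0) :
    finrank F B = 2 * (d * d) := by
  classical
  have h1 : kerSub Ψ ≤ perp lam (kerSub Ψ) := by
    intro z hz
    rw [mem_perp]
    intro w hw
    rw [hJJ w z ((mem_kerSub Ψ).mp hw) ((mem_kerSub Ψ).mp hz), map_zero]
  have h2 : perp lam (kerSub Ψ) ≤ kerSub Ψ := by
    intro s hs
    rw [mem_kerSub]
    by_contra hne0
    have hex : ∃ a b, Ψ s a b ≠ 0 := by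
      by_contra hcon
      push Not at hcon
      apply hne0
      ext a b
      exact hcon a b
    obtain ⟨a, b, hab⟩ := hex
    choose X hX using fun i : Fin d => hsurj (Matrix.single i a 1)
    choose Y hY using fun i : Fin d => hsurj (Matrix.single b i 1)
    obtain ⟨s', hs'⟩ : ∃ s', s' = (Ψ s a b)⁻¹ • ∑ i, X i * s * Y i := ⟨_, rfl⟩
    have hs'perp : s' ∈ perp lam (kerSub Ψ) := by
      rw [hs']
      apply Submodule.smul_mem
      apply Submodule.sum_mem
      intro i _
      rw [mem_perp]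
      intro w hw
      have e1 : lam (w * (X i * s * Y i)) = lam ((Y i * w * X i) * s) := by
        have : w * (X i * s * Y i) = (w * X i * s) * Y i := by simp only [mul_assoc]
        rw [this, hsym.symm]
        simp only [mul_assoc]
      rw [e1]
      exact (mem_perp.mp hs) _ (mul_mem_kerSub_right Ψ (mul_mem_kerSub_left Ψ hw _) _)
    have hΨs' : Ψ s' = 1 := by
      rw [hs', map_smul, map_sum]
      have e2 : ∀ i, Ψ (X i * s * Y i) = Matrix.single i i (Ψ s a b) := by
        intro i
        rw [map_mul, map_mul, hX, hY, Matrix.single_mul_mul_single, one_mul, mul_one]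
      rw [Finset.sum_congr rfl (fun i _ => e2 i)]
      ext u v
      rw [Matrix.smul_apply, Matrix.sum_apply]
      simp only [Matrix.single_apply, Matrix.one_apply]
      by_cases huv : u = v
      · subst huv
        simp [hab]
      · rw [if_neg huv, Finset.sum_eq_zero, smul_zero]
        intro i _
        rw [if_neg]
        rintro ⟨e3, e4⟩
        exact huv (e3.symm.trans e4)
    obtain ⟨u, hu⟩ := isUnit_of_map_eq_one hnil hΨs'
    obtain ⟨j, hj0, hjne⟩ := hne
    apply hjne
    have h3 : s' * j = 0 := by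
      apply hsym.nondeg
      intro c
      have e5 : lam (s' * j * c) = lam ((j * c) * s') := by
        rw [mul_assoc, hsym.symm]
      rw [e5]
      exact (mem_perp.mp hs'perp) _ (mul_mem_kerSub_right Ψ ((mem_kerSub Ψ).mpr hj0) c)
    rw [← hu] at h3
    have := congrArg (fun t => (↑u⁻¹ : B) * t) h3
    simpa using this
  have h3 : perp lam (kerSub Ψ) = kerSub Ψ := le_antisymm h2 h1
  have h4 := finrank_perp hsym (kerSub Ψ)
  rw [h3] at h4
  have h5 := LinearMap.finrank_range_add_finrank_ker Ψ.toLinearMap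
  have h6 : LinearMap.range Ψ.toLinearMap = ⊤ := LinearMap.range_eq_top.mpr hsurj
  rw [h6, finrank_top] at h5
  have h7 : finrank F (Matrix (Fin d) (Fin d) F) = d * d := by
    rw [Module.finrank_matrix]
    simp
  rw [h7] at h5
  have h8 : finrank F (LinearMap.ker Ψ.toLinearMap) = finrank F (kerSub Ψ) := rfl
  have h9 : finrank F (kerSub Ψ) ≤ finrank F B := Submodule.finrank_le _
  omega

end Cfsg.Agent.Lib.Helper77.SymAlg
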