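import Cfsg.Agent.Lib.Helper77.SymAlgNil
import Cfsg.Agent.Lib.Helper77.SymAlgSq

set_option autoImplicit false
set_option linter.unusedSectionVars false

namespace Cfsg.Agent.Lib.Helper77.SymAlg

open Module

variable {F : Type*} [Field F] {B : Type*} [Ring B] [Algebra F B]

/-- trace functional of the `i`-th matrix factor -/
noncomputable def trFun {n : ℕ} {dd : Fin n → ℕ}
    (Φ : B →ₐ[F] Π i : Fin n, Matrix (Fin (dd i)) (Fin (dd i)) F) (i : Fin n) : B →ₗ[F] F :=
  (Matrix.traceLinearMap (Fin (dd i)) F F).comp ((LinearMap.proj i).comp Φ.toLinearMap)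

theorem trFun_apply {n : ℕ} {dd : Fin n → ℕ}
    (Φ : B →ₐ[F] Π i : Fin n, Matrix (Fin (dd i)) (Fin (dd i)) F) (i : Fin n) (b : B) :
    trFun Φ i b = Matrix.trace (Φ b i) := rfl

theorem trFun_comm {n : ℕ} {dd : Fin n → ℕ}
    (Φ : B →ₐ[F] Π i : Fin n, Matrix (Fin (dd i)) (Fin (dd i)) F) (i : Fin n) {w : B}
    (hw : w ∈ commSub F B) : trFun Φ i w = 0 := by
  unfold commSub at hw
  induction hw using Submodule.span_induction with
  | mem z hz =>
    obtain ⟨a, b, rfl⟩ := hz
    rw [trFun_apply, map_sub, map_mul, map_mul, Pi.sub_apply, Pi.mul_apply, Pi.mul_apply,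
      Matrix.trace_sub, Matrix.trace_mul_comm, sub_self]
  | zero => rw [map_zero]
  | add u v _ _ hu hv => rw [map_add, hu, hv, add_zero]
  | smul c u _ hu => rw [map_smul, hu, smul_zero]

/-- with two matrix factors, the radical lies in the commutator space -/
theorem ker_le_commSub_of_two [FiniteDimensional F B] {n : ℕ} {dd : Fin n → ℕ}
    [∀ i, NeZero (dd i)]
    (Φ : B →ₐ[F] Π i : Fin n, Matrix (Fin (dd i)) (Fin (dd i)) F)
    (hsurj : Function.Surjective Φ) {lam : B →ₗ[F] F} (hsym : IsSymmetrizing lam)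
    (hcenter : finrank F (Subalgebra.center F B) = 2) {i₀ i₁ : Fin n} (hi : i₀ ≠ i₁) :
    ∀ j : B, Φ j = 0 → j ∈ commSub F B := by
  classical
  obtain ⟨τ, hτ⟩ : ∃ τ : B →ₗ[F] F × F, τ = LinearMap.prod (trFun Φ i₀) (trFun Φ i₁) := ⟨_, rfl⟩
  have hτsurj : Function.Surjective τ := by
    rintro ⟨c₀, c₁⟩
    obtain ⟨b, hb⟩ := hsurj (Pi.single i₀ (Matrix.single 0 0 c₀) + Pi.single i₁ (Matrix.single 0 0 c₁))
    refine ⟨b, ?_⟩
    rw [hτ, LinearMap.prod_apply]
    show (trFun Φ i₀ b, trFun Φ i₁ b) = (c₀, c₁)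
    rw [trFun_apply, trFun_apply, hb]
    simp [hi, hi.symm, Matrix.trace_single_eq_same]
  have h1 := LinearMap.finrank_range_add_finrank_ker τ
  rw [LinearMap.range_eq_top.mpr hτsurj, finrank_top] at h1
  have h2 : finrank F (F × F) = 2 := by simp
  rw [h2] at h1
  have h3 := finrank_center hsym
  rw [hcenter] at h3
  have h4 : finrank F (commSub F B) ≤ finrank F B := Submodule.finrank_le _
  have hle : commSub F B ≤ LinearMap.ker τ := by
    intro w hw
    rw [LinearMap.mem_ker, hτ, LinearMap.prod_apply]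
    show (trFun Φ i₀ w, trFun Φ i₁ w) = 0
    rw [trFun_comm Φ i₀ hw, trFun_comm Φ i₁ hw]
    rfl
  have heq : commSub F B = LinearMap.ker τ := by
    apply Submodule.eq_of_le_of_finrank_le hle
    omega
  intro j hj
  rw [heq, LinearMap.mem_ker, hτ, LinearMap.prod_apply]
  show (trFun Φ i₀ j, trFun Φ i₁ j) = 0
  rw [trFun_apply, trFun_apply, hj]
  simp

theorem exists_matrix_quotient [IsAlgClosed F] [FiniteDimensional F B] {lam : B →ₗ[F] F}
    (hsym : IsSymmetrizing lam) (hcenter : finrank F (Subalgebra.center F B) = 2)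
    (hloc : ∀ z ∈ Subalgebra.center F B, ∃ c : F, IsNilpotent (z - algebraMap F B c)) :
    ∃ (d : ℕ) (_ : NeZero d) (Ψ : B →ₐ[F] Matrix (Fin d) (Fin d) F),
      Function.Surjective Ψ ∧ KerNil Ψ ∧ ∃ j : B, Ψ j = 0 ∧ j ≠ 0 := by
  classical
  have hnontriv : Nontrivial B := by
    by_contra h
    rw [not_nontrivial_iff_subsingleton] at h
    have : finrank F (Subalgebra.center F B) = 0 := by
      apply finrank_zero_of_subsingleton
    omega
  have hArt : IsArtinianRing B := IsArtinianRing.of_finite F B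
  obtain ⟨n, dd, hdd, ⟨φ⟩⟩ :=
    IsSemisimpleRing.exists_algEquiv_pi_matrix_of_isAlgClosed F (B ⧸ Ring.jacobson B)
  obtain ⟨N, hN⟩ : IsNilpotent (Ring.jacobson B) := IsSemiprimaryRing.isNilpotent
  obtain ⟨Φ, hΦ⟩ : ∃ Φ : B →ₐ[F] Π i : Fin n, Matrix (Fin (dd i)) (Fin (dd i)) F,
      Φ = φ.toAlgHom.comp (Ideal.Quotient.mkₐ F (Ring.jacobson B)) := ⟨_, rfl⟩
  have hΦsurj : Function.Surjective Φ := by
    rw [hΦ]
    exact φ.surjective.comp (Ideal.Quotient.mkₐ_surjective F _)
  have hΦker : ∀ b : B, Φ b = 0 ↔ b ∈ Ring.jacobson B := by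
    intro b
    rw [hΦ]
    show φ (Ideal.Quotient.mkₐ F (Ring.jacobson B) b) = 0 ↔ _
    rw [map_eq_zero_iff φ φ.injective, Ideal.Quotient.mkₐ_eq_mk, Ideal.Quotient.eq_zero_iff_mem]
  have hJnil : ∀ j ∈ Ring.jacobson B, IsNilpotent j := by
    intro j hj
    refine ⟨N, ?_⟩
    have := Ideal.pow_mem_pow hj N
    rw [hN] at this
    simpa using this
  -- the number of factors is one
  have hn1 : n = 1 := by
    rcases Nat.lt_or_ge n 1 with h0 | h1
    · -- n = 0
      exfalso
      have hn0 : n = 0 := by omega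
      subst hn0
      have h1J : (1 : B) ∈ Ring.jacobson B := by
        rw [← hΦker]
        funext i
        exact i.elim0
      obtain ⟨k, hk⟩ := hJnil 1 h1J
      rw [one_pow] at hk
      exact one_ne_zero hk
    · rcases Nat.lt_or_ge 1 n with h2 | h2
      · exfalso
        obtain ⟨i₀, hi₀⟩ : ∃ i₀ : Fin n, i₀ = ⟨0, by omega⟩ := ⟨_, rfl⟩
        obtain ⟨i₁, hi₁⟩ : ∃ i₁ : Fin n, i₁ = ⟨1, h2⟩ := ⟨_, rfl⟩
        have hi : i₀ ≠ i₁ := by
          rw [hi₀, hi₁]
          intro h
          have := congrArg Fin.val h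
          simp at this
        have hJc := ker_le_commSub_of_two Φ hΦsurj hsym hcenter hi
        have hJ0 : ∀ j ∈ Ring.jacobson B, j = 0 := by
          intro j hj
          apply hsym.nondeg
          intro b
          have h3 : j * b ∈ commSub F B :=
            hJc _ ((hΦker _).mpr (Ideal.mul_mem_right _ _ hj))
          have h4 : (1 : B) ∈ perp lam (commSub F B) := by
            rw [mem_perp_commSub_iff hsym]
            intro a
            rw [mul_one, one_mul]
          have := (mem_perp.mp h4) _ h3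
          rwa [mul_one] at this
        have hΦinj : Function.Injective Φ := by
          rw [injective_iff_map_eq_zero]
          intro b hb
          exact hJ0 b ((hΦker b).mp hb)
        obtain ⟨z, hz⟩ := hΦsurj (Pi.single i₀ 1)
        have hzc : z ∈ Subalgebra.center F B := by
          rw [Subalgebra.mem_center_iff]
          intro b
          apply hΦinj
          rw [map_mul, map_mul, hz]
          funext i
          by_cases hii : i = i₀
          · subst hii
            simp
          · simp [hii]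
        obtain ⟨c, k, hc⟩ := hloc z hzc
        have h5 := congrArg Φ hc
        rw [map_pow, map_sub, hz, AlgHom.commutes, map_zero] at h5
        have h6 := congrFun (congrFun (congrFun h5 i₀) 0) 0
        have h7 := congrFun (congrFun (congrFun h5 i₁) 0) 0
        simp only [Pi.pow_apply, Pi.sub_apply, Pi.single_eq_same, Pi.zero_apply,
          Matrix.zero_apply, Pi.algebraMap_apply] at h6 h7
        rw [Pi.single_eq_of_ne hi.symm] at h7
        have e1 : (1 : Matrix (Fin (dd i₀)) (Fin (dd i₀)) F) - algebraMap F _ c =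
            algebraMap F _ (1 - c) := by
          rw [map_sub, map_one]
        have e2 : (0 : Matrix (Fin (dd i₁)) (Fin (dd i₁)) F) - algebraMap F _ c =
            algebraMap F _ (-c) := by
          rw [map_neg, zero_sub]
        rw [e1, ← map_pow, Matrix.algebraMap_matrix_apply, if_pos rfl] at h6
        rw [e2, ← map_pow, Matrix.algebraMap_matrix_apply, if_pos rfl] at h7
        have h8 : 1 - c = 0 := eq_zero_of_pow_eq_zero h6
        have h9 : c = 0 := by
          have := eq_zero_of_pow_eq_zero h7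
          simpa using this
        rw [h9] at h8
        simp at h8
      · omega
  subst hn1
  have : NeZero (dd 0) := hdd 0
  obtain ⟨Ψ, hΨ⟩ : ∃ Ψ : B →ₐ[F] Matrix (Fin (dd 0)) (Fin (dd 0)) F,
      Ψ = (Pi.evalAlgHom F (fun i : Fin 1 => Matrix (Fin (dd i)) (Fin (dd i)) F) 0).comp Φ :=
    ⟨_, rfl⟩
  have hΨapp : ∀ b, Ψ b = Φ b 0 := by
    intro b; rw [hΨ]; rfl
  have hΨker : ∀ b : B, Ψ b = 0 ↔ b ∈ Ring.jacobson B := by
    intro b
    rw [← hΦker, hΨapp]
    constructor
    · intro h
      funext i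
      obtain rfl : i = 0 := Subsingleton.elim _ _
      exact h
    · intro h
      rw [h]; rfl
  have hΨsurj : Function.Surjective Ψ := by
    intro m
    obtain ⟨b, hb⟩ := hΦsurj (Pi.single 0 m)
    refine ⟨b, ?_⟩
    rw [hΨapp, hb, Pi.single_eq_same]
  refine ⟨dd 0, inferInstance, Ψ, hΨsurj, ?_, ?_⟩
  · refine ⟨N, ?_⟩
    have : RingHom.ker (Ψ : B →+* Matrix (Fin (dd 0)) (Fin (dd 0)) F) = Ring.jacobson B := by
      ext b
      rw [RingHom.mem_ker]
      exact hΨker b
    rw [this]
    exact hN
  · by_contra hcon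
    push Not at hcon
    have hΨinj : Function.Injective Ψ := by
      rw [injective_iff_map_eq_zero]
      intro b hb
      exact hcon b hb
    have hbot : Subalgebra.center F B = ⊥ := by
      rw [eq_bot_iff]
      intro z hz
      rw [Subalgebra.mem_center_iff] at hz
      have h1 : Ψ z ∈ Set.center (Matrix (Fin (dd 0)) (Fin (dd 0)) F) := by
        rw [Semigroup.mem_center_iff]
        intro m
        obtain ⟨b, rfl⟩ := hΨsurj m
        rw [← map_mul, ← map_mul, hz b]
      rw [Matrix.center_eq_range] at h1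
      obtain ⟨c, hc⟩ := h1
      rw [Algebra.mem_bot]
      refine ⟨c, ?_⟩
      apply hΨinj
      rw [AlgHom.commutes, ← hc]
      ext u v
      simp [Matrix.algebraMap_matrix_apply, Matrix.diagonal_apply]
    rw [hbot, Subalgebra.finrank_bot] at hcenter
    omega

/-- Theorem A: a symmetric algebra with 2-dimensional centre whose radical quotient is `M_d(F)`
has dimension `2d²`. -/
theorem finrank_eq_two_mul_sq [FiniteDimensional F B] {d : ℕ} [NeZero d]
    {Ψ : B →ₐ[F] Matrix (Fin d) (Fin d) F} {lam : B →ₗ[F] F}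
    (hsym : IsSymmetrizing lam) (hsurj : Function.Surjective Ψ) (hnil : KerNil Ψ)
    (hcenter : finrank F (Subalgebra.center F B) = 2) (hne : ∃ j : B, Ψ j = 0 ∧ j ≠ 0) :
    finrank F B = 2 * (d * d) := by
  obtain ⟨ε, hidem, hε⟩ := exists_idem hnil hsurj
  obtain ⟨x, y, hxy⟩ := exists_partition hnil hsurj hε
  have h1 := finrank_cornerSub_le (F := F) hidem hxy
  have h2 := finrank_center hsym
  rw [hcenter] at h2
  have h3 : finrank F (commSub F B) ≤ finrank F B := Submodule.finrank_le _
  have hrank : finrank F (cornerSub F ε) ≤ 2 + finrank F (commA F ε) := by omega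
  have hJJ := JA_mul_eq_bot hnil hidem hε hrank
  exact finrank_eq_of_sq_zero hsym hsurj hnil
    (fun j j' hj hj' => mul_eq_zero_of_mem_ker hidem hxy hJJ hj hj') hne

/-- A finite-dimensional symmetric algebra over an algebraically closed field whose centre is
two-dimensional and local (every central element is a scalar plus a nilpotent element) has
dimension `2d²`. -/
theorem exists_finrank_eq_two_mul_sq [IsAlgClosed F] [FiniteDimensional F B] {lam : B →ₗ[F] F}
    (hsym : IsSymmetrizing lam) (hcenter : finrank F (Subalgebra.center F B) = 2)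
    (hloc : ∀ z ∈ Subalgebra.center F B, ∃ c : F, IsNilpotent (z - algebraMap F B c)) :
    ∃ d : ℕ, finrank F B = 2 * (d * d) := by
  obtain ⟨d, hd, Ψ, hsurj, hnil, hne⟩ := exists_matrix_quotient hsym hcenter hloc
  exact ⟨d, finrank_eq_two_mul_sq hsym hsurj hnil hcenter hne⟩

end Cfsg.Agent.Lib.Helper77.SymAlg
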