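import Mathlib
import Cfsg.Agent.Lib.Helper77.BlockRed
import Cfsg.Agent.Lib.Helper77.BlockQuot
import Cfsg.Agent.Lib.Helper77.SymAlgMain

set_option autoImplicit false
set_option linter.unusedSectionVars false

namespace Cfsg.Agent.Lib.Helper77.BlockRed

open Cfsg MonoidAlgebra Module Cfsg.Agent.Lib.Helper16 Cfsg.Agent.Lib.Helper77
  Cfsg.Agent.Lib.Helper77.GrpAlg Cfsg.Agent.Lib.Helper77.GrpRed Cfsg.Agent.Lib.Helper77.Modular
  Cfsg.Agent.Lib.Helper77.BlockDimC Cfsg.Agent.Lib.Helper77.BlockQuot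
  Cfsg.Agent.Lib.Helper77.SymAlg
open scoped ComplexConjugate

variable {G : Type*} [Group G] [Fintype G] {M : Ideal AlgInt} [hMp : M.IsPrime]

/-- a block with exactly two irreducible characters has dimension `2d²` -/
theorem exists_sum_sq_eq {B : Set (IrrCharacter G)} (hB : IsPBlock M B) (h2 : Nat.card B = 2) :
    ∃ d : ℕ, (∑ᶠ χ ∈ B, (χ : G → ℂ) 1 * conj ((χ : G → ℂ) 1)) = ((2 * (d * d) : ℕ) : ℂ) := by
  obtain ⟨eR, heRC, heR, hcR⟩ := exists_blockIdem_local hB
  have hπ := algebraMap_resF_surjective (M := M)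
  have hker := algebraMap_resF_ker (M := M)
  obtain ⟨eF, heF'⟩ : ∃ eF : MonoidAlgebra (ResF M) G, eF = bc (ResF M) eR := ⟨_, rfl⟩
  have hcF : ∀ b, b * eF = eF * b := by
    intro b
    obtain ⟨b₀, rfl⟩ := bc_surjective (G := G) (ResF M) hπ b
    rw [heF', ← map_mul, ← map_mul, hcR]
  have heF : eF * eF = eF := by
    rw [heF', ← map_mul, heR]
  have hI : (annI eF).IsTwoSided := annI_isTwoSided hcF
  have hfd : FiniteDimensional (ResF M) (Quo eF) := finiteDimensional_quo eF
  have hsym0 : IsSymmetrizing (coeffOne : MonoidAlgebra (ResF M) G →ₗ[ResF M] ResF M) :=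
    ⟨coeffOne_mul_comm, fun a h => eq_zero_of_coeffOne_mul h⟩
  have hsym := isSymmetrizing_lamQ eF hcF hsym0
  have hcenter : finrank (ResF M) (Subalgebra.center (ResF M) (Quo eF)) = 2 := by
    rw [finrank_center_quo eF hcF heF classProj classProj_central
      (fun a ha => classProj_of_central ha), heF',
      finrank_range_mulLeft_classProj (K := ℂ) hπ hker heR hcR, heRC,
      finrank_range_mulLeft_classProj_idemOf, h2]
  have hloc := hloc_quo (F := ResF M) eF hcF heF (fun a ha => by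
    rw [heF']
    exact exists_nilpotent hB heRC ha)
  obtain ⟨d, hd⟩ := exists_finrank_eq_two_mul_sq hsym hcenter hloc
  rw [finrank_quo eF hcF, heF', finrank_range_mulLeft (K := ℂ) hπ hker heR, heRC] at hd
  have h3 := finrank_range_mulLeft_idemOf B
  rw [hd] at h3
  exact ⟨d, h3.symm⟩

end Cfsg.Agent.Lib.Helper77.BlockRed
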