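import Mathlib

set_option autoImplicit false
set_option linter.unusedSectionVars false

/-!
Definitions for the module-theoretic proof of `l(B₀) ≥ e` when a Sylow `p`-subgroup has order `p`
(PROJECT BC, defect-one stage).  Everything is phrased with `Representation F G V`.
-/

namespace Cfsg.Agent.Lib.Helper77.DefOne

variable {F : Type*} [Field F] {G : Type*} [Group G] [Fintype G]
  {V : Type*} [AddCommGroup V] [Module F V]

/-- the trace map `Tr_1^H = ∑_{h ∈ H} ρ h` -/
noncomputable def trOne (ρ : Representation F G V) (H : Subgroup G) : V →ₗ[F] V := by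
  classical exact ∑ g ∈ Finset.univ.filter (fun g : G => g ∈ H), ρ g

theorem trOne_apply (ρ : Representation F G V)
    (H : Subgroup G) [DecidablePred fun g : G => g ∈ H] (v : V) :
    trOne ρ H v = ∑ g ∈ Finset.univ.filter (fun g : G => g ∈ H), ρ g v := by
  classical
  unfold trOne
  rw [LinearMap.sum_apply]
  refine Finset.sum_congr ?_ fun _ _ => rfl
  ext g
  simp

/-- `z` is a `μ`-semi-invariant of the subgroup `H` -/
def IsSemiInv (ρ : Representation F G V) (H : Subgroup G) (μ : H →* Fˣ) (z : V) : Prop :=
  ∀ h : H, ρ (h : G) z = ((μ h : Fˣ) : F) • z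

/-- a `μ`-semi-invariant of `N_G(P)` that is not a `P`-trace -/
def IsStableSemiInv (ρ : Representation F G V) (P : Subgroup G)
    (μ : Subgroup.normalizer (P : Set G) →* Fˣ) (z : V) : Prop :=
  IsSemiInv ρ (Subgroup.normalizer (P : Set G)) μ z ∧ z ∉ LinearMap.range (trOne ρ P)

/-- augmentation of the group algebra -/
noncomputable def aug : MonoidAlgebra F G →ₗ[F] F where
  toFun a := ∑ g : G, a.coeff g
  map_add' := by intro a b; simp [Finset.sum_add_distrib]
  map_smul' := by intro c a; simp [Finset.mul_sum]

theorem aug_apply (a : MonoidAlgebra F G) : aug a = ∑ g : G, a.coeff g := rfl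

end Cfsg.Agent.Lib.Helper77.DefOne
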