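import Mathlib
import Cfsg.Agent.Lib.Helper77.DefOneDefs
import Cfsg.Agent.Lib.Helper77.GrpAlg

set_option autoImplicit false
set_option linter.unusedSectionVars false

namespace Cfsg.Agent.Lib.Helper77.DefOne

open MulAction MonoidAlgebra Cfsg.Agent.Lib.Helper77.GrpAlg


/-- a `P`-invariant function summed over a finite `P`-set equals its sum over the fixed points,
in characteristic `p` (`P` a `p`-group) -/
theorem sum_eq_sum_fixedPoints {P : Type*} [Group P] [Finite P] {p : ℕ} [Fact p.Prime]
    (hP : IsPGroup p P) {X : Type*} [Fintype X] [MulAction P X] {F : Type*} [CommRing F]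
    [CharP F p] (f : X → F) (hf : ∀ (u : P) (x : X), f (u • x) = f x)
    [DecidablePred fun x : X => x ∈ fixedPoints P X] :
    ∑ x, f x = ∑ x ∈ Finset.univ.filter (fun x : X => x ∈ fixedPoints P X), f x := by
  classical
  -- fibrewise
  have key : ∀ v : F, ((Finset.univ.filter fun x : X => f x = v).card : F) =
      ((Finset.univ.filter fun x : X => x ∈ fixedPoints P X ∧ f x = v).card : F) := by
    intro v
    let S : SubMulAction P X :=
      { carrier := {x | f x = v}
        smul_mem' := fun u x hx => by
          change f (u • x) = v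
          rw [hf]; exact hx }
    have h1 := hP.card_modEq_card_fixedPoints (α := S)
    rw [CharP.natCast_eq_natCast F p]
    have e1 : Nat.card S = (Finset.univ.filter fun x : X => f x = v).card := by
      rw [Nat.card_eq_fintype_card, ← Fintype.card_subtype]
      exact Fintype.card_congr (Equiv.refl _)
    have e2 : Nat.card (fixedPoints P S) =
        (Finset.univ.filter fun x : X => x ∈ fixedPoints P X ∧ f x = v).card := by
      rw [Nat.card_eq_fintype_card, ← Fintype.card_subtype]
      refine Fintype.card_congr
        { toFun := fun y => ⟨(y.1 : X), ?_, y.1.2⟩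
          invFun := fun y => ⟨⟨y.1, y.2.2⟩, ?_⟩
          left_inv := fun y => rfl
          right_inv := fun y => rfl }
      · intro u
        have := y.2 u
        exact congrArg Subtype.val this
      · intro u
        apply Subtype.ext
        exact y.2.1 u
    rw [← e1, ← e2]
    exact h1
  calc ∑ x, f x = ∑ v ∈ Finset.univ.image f, ∑ x ∈ Finset.univ.filter (fun x => f x = v), f x := by
        rw [Finset.sum_fiberwise_of_maps_to (s := Finset.univ) (t := Finset.univ.image f) (g := f)
          (fun x _ => Finset.mem_image_of_mem f (Finset.mem_univ x))]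
    _ = ∑ v ∈ Finset.univ.image f, ((Finset.univ.filter fun x : X => f x = v).card : F) * v := by
        refine Finset.sum_congr rfl fun v _ => ?_
        rw [Finset.sum_congr rfl (fun x hx => (Finset.mem_filter.mp hx).2), Finset.sum_const,
          nsmul_eq_mul]
    _ = ∑ v ∈ Finset.univ.image f,
          ((Finset.univ.filter fun x : X => x ∈ fixedPoints P X ∧ f x = v).card : F) * v := by
        refine Finset.sum_congr rfl fun v _ => ?_
        rw [key]
    _ = ∑ v ∈ Finset.univ.image f,
          ∑ x ∈ Finset.univ.filter (fun x : X => x ∈ fixedPoints P X ∧ f x = v), f x := by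
        refine Finset.sum_congr rfl fun v _ => ?_
        rw [Finset.sum_congr rfl (fun x hx => (Finset.mem_filter.mp hx).2.2), Finset.sum_const,
          nsmul_eq_mul]
    _ = ∑ x ∈ Finset.univ.filter (fun x : X => x ∈ fixedPoints P X), f x := by
        rw [← Finset.sum_fiberwise_of_maps_to (s := Finset.univ.filter (fun x : X => x ∈ fixedPoints P X))
          (t := Finset.univ.image f) (g := f) (fun x _ => Finset.mem_image_of_mem f (Finset.mem_univ x))]
        refine Finset.sum_congr rfl fun v _ => ?_
        refine Finset.sum_congr ?_ fun _ _ => rfl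
        ext y; simp


/-- a copy of `G` on which subgroups act by conjugation -/
structure CX (G : Type*) where
  /-- the underlying element -/
  val : G

/-- `CX G ≃ G` -/
def cxEquiv (G : Type*) : CX G ≃ G where
  toFun := CX.val
  invFun := CX.mk
  left_inv _ := rfl
  right_inv _ := rfl

instance {G : Type*} [Fintype G] : Fintype (CX G) := Fintype.ofEquiv G (cxEquiv G).symm

instance {G : Type*} [Group G] (P : Subgroup G) : MulAction P (CX G) where
  smul u g := ⟨(u : G) * g.val * (u : G)⁻¹⟩
  one_smul g := by
    cases g with | mk g => ?_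
    change CX.mk (((1 : P) : G) * g * ((1 : P) : G)⁻¹) = CX.mk g
    simp
  mul_smul u v g := by
    cases g with | mk g => ?_
    change CX.mk (((u * v : P) : G) * g * ((u * v : P) : G)⁻¹) =
      CX.mk ((u : G) * ((v : G) * g * (v : G)⁻¹) * (u : G)⁻¹)
    congr 1
    simp [mul_assoc]

theorem cx_smul_val {G : Type*} [Group G] (P : Subgroup G) (u : P) (g : CX G) :
    (u • g).val = (u : G) * g.val * (u : G)⁻¹ := rfl

theorem cx_mem_fixedPoints {G : Type*} [Group G] (P : Subgroup G) (g : CX G) :
    g ∈ fixedPoints P (CX G) ↔ g.val ∈ Subgroup.centralizer (P : Set G) := by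
  rw [mem_fixedPoints, Subgroup.mem_centralizer_iff]
  constructor
  · intro h u hu
    have h1 := congrArg CX.val (h ⟨u, hu⟩)
    rw [cx_smul_val] at h1
    change u * g.val * u⁻¹ = g.val at h1
    calc u * g.val = u * g.val * u⁻¹ * u := by group
      _ = g.val * u := by rw [h1]
  · intro h u
    cases g with | mk g => ?_
    change CX.mk ((u : G) * g * (u : G)⁻¹) = CX.mk g
    congr 1
    have := h u u.2
    change (u : G) * g = g * u at this
    rw [this]
    group

variable {F : Type*} [Field F] {G : Type*} [Group G] [Fintype G] {p : ℕ} [Fact p.Prime] [CharP F p]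

/-- sum of a conjugation-invariant function: only the centralizer contributes -/
theorem sum_eq_sum_centralizer (P : Subgroup G) (hP : IsPGroup p P) (f : G → F)
    (hf : ∀ u ∈ P, ∀ g, f (u * g * u⁻¹) = f g)
    [DecidablePred fun g : G => g ∈ Subgroup.centralizer (P : Set G)] :
    ∑ g, f g = ∑ g ∈ Finset.univ.filter (fun g : G => g ∈ Subgroup.centralizer (P : Set G)), f g := by
  classical
  have h := sum_eq_sum_fixedPoints (P := P) (X := CX G) (F := F) hP (fun g => f g.val)
    (fun u x => hf u u.2 _)
  rw [← Fintype.sum_equiv (cxEquiv G) (fun g => f g.val) f (fun _ => rfl), h]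
  refine Finset.sum_equiv (cxEquiv G) ?_ (fun _ _ => rfl)
  intro g
  simp only [Finset.mem_filter, Finset.mem_univ, true_and]
  exact cx_mem_fixedPoints P g

/-- truncation of a group algebra element to a subgroup -/
noncomputable def brC (C : Subgroup G) : MonoidAlgebra F G →ₗ[F] MonoidAlgebra F G where
  toFun a := by
    classical exact ofCoeff (Finsupp.equivFunOnFinite.symm fun g => if g ∈ C then a.coeff g else 0)
  map_add' a b := by
    ext g
    by_cases h : g ∈ C <;> simp [h]
  map_smul' c a := by
    ext g
    by_cases h : g ∈ C <;> simp [h]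

theorem coeff_brC (C : Subgroup G) [DecidablePred fun g : G => g ∈ C] (a : MonoidAlgebra F G) (g : G) :
    (brC C a).coeff g = if g ∈ C then a.coeff g else 0 := by
  classical
  simp only [brC, LinearMap.coe_mk, AddHom.coe_mk, coeff_ofCoeff, Finsupp.equivFunOnFinite_symm_apply_apply]
  congr

theorem coeff_mul_eq_sum (a b : MonoidAlgebra F G) (z : G) :
    (a * b).coeff z = ∑ g, a.coeff g * b.coeff (g⁻¹ * z) := by
  classical
  induction a using MonoidAlgebra.induction_linear with
  | zero => simp
  | add x y hx hy =>
    rw [add_mul, coeff_add, Finsupp.add_apply, hx, hy, ← Finset.sum_add_distrib]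
    refine Finset.sum_congr rfl fun g _ => ?_
    rw [coeff_add, Finsupp.add_apply, add_mul]
  | single h r =>
    have h1 : (single h r * b).coeff (h * (h⁻¹ * z)) = r * b.coeff (h⁻¹ * z) :=
      coeff_single_mul_mul _ _ _ _
    rw [mul_inv_cancel_left] at h1
    rw [h1, Finset.sum_eq_single h]
    · simp
    · intro g _ hg
      rw [coeff_single, Finsupp.single_apply, if_neg (Ne.symm hg), zero_mul]
    · intro hh; exact absurd (Finset.mem_univ h) hh


/-- `a` has coefficients invariant under conjugation by `P` -/
def PInv (P : Subgroup G) (a : MonoidAlgebra F G) : Prop :=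
  ∀ u ∈ P, ∀ g, a.coeff (u * g * u⁻¹) = a.coeff g

theorem pInv_of_central (P : Subgroup G) {a : MonoidAlgebra F G} (ha : ∀ b, b * a = a * b) :
    PInv P a := fun u _ g => coeff_conj_of_central ha g u

theorem brC_mul (P : Subgroup G) (hP : IsPGroup p P) {a b : MonoidAlgebra F G}
    (ha : PInv P a) (hb : PInv P b) :
    brC (Subgroup.centralizer (P : Set G)) (a * b) =
      brC (Subgroup.centralizer (P : Set G)) a * brC (Subgroup.centralizer (P : Set G)) b := by
  classical
  ext z
  rw [coeff_brC, coeff_mul_eq_sum (brC _ a)]
  by_cases hz : z ∈ Subgroup.centralizer (P : Set G)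
  · rw [if_pos hz, coeff_mul_eq_sum]
    rw [sum_eq_sum_centralizer P hP (fun g => a.coeff g * b.coeff (g⁻¹ * z))]
    · rw [Finset.sum_filter]
      refine Finset.sum_congr rfl fun g _ => ?_
      rw [coeff_brC, coeff_brC]
      by_cases hg : g ∈ Subgroup.centralizer (P : Set G)
      · rw [if_pos hg, if_pos hg, if_pos (Subgroup.mul_mem _ (Subgroup.inv_mem _ hg) hz)]
      · rw [if_neg hg, if_neg hg, zero_mul]
    · intro u hu g
      have hzu : u * z = z * u := (Subgroup.mem_centralizer_iff.mp hz u hu)
      rw [ha u hu]
      congr 1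
      have : (u * g * u⁻¹)⁻¹ * z = u * (g⁻¹ * z) * u⁻¹ := by
        have : z = u * z * u⁻¹ := by rw [hzu]; group
        conv_lhs => rw [this]
        group
      rw [this, hb u hu]
  · rw [if_neg hz]
    symm
    apply Finset.sum_eq_zero
    intro g _
    rw [coeff_brC, coeff_brC]
    by_cases hg : g ∈ Subgroup.centralizer (P : Set G)
    · rw [if_pos hg, if_neg, mul_zero]
      intro h
      apply hz
      have := Subgroup.mul_mem _ hg h
      rwa [mul_inv_cancel_left] at this
    · rw [if_neg hg, zero_mul]

theorem aug_brC (P : Subgroup G) (hP : IsPGroup p P) {a : MonoidAlgebra F G} (ha : PInv P a) :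
    aug (brC (Subgroup.centralizer (P : Set G)) a) = aug a := by
  classical
  rw [aug_apply, aug_apply, sum_eq_sum_centralizer P hP (fun g => a.coeff g) ha, Finset.sum_filter]
  refine Finset.sum_congr rfl fun g _ => ?_
  rw [coeff_brC]

theorem brC_one (C : Subgroup G) : brC C (1 : MonoidAlgebra F G) = 1 := by
  classical
  ext g
  rw [coeff_brC]
  by_cases hg : g ∈ C
  · rw [if_pos hg]
  · rw [if_neg hg, MonoidAlgebra.one_def, coeff_single, Finsupp.single_apply, if_neg]
    rintro rfl
    exact hg C.one_mem

theorem brC_pow (P : Subgroup G) (hP : IsPGroup p P) {a : MonoidAlgebra F G}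
    (ha : ∀ b, b * a = a * b) (n : ℕ) :
    brC (Subgroup.centralizer (P : Set G)) (a ^ n) =
      brC (Subgroup.centralizer (P : Set G)) a ^ n := by
  induction n with
  | zero => rw [pow_zero, pow_zero, brC_one]
  | succ n ih =>
    rw [pow_succ, pow_succ, brC_mul P hP (pInv_of_central P ?_) (pInv_of_central P ha), ih]
    intro b
    exact (Commute.pow_right (ha b) n)

end Cfsg.Agent.Lib.Helper77.DefOne
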