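import Mathlib
import Cfsg.Agent.Lib.Helper77.DefOneBr

set_option autoImplicit false
set_option linter.unusedSectionVars false

namespace Cfsg.Agent.Lib.Helper77.DefOne

open MonoidAlgebra Cfsg.Agent.Lib.Helper77.GrpAlg

variable {F : Type*} [Field F] {G : Type*} [Group G] [Fintype G]

/-- conjugation by `g` as an algebra automorphism of the group algebra -/
noncomputable def cj (g : G) : MonoidAlgebra F G ≃ₐ[F] MonoidAlgebra F G :=
  MonoidAlgebra.domCongr F F (MulAut.conj g)

theorem cj_single (g h : G) (r : F) : cj g (single h r) = single (g * h * g⁻¹) r := by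
  rw [cj, domCongr_single, MulAut.conj_apply]

theorem coeff_cj (g h : G) (a : MonoidAlgebra F G) : (cj g a).coeff h = a.coeff (g⁻¹ * h * g) := by
  rw [cj, coeff_domCongr, MulAut.conj_symm_apply]

theorem cj_mul (g h : G) (a : MonoidAlgebra F G) : cj (g * h) a = cj g (cj h a) := by
  ext z
  rw [coeff_cj, coeff_cj, coeff_cj]
  congr 1
  group

theorem cj_one (a : MonoidAlgebra F G) : cj (1 : G) a = a := by
  ext z
  rw [coeff_cj]
  simp

theorem central_of_cj {a : MonoidAlgebra F G} (h : ∀ g, cj g a = a) : ∀ b, b * a = a * b := by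
  apply central_of_coeff_conj
  intro g k
  have := congrArg (fun b => b.coeff g) (h k⁻¹)
  simp only [coeff_cj] at this
  rw [← this]
  congr 1
  group

theorem cj_of_central {a : MonoidAlgebra F G} (ha : ∀ b, b * a = a * b) (g : G) : cj g a = a := by
  ext z
  rw [coeff_cj]
  have := coeff_conj_of_central ha z g⁻¹
  rw [inv_inv] at this
  exact this

/-- relative trace by conjugation along coset representatives -/
noncomputable def trCj {K : Type*} [Group K] [Finite K] (φ : K →* G) (H : Subgroup K)
    (a : MonoidAlgebra F G) : MonoidAlgebra F G :=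
  letI := Fintype.ofFinite (K ⧸ H)
  ∑ s : K ⧸ H, cj (φ s.out) a

theorem trCj_eq {K : Type*} [Group K] [Finite K] (φ : K →* G) (H : Subgroup K) [Fintype (K ⧸ H)]
    (a : MonoidAlgebra F G) : trCj φ H a = ∑ s : K ⧸ H, cj (φ s.out) a := by
  unfold trCj
  congr!

theorem cj_trCj {K : Type*} [Group K] [Finite K] (φ : K →* G) (H : Subgroup K)
    {a : MonoidAlgebra F G} (ha : ∀ h ∈ H, cj (φ h) a = a) (k : K) :
    cj (φ k) (trCj φ H a) = trCj φ H a := by
  classical
  haveI := Fintype.ofFinite (K ⧸ H)
  rw [trCj_eq, map_sum]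
  have key : ∀ s : K ⧸ H, cj (φ k) (cj (φ s.out) a) = cj (φ (k • s).out) a := by
    intro s
    have h1 : ((k • s).out)⁻¹ * (k * s.out) ∈ H := by
      rw [← QuotientGroup.eq, QuotientGroup.out_eq']
      have : ((k * s.out : K) : K ⧸ H) = k • ((s.out : K) : K ⧸ H) := rfl
      rw [this, QuotientGroup.out_eq']
    have h2 : k * s.out = (k • s).out * (((k • s).out)⁻¹ * (k * s.out)) := by group
    rw [← cj_mul, ← map_mul, h2, map_mul, cj_mul, ha _ h1]
  rw [Finset.sum_congr rfl (fun s _ => key s)]
  exact Equiv.sum_comp (MulAction.toPerm k : Equiv.Perm (K ⧸ H)) (fun s => cj (φ s.out) a)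

theorem aug_cj (g : G) (a : MonoidAlgebra F G) : aug (cj g a) = aug a := by
  rw [aug_apply, aug_apply]
  simp only [coeff_cj]
  exact Fintype.sum_equiv (MulAut.conj g⁻¹).toEquiv _ _ (fun z => by simp [MulAut.conj_apply])

theorem aug_mul (a b : MonoidAlgebra F G) : aug (a * b) = aug a * aug b := by
  classical
  induction a using MonoidAlgebra.induction_linear with
  | zero => simp
  | add x y hx hy => rw [add_mul, map_add, map_add, hx, hy, add_mul]
  | single g r =>
    rw [aug_apply, aug_apply, aug_apply]
    have h1 : ∀ z, (single g r * b).coeff z = r * b.coeff (g⁻¹ * z) := by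
      intro z
      have := coeff_single_mul_mul b r g (g⁻¹ * z)
      rwa [mul_inv_cancel_left] at this
    simp only [h1]
    rw [← Finset.mul_sum]
    congr 1
    · rw [Finset.sum_eq_single g]
      · simp
      · intro z _ hz
        rw [coeff_single, Finsupp.single_apply, if_neg (Ne.symm hz)]
      · intro h; exact absurd (Finset.mem_univ g) h
    · exact Equiv.sum_comp (Equiv.mulLeft g⁻¹) (fun z => b.coeff z)

theorem aug_one : aug (1 : MonoidAlgebra F G) = 1 := by
  classical
  rw [aug_apply, MonoidAlgebra.one_def, Finset.sum_eq_single (1 : G)]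
  · simp
  · intro z _ hz
    rw [coeff_single, Finsupp.single_apply, if_neg (Ne.symm hz)]
  · intro h; exact absurd (Finset.mem_univ _) h

theorem aug_single (g : G) (r : F) : aug (single g r) = r := by
  classical
  rw [aug_apply, Finset.sum_eq_single g]
  · simp
  · intro z _ hz
    rw [coeff_single, Finsupp.single_apply, if_neg (Ne.symm hz)]
  · intro h; exact absurd (Finset.mem_univ _) h

end Cfsg.Agent.Lib.Helper77.DefOne
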