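import Mathlib
import Cfsg.Agent.Lib.Helper77.DefOneCj

set_option autoImplicit false
set_option linter.unusedSectionVars false

namespace Cfsg.Agent.Lib.Helper77.DefOne

open MonoidAlgebra Cfsg.Agent.Lib.Helper77.GrpAlg

variable {F : Type*} [Field F] {G : Type*} [Group G] [Fintype G]

/-- `a` is supported in the subgroup `Q` -/
def SuppIn (Q : Subgroup G) (a : MonoidAlgebra F G) : Prop := ∀ g, g ∉ Q → a.coeff g = 0

theorem suppIn_single {Q : Subgroup G} {g : G} (hg : g ∈ Q) (r : F) : SuppIn Q (single g r) := by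
  classical
  intro h hh
  rw [coeff_single, Finsupp.single_apply, if_neg]
  rintro rfl
  exact hh hg

theorem SuppIn.add {Q : Subgroup G} {a b : MonoidAlgebra F G} (ha : SuppIn Q a) (hb : SuppIn Q b) :
    SuppIn Q (a + b) := by
  intro g hg
  rw [coeff_add, Finsupp.add_apply, ha g hg, hb g hg, add_zero]

theorem SuppIn.sub {Q : Subgroup G} {a b : MonoidAlgebra F G} (ha : SuppIn Q a) (hb : SuppIn Q b) :
    SuppIn Q (a - b) := by
  intro g hg
  rw [coeff_sub, Finsupp.sub_apply, ha g hg, hb g hg, sub_zero]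

theorem SuppIn.mul {Q : Subgroup G} {a b : MonoidAlgebra F G} (ha : SuppIn Q a) (hb : SuppIn Q b) :
    SuppIn Q (a * b) := by
  intro z hz
  rw [coeff_mul_eq_sum]
  apply Finset.sum_eq_zero
  intro g _
  by_cases hg : g ∈ Q
  · rw [hb, mul_zero]
    intro h
    apply hz
    have := Q.mul_mem hg h
    rwa [mul_inv_cancel_left] at this
  · rw [ha g hg, zero_mul]

theorem suppIn_one (Q : Subgroup G) : SuppIn Q (1 : MonoidAlgebra F G) := by
  rw [MonoidAlgebra.one_def]
  exact suppIn_single Q.one_mem 1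

theorem SuppIn.pow {Q : Subgroup G} {a : MonoidAlgebra F G} (ha : SuppIn Q a) (n : ℕ) :
    SuppIn Q (a ^ n) := by
  induction n with
  | zero => rw [pow_zero]; exact suppIn_one Q
  | succ n ih => rw [pow_succ]; exact ih.mul ha

theorem SuppIn.sum {ι : Type*} {Q : Subgroup G} (s : Finset ι) (f : ι → MonoidAlgebra F G)
    (h : ∀ i ∈ s, SuppIn Q (f i)) : SuppIn Q (∑ i ∈ s, f i) := by
  intro g hg
  rw [coeff_sum, Finsupp.finsetSum_apply]
  exact Finset.sum_eq_zero fun i hi => h i hi g hg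

theorem SuppIn.mono {Q Q' : Subgroup G} (h : Q ≤ Q') {a : MonoidAlgebra F G} (ha : SuppIn Q a) :
    SuppIn Q' a := fun g hg => ha g (fun h' => hg (h h'))

theorem SuppIn.cj {Q : Subgroup G} {a : MonoidAlgebra F G} (ha : SuppIn Q a) (g : G) :
    SuppIn (Q.map (MulAut.conj g).toMonoidHom) (cj g a) := by
  intro z hz
  rw [coeff_cj]
  apply ha
  intro h
  apply hz
  refine ⟨g⁻¹ * z * g, h, ?_⟩
  simp [MulAut.conj_apply]
  group

theorem brC_of_suppIn {C : Subgroup G} {a : MonoidAlgebra F G} (ha : SuppIn C a) : brC C a = a := by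
  classical
  ext g
  rw [coeff_brC]
  by_cases hg : g ∈ C
  · rw [if_pos hg]
  · rw [if_neg hg, ha g hg]

theorem brC_of_suppIn_disjoint {C Q : Subgroup G} (hQC : ∀ g, g ∈ Q → g ∈ C → g = 1)
    {a : MonoidAlgebra F G} (ha : SuppIn Q a) : brC C a = single 1 (a.coeff 1) := by
  classical
  ext g
  rw [coeff_brC, coeff_single, Finsupp.single_apply]
  by_cases hg : g ∈ C
  · rw [if_pos hg]
    by_cases h1 : 1 = g
    · rw [if_pos h1, h1]
    · rw [if_neg h1]
      apply ha
      intro hq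
      exact h1 (hQC g hq hg).symm
  · rw [if_neg hg]
    by_cases h1 : 1 = g
    · exact absurd (h1 ▸ C.one_mem) hg
    · rw [if_neg h1]

theorem coeff_one_cj (g : G) (a : MonoidAlgebra F G) : (cj g a).coeff 1 = a.coeff 1 := by
  rw [coeff_cj]
  congr 1
  group

end Cfsg.Agent.Lib.Helper77.DefOne
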