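import Mathlib
import Cfsg.Agent.Lib.Helper77.DefOneSupp

set_option autoImplicit false
set_option linter.unusedSectionVars false

namespace Cfsg.Agent.Lib.Helper77.DefOne

variable {G : Type*} [Group G] [Fintype G] {p : ℕ} [Fact p.Prime]

/-- a `p`-element of `C_G(P)` lies in the Sylow subgroup `P` -/
theorem mem_sylow_of_mem_centralizer (P : Sylow p G) {v : G}
    (hv : v ∈ Subgroup.centralizer ((P : Subgroup G) : Set G)) (k : ℕ) (hk : v ^ p ^ k = 1) :
    v ∈ (P : Subgroup G) := by
  have hZ : IsPGroup p (Subgroup.zpowers v) := by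
    rintro ⟨y, hy⟩
    obtain ⟨i, rfl⟩ := Subgroup.mem_zpowers_iff.mp hy
    refine ⟨k, ?_⟩
    apply Subtype.ext
    simp only [Subgroup.coe_pow, Subgroup.coe_one]
    rw [← zpow_natCast, ← zpow_mul, mul_comm, zpow_mul, zpow_natCast, hk, one_zpow]
  have hle : Subgroup.zpowers v ≤ Subgroup.normalizer ((P : Subgroup G) : Set G) := by
    rw [Subgroup.zpowers_le]
    exact Subgroup.centralizer_le_normalizer _ hv
  have hsup := IsPGroup.to_sup_of_normal_left' P.isPGroup' hZ hle
  have h2 := P.is_maximal' hsup le_sup_left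
  have : Subgroup.zpowers v ≤ (P : Subgroup G) := by
    rw [← h2]; exact le_sup_right
  exact this (Subgroup.mem_zpowers v)

theorem eq_zpowers_of_card_prime {Q : Subgroup G} (hQ : Nat.card Q = p) {v : G} (hv : v ∈ Q)
    (hv1 : v ≠ 1) : Q = Subgroup.zpowers v := by
  symm
  apply Subgroup.eq_of_le_of_card_ge
  · rw [Subgroup.zpowers_le]; exact hv
  · rw [hQ, Nat.card_zpowers]
    have hdvd : orderOf v ∣ p := by
      have := Subgroup.orderOf_dvd_natCard Q hv
      rwa [hQ] at this
    rcases (Nat.dvd_prime (Fact.out : p.Prime)).mp hdvd with h | h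
    · exact absurd (orderOf_eq_one_iff.mp h) hv1
    · exact h.ge

/-- `P` of order `p`: if a conjugate of a nontrivial element of `P` centralizes `P`, the conjugating
element normalizes `P` -/
theorem mem_normalizer_of_conj_mem_centralizer (P : Sylow p G) (hP : Nat.card P = p) {g u : G}
    (hu : u ∈ (P : Subgroup G)) (hu1 : u ≠ 1)
    (hc : g * u * g⁻¹ ∈ Subgroup.centralizer ((P : Subgroup G) : Set G)) :
    g ∈ Subgroup.normalizer ((P : Subgroup G) : Set G) := by
  have hup : u ^ p ^ 1 = 1 := by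
    rw [pow_one]
    have := Subgroup.orderOf_dvd_natCard (P : Subgroup G) hu
    rw [hP] at this
    exact orderOf_dvd_iff_pow_eq_one.mp this
  have hvp : (g * u * g⁻¹) ^ p ^ 1 = 1 := by
    rw [conj_pow, hup]; group
  have hvP := mem_sylow_of_mem_centralizer P hc 1 hvp
  have hv1 : g * u * g⁻¹ ≠ 1 := by
    intro h
    apply hu1
    have : u = g⁻¹ * (g * u * g⁻¹) * g := by group
    rw [this, h]; group
  rw [Subgroup.mem_normalizer_iff_map_conj_eq]
  have hmapcard : Nat.card ((P : Subgroup G).map (MulAut.conj g : G →* G)) = p := by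
    refine Eq.trans ?_ hP
    exact Nat.card_congr ((P : Subgroup G).equivMapOfInjective _ (MulAut.conj g).injective).symm.toEquiv
  have hvmap : g * u * g⁻¹ ∈ (P : Subgroup G).map (MulAut.conj g : G →* G) :=
    ⟨u, hu, by simp [MulAut.conj_apply]⟩
  rw [eq_zpowers_of_card_prime hmapcard hvmap hv1, ← eq_zpowers_of_card_prime hP hvP hv1]

theorem eq_one_of_mem_map_conj_of_mem_centralizer (P : Sylow p G) (hP : Nat.card P = p) {g : G}
    (hg : g ∉ Subgroup.normalizer ((P : Subgroup G) : Set G)) (z : G)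
    (hz : z ∈ (P : Subgroup G).map (MulAut.conj g).toMonoidHom)
    (hzC : z ∈ Subgroup.centralizer ((P : Subgroup G) : Set G)) : z = 1 := by
  obtain ⟨u, hu, rfl⟩ := hz
  by_contra h1
  apply hg
  have hu1 : u ≠ 1 := by
    rintro rfl
    apply h1
    simp
  have hc : g * u * g⁻¹ ∈ Subgroup.centralizer ((P : Subgroup G) : Set G) := by
    simpa [MulAut.conj_apply] using hzC
  exact mem_normalizer_of_conj_mem_centralizer P hP hu hu1 hc

end Cfsg.Agent.Lib.Helper77.DefOne
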