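import Mathlib
import Cfsg.Agent.Lib.Helper77.DefOneGrp

set_option autoImplicit false
set_option linter.unusedSectionVars false

namespace Cfsg.Agent.Lib.Helper77.DefOne

open MonoidAlgebra Polynomial Cfsg.Agent.Lib.Helper77.GrpAlg

variable {F : Type*} [Field F] {G : Type*} [Group G] [Fintype G] {p : ℕ} [Fact p.Prime] [CharP F p]

/-- `(X - 1)^(p-1) = 1 + X + ... + X^(p-1)` in characteristic `p` -/
theorem sub_one_pow_eq_geom : ((X : F[X]) - 1) ^ (p - 1) = ∑ i ∈ Finset.range p, (X : F[X]) ^ i := by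
  have h1 : ((X : F[X]) - 1) ^ p = X ^ p - 1 := by
    rw [sub_pow_char, one_pow]
  have h2 : (∑ i ∈ Finset.range p, (X : F[X]) ^ i) * (X - 1) = X ^ p - 1 := geom_sum_mul X p
  have h3 : ((X : F[X]) - 1) ^ (p - 1) * (X - 1) = (∑ i ∈ Finset.range p, (X : F[X]) ^ i) * (X - 1) := by
    rw [h2, ← h1, ← pow_succ, Nat.sub_add_cancel (Fact.out : p.Prime).one_le]
  have hne : (X : F[X]) - 1 ≠ 0 := by
    have : (X : F[X]) - 1 = X - C 1 := by simp
    rw [this]
    exact X_sub_C_ne_zero 1
  exact mul_right_cancel₀ hne h3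

/-- `σ = ∑_{i<p} x^i` absorbs polynomials in `x` through evaluation at `1` -/
theorem geom_mul_aeval {x : G} (hx : x ^ p = 1) (q : F[X]) :
    (∑ i ∈ Finset.range p, (single x (1 : F) : MonoidAlgebra F G) ^ i) * aeval (single x (1 : F)) q =
      q.eval 1 • ∑ i ∈ Finset.range p, (single x (1 : F) : MonoidAlgebra F G) ^ i := by
  have hxp : (single x (1 : F) : MonoidAlgebra F G) ^ p = 1 := by
    rw [single_pow, hx, one_pow]; rfl
  have hσ : (∑ i ∈ Finset.range p, (single x (1 : F) : MonoidAlgebra F G) ^ i) *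
      (single x (1 : F) - 1) = 0 := by
    rw [geom_sum_mul, hxp, sub_self]
  obtain ⟨r, hr⟩ : (X - C (1 : F)) ∣ q - C (q.eval 1) := X_sub_C_dvd_sub_C_eval
  have hq : q = C (q.eval 1) + (X - C 1) * r := by rw [← hr]; ring
  conv_lhs => rw [hq]
  rw [map_add, map_mul, map_sub, aeval_X, aeval_C, aeval_C, map_one, mul_add, ← mul_assoc, hσ,
    zero_mul, add_zero, Algebra.algebraMap_eq_smul_one, mul_smul_comm, mul_one]

end Cfsg.Agent.Lib.Helper77.DefOne

namespace Cfsg.Agent.Lib.Helper77.DefOne

open MonoidAlgebra Polynomial Cfsg.Agent.Lib.Helper77.GrpAlg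

variable {F : Type*} [Field F] {G : Type*} [Group G] [Fintype G]

/-- the sum of the elements of a subgroup -/
noncomputable def sigmaQ (Q : Subgroup G) : MonoidAlgebra F G := by
  classical exact ∑ u : Q, single (u : G) (1 : F)

open Classical in
theorem coeff_single_mul_sigmaQ (Q : Subgroup G) (h g : G) (r : F) :
    (single h r * sigmaQ Q).coeff g = if h⁻¹ * g ∈ Q then r else 0 := by
  classical
  unfold sigmaQ
  rw [Finset.mul_sum, MonoidAlgebra.coeff_sum, Finsupp.finsetSum_apply]
  simp only [single_mul_single, mul_one, coeff_single, Finsupp.single_apply]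
  by_cases hq : h⁻¹ * g ∈ Q
  · rw [if_pos hq, Finset.sum_eq_single (⟨h⁻¹ * g, hq⟩ : Q)]
    · rw [if_pos]; simp
    · intro u _ hu
      rw [if_neg]
      intro h'
      apply hu
      apply Subtype.ext
      change (u : G) = h⁻¹ * g
      rw [← h']; group
    · intro h'; exact absurd (Finset.mem_univ _) h'
  · rw [if_neg hq]
    apply Finset.sum_eq_zero
    intro u _
    rw [if_neg]
    intro h'
    apply hq
    rw [← h']
    simp

theorem aug_eq_sum_coeff_mul_sigmaQ (Q : Subgroup G) [Fintype (G ⧸ Q)] (a : MonoidAlgebra F G) :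
    aug a = ∑ c : G ⧸ Q, (a * sigmaQ Q).coeff c.out := by
  classical
  induction a using MonoidAlgebra.induction_linear with
  | zero => simp
  | add x y hx hy =>
    rw [map_add, hx, hy, ← Finset.sum_add_distrib]
    refine Finset.sum_congr rfl fun c _ => ?_
    rw [add_mul, MonoidAlgebra.coeff_add, Finsupp.add_apply]
  | single h r =>
    rw [aug_single]
    simp only [coeff_single_mul_sigmaQ]
    rw [Finset.sum_eq_single (h : G ⧸ Q)]
    · rw [if_pos]
      rw [← QuotientGroup.eq, QuotientGroup.out_eq']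
    · intro c _ hc
      rw [if_neg]
      intro h'
      apply hc
      rw [← QuotientGroup.eq, QuotientGroup.out_eq'] at h'
      exact h'.symm
    · intro h'; exact absurd (Finset.mem_univ _) h'

theorem aug_eq_zero_of_mul_sigmaQ (Q : Subgroup G) {a : MonoidAlgebra F G} (h : a * sigmaQ Q = 0) :
    aug a = 0 := by
  classical
  rw [aug_eq_sum_coeff_mul_sigmaQ Q, h]
  simp

/-- `σ_Q` for a cyclic group generated by `x` of order `n` -/
theorem sigmaQ_zpowers (x : G) : (sigmaQ (Subgroup.zpowers x) : MonoidAlgebra F G) =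
    ∑ i ∈ Finset.range (orderOf x), (single x (1 : F) : MonoidAlgebra F G) ^ i := by
  classical
  unfold sigmaQ
  rw [← Fin.sum_univ_eq_sum_range (fun i => (single x (1 : F) : MonoidAlgebra F G) ^ i)]
  rw [← Fintype.sum_equiv (finEquivZPowers (isOfFinOrder_of_finite x)) (fun i : Fin (orderOf x) =>
    (single x (1 : F) : MonoidAlgebra F G) ^ (i : ℕ)) (fun u => single (u : G) (1 : F))]
  intro i
  rw [single_pow, one_pow]
  simp [finEquivZPowers_apply]

end Cfsg.Agent.Lib.Helper77.DefOne
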