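import Mathlib
import Cfsg.Agent.Lib.Helper77.DefOnePoly

set_option autoImplicit false
set_option linter.unusedSectionVars false

namespace Cfsg.Agent.Lib.Helper77.DefOne

open MonoidAlgebra Polynomial Cfsg.Agent.Lib.Helper77.GrpAlg

variable {F : Type*} [Field F] {G : Type*} [Group G] [Fintype G] {p : ℕ} [Fact p.Prime] [CharP F p]

/-- conjugation by powers -/
theorem conj_pow_eq {x n : G} {c : ℕ} (h : n * x * n⁻¹ = x ^ c) (k : ℕ) :
    n ^ k * x * (n ^ k)⁻¹ = x ^ (c ^ k) := by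
  induction k with
  | zero => simp
  | succ k ih =>
    have : n ^ (k + 1) * x * (n ^ (k + 1))⁻¹ = n * (n ^ k * x * (n ^ k)⁻¹) * n⁻¹ := by
      rw [pow_succ']; group
    rw [this, ih, ← conj_pow, h, ← pow_mul, pow_succ, mul_comm]

/-- the centralizer is normal in the normalizer -/
theorem centralizer_subgroupOf_normal (H : Subgroup G) :
    ((Subgroup.centralizer (H : Set G)).subgroupOf (Subgroup.normalizer (H : Set G))).Normal := by
  constructor
  intro c hc n
  rw [Subgroup.mem_subgroupOf] at hc ⊢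
  rw [Subgroup.mem_centralizer_iff] at hc ⊢
  intro u hu
  have hn : (n : G)⁻¹ * u * (n : G) ∈ H := by
    have h1 := (Subgroup.mem_normalizer_iff_map_conj_eq (H := H)).mp (Subgroup.inv_mem _ n.2)
    have h0 : (n : G)⁻¹ * u * (n : G) ∈ H.map (MulAut.conj (n : G)⁻¹ : G →* G) :=
      ⟨u, hu, by simp⟩
    rw [h1] at h0
    exact h0
  have h2 := hc _ hn
  simp only [Subgroup.coe_mul, Subgroup.coe_inv]
  calc u * ((n : G) * (c : G) * (n : G)⁻¹)
      = (n : G) * (((n : G)⁻¹ * u * (n : G)) * (c : G)) * (n : G)⁻¹ := by group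
    _ = (n : G) * ((c : G) * ((n : G)⁻¹ * u * (n : G))) * (n : G)⁻¹ := by rw [h2]
    _ = (n : G) * (c : G) * (n : G)⁻¹ * u := by group

/-- for `n ∈ N_G(P)`, `|P| = p`, `P = ⟨x⟩`: `n x n⁻¹ = x^c` with `c^e = 1` in `F`, `e = |N : C|` -/
theorem exists_conj_exponent (P : Sylow p G) (hP : Nat.card P = p) {x : G}
    (hx : (P : Subgroup G) = Subgroup.zpowers x)
    (n : G) (hn : n ∈ Subgroup.normalizer ((P : Subgroup G) : Set G)) :
    ∃ c : ℕ, n * x * n⁻¹ = x ^ c ∧
      ((c : F)) ^ ((Subgroup.centralizer ((P : Subgroup G) : Set G)).relIndex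
        (Subgroup.normalizer ((P : Subgroup G) : Set G))) = 1 := by
  have hxP : x ∈ (P : Subgroup G) := by rw [hx]; exact Subgroup.mem_zpowers x
  have hord : orderOf x = p := by
    rw [← Nat.card_zpowers, ← hx, hP]
  have hmem : n * x * n⁻¹ ∈ (P : Subgroup G) := by
    have h1 := (Subgroup.mem_normalizer_iff_map_conj_eq (H := (P : Subgroup G))).mp hn
    rw [← h1]
    exact ⟨x, hxP, by simp [MulAut.conj_apply]⟩
  rw [hx, ← (isOfFinOrder_of_finite x).mem_powers_iff_mem_zpowers, Submonoid.mem_powers_iff] at hmem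
  obtain ⟨c, hc⟩ := hmem
  refine ⟨c, hc.symm, ?_⟩
  -- `n ^ e ∈ C`
  obtain ⟨C, hC⟩ : ∃ C, C = Subgroup.centralizer ((P : Subgroup G) : Set G) := ⟨_, rfl⟩
  obtain ⟨N, hN⟩ : ∃ N, N = Subgroup.normalizer ((P : Subgroup G) : Set G) := ⟨_, rfl⟩
  rw [← hC, ← hN]
  have hnorm : (C.subgroupOf N).Normal := by
    rw [hC, hN]; exact centralizer_subgroupOf_normal _
  have hcard : Nat.card (N ⧸ C.subgroupOf N) = C.relIndex N := rfl
  have hpow : ((⟨n, hN ▸ hn⟩ : N) : N ⧸ C.subgroupOf N) ^ (C.relIndex N) = 1 := by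
    rw [← hcard]; exact pow_card_eq_one'
  rw [← QuotientGroup.mk_pow, QuotientGroup.eq_one_iff, Subgroup.mem_subgroupOf] at hpow
  have hne : n ^ C.relIndex N ∈ C := by simpa using hpow
  have h3 := conj_pow_eq hc.symm (C.relIndex N)
  have h4 : n ^ C.relIndex N * x * (n ^ C.relIndex N)⁻¹ = x := by
    have hne2 := Subgroup.mem_centralizer_iff.mp (hC.le hne)
    have := hne2 x hxP
    calc n ^ C.relIndex N * x * (n ^ C.relIndex N)⁻¹
        = x * n ^ C.relIndex N * (n ^ C.relIndex N)⁻¹ := by rw [this]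
      _ = x := by group
  rw [h4] at h3
  have h5 : x ^ 1 = x ^ (c ^ C.relIndex N) := by rw [pow_one]; exact h3
  rw [pow_eq_pow_iff_modEq, hord] at h5
  have h6 := (CharP.natCast_eq_natCast F p).mpr h5
  rw [Nat.cast_one, Nat.cast_pow] at h6
  exact h6.symm

end Cfsg.Agent.Lib.Helper77.DefOne
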