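import Mathlib
import Cfsg.Agent.Lib.Helper77.DefOneExp

set_option autoImplicit false
set_option linter.unusedSectionVars false

namespace Cfsg.Agent.Lib.Helper77.DefOne

open MonoidAlgebra Polynomial Cfsg.Agent.Lib.Helper77.GrpAlg

variable {F : Type*} [Field F] {G : Type*} [Group G] [Fintype G] {p : ℕ} [Fact p.Prime] [CharP F p]

/-- the local element `w_N = ∑_{s ∈ N/C} (x^{c_s} - 1)^e` as a polynomial in `x` -/
theorem exists_poly_wN (P : Sylow p G) (hP : Nat.card P = p) {x : G}
    (hx : (P : Subgroup G) = Subgroup.zpowers x) :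
    ∃ Hp : F[X], Hp.eval 1 = (((Subgroup.centralizer ((P : Subgroup G) : Set G)).relIndex
        (Subgroup.normalizer ((P : Subgroup G) : Set G)) : ℕ) : F) ∧
      trCj (F := F) (Subgroup.normalizer ((P : Subgroup G) : Set G)).subtype
        ((Subgroup.centralizer ((P : Subgroup G) : Set G)).subgroupOf
          (Subgroup.normalizer ((P : Subgroup G) : Set G)))
        ((single x (1 : F) - 1) ^ ((Subgroup.centralizer ((P : Subgroup G) : Set G)).relIndex
          (Subgroup.normalizer ((P : Subgroup G) : Set G)))) =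
      aeval (single x (1 : F) : MonoidAlgebra F G)
        ((X - 1) ^ ((Subgroup.centralizer ((P : Subgroup G) : Set G)).relIndex
          (Subgroup.normalizer ((P : Subgroup G) : Set G))) * Hp) := by
  classical
  obtain ⟨C, hC⟩ : ∃ C, C = Subgroup.centralizer ((P : Subgroup G) : Set G) := ⟨_, rfl⟩
  obtain ⟨N, hN⟩ : ∃ N, N = Subgroup.normalizer ((P : Subgroup G) : Set G) := ⟨_, rfl⟩
  rw [← hC, ← hN]
  obtain ⟨e, he⟩ : ∃ e, e = C.relIndex N := ⟨_, rfl⟩
  rw [← he]
  letI : Fintype (N ⧸ C.subgroupOf N) := Fintype.ofFinite _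
  have hex : ∀ s : N ⧸ C.subgroupOf N, ∃ c : ℕ,
      ((s.out : N) : G) * x * ((s.out : N) : G)⁻¹ = x ^ c ∧ (c : F) ^ e = 1 := by
    intro s
    have := exists_conj_exponent (F := F) P hP hx ((s.out : N) : G) (hN ▸ (s.out : N).2)
    rw [← hC, ← hN, ← he] at this
    exact this
  choose cf hcf1 hcf2 using hex
  refine ⟨∑ s : N ⧸ C.subgroupOf N, (∑ i ∈ Finset.range (cf s), (X : F[X]) ^ i) ^ e, ?_, ?_⟩
  · rw [eval_finsetSum]
    have : ∀ s : N ⧸ C.subgroupOf N,
        eval 1 ((∑ i ∈ Finset.range (cf s), (X : F[X]) ^ i) ^ e) = 1 := by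
      intro s
      rw [eval_pow, eval_finsetSum]
      simp only [eval_pow, eval_X, one_pow, Finset.sum_const, Finset.card_range, nsmul_eq_mul,
        mul_one]
      exact hcf2 s
    rw [Finset.sum_congr rfl (fun s _ => this s), Finset.sum_const, Finset.card_univ, nsmul_eq_mul,
      mul_one, he]
    congr 1
    rw [← Nat.card_eq_fintype_card]
    rfl
  · rw [trCj_eq, Finset.mul_sum, map_sum]
    refine Finset.sum_congr rfl fun s _ => ?_
    have h1 : cj (N.subtype s.out) ((single x (1 : F) - 1 : MonoidAlgebra F G) ^ e) =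
        ((single x (1 : F) : MonoidAlgebra F G) ^ (cf s) - 1) ^ e := by
      rw [map_pow, map_sub, map_one, cj_single]
      congr 2
      rw [Subgroup.coe_subtype, hcf1 s, single_pow, one_pow]
    rw [h1, ← mul_pow, map_pow, map_mul, map_sub, map_one, aeval_X, map_sum]
    congr 1
    simp only [map_pow, aeval_X]
    exact (mul_geom_sum _ _).symm
  

theorem sum_ite_eq_add {ι : Type*} [Fintype ι] [DecidableEq ι] {A : Type*} [AddCommGroup A]
    (r₀ : ι) (a b : A) :
    (∑ r : ι, if r = r₀ then a else b) = a + (Fintype.card ι - 1 : ℕ) • b := by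
  have h1 : ∀ r : ι, (if r = r₀ then a else b) = b + (if r = r₀ then a - b else 0) := by
    intro r
    by_cases h : r = r₀
    · rw [if_pos h, if_pos h]; abel
    · rw [if_neg h, if_neg h, add_zero]
  rw [Finset.sum_congr rfl (fun r _ => h1 r), Finset.sum_add_distrib, Finset.sum_ite_eq',
    if_pos (Finset.mem_univ _), Finset.sum_const, Finset.card_univ]
  have hpos : 1 ≤ Fintype.card ι := Fintype.card_pos_iff.mpr ⟨r₀⟩
  obtain ⟨k, hk⟩ : ∃ k, Fintype.card ι = k + 1 := ⟨Fintype.card ι - 1, by omega⟩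
  rw [hk, Nat.add_sub_cancel, succ_nsmul]
  abel

/-- the nilpotent central element: `w = Tr_N^G (Tr_C^N ((x-1)^e))` has augmentation `0` and
`(w ε)^t ≠ 0` for every central idempotent `ε` of augmentation `1`, `t = (p-1)/e` -/
theorem exists_central_nilpotent (P : Sylow p G) (hP : Nat.card P = p) :
    ∃ w : MonoidAlgebra F G, (∀ b, b * w = w * b) ∧ aug w = 0 ∧
      ∀ ε : MonoidAlgebra F G, (∀ b, b * ε = ε * b) → ε * ε = ε → aug ε = 1 →
        (w * ε) ^ ((p - 1) / (Subgroup.centralizer ((P : Subgroup G) : Set G)).relIndex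
          (Subgroup.normalizer ((P : Subgroup G) : Set G))) ≠ 0 := by
  classical
  obtain ⟨C, hC⟩ : ∃ C, C = Subgroup.centralizer ((P : Subgroup G) : Set G) := ⟨_, rfl⟩
  obtain ⟨N, hN⟩ : ∃ N, N = Subgroup.normalizer ((P : Subgroup G) : Set G) := ⟨_, rfl⟩
  rw [← hC, ← hN]
  obtain ⟨e, he⟩ : ∃ e, e = C.relIndex N := ⟨_, rfl⟩
  rw [← he]
  have hPC : (P : Subgroup G) ≤ C := by
    rw [hC]
    haveI : IsCyclic (P : Subgroup G) := isCyclic_of_prime_card hP
    intro u hu
    rw [Subgroup.mem_centralizer_iff]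
    intro v hv
    have := IsCyclic.commGroup.mul_comm (⟨v, hv⟩ : (P : Subgroup G)) ⟨u, hu⟩
    exact congrArg Subtype.val this
  have hCN : C ≤ N := by rw [hC, hN]; exact Subgroup.centralizer_le_normalizer _
  -- generator
  haveI hcyc : IsCyclic (P : Subgroup G) := isCyclic_of_prime_card hP
  obtain ⟨⟨x, hxP⟩, hgen⟩ := IsCyclic.exists_generator (α := (P : Subgroup G))
  have hx : (P : Subgroup G) = Subgroup.zpowers x := by
    ext u
    constructor
    · intro hu
      obtain ⟨k, hk⟩ := Subgroup.mem_zpowers_iff.mp (hgen ⟨u, hu⟩)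
      refine Subgroup.mem_zpowers_iff.mpr ⟨k, ?_⟩
      have := congrArg Subtype.val hk
      simpa using this
    · intro hu
      exact (Subgroup.zpowers_le.mpr hxP) hu
  have hord : orderOf x = p := by rw [← Nat.card_zpowers, ← hx, hP]
  have hxp : x ^ p = 1 := by rw [← hord]; exact pow_orderOf_eq_one x
  have he_pos : 0 < e := by
    rw [he]
    exact Nat.card_pos (α := N ⧸ C.subgroupOf N)
  -- the elements
  obtain ⟨xh, hxh⟩ : ∃ xh : MonoidAlgebra F G, xh = single x (1 : F) := ⟨_, rfl⟩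
  obtain ⟨y, hy⟩ : ∃ y : MonoidAlgebra F G, y = (xh - 1) ^ e := ⟨_, rfl⟩
  have hyC : ∀ c ∈ C, cj c y = y := by
    intro c hc
    rw [hy, hxh, map_pow, map_sub, map_one, cj_single]
    have := (Subgroup.mem_centralizer_iff.mp (hC.le hc)) x hxP
    have h2 : c * x * c⁻¹ = x := by rw [← this]; group
    rw [h2]
  have hySupp : SuppIn (P : Subgroup G) y := by
    rw [hy, hxh]
    exact ((suppIn_single hxP 1).sub (suppIn_one _)).pow e
  obtain ⟨wN, hwN⟩ : ∃ wN : MonoidAlgebra F G, wN = trCj N.subtype (C.subgroupOf N) y := ⟨_, rfl⟩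
  have hwN_inv : ∀ n ∈ N, cj n wN = wN := by
    intro n hn
    rw [hwN]
    exact cj_trCj N.subtype (C.subgroupOf N) (fun h hh => hyC _ (Subgroup.mem_subgroupOf.mp hh))
      ⟨n, hn⟩
  have hwN_supp : SuppIn (P : Subgroup G) wN := by
    haveI : Fintype (N ⧸ C.subgroupOf N) := Fintype.ofFinite _
    rw [hwN, trCj_eq]
    apply SuppIn.sum
    intro s _
    have h1 := hySupp.cj (N.subtype s.out)
    have h2 := (Subgroup.mem_normalizer_iff_map_conj_eq (H := (P : Subgroup G))).mp
      (hN.le (s.out : N).2)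
    have h3 : (P : Subgroup G).map (MulAut.conj (N.subtype s.out)).toMonoidHom = (P : Subgroup G) :=
      h2
    rwa [h3] at h1
  obtain ⟨w, hw⟩ : ∃ w : MonoidAlgebra F G, w = trCj (MonoidHom.id G) N wN := ⟨_, rfl⟩
  have hw_central : ∀ b, b * w = w * b := by
    apply central_of_cj
    intro g
    rw [hw]
    exact cj_trCj (MonoidHom.id G) N (fun h hh => hwN_inv h hh) g
  have haug_y : aug y = 0 := by
    rw [hy, hxh]
    obtain ⟨k, hk⟩ : ∃ k, e = k + 1 := ⟨e - 1, by omega⟩
    rw [hk, pow_succ, aug_mul, map_sub, aug_single, aug_one, sub_self, mul_zero]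
  have haug_wN : aug wN = 0 := by
    haveI : Fintype (N ⧸ C.subgroupOf N) := Fintype.ofFinite _
    rw [hwN, trCj_eq, map_sum]
    exact Finset.sum_eq_zero fun s _ => by rw [aug_cj, haug_y]
  have haug_w : aug w = 0 := by
    haveI : Fintype (G ⧸ N) := Fintype.ofFinite _
    rw [hw, trCj_eq, map_sum]
    exact Finset.sum_eq_zero fun s _ => by rw [aug_cj, haug_wN]
  -- Brauer image
  have hbr : brC C w = wN := by
    haveI : Fintype (G ⧸ N) := Fintype.ofFinite _
    rw [hw, trCj_eq, map_sum]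
    have hterm : ∀ r : G ⧸ N, brC C (cj ((MonoidHom.id G) r.out) wN) =
        if r = ((1 : G) : G ⧸ N) then wN else single 1 (wN.coeff 1) := by
      intro r
      rw [MonoidHom.id_apply]
      by_cases hr : r = ((1 : G) : G ⧸ N)
      · rw [if_pos hr]
        have hout : r.out ∈ N := by
          have h1 : ((r.out : G) : G ⧸ N) = ((1 : G) : G ⧸ N) := by
            rw [QuotientGroup.out_eq', hr]
          rw [QuotientGroup.eq] at h1
          have := N.inv_mem h1
          simpa using this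
        rw [hwN_inv _ hout]
        exact brC_of_suppIn (hwN_supp.mono hPC)
      · rw [if_neg hr]
        have hout : r.out ∉ N := by
          intro h
          apply hr
          rw [← QuotientGroup.out_eq' r, QuotientGroup.eq]
          simpa using N.inv_mem h
        obtain ⟨g, hg⟩ : ∃ g : G, g = r.out := ⟨_, rfl⟩
        rw [← hg] at hout ⊢
        have hgN : g ∉ Subgroup.normalizer ((P : Subgroup G) : Set G) := by rw [← hN]; exact hout
        have h1 := hwN_supp.cj g
        rw [brC_of_suppIn_disjoint (C := C) ?_ h1, coeff_one_cj]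
        intro z hz hzC
        exact eq_one_of_mem_map_conj_of_mem_centralizer P hP hgN z hz (hC.le hzC)
    rw [Finset.sum_congr rfl (fun r _ => hterm r), sum_ite_eq_add]
    have hcard : ((Fintype.card (G ⧸ N) - 1 : ℕ) : F) = 0 := by
      have h1 : Fintype.card (G ⧸ N) = Nat.card (Sylow p G) := by
        rw [← Nat.card_eq_fintype_card, hN]
        exact (Sylow.card_eq_card_quotient_normalizer P).symm
      have h2 := card_sylow_modEq_one p G
      rw [← h1] at h2
      have hpos : 1 ≤ Fintype.card (G ⧸ N) := Fintype.card_pos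
      rw [Nat.cast_sub hpos, Nat.cast_one, sub_eq_zero]
      have := (CharP.natCast_eq_natCast F p).mpr h2
      rwa [Nat.cast_one] at this
    rw [← Nat.cast_smul_eq_nsmul F, hcard, zero_smul, add_zero]
  have he_ndvd : ¬ p ∣ e := by
    intro hdvd
    have h1 := Subgroup.relIndex_mul_index hPC
    have h2 := Subgroup.relIndex_mul_index hCN
    have h3 : p ∣ (P : Subgroup G).index := by
      rw [← h1, ← h2, ← he]
      exact Dvd.dvd.mul_left (Dvd.dvd.mul_right hdvd _) _
    exact P.not_dvd_index h3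
  have heF : (e : F) ≠ 0 := by
    intro h
    exact he_ndvd ((CharP.cast_eq_zero_iff F p e).mp h)
  refine ⟨w, hw_central, haug_w, ?_⟩
  intro ε hεc hεi hεa
  obtain ⟨t, ht⟩ : ∃ t, t = (p - 1) / e := ⟨_, rfl⟩
  rw [← ht]
  intro h0
  rcases Nat.eq_zero_or_pos t with ht0 | htpos
  · rw [ht0, pow_zero] at h0
    have := congrArg aug h0
    rw [aug_one, map_zero] at this
    exact one_ne_zero this
  have hwt_central : ∀ b, b * w ^ t = w ^ t * b := fun b => Commute.pow_right (hw_central b) t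
  have h1 : (w * ε) ^ t = ε * w ^ t := by
    have hcomm : Commute w ε := hεc w
    rw [hcomm.mul_pow]
    obtain ⟨k, hk⟩ : ∃ k, t = k + 1 := ⟨t - 1, by omega⟩
    have hid : IsIdempotentElem ε := hεi
    rw [hk, hid.pow_succ_eq, ← hk]
    exact (hεc _)
  rw [h1] at h0
  have hPp : IsPGroup p (P : Subgroup G) := P.isPGroup'
  have h2 := congrArg (brC C) h0
  rw [map_zero, hC, brC_mul (P : Subgroup G) hPp (pInv_of_central _ hεc)
    (pInv_of_central _ hwt_central), brC_pow (P : Subgroup G) hPp hw_central, ← hC, hbr] at h2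
  obtain ⟨ε', hε'⟩ : ∃ ε' : MonoidAlgebra F G, ε' = brC C ε := ⟨_, rfl⟩
  rw [← hε'] at h2
  have haugε' : aug ε' = 1 := by
    rw [hε', hC, aug_brC (P : Subgroup G) hPp (pInv_of_central _ hεc), hεa]
  -- polynomial form of `wN`
  obtain ⟨Hp, hHp1, hHp2⟩ := exists_poly_wN (F := F) P hP hx
  rw [← hC, ← hN, ← he] at hHp1 hHp2
  rw [← hxh, ← hy, ← hwN] at hHp2
  obtain ⟨m, hm⟩ : ∃ m, m = p - 1 - e * t := ⟨_, rfl⟩
  have hetm : e * t + m = p - 1 := by
    have := Nat.mul_div_le (p - 1) e
    rw [← ht] at this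
    omega
  have hpoly : ((X - 1 : F[X]) ^ e * Hp) ^ t * (X - 1) ^ m =
      (∑ i ∈ Finset.range p, (X : F[X]) ^ i) * Hp ^ t := by
    rw [← sub_one_pow_eq_geom, ← hetm, mul_pow, ← pow_mul, pow_add]
    ring
  have h3 : wN ^ t * (xh - 1) ^ m = ((e : F) ^ t) • sigmaQ (Subgroup.zpowers x) := by
    have hx1 : (xh - 1 : MonoidAlgebra F G) = aeval xh (X - 1 : F[X]) := by
      rw [map_sub, aeval_X, map_one]
    rw [hHp2, hx1, ← map_pow, ← map_pow, ← map_mul, hpoly, map_mul, map_sum]
    simp only [map_pow, aeval_X]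
    rw [hxh, ← map_pow, geom_mul_aeval hxp, eval_pow, hHp1, sigmaQ_zpowers, hord]
  have h4 : ε' * sigmaQ (Subgroup.zpowers x) = 0 := by
    have h5 : ε' * (wN ^ t * (xh - 1) ^ m) = 0 := by
      rw [← mul_assoc, h2, zero_mul]
    rw [h3, mul_smul_comm] at h5
    exact (smul_eq_zero.mp h5).resolve_left (pow_ne_zero _ heF)
  have h6 := aug_eq_zero_of_mul_sigmaQ _ h4
  rw [haugε'] at h6
  exact one_ne_zero h6

end Cfsg.Agent.Lib.Helper77.DefOne
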