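import Mathlib
import Cfsg.Agent.Lib.Helper77.DefOneNil
import Cfsg.Agent.Lib.Helper77.GrpRed
import Cfsg.Agent.Lib.Helper58.DefOneM3
import Cfsg.Agent.Lib.Helper60.DefOneM5
import Cfsg.Agent.Lib.Helper4.DefOneT5
import Cfsg.Agent.Lib.Helper46.DefOneM8
import Cfsg.Agent.Lib.Helper15.DefOneM4Final

set_option autoImplicit false
set_option linter.unusedSectionVars false

namespace Cfsg.Agent.Lib.Helper77.DefOne

open MonoidAlgebra Cfsg.Agent.Lib.Helper77.GrpAlg Cfsg.Agent.Lib.Helper77.GrpRed

universe u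

section Generic
variable {F : Type*} [Field F] {G : Type*} [Group G] [Fintype G]
  {V : Type*} [AddCommGroup V] [Module F V] [FiniteDimensional F V]

/-- the trace functional of a representation -/
noncomputable def trFun (ρ : Representation F G V) : MonoidAlgebra F G →ₗ[F] F :=
  (LinearMap.trace F V) ∘ₗ ρ.asAlgebraHom.toLinearMap

theorem trFun_apply (ρ : Representation F G V) (a : MonoidAlgebra F G) :
    trFun ρ a = LinearMap.trace F V (ρ.asAlgebraHom a) := rfl

theorem trFun_mul_comm (ρ : Representation F G V) (a b : MonoidAlgebra F G) :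
    trFun ρ (a * b) = trFun ρ (b * a) := by
  rw [trFun_apply, trFun_apply, map_mul ρ.asAlgebraHom, map_mul ρ.asAlgebraHom]
  exact LinearMap.trace_mul_comm F _ _

/-- the central element representing the trace functional -/
noncomputable def trElt (ρ : Representation F G V) : MonoidAlgebra F G :=
  ∑ g : G, trFun ρ (single g⁻¹ 1) • single g (1 : F)

theorem coeff_trElt (ρ : Representation F G V) (g : G) :
    (trElt ρ).coeff g = trFun ρ (single g⁻¹ 1) := by
  classical
  unfold trElt
  rw [MonoidAlgebra.coeff_sum, Finsupp.finsetSum_apply, Finset.sum_eq_single g]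
  · simp
  · intro h _ hh
    rw [coeff_smul, coeff_single, Finsupp.smul_apply, Finsupp.single_apply, if_neg hh, smul_zero]
  · intro h; exact absurd (Finset.mem_univ _) h

theorem coeffOne_trElt_mul (ρ : Representation F G V) (b : MonoidAlgebra F G) :
    coeffOne (trElt ρ * b) = trFun ρ b := by
  rw [coeffOne_apply, coeff_mul_eq_sum]
  simp only [coeff_trElt, mul_one]
  conv_rhs => rw [eq_sum_single b, map_sum]
  rw [← Equiv.sum_comp (Equiv.inv G)]
  refine Finset.sum_congr rfl fun g _ => ?_
  rw [map_smul, smul_eq_mul, Equiv.inv_apply, inv_inv, mul_comm]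

theorem trElt_central (ρ : Representation F G V) : ∀ b, b * trElt ρ = trElt ρ * b := by
  intro b
  rw [← sub_eq_zero]
  apply eq_zero_of_coeffOne_mul
  intro c
  rw [sub_mul, map_sub, mul_assoc, coeffOne_mul_comm, mul_assoc, coeffOne_trElt_mul,
    mul_assoc, coeffOne_trElt_mul, trFun_mul_comm, sub_self]

theorem mul_trElt_of_scalar (ρ : Representation F G V) {a : MonoidAlgebra F G} {c : F}
    (ha : ρ.asAlgebraHom a = c • LinearMap.id) : a * trElt ρ = c • trElt ρ := by
  rw [← sub_eq_zero]
  apply eq_zero_of_coeffOne_mul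
  intro b
  rw [sub_mul, map_sub, mul_assoc, coeffOne_mul_comm, mul_assoc, coeffOne_trElt_mul,
    smul_mul_assoc, map_smul, coeffOne_trElt_mul, trFun_apply, map_mul ρ.asAlgebraHom, ha,
    trFun_apply]
  have : ρ.asAlgebraHom b * c • (LinearMap.id : V →ₗ[F] V) = c • ρ.asAlgebraHom b := by
    ext v; simp
  rw [this, map_smul, sub_self]

end Generic

section Family
variable {F : Type} [Field F] [IsAlgClosed F] {G : Type u} [Group G] [Fintype G] {p : ℕ}
  [Fact p.Prime] [CharP F p]

/-- `e = |N : C|` linearly independent central elements of `F[G]` on which the centre acts through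
the augmentation -/
theorem exists_central_family (P : Sylow p G) (hP : Nat.card P = p) :
    ∃ (ι : Type u) (_ : Fintype ι) (z : ι → MonoidAlgebra F G),
      Fintype.card ι = (Subgroup.centralizer ((P : Subgroup G) : Set G)).relIndex
        (Subgroup.normalizer ((P : Subgroup G) : Set G)) ∧
      LinearIndependent F z ∧ (∀ i b, b * z i = z i * b) ∧
      ∀ i (a : MonoidAlgebra F G), (∀ b, b * a = a * b) → a * z i = aug a • z i := by
  classical
  obtain ⟨Ω, hΩ⟩ : ∃ Ω : Type u, Ω = {μ : Subgroup.normalizer ((P : Subgroup G) : Set G) →* Fˣ //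
      ∀ n : Subgroup.normalizer ((P : Subgroup G) : Set G),
        (n : G) ∈ Subgroup.centralizer ((P : Subgroup G) : Set G) → μ n = 1} := ⟨_, rfl⟩
  subst hΩ
  have hcard := Cfsg.Agent.Lib.Helper46.DefOneM8.M8 (F := F) P hP
  have hpos : 0 < (Subgroup.centralizer ((P : Subgroup G) : Set G)).relIndex
      (Subgroup.normalizer ((P : Subgroup G) : Set G)) :=
    Nat.card_pos (α := Subgroup.normalizer ((P : Subgroup G) : Set G) ⧸
      (Subgroup.centralizer ((P : Subgroup G) : Set G)).subgroupOf
        (Subgroup.normalizer ((P : Subgroup G) : Set G)))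
  haveI hfin : Finite {μ : Subgroup.normalizer ((P : Subgroup G) : Set G) →* Fˣ //
      ∀ n : Subgroup.normalizer ((P : Subgroup G) : Set G),
        (n : G) ∈ Subgroup.centralizer ((P : Subgroup G) : Set G) → μ n = 1} :=
    Nat.finite_of_card_ne_zero (by rw [hcard]; exact hpos.ne')
  letI hft : Fintype {μ : Subgroup.normalizer ((P : Subgroup G) : Set G) →* Fˣ //
      ∀ n : Subgroup.normalizer ((P : Subgroup G) : Set G),
        (n : G) ∈ Subgroup.centralizer ((P : Subgroup G) : Set G) → μ n = 1} := Fintype.ofFinite _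
  choose V i1 i2 i3 ρ hirr zz hzz using fun μ : {μ : Subgroup.normalizer ((P : Subgroup G) : Set G) →* Fˣ //
      ∀ n : Subgroup.normalizer ((P : Subgroup G) : Set G),
        (n : G) ∈ Subgroup.centralizer ((P : Subgroup G) : Set G) → μ n = 1} =>
    Cfsg.Agent.Lib.Helper58.DefOneM3.M3 (F := F) P hP μ.1
  letI : ∀ μ, AddCommGroup (V μ) := i1
  letI : ∀ μ, Module F (V μ) := i2
  haveI : ∀ μ, FiniteDimensional F (V μ) := i3
  refine ⟨_, hft, fun μ => trElt (ρ μ), ?_, ?_, fun μ => trElt_central (ρ μ), ?_⟩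
  · rw [← hcard, Nat.card_eq_fintype_card]
  · have hne : ∀ μ μ', μ ≠ μ' → ∀ f : V μ →ₗ[F] V μ', (∀ g, f ∘ₗ ρ μ g = ρ μ' g ∘ₗ f) → f = 0 := by
      intro μ μ' hμ f hf
      haveI := hirr μ
      haveI := hirr μ'
      exact Cfsg.Agent.Lib.Helper15.DefOne.M4b P hP (ρ μ) (ρ μ') μ.1 μ'.1 (zz μ) (zz μ')
        (hzz μ) (hzz μ') f hf (fun h => hμ (Subtype.ext h))
    have hind := Cfsg.Agent.Lib.Helper60.DefOne.M5 V ρ hirr hne
    rw [Fintype.linearIndependent_iff] at hind ⊢
    intro c hc μ
    apply hind c ?_ μ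
    refine LinearMap.ext fun b => ?_
    have h1 := congrArg (fun y => coeffOne (y * b)) hc
    simp only [Finset.sum_mul, map_sum, smul_mul_assoc, map_smul, coeffOne_trElt_mul, zero_mul,
      map_zero] at h1
    rw [LinearMap.sum_apply, LinearMap.zero_apply]
    simpa [trFun] using h1
  · intro μ a ha
    haveI := hirr μ
    exact mul_trElt_of_scalar (ρ μ)
      (Cfsg.Agent.Lib.Helper4.DefOneT5.T5 P hP (ρ μ) μ.1 μ.2 (zz μ) (hzz μ) a ha)

end Family

end Cfsg.Agent.Lib.Helper77.DefOne
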