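import Mathlib
import Cfsg.Agent.Lib.Helper77.DefOneFamily
import Cfsg.Agent.Lib.Helper77.BlockTwo
import Cfsg.Agent.Lib.Helper78.CharMore

set_option autoImplicit false
set_option linter.unusedSectionVars false

namespace Cfsg.Agent.Lib.Helper77.DefOne

open Cfsg MonoidAlgebra Module Cfsg.Agent.Lib.Helper16 Cfsg.Agent.Lib.Helper77
  Cfsg.Agent.Lib.Helper77.GrpAlg Cfsg.Agent.Lib.Helper77.GrpRed Cfsg.Agent.Lib.Helper77.Modular
  Cfsg.Agent.Lib.Helper77.BlockDimC Cfsg.Agent.Lib.Helper77.BlockQuot
  Cfsg.Agent.Lib.Helper77.BlockRed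

section Indep
variable {F : Type*} [Field F] {Q : Type*} [Ring Q] [Algebra F Q] {ι : Type*} [Fintype ι]

theorem mul_pow_eq_zero_of_mul_eq_zero {r x : Q} (h : r * x = 0) {m : ℕ} (hm : 1 ≤ m) :
    r ^ m * x = 0 := by
  obtain ⟨k, rfl⟩ : ∃ k, m = k + 1 := ⟨m - 1, by omega⟩
  rw [pow_succ, mul_assoc, h, mul_zero]

/-- socle elements together with the low powers of a nilpotent element are independent -/
theorem linearIndependent_sum_pow (u : ι → Q) (r : Q) (t : ℕ) (hu : LinearIndependent F u)
    (hru : ∀ i, r * u i = 0) (hr : IsNilpotent r) (hrt : r ^ t ≠ 0) :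
    LinearIndependent F (Sum.elim u (fun j : Fin t => r ^ (j : ℕ))) := by
  classical
  obtain ⟨n₀, hn₀, hn₀'⟩ : ∃ n₀, r ^ n₀ ≠ 0 ∧ r ^ (n₀ + 1) = 0 := by
    obtain ⟨k, hk⟩ := hr
    have hex : ∃ k, r ^ k = 0 := ⟨k, hk⟩
    have h0 : Nat.find hex ≠ 0 := by
      intro h0
      have := Nat.find_spec hex
      rw [h0, pow_zero] at this
      apply hrt
      rw [← mul_one (r ^ t), this, mul_zero]
    refine ⟨Nat.find hex - 1, Nat.find_min hex (by omega), ?_⟩
    have := Nat.find_spec hex
    rwa [show Nat.find hex - 1 + 1 = Nat.find hex by omega]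
  have hbig : ∀ m, n₀ + 1 ≤ m → r ^ m = 0 := by
    intro m hm
    obtain ⟨k, rfl⟩ : ∃ k, m = n₀ + 1 + k := ⟨m - (n₀ + 1), by omega⟩
    rw [pow_add, hn₀', zero_mul]
  have htn : t ≤ n₀ := by
    by_contra h
    exact hrt (hbig t (by omega))
  rw [Fintype.linearIndependent_iff]
  intro c hc
  rw [Fintype.sum_sum_type] at hc
  simp only [Sum.elim_inl, Sum.elim_inr] at hc
  have hd : ∀ m, ∀ j : Fin t, (j : ℕ) = m → c (Sum.inr j) = 0 := by
    intro m
    induction m using Nat.strong_induction_on with
    | _ m ih =>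
      intro j hj
      have hjt : (j : ℕ) < t := j.2
      have h1 := congrArg (fun y => r ^ (n₀ - m) * y) hc
      simp only [mul_add, Finset.mul_sum, mul_smul_comm, mul_zero] at h1
      have h2 : ∑ i, c (Sum.inl i) • (r ^ (n₀ - m) * u i) = 0 := by
        apply Finset.sum_eq_zero
        intro i _
        rw [mul_pow_eq_zero_of_mul_eq_zero (hru i) (by omega), smul_zero]
      rw [h2, zero_add, Finset.sum_eq_single j] at h1
      · rw [← pow_add, hj, show n₀ - m + m = n₀ by omega] at h1
        exact (smul_eq_zero.mp h1).resolve_right hn₀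
      · intro k _ hk
        rcases lt_or_gt_of_ne (fun h => hk (Fin.ext h) : (k : ℕ) ≠ (j : ℕ)) with hlt | hgt
        · rw [ih (k : ℕ) (by omega) k rfl, zero_smul]
        · rw [← pow_add, hbig _ (by omega), smul_zero]
      · intro h; exact absurd (Finset.mem_univ _) h
  have hd' : ∀ j : Fin t, c (Sum.inr j) = 0 := fun j => hd _ j rfl
  have hc' : ∑ i, c (Sum.inl i) • u i = 0 := by
    rw [← hc]
    have : ∑ j : Fin t, c (Sum.inr j) • r ^ (j : ℕ) = 0 := by
      apply Finset.sum_eq_zero
      intro j _
      rw [hd' j, zero_smul]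
    rw [this, add_zero]
  have hcu := Fintype.linearIndependent_iff.mp hu (fun i => c (Sum.inl i)) hc'
  rintro (i | j)
  · exact hcu i
  · exact hd' j

/-- the resulting lower bound for the dimension of the centre -/
theorem card_add_le_finrank_center [FiniteDimensional F Q] (u : ι → Q) (r : Q) (t : ℕ)
    (hu : LinearIndependent F u) (huc : ∀ i, u i ∈ Subalgebra.center F Q)
    (hrc : r ∈ Subalgebra.center F Q)
    (hru : ∀ i, r * u i = 0) (hr : IsNilpotent r) (hrt : r ^ t ≠ 0) :
    Fintype.card ι + t ≤ finrank F (Subalgebra.center F Q) := by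
  classical
  have hind := linearIndependent_sum_pow u r t hu hru hr hrt
  have hmem : ∀ k : ι ⊕ Fin t, Sum.elim u (fun j : Fin t => r ^ (j : ℕ)) k ∈
      Subalgebra.center F Q := by
    rintro (i | j)
    · exact huc i
    · exact (Subalgebra.center F Q).pow_mem hrc _
  have hind' : LinearIndependent F
      (fun k : ι ⊕ Fin t => (⟨Sum.elim u (fun j : Fin t => r ^ (j : ℕ)) k, hmem k⟩ :
        Subalgebra.center F Q)) := by
    apply LinearIndependent.of_comp (Subalgebra.center F Q).val.toLinearMap
    exact hind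
  have := hind'.fintype_card_le_finrank
  simpa using this

end Indep

section Main

theorem aug_pow {F : Type*} [Field F] {G : Type*} [Group G] [Fintype G]
    (a : MonoidAlgebra F G) (n : ℕ) : aug (a ^ n) = aug a ^ n := by
  induction n with
  | zero => rw [pow_zero, pow_zero, aug_one]
  | succ n ih => rw [pow_succ, pow_succ, aug_mul, ih]

/-- `k(B₀) ≥ e + (p-1)/e` when a Sylow `p`-subgroup has order `p` -/
theorem card_principalBlock_ge_of_fintype {G : Type*} [Group G] [Fintype G] (p : ℕ)
    [hp : Fact p.Prime] (M : Ideal AlgInt) (hM : IsPModular p M) (P : Sylow p G)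
    (hP : Nat.card P = p) :
    (Subgroup.centralizer ((P : Subgroup G) : Set G)).relIndex
        (Subgroup.normalizer ((P : Subgroup G) : Set G)) +
      (p - 1) / (Subgroup.centralizer ((P : Subgroup G) : Set G)).relIndex
        (Subgroup.normalizer ((P : Subgroup G) : Set G)) ≤ Nat.card (principalBlock M G) := by
  classical
  have hMp : M.IsPrime := isPModular_isPrime hM
  have hchar : CharP (ResF M) p := by
    apply (CharP.charP_iff_prime_eq_zero hp.out).mpr
    have h1 : (p : ResF M) = Ideal.Quotient.mk (localIdeal M) (p : localSubring M) :=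
      (map_natCast _ p).symm
    rw [h1, Ideal.Quotient.eq_zero_iff_mem, mem_localIdeal]
    exact memLocalIdeal_p hM
  obtain ⟨B, hBdef⟩ : ∃ B, B = principalBlock M G := ⟨_, rfl⟩
  rw [← hBdef]
  obtain ⟨triv, htrivdef⟩ : ∃ triv : IrrCharacter G, triv =
      ⟨fun _ => 1, Cfsg.Agent.Lib.Helper78.isIrrCharacter_one⟩ := ⟨_, rfl⟩
  have htriv1 : ∀ g, (triv : G → ℂ) g = 1 := by
    intro g; rw [htrivdef]
  have hB : IsPBlock M B := ⟨triv, by rw [hBdef, htrivdef]; rfl⟩
  have htriv : triv ∈ B := by
    rw [hBdef]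
    have := self_mem_blockOf hMp.ne_top triv
    rw [htrivdef] at this ⊢
    exact this
  obtain ⟨eR, heRC, heR, hcR⟩ := exists_blockIdem_local hB
  have hπ := algebraMap_resF_surjective (M := M)
  have hker := algebraMap_resF_ker (M := M)
  obtain ⟨eF, heF'⟩ : ∃ eF : MonoidAlgebra (ResF M) G, eF = bc (ResF M) eR := ⟨_, rfl⟩
  have hcF : ∀ b, b * eF = eF * b := by
    intro b
    obtain ⟨b₀, rfl⟩ := bc_surjective (G := G) (ResF M) hπ b
    rw [heF', ← map_mul, ← map_mul, hcR]
  have heF : eF * eF = eF := by
    rw [heF', ← map_mul, heR]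
  have hI : (annI eF).IsTwoSided := annI_isTwoSided hcF
  have hfd : FiniteDimensional (ResF M) (Quo eF) := finiteDimensional_quo eF
  have hcenter : finrank (ResF M) (Subalgebra.center (ResF M) (Quo eF)) = Nat.card B := by
    rw [finrank_center_quo eF hcF heF classProj classProj_central
      (fun a ha => classProj_of_central ha), heF',
      finrank_range_mulLeft_classProj (K := ℂ) hπ hker heR hcR, heRC,
      finrank_range_mulLeft_classProj_idemOf]
  -- the augmentation of the block idempotent
  have haug : aug eF = 1 := by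
    rw [heF', aug_apply]
    simp only [coeff_bc]
    rw [← map_sum, ← map_one (algebraMap (localSubring M) (ResF M))]
    congr 1
    apply algebraMap_complex_injective (M := M)
    rw [map_sum, map_one]
    have h1 : ∀ g, algebraMap (localSubring M) ℂ (eR.coeff g) = blockCoeff B g := by
      intro g
      rw [← coeff_bc ℂ eR g, heRC, coeff_idemOf]
    simp only [h1]
    have h := sum_blockCoeff_mul B triv
    simp only [htriv1, mul_one] at h
    rw [h, if_pos htriv]
  obtain ⟨w, hwc, hwaug, hwpow⟩ := exists_central_nilpotent (F := ResF M) P hP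
  obtain ⟨ι, hι, z, hcard, hzind, hzc, hza⟩ := exists_central_family (F := ResF M) P hP
  rw [← hcenter, ← hcard]
  rw [← hcard] at hwpow
  have hze : ∀ i, z i * eF = z i := by
    intro i
    rw [← hzc i eF, hza i eF hcF, haug, one_smul]
  refine card_add_le_finrank_center (fun i => Ideal.Quotient.mk (annI eF) (z i))
    (Ideal.Quotient.mk (annI eF) w) _ ?_ (fun i => mk_mem_center eF (hzc i))
    (mk_mem_center eF hwc) ?_ ?_ ?_
  · -- independence
    apply LinearIndependent.of_comp (theta (F := ResF M) eF)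
    have : (theta (F := ResF M) eF) ∘ (fun i => Ideal.Quotient.mk (annI eF) (z i)) = z := by
      funext i
      rw [Function.comp_apply, theta_mk, hze]
    rw [this]
    exact hzind
  · intro i
    rw [← map_mul, hza i w hwc, hwaug, zero_smul, map_zero]
  · -- nilpotent
    obtain ⟨c, hc⟩ := exists_nilpotent hB heRC hwc
    rw [← heF'] at hc
    obtain ⟨n, hn⟩ := hc
    have h1 := congrArg aug hn
    rw [aug_pow, aug_mul, haug, one_mul, map_sub, hwaug, zero_sub, map_zero,
      algebraMap_eq_single, aug_single] at h1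
    have hc0 : c = 0 := by
      have hn0 : n ≠ 0 := by
        intro h0
        rw [h0, pow_zero] at h1
        exact one_ne_zero h1
      exact neg_eq_zero.mp ((pow_eq_zero_iff hn0).mp h1)
    rw [hc0, map_zero, sub_zero] at hn
    refine ⟨n, ?_⟩
    have h2 := congrArg (Ideal.Quotient.mk (annI eF)) hn
    rw [map_pow, map_mul, mk_e eF heF, one_mul, map_zero] at h2
    exact h2
  · -- the power is nonzero
    intro h0
    apply hwpow eF hcF heF haug
    obtain ⟨t, ht⟩ : ∃ t, t = (p - 1) / Fintype.card ι := ⟨_, rfl⟩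
    rw [← ht] at h0 ⊢
    rw [← map_pow, Ideal.Quotient.eq_zero_iff_mem, mem_annI] at h0
    rcases Nat.eq_zero_or_pos t with ht0 | ht0
    · exfalso
      rw [ht0, pow_zero, one_mul] at h0
      rw [h0, map_zero] at haug
      exact zero_ne_one haug
    · have hcomm : Commute w eF := (hcF w)
      rw [hcomm.mul_pow, (show eF ^ t = eF from ?_), h0]
      obtain ⟨k, rfl⟩ : ∃ k, t = k + 1 := ⟨t - 1, by omega⟩
      clear h0 ht ht0
      induction k with
      | zero => rw [zero_add, pow_one]
      | succ k ih => rw [pow_succ, ih, heF]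

/-- the lower bound for `k(B₀)`, in the form used by the defect-one endgame -/
theorem card_principalBlock_ge {G : Type*} [Group G] [Finite G] (p : ℕ) [Fact p.Prime]
    (M : Ideal AlgInt) (hM : IsPModular p M) (P : Sylow p G) (hP : Nat.card P = p) (e : ℕ)
    (he : (Subgroup.centralizer ((P : Subgroup G) : Set G)).relIndex
      (Subgroup.normalizer ((P : Subgroup G) : Set G)) = e) :
    e + (p - 1) / e ≤ Nat.card (principalBlock M G) := by
  letI := Fintype.ofFinite G
  subst he
  exact card_principalBlock_ge_of_fintype p M hM P hP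

end Main

end Cfsg.Agent.Lib.Helper77.DefOne
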