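import Cfsg.Agent.Lib.Helper77.KnorrHard

set_option autoImplicit false
set_option linter.unusedSectionVars false
set_option linter.style.haveILetI false

namespace Cfsg.Agent.Lib.Helper77

open Cfsg MonoidAlgebra Cfsg.Agent.Lib.Helper16
open scoped ComplexConjugate

section Conj

variable {G : Type*} [Group G]

theorem centralizer_singleton_conj (g x : G) :
    Subgroup.centralizer ({x * g * x⁻¹} : Set G) =
      (Subgroup.centralizer ({g} : Set G)).map (MulAut.conj x).toMonoidHom := by
  ext y
  rw [mem_map_conj_iff, Subgroup.mem_centralizer_singleton_iff,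
    Subgroup.mem_centralizer_singleton_iff]
  constructor
  · intro h
    calc x⁻¹ * y * x * g = x⁻¹ * (y * (x * g * x⁻¹)) * x := by group
      _ = x⁻¹ * ((x * g * x⁻¹) * y) * x := by rw [h]
      _ = g * (x⁻¹ * y * x) := by group
  · intro h
    calc y * (x * g * x⁻¹) = x * ((x⁻¹ * y * x) * g) * x⁻¹ := by group
      _ = x * (g * (x⁻¹ * y * x)) * x⁻¹ := by rw [h]
      _ = x * g * x⁻¹ * y := by group

/-- A conjugate of a defect group is a defect group. -/
theorem isDefectGroup_map_conj [Finite G] {p : ℕ} [Fact p.Prime] {M : Ideal AlgInt}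
    {B : Set (IrrCharacter G)} {P : Subgroup G} (hP : IsDefectGroup p M B P) (x : G) :
    IsDefectGroup p M B (P.map (MulAut.conj x).toMonoidHom) := by
  classical
  haveI := Fintype.ofFinite G
  obtain ⟨g, hg, P₀, rfl⟩ := hP
  refine ⟨x * g * x⁻¹, isDefectClass_conj hg x, ?_⟩
  have hTC' : ((P₀ : Subgroup (Subgroup.centralizer ({g} : Set G))).map
      (Subgroup.centralizer ({g} : Set G)).subtype).map (MulAut.conj x).toMonoidHom ≤
      Subgroup.centralizer ({x * g * x⁻¹} : Set G) := by
    rw [centralizer_singleton_conj]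
    exact Subgroup.map_mono (Subgroup.map_subtype_le _)
  have hcardT : Nat.card (((P₀ : Subgroup (Subgroup.centralizer ({g} : Set G))).map
      (Subgroup.centralizer ({g} : Set G)).subtype).map (MulAut.conj x).toMonoidHom) =
      p ^ (Nat.card (Subgroup.centralizer ({g} : Set G))).factorization p := by
    rw [Subgroup.card_map_of_injective (MulAut.conj x).injective,
      Subgroup.card_map_of_injective (Subgroup.subtype_injective _), Sylow.card_eq_multiplicity]
  have hcardC : Nat.card (Subgroup.centralizer ({x * g * x⁻¹} : Set G)) =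
      Nat.card (Subgroup.centralizer ({g} : Set G)) := by
    rw [centralizer_singleton_conj, Subgroup.card_map_of_injective (MulAut.conj x).injective]
  have hcardS : Nat.card ((((P₀ : Subgroup (Subgroup.centralizer ({g} : Set G))).map
      (Subgroup.centralizer ({g} : Set G)).subtype).map (MulAut.conj x).toMonoidHom).subgroupOf
      (Subgroup.centralizer ({x * g * x⁻¹} : Set G))) =
      p ^ (Nat.card (Subgroup.centralizer ({x * g * x⁻¹} : Set G))).factorization p := by
    rw [hcardC, ← hcardT]
    exact Nat.card_congr (Subgroup.subgroupOfEquivOfLe hTC').toEquiv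
  refine ⟨Sylow.ofCard _ hcardS, ?_⟩
  rw [Sylow.coe_ofCard, Subgroup.map_subgroupOf_eq_of_le hTC']

end Conj

section Easy

variable {G : Type*} [Group G] [Fintype G] (N : Subgroup G) [hN : N.Normal] [Fintype N]
  {M : Ideal AlgInt}

/-- **Easy half of Knörr's theorem** (stable case): if the block `B` of `G` with defect group `D`
covers the `G`-stable block `b` of the normal subgroup `N`, then `D ∩ N` is contained in an
`N`-conjugate of any defect group of `b`. -/
theorem exists_conj_inf_le_of_covers_stable {p : ℕ} [Fact p.Prime] (hM : IsPModular p M)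
    {B : Set (IrrCharacter G)} {b : Set (IrrCharacter N)}
    (hB : IsPBlock M B) (hb : IsPBlock M b) (hst : IsGStable N b)
    (hcov : ∃ χ ∈ B, ∃ θ ∈ b, classInner (fun n : N => (χ : G → ℂ) n) (θ : N → ℂ) ≠ 0)
    {Q : Subgroup N} (hQ : IsDefectGroup p M b Q) {D : Subgroup G}
    (hD : IsDefectGroup p M B D) :
    ∃ x : N, ((D ⊓ N).subgroupOf N).map (MulAut.conj x).toMonoidHom ≤ Q := by
  classical
  haveI hMp := isPModular_isPrime hM
  have hbe := extend_idemOf_mul_idemOf N hB hb hst hcov
  set e := idemOf B with he_def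
  set eb := extend N (idemOf b) with heb_def
  have he_c : e ∈ Subalgebra.center ℂ (MonoidAlgebra ℂ G) := idemOf_mem_center B
  have heb_c : eb ∈ Subalgebra.center ℂ (MonoidAlgebra ℂ G) := by
    rw [heb_def, extend_idemOf_eq_stableElt]
    exact stableElt_mem_center N hst
  have heR : CoeffsInRing M e := fun g => by
    rw [coeff_idemOf]; exact blockCoeff_memLocalRing hB g
  have hebR : CoeffsInRing M eb := CoeffsInRing.extend hMp.ne_top N (fun n => by
    rw [coeff_idemOf]; exact blockCoeff_memLocalRing hb n)
  have hmul : e * eb = e := by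
    rw [← (Subalgebra.mem_center_iff.mp he_c) eb]
    exact hbe
  obtain ⟨g₀, hg₀, P₀, hDP⟩ := id hD
  have hDp : IsPGroup p D := by
    rw [hDP]
    exact (P₀.isPGroup'.map _)
  have hg₀D : g₀ ∈ Subgroup.centralizer (D : Set G) := by
    rw [Subgroup.mem_centralizer_iff]
    intro d hd
    rw [hDP] at hd
    obtain ⟨w, -, rfl⟩ := hd
    have h2 := w.2
    rw [Subgroup.mem_centralizer_singleton_iff] at h2
    exact h2
  haveI : Fintype (Subgroup.centralizer (D : Set G)) := Fintype.ofFinite _
  have hbr := coeffsInIdeal_trunc_mul hM D hDp heR hebR (conjInv_of_mem_center D he_c)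
    (conjInv_of_mem_center D heb_c) ⟨g₀, hg₀D⟩
  rw [coeff_sub, Finsupp.sub_apply, coeff_trunc, hmul, coeff_idemOf] at hbr
  -- some coefficient of `eb` on `C_G(D)` is a unit
  have hex : ∃ g : Subgroup.centralizer (D : Set G), ¬ MemLocalIdeal M (eb.coeff (g : G)) := by
    by_contra hcon
    push Not at hcon
    have h2 : CoeffsInIdeal M (trunc (Subgroup.centralizer (D : Set G)) eb) := by
      intro g
      rw [coeff_trunc]
      exact hcon g
    have h3 := CoeffsInIdeal.mul_left
      (CoeffsInRing.trunc (Subgroup.centralizer (D : Set G)) heR) h2 ⟨g₀, hg₀D⟩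
    have := memLocalIdeal_add hbr h3
    rw [sub_add_cancel] at this
    exact hg₀.2.1 this
  obtain ⟨g, hg⟩ := hex
  have hgN : (g : G) ∈ N := by
    by_contra hgN
    apply hg
    rw [heb_def, coeff_extend_of_not_mem N _ hgN]
    exact memLocalIdeal_zero hMp.ne_top
  rw [heb_def, coeff_extend_of_mem N _ hgN, coeff_idemOf] at hg
  have hPp : IsPGroup p ((D ⊓ N).subgroupOf N) :=
    (hDp.to_le inf_le_left).comap_subtype
  refine (Cfsg.Agent.S0959.result p M hM b hb Q hQ _ hPp).mp
    ⟨⟨(g : G), hgN⟩, blockCoeff_memLocalRing hb _, hg, ⟨(g : G), hgN⟩, IsConj.refl _, ?_⟩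
  rw [Subgroup.mem_centralizer_iff]
  intro q hq
  rw [SetLike.mem_coe, Subgroup.mem_subgroupOf] at hq
  have h1 := Subgroup.mem_centralizer_iff.mp g.2 (q : G) hq.1
  exact Subtype.ext h1

end Easy

end Cfsg.Agent.Lib.Helper77
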