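import Mathlib
import Cfsg.Agent.Lib.Helper77.BlockRed

set_option autoImplicit false
set_option linter.unusedSectionVars false

namespace Cfsg.Agent.Lib.Helper77.BlockRed

open Cfsg MonoidAlgebra Module Cfsg.Agent.Lib.Helper16 Cfsg.Agent.Lib.Helper77
  Cfsg.Agent.Lib.Helper77.GrpAlg Cfsg.Agent.Lib.Helper77.GrpRed Cfsg.Agent.Lib.Helper77.Modular
  Cfsg.Agent.Lib.Helper77.BlockDimC
open scoped ComplexConjugate

variable {G : Type*} [Group G] [Fintype G] {M : Ideal AlgInt} [hMp : M.IsPrime]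

/-- a central element of `R[G]` is central after base change to `ℂ` -/
theorem bc_central_of_central {S : Type*} [CommRing S] [Algebra (localSubring M) S]
    (hS : Function.Surjective (algebraMap (localSubring M) S))
    {aR : MonoidAlgebra (localSubring M) G} (haR : ∀ b, b * aR = aR * b) :
    ∀ b, b * bc S aR = bc S aR * b := by
  intro b
  obtain ⟨b₀, rfl⟩ := bc_surjective (G := G) S hS b
  rw [← map_mul, ← map_mul, haR]

/-- the explicit form of `exists_nilpotent`: for a central element `aR` of `R[G]` and `χ₁ ∈ B`,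
the element `e_B (ā - \overline{ω_{χ₁}(a)})` of `F[G]` is nilpotent -/
theorem nilpotent_of_lift {B : Set (IrrCharacter G)} (hB : IsPBlock M B)
    {eR : MonoidAlgebra (localSubring M) G} (heR : bc ℂ eR = idemOf B)
    (aR : MonoidAlgebra (localSubring M) G) (haR : ∀ b, b * aR = aR * b)
    {χ₁ : IrrCharacter G} (hχ₁ : χ₁ ∈ B) :
    ∃ r : localSubring M, (r : ℂ) = (∑ g : G, ((aR.coeff g : localSubring M) : ℂ) *
        (χ₁ : G → ℂ) g) / (χ₁ : G → ℂ) 1 ∧
      IsNilpotent (bc (ResF M) eR * (bc (ResF M) aR -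
        algebraMap (ResF M) _ (algebraMap (localSubring M) (ResF M) r))) := by
  classical
  have hzc : bc ℂ aR ∈ Subalgebra.center ℂ (MonoidAlgebra ℂ G) := by
    apply mem_center_of_central
    intro b
    have hspan := span_range_bc (R := localSubring M) (G := G) ℂ
    -- centrality over `ℂ` : check on the span of the image of `R[G]`
    have : b ∈ Submodule.span ℂ (Set.range
        (bc ℂ : MonoidAlgebra (localSubring M) G →ₐ[localSubring M] MonoidAlgebra ℂ G).toLinearMap) := by
      rw [hspan]; exact Submodule.mem_top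
    induction this using Submodule.span_induction with
    | mem x hx =>
      obtain ⟨b₀, rfl⟩ := hx
      rw [AlgHom.toLinearMap_apply, ← map_mul, ← map_mul, haR]
    | zero => rw [zero_mul, mul_zero]
    | add x y _ _ hx hy => rw [add_mul, mul_add, hx, hy]
    | smul c x _ hx => rw [smul_mul_assoc, mul_smul_comm, hx]
  obtain ⟨z, hz⟩ : ∃ z : Subalgebra.center ℂ (MonoidAlgebra ℂ G), z = ⟨bc ℂ aR, hzc⟩ := ⟨_, rfl⟩
  have hzval : (z : MonoidAlgebra ℂ G) = bc ℂ aR := by rw [hz]
  have hzO : z ∈ centerOrder G M := by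
    intro g
    rw [hzval, coeff_bc]
    exact (aR.coeff g).2
  have hw₁ : MemLocalRing M (omegaHom χ₁ z) := omegaHom_memLocalRing χ₁ hzO
  obtain ⟨wR, hwR⟩ : ∃ wR : localSubring M, wR = ⟨omegaHom χ₁ z, hw₁⟩ := ⟨_, rfl⟩
  have hwRval : (wR : ℂ) = omegaHom χ₁ z := by rw [hwR]
  refine ⟨wR, ?_, Nat.card (IrrCharacter G), ?_⟩
  · rw [hwRval, omegaHom_apply]
    unfold omega
    rw [hzval]
    simp only [coeff_bc]
    rfl
  -- the element `y`
  obtain ⟨y, hy⟩ : ∃ y : Subalgebra.center ℂ (MonoidAlgebra ℂ G),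
      y = idemC B * (z - algebraMap ℂ _ (omegaHom χ₁ z)) := ⟨_, rfl⟩
  have hyO : y ∈ centerOrder G M := by
    rw [hy]
    exact (centerOrder G M).mul_mem (idemC_mem_centerOrder hB)
      ((centerOrder G M).sub_mem hzO (algebraMap_mem_centerOrder hw₁))
  have hω : ∀ ψ : IrrCharacter G, MemLocalIdeal M (omegaHom ψ y) := by
    intro ψ
    rw [hy, map_mul, omegaHom_idemC, map_sub, AlgHom.commutes]
    by_cases hψ : ψ ∈ B
    · rw [if_pos hψ, one_mul]
      exact sameBlock_omegaHom_congr (sameBlock_of_mem hB hψ hχ₁) hzO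
    · rw [if_neg hψ, zero_mul]
      exact memLocalIdeal_zero hMp.ne_top
  have hpow := exists_pow_coeffsInIdeal hyO hω
  obtain ⟨yR, hyR⟩ : ∃ yR : MonoidAlgebra (localSubring M) G,
      yR = eR * (aR - single 1 wR) := ⟨_, rfl⟩
  have hyRC : bc ℂ yR = (y : MonoidAlgebra ℂ G) := by
    rw [hyR, hy, map_mul, map_sub, heR, bc_single, algebraMap_complex_apply, hwRval]
    push_cast
    rw [hzval, algebraMap_eq_single]
    rfl
  have hyRF : bc (ResF M) yR =
      bc (ResF M) eR * (bc (ResF M) aR -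
        algebraMap (ResF M) _ (algebraMap (localSubring M) (ResF M) wR)) := by
    rw [hyR, map_mul, map_sub, bc_single, algebraMap_eq_single]
  rw [← hyRF, ← map_pow]
  ext g
  rw [coeff_bc, coeff_zero, Finsupp.zero_apply, algebraMap_resF_eq_zero, mem_localIdeal]
  have h1 := hpow g
  have h2 : ((y ^ Nat.card (IrrCharacter G) : Subalgebra.center ℂ (MonoidAlgebra ℂ G)) :
      MonoidAlgebra ℂ G) = bc ℂ (yR ^ Nat.card (IrrCharacter G)) := by
    rw [map_pow, hyRC]
    rfl
  rw [h2, coeff_bc] at h1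
  exact h1

end Cfsg.Agent.Lib.Helper77.BlockRed
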