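import Mathlib
import Cfsg.Agent.Lib.Helper77.DefOneFamily
import Cfsg.Agent.Lib.Helper77.BlockRed2
import Cfsg.Agent.Lib.Helper80.DefOneRED
import Cfsg.Agent.Lib.Helper80.DefOneGT3
import Cfsg.Agent.Lib.Helper80.DefOneGT4
import Cfsg.Agent.Lib.Helper75.DefOneGT5
import Cfsg.Agent.Lib.Helper75.DefOneCH0
import Cfsg.Agent.Lib.Helper74.DefOneLAM

set_option autoImplicit false
set_option linter.unusedSectionVars false
set_option linter.style.haveILetI false

namespace Cfsg.Agent.Lib.Helper77.DefOne

open Cfsg MonoidAlgebra Module Cfsg.Agent.Lib.Helper16 Cfsg.Agent.Lib.Helper77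
  Cfsg.Agent.Lib.Helper77.GrpAlg Cfsg.Agent.Lib.Helper77.GrpRed Cfsg.Agent.Lib.Helper77.Modular
  Cfsg.Agent.Lib.Helper77.BlockRed Cfsg.Agent.Lib.Helper80.DefOneGen
  Cfsg.Agent.Lib.Helper75.DefOneGen

universe u

/-- transport of a stable map along an isomorphism of irreducible representations -/
theorem isStableMap_comp {F : Type*} [Field F] {G : Type*} [Group G] [Fintype G]
    {V V' W : Type*} [AddCommGroup V] [Module F V] [AddCommGroup V'] [Module F V']
    [AddCommGroup W] [Module F W] (P : Subgroup G)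
    (ρ : Representation F G V) (ρ' : Representation F G V')
    (ρW : Representation F (Subgroup.normalizer (P : Set G)) W) (f : W →ₗ[F] V)
    (hf : IsStableMap ρ P ρW f) (φ : V ≃ₗ[F] V') (hφ : ∀ g v, φ (ρ g v) = ρ' g (φ v)) :
    IsStableMap ρ' P ρW (φ.toLinearMap ∘ₗ f) := by
  classical
  constructor
  · intro n w
    rw [LinearMap.comp_apply, LinearEquiv.coe_coe, ← hφ, hf.1]
    rfl
  · intro w hw
    apply hf.2
    obtain ⟨v, hv⟩ := hw
    refine ⟨φ.symm v, ?_⟩
    apply φ.injective
    rw [LinearMap.comp_apply, LinearEquiv.coe_coe] at hv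
    rw [← hv, trOne_apply, trOne_apply, map_sum]
    refine Finset.sum_congr rfl fun g _ => ?_
    rw [hφ, LinearEquiv.apply_symm_apply]

section Fam
variable {G : Type u} [Group G] [Fintype G] (p : ℕ) [Fact p.Prime] (M : Ideal AlgInt)
  [hMp : M.IsPrime] [CharP (ResF M) p]

/-- the socle family of a block of defect one: `e = |T : C|` independent central elements of
`F[G]` on which every central element acts through the central character of `B` -/
theorem exists_central_family_gen (hM : IsPModular p M) (P : Sylow p G) (hP : Nat.card P = p)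
    (B : Set (IrrCharacter G))
    (b : Set (IrrCharacter (Subgroup.centralizer ((P : Subgroup G) : Set G))))
    (hind : IsInducedBlock M (Subgroup.centralizer ((P : Subgroup G) : Set G)) b B)
    (θ : IrrCharacter (Subgroup.centralizer ((P : Subgroup G) : Set G))) (hθ : θ ∈ b)
    (hθP : ∀ x : Subgroup.centralizer ((P : Subgroup G) : Set G), (x : G) ∈ (P : Subgroup G) →
      (θ : Subgroup.centralizer ((P : Subgroup G) : Set G) → ℂ) x =
        (θ : Subgroup.centralizer ((P : Subgroup G) : Set G) → ℂ) 1)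
    (T : Subgroup G)
    (hT : ∀ g : G, g ∈ T ↔ (g ∈ Subgroup.normalizer ((P : Subgroup G) : Set G) ∧
      ∀ c c' : Subgroup.centralizer ((P : Subgroup G) : Set G), (c' : G) = g * c * g⁻¹ →
        (θ : Subgroup.centralizer ((P : Subgroup G) : Set G) → ℂ) c' =
          (θ : Subgroup.centralizer ((P : Subgroup G) : Set G) → ℂ) c)) :
    ∃ (ι : Type u) (_ : Fintype ι) (z : ι → MonoidAlgebra (ResF M) G),
      Fintype.card ι = (Subgroup.centralizer ((P : Subgroup G) : Set G)).relIndex T ∧
      LinearIndependent (ResF M) z ∧ (∀ i b, b * z i = z i * b) ∧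
      ∀ i (aR : MonoidAlgebra (localSubring M) G), (∀ b, b * aR = aR * b) → ∀ χ ∈ B,
        ∃ r : localSubring M,
          (r : ℂ) = (∑ g : G, ((aR.coeff g : localSubring M) : ℂ) * (χ : G → ℂ) g) /
            (χ : G → ℂ) 1 ∧
          bc (ResF M) aR * z i = algebraMap (localSubring M) (ResF M) r • z i := by
  classical
  obtain ⟨Ψ, hΨcard, hΨ⟩ := CH0 p P hP θ hθP T hT _ rfl
  haveI hnormal : ((P : Subgroup G).subgroupOf
      (Subgroup.normalizer ((P : Subgroup G) : Set G))).Normal :=
    Subgroup.normal_in_normalizer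
  obtain ⟨W, i1, i2, i3, ρW, hWirr, hWP, hWne, hWred⟩ := RED (M := M) hM
    ((P : Subgroup G).subgroupOf (Subgroup.normalizer ((P : Subgroup G) : Set G)))
    (Cfsg.Agent.Lib.Helper15.DefOne.M4_hyps_index P) Ψ
    (fun ψ hψ q hq => (hΨ ψ hψ).1 q (Subgroup.mem_subgroupOf.mp hq))
  letI : ∀ i, AddCommGroup (W i) := i1
  letI : ∀ i, Module (ResF M) (W i) := i2
  haveI : ∀ i, FiniteDimensional (ResF M) (W i) := i3
  have hWP' : ∀ i, ∀ n : Subgroup.normalizer ((P : Subgroup G) : Set G),
      (n : G) ∈ (P : Subgroup G) → ρW i n = 1 :=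
    fun i n hn => hWP i n (Subgroup.mem_subgroupOf.mpr hn)
  choose V j1 j2 j3 ρ f hirr hst using fun i : Ψ =>
    haveI := hWirr i
    GT3 (F := ResF M) P hP (ρW i) (hWP' i)
  letI : ∀ i, AddCommGroup (V i) := j1
  letI : ∀ i, Module (ResF M) (V i) := j2
  haveI : ∀ i, FiniteDimensional (ResF M) (V i) := j3
  refine ⟨Ψ, inferInstance, fun i => trElt (ρ i), ?_, ?_, fun i => trElt_central (ρ i), ?_⟩
  · rw [Fintype.card_coe, hΨcard]
  · have hne : ∀ i i', i ≠ i' → ∀ φ : V i →ₗ[ResF M] V i',
        (∀ g, φ ∘ₗ ρ i g = ρ i' g ∘ₗ φ) → φ = 0 := by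
      intro i i' hii φ hφ
      by_contra hφ0
      haveI := hirr i
      haveI := hirr i'
      haveI := hWirr i
      haveI := hWirr i'
      let Φ : Representation.IntertwiningMap (ρ i) (ρ i') :=
        ⟨φ, fun g => hφ g⟩
      rcases Representation.IsIrreducible.bijective_or_eq_zero Φ with hbij | h0
      · let e : V i ≃ₗ[ResF M] V i' := LinearEquiv.ofBijective φ hbij
        have he : ∀ g v, e (ρ i g v) = ρ i' g (e v) := by
          intro g v
          exact congrArg (fun l => l v) (hφ g)
        have hst' := isStableMap_comp (P : Subgroup G) (ρ i) (ρ i') (ρW i) (f i) (hst i) e he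
        obtain ⟨ε, hε⟩ := GT4 P hP (ρ i') (ρW i) (ρW i') (hWP' i) (hWP' i')
          (e.toLinearMap ∘ₗ f i) (f i') hst' (hst i')
        have h0 := hWne i i' hii ε.toLinearMap (fun n => by
          ext w
          exact hε n w)
        have hnt : Nontrivial (W i) :=
          Cfsg.Agent.Lib.Helper15.DefOne.nontrivial_of_irreducible (ρW i)
        obtain ⟨w, hw⟩ := @exists_ne _ hnt (0 : W i)
        apply hw
        apply ε.injective
        rw [map_zero]
        exact congrArg (fun l => l w) h0
      · apply hφ0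
        exact congrArg Representation.IntertwiningMap.toLinearMap h0
    have hindep := Cfsg.Agent.Lib.Helper60.DefOne.M5 V ρ hirr hne
    rw [Fintype.linearIndependent_iff] at hindep ⊢
    intro c hc μ
    apply hindep c ?_ μ
    refine LinearMap.ext fun b => ?_
    have h1 := congrArg (fun y => coeffOne (y * b)) hc
    simp only [Finset.sum_mul, map_sum, smul_mul_assoc, map_smul, coeffOne_trElt_mul, zero_mul,
      map_zero] at h1
    rw [LinearMap.sum_apply, LinearMap.zero_apply]
    simpa [trFun] using h1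
  · intro i aR haR χ hχ
    haveI := hirr i
    haveI := hWirr i
    have hψχ : ∀ g : G, MemLocalIdeal M
        (brauerCentralChar (P : Subgroup G) (Subgroup.normalizer ((P : Subgroup G) : Set G))
          ((i : IrrCharacter (Subgroup.normalizer ((P : Subgroup G) : Set G))) :
            Subgroup.normalizer ((P : Subgroup G) : Set G) → ℂ) g -
          centralChar (χ : G → ℂ) g) := by
      intro g
      rw [(hΨ i.1 i.2).2 g]
      exact hind.2.2 θ hθ χ hχ g
    obtain ⟨r, hr, hact⟩ := Cfsg.Agent.Lib.Helper74.DefOneGen.LAM p M P χ i.1 hψχ (ρW i)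
      (hWred i) aR haR
    refine ⟨r, hr, ?_⟩
    have hcen : ∀ b, b * bc (ResF M) aR = bc (ResF M) aR * b :=
      bc_central_of_central (algebraMap_resF_surjective (M := M)) haR
    haveI hnt : Nontrivial (W i) :=
      Cfsg.Agent.Lib.Helper15.DefOne.nontrivial_of_irreducible (ρW i)
    have h5 := GT5 P hP (ρ i) (ρW i) (hWP' i) (f i) (hst i) (bc (ResF M) aR) hcen _ hact
    exact mul_trElt_of_scalar (ρ i) h5

end Fam

end Cfsg.Agent.Lib.Helper77.DefOne
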