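import Mathlib
import Cfsg.Agent.Lib.Helper77.DefOneNil
import Cfsg.Agent.Lib.Helper77.GrpRed

set_option autoImplicit false
set_option linter.unusedSectionVars false
set_option linter.style.haveILetI false

namespace Cfsg.Agent.Lib.Helper77.DefOne

open MonoidAlgebra Polynomial Cfsg.Agent.Lib.Helper77.GrpAlg Cfsg.Agent.Lib.Helper77.GrpRed

variable {F : Type*} [Field F] {G : Type*} [Group G] [Fintype G] {p : ℕ} [Fact p.Prime] [CharP F p]

/-- the centralizer is normal in every subgroup of the normalizer -/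
theorem centralizer_subgroupOf_normal_of_le (H T : Subgroup G)
    (hTN : T ≤ Subgroup.normalizer (H : Set G)) :
    ((Subgroup.centralizer (H : Set G)).subgroupOf T).Normal := by
  constructor
  intro c hc n
  have hnorm := centralizer_subgroupOf_normal H
  rw [Subgroup.mem_subgroupOf] at hc ⊢
  have h1 := hnorm.conj_mem ⟨(c : G), Subgroup.centralizer_le_normalizer _ hc⟩
    (Subgroup.mem_subgroupOf.mpr hc) ⟨(n : G), hTN n.2⟩
  rw [Subgroup.mem_subgroupOf] at h1
  simpa using h1

/-- a `p`-element of `N_G(P)` lies in the Sylow subgroup `P` -/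
theorem mem_sylow_of_mem_normalizer (P : Sylow p G) {v : G}
    (hv : v ∈ Subgroup.normalizer ((P : Subgroup G) : Set G)) (k : ℕ) (hk : v ^ p ^ k = 1) :
    v ∈ (P : Subgroup G) := by
  have hZ : IsPGroup p (Subgroup.zpowers v) := by
    rintro ⟨y, hy⟩
    obtain ⟨i, rfl⟩ := Subgroup.mem_zpowers_iff.mp hy
    refine ⟨k, ?_⟩
    apply Subtype.ext
    simp only [Subgroup.coe_pow, Subgroup.coe_one]
    rw [← zpow_natCast, ← zpow_mul, mul_comm, zpow_mul, zpow_natCast, hk, one_zpow]
  have hle : Subgroup.zpowers v ≤ Subgroup.normalizer ((P : Subgroup G) : Set G) := by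
    rw [Subgroup.zpowers_le]
    exact hv
  have hsup := IsPGroup.to_sup_of_normal_left' P.isPGroup' hZ hle
  have h2 := P.is_maximal' hsup le_sup_left
  have : Subgroup.zpowers v ≤ (P : Subgroup G) := by
    rw [← h2]; exact le_sup_right
  exact this (Subgroup.mem_zpowers v)

/-- for `n ∈ T`, `C ≤ T ≤ N_G(P)`: `n x n⁻¹ = x^c` with `c^e = 1` in `F`, `e = |T : C|` -/
theorem exists_conj_exponent_gen (P : Sylow p G) (hP : Nat.card P = p) {x : G}
    (hx : (P : Subgroup G) = Subgroup.zpowers x) (T : Subgroup G)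
    (hTN : T ≤ Subgroup.normalizer ((P : Subgroup G) : Set G))
    (n : G) (hn : n ∈ T) :
    ∃ c : ℕ, n * x * n⁻¹ = x ^ c ∧
      ((c : F)) ^ ((Subgroup.centralizer ((P : Subgroup G) : Set G)).relIndex T) = 1 := by
  have hxP : x ∈ (P : Subgroup G) := by rw [hx]; exact Subgroup.mem_zpowers x
  have hord : orderOf x = p := by
    rw [← Nat.card_zpowers, ← hx, hP]
  have hmem : n * x * n⁻¹ ∈ (P : Subgroup G) := by
    have h1 := (Subgroup.mem_normalizer_iff_map_conj_eq (H := (P : Subgroup G))).mp (hTN hn)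
    rw [← h1]
    exact ⟨x, hxP, by simp [MulAut.conj_apply]⟩
  rw [hx, ← (isOfFinOrder_of_finite x).mem_powers_iff_mem_zpowers, Submonoid.mem_powers_iff] at hmem
  obtain ⟨c, hc⟩ := hmem
  refine ⟨c, hc.symm, ?_⟩
  obtain ⟨C, hC⟩ : ∃ C, C = Subgroup.centralizer ((P : Subgroup G) : Set G) := ⟨_, rfl⟩
  rw [← hC]
  have hnorm : (C.subgroupOf T).Normal := by
    rw [hC]; exact centralizer_subgroupOf_normal_of_le _ T hTN
  have hcard : Nat.card (T ⧸ C.subgroupOf T) = C.relIndex T := rfl
  have hpow : ((⟨n, hn⟩ : T) : T ⧸ C.subgroupOf T) ^ (C.relIndex T) = 1 := by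
    rw [← hcard]; exact pow_card_eq_one'
  rw [← QuotientGroup.mk_pow, QuotientGroup.eq_one_iff, Subgroup.mem_subgroupOf] at hpow
  have hne : n ^ C.relIndex T ∈ C := by simpa using hpow
  have h3 := conj_pow_eq hc.symm (C.relIndex T)
  have h4 : n ^ C.relIndex T * x * (n ^ C.relIndex T)⁻¹ = x := by
    have hne2 := Subgroup.mem_centralizer_iff.mp (hC.le hne)
    have := hne2 x hxP
    calc n ^ C.relIndex T * x * (n ^ C.relIndex T)⁻¹
        = x * n ^ C.relIndex T * (n ^ C.relIndex T)⁻¹ := by rw [this]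
      _ = x := by group
  rw [h4] at h3
  have h5 : x ^ 1 = x ^ (c ^ C.relIndex T) := by rw [pow_one]; exact h3
  rw [pow_eq_pow_iff_modEq, hord] at h5
  have h6 := (CharP.natCast_eq_natCast F p).mpr h5
  rw [Nat.cast_one, Nat.cast_pow] at h6
  exact h6.symm

/-- the local element `y_T = ∑_{s ∈ T/C} (x^{c_s} - 1)^e` as a polynomial in `x` -/
theorem exists_poly_yT (P : Sylow p G) (hP : Nat.card P = p) {x : G}
    (hx : (P : Subgroup G) = Subgroup.zpowers x) (T : Subgroup G)
    (hTN : T ≤ Subgroup.normalizer ((P : Subgroup G) : Set G)) :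
    ∃ Hp : F[X], Hp.eval 1 = (((Subgroup.centralizer ((P : Subgroup G) : Set G)).relIndex T : ℕ) : F) ∧
      trCj (F := F) T.subtype
        ((Subgroup.centralizer ((P : Subgroup G) : Set G)).subgroupOf T)
        ((single x (1 : F) - 1) ^ ((Subgroup.centralizer ((P : Subgroup G) : Set G)).relIndex T)) =
      aeval (single x (1 : F) : MonoidAlgebra F G)
        ((X - 1) ^ ((Subgroup.centralizer ((P : Subgroup G) : Set G)).relIndex T) * Hp) := by
  classical
  obtain ⟨C, hC⟩ : ∃ C, C = Subgroup.centralizer ((P : Subgroup G) : Set G) := ⟨_, rfl⟩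
  rw [← hC]
  obtain ⟨e, he⟩ : ∃ e, e = C.relIndex T := ⟨_, rfl⟩
  rw [← he]
  letI : Fintype (T ⧸ C.subgroupOf T) := Fintype.ofFinite _
  have hex : ∀ s : T ⧸ C.subgroupOf T, ∃ c : ℕ,
      ((s.out : T) : G) * x * ((s.out : T) : G)⁻¹ = x ^ c ∧ (c : F) ^ e = 1 := by
    intro s
    have := exists_conj_exponent_gen (F := F) P hP hx T hTN ((s.out : T) : G) (s.out : T).2
    rw [← hC, ← he] at this
    exact this
  choose cf hcf1 hcf2 using hex
  refine ⟨∑ s : T ⧸ C.subgroupOf T, (∑ i ∈ Finset.range (cf s), (X : F[X]) ^ i) ^ e, ?_, ?_⟩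
  · rw [eval_finsetSum]
    have : ∀ s : T ⧸ C.subgroupOf T,
        eval 1 ((∑ i ∈ Finset.range (cf s), (X : F[X]) ^ i) ^ e) = 1 := by
      intro s
      rw [eval_pow, eval_finsetSum]
      simp only [eval_pow, eval_X, one_pow, Finset.sum_const, Finset.card_range, nsmul_eq_mul,
        mul_one]
      exact hcf2 s
    rw [Finset.sum_congr rfl (fun s _ => this s), Finset.sum_const, Finset.card_univ, nsmul_eq_mul,
      mul_one, he]
    congr 1
    rw [← Nat.card_eq_fintype_card]
    rfl
  · rw [trCj_eq, Finset.mul_sum, map_sum]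
    refine Finset.sum_congr rfl fun s _ => ?_
    have h1 : cj (T.subtype s.out) ((single x (1 : F) - 1 : MonoidAlgebra F G) ^ e) =
        ((single x (1 : F) : MonoidAlgebra F G) ^ (cf s) - 1) ^ e := by
      rw [map_pow, map_sub, map_one, cj_single]
      congr 2
      rw [Subgroup.coe_subtype, hcf1 s, single_pow, one_pow]
    rw [h1, ← mul_pow, map_pow, map_mul, map_sub, map_one, aeval_X, map_sum]
    congr 1
    simp only [map_pow, aeval_X]
    exact (mul_geom_sum _ _).symm

/-- `single g 1 * a = cj g a * single g 1` -/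
theorem single_mul_eq_cj_mul (g : G) (a : MonoidAlgebra F G) :
    single g (1 : F) * a = cj g a * single g 1 := by
  have h : single g (1 : F) * single g⁻¹ (1 : F) = 1 := by
    rw [single_mul_single, mul_inv_cancel, one_mul, one_def]
  have h' : single g⁻¹ (1 : F) * single g (1 : F) = 1 := by
    rw [single_mul_single, inv_mul_cancel, one_mul, one_def]
  have hcj : cj g a = single g (1 : F) * a * single g⁻¹ (1 : F) := by
    induction a using MonoidAlgebra.induction_linear with
    | zero => simp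
    | add x y hx hy => rw [map_add, hx, hy, mul_add, add_mul]
    | single h r =>
      rw [cj_single, single_mul_single, single_mul_single, one_mul, mul_one]
  rw [hcj, mul_assoc, h', mul_one]

/-- an element supported in `C` commutes with every `C`-invariant element -/
theorem mul_comm_of_suppIn_of_cj {C : Subgroup G} {a b : MonoidAlgebra F G} (ha : SuppIn C a)
    (hb : ∀ c ∈ C, cj c b = b) : a * b = b * a := by
  classical
  rw [eq_sum_single a, Finset.sum_mul, Finset.mul_sum]
  refine Finset.sum_congr rfl fun g _ => ?_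
  by_cases hg : g ∈ C
  · rw [smul_mul_assoc, mul_smul_comm, single_mul_eq_cj_mul, hb g hg]
  · rw [ha g hg, zero_smul, zero_mul, mul_zero]

/-- the Brauer map commutes with the trace from the normalizer of the Sylow subgroup -/
theorem brC_trCj_normalizer (P : Sylow p G) (hP : Nat.card P = p) {a : MonoidAlgebra F G}
    (ha : ∀ n ∈ Subgroup.normalizer ((P : Subgroup G) : Set G), cj n a = a) :
    brC (Subgroup.centralizer ((P : Subgroup G) : Set G))
        (trCj (MonoidHom.id G) (Subgroup.normalizer ((P : Subgroup G) : Set G)) a) =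
      brC (Subgroup.centralizer ((P : Subgroup G) : Set G)) a := by
  classical
  obtain ⟨C, hC⟩ : ∃ C, C = Subgroup.centralizer ((P : Subgroup G) : Set G) := ⟨_, rfl⟩
  obtain ⟨N, hN⟩ : ∃ N, N = Subgroup.normalizer ((P : Subgroup G) : Set G) := ⟨_, rfl⟩
  rw [← hC, ← hN]
  rw [← hN] at ha
  haveI : Fintype (G ⧸ N) := Fintype.ofFinite _
  have hPN : (P : Subgroup G) ≤ N := by rw [hN]; exact Subgroup.le_normalizer
  ext c
  rw [coeff_brC, coeff_brC]
  by_cases hc : c ∈ C
  swap
  · rw [if_neg hc, if_neg hc]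
  rw [if_pos hc, if_pos hc, trCj_eq, MonoidAlgebra.coeff_sum, Finsupp.finsetSum_apply]
  simp only [MonoidHom.id_apply, coeff_cj]
  -- independence of the representative
  have hrep : ∀ g : G, a.coeff (((g : G ⧸ N).out)⁻¹ * c * (g : G ⧸ N).out) = a.coeff (g⁻¹ * c * g) := by
    intro g
    have h1 : g⁻¹ * (g : G ⧸ N).out ∈ N := by
      rw [← QuotientGroup.eq, QuotientGroup.out_eq']
    obtain ⟨n, hn⟩ : ∃ n, n = g⁻¹ * (g : G ⧸ N).out := ⟨_, rfl⟩
    have h2 : (g : G ⧸ N).out = g * n := by rw [hn]; group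
    rw [h2]
    have h3 := congrArg (fun y => y.coeff (g⁻¹ * c * g)) (ha n (hn ▸ h1))
    simp only [coeff_cj] at h3
    rw [← h3]
    congr 1
    group
  have hinv : ∀ (u : (P : Subgroup G)) (r : G ⧸ N),
      a.coeff ((u • r).out⁻¹ * c * (u • r).out) = a.coeff (r.out⁻¹ * c * r.out) := by
    intro u r
    obtain ⟨g, rfl⟩ := QuotientGroup.mk_surjective r
    have h1 : u • (g : G ⧸ N) = (((u : G) * g : G) : G ⧸ N) := rfl
    rw [h1, hrep, hrep]
    congr 1
    have hcu : (u : G) * c = c * (u : G) := by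
      have := Subgroup.mem_centralizer_iff.mp (hC.le hc) (u : G) u.2
      exact this
    calc ((u : G) * g)⁻¹ * c * ((u : G) * g) = g⁻¹ * ((u : G)⁻¹ * (c * (u : G))) * g := by group
      _ = g⁻¹ * c * g := by rw [← hcu]; group
  rw [sum_eq_sum_fixedPoints (P := (P : Subgroup G)) (X := G ⧸ N) (F := F) P.isPGroup'
    (fun r => a.coeff (r.out⁻¹ * c * r.out)) hinv]
  have hfix : (Finset.univ.filter fun r : G ⧸ N => r ∈ MulAction.fixedPoints (P : Subgroup G) (G ⧸ N)) =
      {((1 : G) : G ⧸ N)} := by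
    ext r
    rw [Finset.mem_filter, Finset.mem_singleton]
    constructor
    · rintro ⟨_, hr⟩
      obtain ⟨g, rfl⟩ := QuotientGroup.mk_surjective r
      -- a generator
      haveI hcyc : IsCyclic (P : Subgroup G) := isCyclic_of_prime_card hP
      have hne : ∃ u : (P : Subgroup G), u ≠ 1 := by
        by_contra hcon
        push Not at hcon
        have : Nat.card (P : Subgroup G) = 1 := by
          rw [Nat.card_eq_one_iff_unique]
          exact ⟨⟨fun u v => by rw [hcon u, hcon v]⟩, ⟨1⟩⟩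
        rw [hP] at this
        exact (Fact.out : p.Prime).one_lt.ne' this
      obtain ⟨u, hu1⟩ := hne
      have h1 := hr u
      have h2 : u • (g : G ⧸ N) = (((u : G) * g : G) : G ⧸ N) := rfl
      rw [h2, QuotientGroup.eq] at h1
      -- `((u g)⁻¹ g) = g⁻¹ u⁻¹ g ∈ N`
      have h3 : g⁻¹ * (u : G)⁻¹ * (g⁻¹)⁻¹ ∈ N := by
        have : ((u : G) * g)⁻¹ * g = g⁻¹ * (u : G)⁻¹ * (g⁻¹)⁻¹ := by group
        rw [← this]; exact h1
      have hup : ((u : G)⁻¹) ^ p ^ 1 = 1 := by
        rw [pow_one, inv_pow]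
        have := Subgroup.orderOf_dvd_natCard (P : Subgroup G) u.2
        rw [hP] at this
        rw [orderOf_dvd_iff_pow_eq_one.mp this, inv_one]
      have h4 : (g⁻¹ * (u : G)⁻¹ * (g⁻¹)⁻¹) ^ p ^ 1 = 1 := by
        rw [conj_pow, hup]; group
      have h5 := mem_sylow_of_mem_normalizer P (hN ▸ h3) 1 h4
      have hPC : (P : Subgroup G) ≤ Subgroup.centralizer ((P : Subgroup G) : Set G) := by
        intro a' ha'
        rw [Subgroup.mem_centralizer_iff]
        intro v hv
        have := IsCyclic.commGroup.mul_comm (⟨v, hv⟩ : (P : Subgroup G)) ⟨a', ha'⟩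
        exact congrArg Subtype.val this
      have hu1' : (u : G)⁻¹ ≠ 1 := by
        intro h
        apply hu1
        apply Subtype.ext
        rw [Subgroup.coe_one, ← inv_eq_one]
        exact h
      have h6 := mem_normalizer_of_conj_mem_centralizer P hP ((P : Subgroup G).inv_mem u.2) hu1'
        (hPC h5)
      rw [QuotientGroup.eq, mul_one, hN]
      exact h6
    · rintro rfl
      refine ⟨Finset.mem_univ _, ?_⟩
      intro u
      have h2 : u • ((1 : G) : G ⧸ N) = (((u : G) * 1 : G) : G ⧸ N) := rfl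
      rw [h2, QuotientGroup.eq, mul_one, mul_one]
      exact N.inv_mem (hPN u.2)
  rw [hfix, Finset.sum_singleton, hrep]
  congr 1
  group

end Cfsg.Agent.Lib.Helper77.DefOne
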