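import Mathlib
import Cfsg.Agent.Lib.Helper77.DefOneGenNilA

set_option autoImplicit false
set_option linter.unusedSectionVars false
set_option linter.style.haveILetI false

namespace Cfsg.Agent.Lib.Helper77.DefOne

open MonoidAlgebra Polynomial Cfsg.Agent.Lib.Helper77.GrpAlg Cfsg.Agent.Lib.Helper77.GrpRed

variable {F : Type*} [Field F] {G : Type*} [Group G] [Fintype G] {p : ℕ} [Fact p.Prime] [CharP F p]

/-- conjugation by an element of the normalizer preserves support in the centralizer -/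
theorem suppIn_cj_normalizer {H : Subgroup G} {a : MonoidAlgebra F G}
    (ha : SuppIn (Subgroup.centralizer (H : Set G)) a) {n : G}
    (hn : n ∈ Subgroup.normalizer (H : Set G)) :
    SuppIn (Subgroup.centralizer (H : Set G)) (cj n a) := by
  intro z hz
  rw [coeff_cj]
  apply ha
  intro h
  apply hz
  have hnorm := centralizer_subgroupOf_normal H
  have h1 := hnorm.conj_mem ⟨n⁻¹ * z * n, Subgroup.centralizer_le_normalizer _ h⟩
    (Subgroup.mem_subgroupOf.mpr h) ⟨n, hn⟩
  rw [Subgroup.mem_subgroupOf] at h1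
  have h2 : n * (n⁻¹ * z * n) * n⁻¹ = z := by group
  simpa [h2] using h1

/-- the Brauer image of a central element is invariant under the centralizer -/
theorem cj_brC_of_central (C : Subgroup G) {a : MonoidAlgebra F G} (ha : ∀ b, b * a = a * b)
    {c : G} (hc : c ∈ C) : cj c (brC C a) = brC C a := by
  classical
  ext z
  rw [coeff_cj, coeff_brC, coeff_brC]
  have hiff : c⁻¹ * z * c ∈ C ↔ z ∈ C := by
    constructor
    · intro h
      have := C.mul_mem (C.mul_mem hc h) (C.inv_mem hc)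
      have h2 : c * (c⁻¹ * z * c) * c⁻¹ = z := by group
      rwa [h2] at this
    · intro h
      exact C.mul_mem (C.mul_mem (C.inv_mem hc) h) hc
  by_cases hz : z ∈ C
  · rw [if_pos hz, if_pos (hiff.mpr hz)]
    have := coeff_conj_of_central ha z c⁻¹
    rw [inv_inv] at this
    exact this
  · rw [if_neg hz, if_neg (fun h => hz (hiff.mp h))]

theorem pow_mul_idem {A : Type*} [Monoid A] {a ε : A} (hc : a * ε = ε * a) (hε : ε * ε = ε)
    {n : ℕ} (hn : 1 ≤ n) : (a * ε) ^ n = a ^ n * ε := by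
  have hcomm : Commute a ε := hc
  rw [hcomm.mul_pow]
  obtain ⟨k, rfl⟩ : ∃ k, n = k + 1 := ⟨n - 1, by omega⟩
  have hid : IsIdempotentElem ε := hε
  rw [hid.pow_succ_eq]

/-- the nilpotent central element for a general block: for a `T`-stable idempotent `ε₀` of
`F[C_G(P)]` whose other `N`-conjugates are orthogonal to it, `w = Tr_N^G Tr_T^N (Tr_C^T((x-1)^e) ε₀)`
satisfies `(w ε_B)^t ≠ 0`, `t = (p-1)/e`, `e = |T : C|`, for every central idempotent `ε_B` with
`Br_P(ε_B) ε₀ = ε₀`, and `w` lies in the kernel of the central character of `ε_B` -/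
theorem exists_central_nilpotent_gen (P : Sylow p G) (hP : Nat.card P = p) (T : Subgroup G)
    (hCT : Subgroup.centralizer ((P : Subgroup G) : Set G) ≤ T)
    (hTN : T ≤ Subgroup.normalizer ((P : Subgroup G) : Set G))
    (ε₀ : MonoidAlgebra F G) (hsupp : SuppIn (Subgroup.centralizer ((P : Subgroup G) : Set G)) ε₀)
    (hidem : ε₀ * ε₀ = ε₀) (hinv : ∀ n ∈ T, cj n ε₀ = ε₀)
    (horth : ∀ n ∈ Subgroup.normalizer ((P : Subgroup G) : Set G), n ∉ T → cj n ε₀ * ε₀ = 0)
    (hσ : sigmaQ (P : Subgroup G) * ε₀ ≠ 0) :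
    ∃ w : MonoidAlgebra F G, (∀ b, b * w = w * b) ∧
      ∀ εB : MonoidAlgebra F G, (∀ b, b * εB = εB * b) → εB * εB = εB →
        brC (Subgroup.centralizer ((P : Subgroup G) : Set G)) εB * ε₀ = ε₀ →
        (w * εB) ^ ((p - 1) / (Subgroup.centralizer ((P : Subgroup G) : Set G)).relIndex T) ≠ 0 ∧
        ∀ c : F, IsNilpotent ((w - algebraMap F (MonoidAlgebra F G) c) * εB) → c = 0 := by
  classical
  obtain ⟨C, hC⟩ : ∃ C, C = Subgroup.centralizer ((P : Subgroup G) : Set G) := ⟨_, rfl⟩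
  obtain ⟨N, hN⟩ : ∃ N, N = Subgroup.normalizer ((P : Subgroup G) : Set G) := ⟨_, rfl⟩
  rw [← hC] at hCT hsupp ⊢
  rw [← hN] at hTN horth
  obtain ⟨e, he⟩ : ∃ e, e = C.relIndex T := ⟨_, rfl⟩
  rw [← he]
  have hPC : (P : Subgroup G) ≤ C := by
    rw [hC]
    haveI : IsCyclic (P : Subgroup G) := isCyclic_of_prime_card hP
    intro u hu
    rw [Subgroup.mem_centralizer_iff]
    intro v hv
    have := IsCyclic.commGroup.mul_comm (⟨v, hv⟩ : (P : Subgroup G)) ⟨u, hu⟩
    exact congrArg Subtype.val this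
  have hCN : C ≤ N := by rw [hC, hN]; exact Subgroup.centralizer_le_normalizer _
  have hPp : IsPGroup p (P : Subgroup G) := P.isPGroup'
  have hε₀ne : ε₀ ≠ 0 := by
    intro h; apply hσ; rw [h, mul_zero]
  have hnontriv : (1 : MonoidAlgebra F G) ≠ 0 := by
    intro h
    apply hε₀ne
    rw [← one_mul ε₀, h, zero_mul]
  -- generator
  haveI hcyc : IsCyclic (P : Subgroup G) := isCyclic_of_prime_card hP
  obtain ⟨⟨x, hxP⟩, hgen⟩ := IsCyclic.exists_generator (α := (P : Subgroup G))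
  have hx : (P : Subgroup G) = Subgroup.zpowers x := by
    ext u
    constructor
    · intro hu
      obtain ⟨k, hk⟩ := Subgroup.mem_zpowers_iff.mp (hgen ⟨u, hu⟩)
      refine Subgroup.mem_zpowers_iff.mpr ⟨k, ?_⟩
      have := congrArg Subtype.val hk
      simpa using this
    · intro hu
      exact (Subgroup.zpowers_le.mpr hxP) hu
  have hord : orderOf x = p := by rw [← Nat.card_zpowers, ← hx, hP]
  have hxp : x ^ p = 1 := by rw [← hord]; exact pow_orderOf_eq_one x
  have he_pos : 0 < e := by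
    rw [he]
    exact Nat.card_pos (α := T ⧸ C.subgroupOf T)
  -- the elements
  obtain ⟨xh, hxh⟩ : ∃ xh : MonoidAlgebra F G, xh = single x (1 : F) := ⟨_, rfl⟩
  have hxhp : xh ^ p = 1 := by
    rw [hxh, single_pow, hxp, one_pow]; rfl
  obtain ⟨y, hy⟩ : ∃ y : MonoidAlgebra F G, y = (xh - 1) ^ e := ⟨_, rfl⟩
  have hyC : ∀ c ∈ C, cj c y = y := by
    intro c hc
    rw [hy, hxh, map_pow, map_sub, map_one, cj_single]
    have := (Subgroup.mem_centralizer_iff.mp (hC.le hc)) x hxP
    have h2 : c * x * c⁻¹ = x := by rw [← this]; group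
    rw [h2]
  have hxhSupp : SuppIn (P : Subgroup G) (xh - 1) := by
    rw [hxh]
    exact (suppIn_single hxP 1).sub (suppIn_one _)
  have hySupp : SuppIn (P : Subgroup G) y := by
    rw [hy]
    exact hxhSupp.pow e
  obtain ⟨yT, hyT⟩ : ∃ yT : MonoidAlgebra F G, yT = trCj T.subtype (C.subgroupOf T) y := ⟨_, rfl⟩
  have hyT_inv : ∀ n ∈ T, cj n yT = yT := by
    intro n hn
    rw [hyT]
    exact cj_trCj T.subtype (C.subgroupOf T) (fun h hh => hyC _ (Subgroup.mem_subgroupOf.mp hh))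
      ⟨n, hn⟩
  have hyT_supp : SuppIn (P : Subgroup G) yT := by
    haveI : Fintype (T ⧸ C.subgroupOf T) := Fintype.ofFinite _
    rw [hyT, trCj_eq]
    apply SuppIn.sum
    intro s _
    have h1 := hySupp.cj (T.subtype s.out)
    have h2 := (Subgroup.mem_normalizer_iff_map_conj_eq (H := (P : Subgroup G))).mp
      (hN.le (hTN (s.out : T).2))
    have h3 : (P : Subgroup G).map (MulAut.conj (T.subtype s.out)).toMonoidHom = (P : Subgroup G) :=
      h2
    rwa [h3] at h1
  have hε₀C : ∀ c ∈ C, cj c ε₀ = ε₀ := fun c hc => hinv c (hCT hc)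
  -- the local elements
  obtain ⟨wT, hwT⟩ : ∃ wT : MonoidAlgebra F G, wT = yT * ε₀ := ⟨_, rfl⟩
  have hwT_inv : ∀ n ∈ T, cj n wT = wT := by
    intro n hn
    rw [hwT, map_mul, hyT_inv n hn, hinv n hn]
  have hwT_supp : SuppIn C wT := by
    rw [hwT]
    exact (hyT_supp.mono hPC).mul hsupp
  have hyTε : yT * ε₀ = ε₀ * yT := mul_comm_of_suppIn_of_cj (hyT_supp.mono hPC) hε₀C
  have hwTε : wT * ε₀ = wT := by rw [hwT, mul_assoc, hidem]
  obtain ⟨wN, hwN⟩ : ∃ wN : MonoidAlgebra F G, wN = trCj N.subtype (T.subgroupOf N) wT := ⟨_, rfl⟩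
  have hwN_inv : ∀ n ∈ N, cj n wN = wN := by
    intro n hn
    rw [hwN]
    exact cj_trCj N.subtype (T.subgroupOf N) (fun h hh => hwT_inv _ (Subgroup.mem_subgroupOf.mp hh))
      ⟨n, hn⟩
  have hwN_supp : SuppIn C wN := by
    haveI : Fintype (N ⧸ T.subgroupOf N) := Fintype.ofFinite _
    rw [hwN, trCj_eq]
    apply SuppIn.sum
    intro s _
    rw [hC]
    apply suppIn_cj_normalizer (hC ▸ hwT_supp)
    exact hN.le (s.out : N).2
  -- `w_N ε₀ = w_T`
  have hwNε : wN * ε₀ = wT := by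
    haveI : Fintype (N ⧸ T.subgroupOf N) := Fintype.ofFinite _
    rw [hwN, trCj_eq, Finset.sum_mul]
    rw [Finset.sum_eq_single (((1 : N) : N ⧸ T.subgroupOf N))]
    · have hout : ((((1 : N) : N ⧸ T.subgroupOf N).out : N) : G) ∈ T := by
        have h1 : (((1 : N) : N ⧸ T.subgroupOf N).out : N)⁻¹ * 1 ∈ T.subgroupOf N := by
          rw [← QuotientGroup.eq, QuotientGroup.out_eq']
        rw [mul_one, Subgroup.mem_subgroupOf] at h1
        have := T.inv_mem h1
        simpa using this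
      rw [Subgroup.coe_subtype, hwT_inv _ hout, hwTε]
    · intro s _ hs
      have hout : ((s.out : N) : G) ∉ T := by
        intro h
        apply hs
        rw [← QuotientGroup.out_eq' s, QuotientGroup.eq, mul_one, Subgroup.mem_subgroupOf]
        have := T.inv_mem h
        simpa using this
      rw [Subgroup.coe_subtype, hwT, map_mul, mul_assoc, horth _ (s.out : N).2 hout, mul_zero]
    · intro h; exact absurd (Finset.mem_univ _) h
  have hwNεc : wN * ε₀ = ε₀ * wN := mul_comm_of_suppIn_of_cj hwN_supp hε₀C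
  obtain ⟨w, hw⟩ : ∃ w : MonoidAlgebra F G, w = trCj (MonoidHom.id G) N wN := ⟨_, rfl⟩
  have hw_central : ∀ b, b * w = w * b := by
    apply central_of_cj
    intro g
    rw [hw]
    exact cj_trCj (MonoidHom.id G) N (fun h hh => hwN_inv h hh) g
  have hbr : brC C w = wN := by
    rw [hw, hC, hN, brC_trCj_normalizer P hP (hN ▸ hwN_inv), ← hC]
    exact brC_of_suppIn hwN_supp
  have he_ndvd : ¬ p ∣ e := by
    intro hdvd
    have h1 := Subgroup.relIndex_mul_index hPC
    have h2 := Subgroup.relIndex_mul_index hCT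
    have h3 : p ∣ (P : Subgroup G).index := by
      rw [← h1, ← h2, ← he]
      exact Dvd.dvd.mul_left (Dvd.dvd.mul_right hdvd _) _
    exact P.not_dvd_index h3
  have heF : (e : F) ≠ 0 := by
    intro h
    exact he_ndvd ((CharP.cast_eq_zero_iff F p e).mp h)
  -- polynomial form of `yT`
  obtain ⟨Hp, hHp1, hHp2⟩ := exists_poly_yT (F := F) P hP hx T (hN ▸ hTN)
  rw [← hC, ← he] at hHp1 hHp2
  rw [← hxh, ← hy, ← hyT] at hHp2
  have hx1 : (xh - 1 : MonoidAlgebra F G) = aeval xh (X - 1 : F[X]) := by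
    rw [map_sub, aeval_X, map_one]
  -- `yT` is nilpotent
  have hyT_nil : yT ^ p = 0 := by
    have hXp : ((X : F[X]) - 1) ^ p = X ^ p - 1 := by rw [sub_pow_char, one_pow]
    have : ((X - 1 : F[X]) ^ e * Hp) ^ p = (X ^ p - 1) ^ e * Hp ^ p := by
      rw [mul_pow, ← pow_mul, mul_comm e p, pow_mul, hXp]
    rw [hHp2, ← map_pow, this, map_mul, map_pow, map_sub, map_pow, aeval_X, map_one, hxhp, sub_self,
      zero_pow he_pos.ne', zero_mul]
  have hwT_nil : IsNilpotent wT := by
    refine ⟨p, ?_⟩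
    rw [hwT, pow_mul_idem hyTε hidem (Fact.out : p.Prime).one_le, hyT_nil, zero_mul]
  refine ⟨w, hw_central, ?_⟩
  intro εB hεc hεi hε
  obtain ⟨ε', hε'⟩ : ∃ ε' : MonoidAlgebra F G, ε' = brC C εB := ⟨_, rfl⟩
  rw [← hε'] at hε
  have hε'C : ∀ c ∈ C, cj c ε' = ε' := fun c hc => by
    rw [hε']; exact cj_brC_of_central C hεc hc
  have hε₀ε' : ε₀ * ε' = ε₀ := by
    rw [mul_comm_of_suppIn_of_cj hsupp hε'C, hε]
  constructor
  · -- the power is nonzero
    obtain ⟨t, ht⟩ : ∃ t, t = (p - 1) / e := ⟨_, rfl⟩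
    rw [← ht]
    intro h0
    rcases Nat.eq_zero_or_pos t with ht0 | htpos
    · rw [ht0, pow_zero] at h0
      exact hnontriv h0
    have hwt_central : ∀ b, b * w ^ t = w ^ t * b := fun b => Commute.pow_right (hw_central b) t
    rw [pow_mul_idem (hεc w) hεi htpos] at h0
    have h2 := congrArg (brC C) h0
    rw [map_zero, hC, brC_mul (P : Subgroup G) hPp (pInv_of_central _ hwt_central)
      (pInv_of_central _ hεc), brC_pow (P : Subgroup G) hPp hw_central, ← hC, hbr, ← hε'] at h2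
    -- `wT ^ t = 0`
    have h3 : wT ^ t = 0 := by
      rw [← hwNε, pow_mul_idem hwNεc hidem htpos, ← hε, ← mul_assoc, h2, zero_mul]
    rw [hwT, pow_mul_idem hyTε hidem htpos] at h3
    obtain ⟨m, hm⟩ : ∃ m, m = p - 1 - e * t := ⟨_, rfl⟩
    have hetm : e * t + m = p - 1 := by
      have := Nat.mul_div_le (p - 1) e
      rw [← ht] at this
      omega
    have hpoly : ((X - 1 : F[X]) ^ e * Hp) ^ t * (X - 1) ^ m =
        (∑ i ∈ Finset.range p, (X : F[X]) ^ i) * Hp ^ t := by
      rw [← sub_one_pow_eq_geom, ← hetm, mul_pow, ← pow_mul, pow_add]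
      ring
    have h4 : yT ^ t * (xh - 1) ^ m = ((e : F) ^ t) • sigmaQ (Subgroup.zpowers x) := by
      rw [hHp2, hx1, ← map_pow, ← map_pow, ← map_mul, hpoly, map_mul, map_sum]
      simp only [map_pow, aeval_X]
      rw [hxh, ← map_pow, geom_mul_aeval hxp, eval_pow, hHp1, sigmaQ_zpowers, hord]
    have hxmε : (xh - 1) ^ m * ε₀ = ε₀ * (xh - 1) ^ m :=
      mul_comm_of_suppIn_of_cj ((hxhSupp.pow m).mono hPC) hε₀C
    apply hσ
    have h5 : (yT ^ t * (xh - 1) ^ m) * ε₀ = 0 := by
      rw [mul_assoc, hxmε, ← mul_assoc, h3, zero_mul]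
    rw [h4, smul_mul_assoc, ← hx] at h5
    exact (smul_eq_zero.mp h5).resolve_left (pow_ne_zero _ heF)
  · -- the central character kills `w`
    intro c hc
    obtain ⟨n, hn⟩ := hc
    rcases Nat.eq_zero_or_pos n with hn0 | hnpos
    · rw [hn0, pow_zero] at hn
      exact absurd hn hnontriv
    obtain ⟨a, ha⟩ : ∃ a : MonoidAlgebra F G, a = w - algebraMap F (MonoidAlgebra F G) c := ⟨_, rfl⟩
    have ha_central : ∀ b, b * a = a * b := by
      intro b
      rw [ha, mul_sub, sub_mul, hw_central b, Algebra.commutes]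
    have han_central : ∀ b, b * a ^ n = a ^ n * b := fun b => Commute.pow_right (ha_central b) n
    rw [← ha, pow_mul_idem (hεc a) hεi hnpos] at hn
    have h2 := congrArg (brC C) hn
    have hbra : brC C a = wN - algebraMap F (MonoidAlgebra F G) c := by
      rw [ha, map_sub, hbr, Algebra.algebraMap_eq_smul_one, map_smul, brC_one]
    rw [map_zero, hC, brC_mul (P : Subgroup G) hPp (pInv_of_central _ han_central)
      (pInv_of_central _ hεc), brC_pow (P : Subgroup G) hPp ha_central, ← hC, hbra, ← hε'] at h2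
    obtain ⟨d, hd⟩ : ∃ d : MonoidAlgebra F G, d = wN - algebraMap F (MonoidAlgebra F G) c := ⟨_, rfl⟩
    rw [← hd] at h2
    have hdε : d * ε₀ = ε₀ * d := by
      rw [hd, sub_mul, mul_sub, hwNεc, Algebra.commutes]
    have h3 : (d * ε₀) ^ n = 0 := by
      rw [pow_mul_idem hdε hidem hnpos, ← hε, ← mul_assoc, h2, zero_mul]
    have h4 : d * ε₀ = wT - c • ε₀ := by
      rw [hd, sub_mul, hwNε, Algebra.algebraMap_eq_smul_one, smul_mul_assoc, one_mul]
    rw [h4] at h3
    have hcomm : Commute wT (wT - c • ε₀) := by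
      apply Commute.sub_right (Commute.refl _)
      apply Commute.smul_right
      show wT * ε₀ = ε₀ * wT
      rw [hwTε, hwT, ← mul_assoc, ← hyTε, mul_assoc, hidem]
    have h5 : IsNilpotent (wT - (wT - c • ε₀)) := hcomm.isNilpotent_sub hwT_nil ⟨n, h3⟩
    rw [sub_sub_cancel] at h5
    obtain ⟨k, hk⟩ := h5
    rcases Nat.eq_zero_or_pos k with hk0 | hkpos
    · rw [hk0, pow_zero] at hk
      exact absurd hk hnontriv
    have h6 : (c • ε₀) ^ k = c ^ k • ε₀ := by
      rw [_root_.smul_pow]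
      have hid : IsIdempotentElem ε₀ := hidem
      obtain ⟨k', rfl⟩ : ∃ k', k = k' + 1 := ⟨k - 1, by omega⟩
      rw [hid.pow_succ_eq]
    rw [h6] at hk
    exact pow_eq_zero_iff (hkpos.ne') |>.mp ((smul_eq_zero.mp hk).resolve_right hε₀ne)

end Cfsg.Agent.Lib.Helper77.DefOne
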