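import Mathlib
import Cfsg.Agent.Lib.Helper77.DefOneGenFam
import Cfsg.Agent.Lib.Helper77.DefOneGenNil
import Cfsg.Agent.Lib.Helper77.DefOneMain
import Cfsg.Agent.Lib.Helper75.DefOneEPSB
import Cfsg.Agent.Lib.Helper78.DefOneEpsA

set_option autoImplicit false
set_option linter.unusedSectionVars false
set_option linter.style.haveILetI false

namespace Cfsg.Agent.Lib.Helper77.DefOne

open Cfsg MonoidAlgebra Module Cfsg.Agent.Lib.Helper16 Cfsg.Agent.Lib.Helper77
  Cfsg.Agent.Lib.Helper77.GrpAlg Cfsg.Agent.Lib.Helper77.GrpRed Cfsg.Agent.Lib.Helper77.Modular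
  Cfsg.Agent.Lib.Helper77.BlockDimC Cfsg.Agent.Lib.Helper77.BlockQuot
  Cfsg.Agent.Lib.Helper77.BlockRed

universe u

section Main
variable {G : Type u} [Group G] [Fintype G] (p : ℕ) [hp : Fact p.Prime] (M : Ideal AlgInt)
  [hMp : M.IsPrime] [CharP (ResF M) p]

/-- the facts about the block idempotent of `b` inside `F[G]` (EPS) -/
theorem exists_eps (hM : IsPModular p M) (P : Sylow p G) (hP : Nat.card P = p)
    (B : Set (IrrCharacter G))
    (b : Set (IrrCharacter (Subgroup.centralizer ((P : Subgroup G) : Set G))))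
    (hind : IsInducedBlock M (Subgroup.centralizer ((P : Subgroup G) : Set G)) b B)
    (θ : IrrCharacter (Subgroup.centralizer ((P : Subgroup G) : Set G))) (hθ : θ ∈ b)
    (hθP : ∀ x : Subgroup.centralizer ((P : Subgroup G) : Set G), (x : G) ∈ (P : Subgroup G) →
      (θ : Subgroup.centralizer ((P : Subgroup G) : Set G) → ℂ) x =
        (θ : Subgroup.centralizer ((P : Subgroup G) : Set G) → ℂ) 1)
    (T : Subgroup G)
    (hT : ∀ g : G, g ∈ T ↔ (g ∈ Subgroup.normalizer ((P : Subgroup G) : Set G) ∧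
      ∀ c c' : Subgroup.centralizer ((P : Subgroup G) : Set G), (c' : G) = g * c * g⁻¹ →
        (θ : Subgroup.centralizer ((P : Subgroup G) : Set G) → ℂ) c' =
          (θ : Subgroup.centralizer ((P : Subgroup G) : Set G) → ℂ) c))
    (eR : MonoidAlgebra (localSubring M) G) (heR : bc ℂ eR = idemOf B) :
    ∃ ε₀ : MonoidAlgebra (ResF M) G,
      SuppIn (Subgroup.centralizer ((P : Subgroup G) : Set G)) ε₀ ∧ ε₀ * ε₀ = ε₀ ∧
      (∀ n ∈ T, cj n ε₀ = ε₀) ∧
      (∀ n ∈ Subgroup.normalizer ((P : Subgroup G) : Set G), n ∉ T → cj n ε₀ * ε₀ = 0) ∧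
      sigmaQ (P : Subgroup G) * ε₀ ≠ 0 ∧
      brC (Subgroup.centralizer ((P : Subgroup G) : Set G)) (bc (ResF M) eR) * ε₀ = ε₀ := by
  classical
  have hb : IsPBlock M b := hind.1
  obtain ⟨eRb, heRb, -, -⟩ := exists_blockIdem_local hb
  obtain ⟨h1, h2, h3, h4, h5⟩ := Cfsg.Agent.Lib.Helper78.EPS_A p M P hM hP b eRb heRb hb θ hθ hθP T hT
  exact ⟨_, h1, h2, h3, h4, h5,
    Cfsg.Agent.Lib.Helper75.DefOneGen.EPS_B p M hM P hP b eRb heRb B hind eR heR⟩

/-- `k(B) ≥ e + (p-1)/e` for a block of defect one (`Fintype` form) -/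
theorem card_block_ge_of_fintype (hM : IsPModular p M) (P : Sylow p G) (hP : Nat.card P = p)
    (B : Set (IrrCharacter G))
    (b : Set (IrrCharacter (Subgroup.centralizer ((P : Subgroup G) : Set G))))
    (hind : IsInducedBlock M (Subgroup.centralizer ((P : Subgroup G) : Set G)) b B)
    (θ : IrrCharacter (Subgroup.centralizer ((P : Subgroup G) : Set G))) (hθ : θ ∈ b)
    (hθP : ∀ x : Subgroup.centralizer ((P : Subgroup G) : Set G), (x : G) ∈ (P : Subgroup G) →
      (θ : Subgroup.centralizer ((P : Subgroup G) : Set G) → ℂ) x =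
        (θ : Subgroup.centralizer ((P : Subgroup G) : Set G) → ℂ) 1)
    (T : Subgroup G)
    (hT : ∀ g : G, g ∈ T ↔ (g ∈ Subgroup.normalizer ((P : Subgroup G) : Set G) ∧
      ∀ c c' : Subgroup.centralizer ((P : Subgroup G) : Set G), (c' : G) = g * c * g⁻¹ →
        (θ : Subgroup.centralizer ((P : Subgroup G) : Set G) → ℂ) c' =
          (θ : Subgroup.centralizer ((P : Subgroup G) : Set G) → ℂ) c)) :
    (Subgroup.centralizer ((P : Subgroup G) : Set G)).relIndex T +
      (p - 1) / (Subgroup.centralizer ((P : Subgroup G) : Set G)).relIndex T ≤ Nat.card B := by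
  classical
  have hB : IsPBlock M B := hind.2.1
  obtain ⟨χ₁, hχ₁⟩ := IsPBlock_nonempty hMp.ne_top hB
  obtain ⟨eR, heRC, heR, hcR⟩ := exists_blockIdem_local hB
  have hπ := algebraMap_resF_surjective (M := M)
  have hker := algebraMap_resF_ker (M := M)
  obtain ⟨eF, heF'⟩ : ∃ eF : MonoidAlgebra (ResF M) G, eF = bc (ResF M) eR := ⟨_, rfl⟩
  have hcF : ∀ b, b * eF = eF * b := by
    intro b
    obtain ⟨b₀, rfl⟩ := bc_surjective (G := G) (ResF M) hπ b
    rw [heF', ← map_mul, ← map_mul, hcR]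
  have heF : eF * eF = eF := by
    rw [heF', ← map_mul, heR]
  have hI : (annI eF).IsTwoSided := annI_isTwoSided hcF
  have hfd : FiniteDimensional (ResF M) (Quo eF) := finiteDimensional_quo eF
  have hcenter : finrank (ResF M) (Subalgebra.center (ResF M) (Quo eF)) = Nat.card B := by
    rw [finrank_center_quo eF hcF heF classProj classProj_central
      (fun a ha => classProj_of_central ha), heF',
      finrank_range_mulLeft_classProj (K := ℂ) hπ hker heR hcR, heRC,
      finrank_range_mulLeft_classProj_idemOf]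
  -- the idempotent of `b`
  obtain ⟨ε₀, hsupp, hidem, hinv, horth, hσ, hbr⟩ :=
    exists_eps p M hM P hP B b hind θ hθ hθP T hT eR heRC
  rw [← heF'] at hbr
  have hε₀ne : ε₀ ≠ 0 := by
    intro h; apply hσ; rw [h, mul_zero]
  have heFne : eF ≠ 0 := by
    intro h
    apply hε₀ne
    rw [← hbr, h, map_zero, zero_mul]
  have hTN : T ≤ Subgroup.normalizer ((P : Subgroup G) : Set G) := fun g hg => ((hT g).mp hg).1
  have hCT : Subgroup.centralizer ((P : Subgroup G) : Set G) ≤ T := by
    intro c hc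
    rw [hT]
    refine ⟨Subgroup.centralizer_le_normalizer _ hc, ?_⟩
    intro c₁ c₂ h12
    have h1 : c₂ = ⟨c, hc⟩ * c₁ * (⟨c, hc⟩ : Subgroup.centralizer ((P : Subgroup G) : Set G))⁻¹ := by
      apply Subtype.ext
      rw [h12]
      rfl
    rw [h1]
    exact irr_conj θ c₁ ⟨c, hc⟩
  obtain ⟨w, hwc, hw⟩ := exists_central_nilpotent_gen P hP T hCT hTN ε₀ hsupp hidem hinv horth hσ
  obtain ⟨hwpow, hwnil⟩ := hw eF hcF heF hbr
  obtain ⟨ι, hι, z, hcard, hzind, hzc, hza⟩ :=
    exists_central_family_gen p M hM P hP B b hind θ hθ hθP T hT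
  -- the central character of `B` on a central element
  have hlift : ∀ a : MonoidAlgebra (ResF M) G, (∀ b, b * a = a * b) →
      ∃ c : ResF M, IsNilpotent (eF * (a - algebraMap (ResF M) _ c)) ∧
        ∀ i, a * z i = c • z i := by
    intro a ha
    obtain ⟨a₀, ha₀⟩ := bc_surjective (G := G) (ResF M) hπ a
    obtain ⟨aR, haR⟩ : ∃ aR : MonoidAlgebra (localSubring M) G, aR = classProj a₀ := ⟨_, rfl⟩
    have haRF : bc (ResF M) aR = a := by
      rw [haR, bc_classProj, ha₀, classProj_of_central ha]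
    have haRc : ∀ b, b * aR = aR * b := by
      rw [haR]; exact classProj_central a₀
    obtain ⟨r, hr, hnil⟩ := nilpotent_of_lift hB heRC aR haRc hχ₁
    rw [haRF, ← heF'] at hnil
    refine ⟨algebraMap (localSubring M) (ResF M) r, hnil, ?_⟩
    intro i
    obtain ⟨r', hr', hact⟩ := hza i aR haRc χ₁ hχ₁
    have hrr : r' = r := Subtype.ext (hr'.trans hr.symm)
    rw [haRF, hrr] at hact
    exact hact
  have hze : ∀ i, z i * eF = z i := by
    obtain ⟨c, hcnil, hcz⟩ := hlift eF hcF
    have hc1 : c = 1 := by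
      have h1 : eF * (eF - algebraMap (ResF M) _ c) = (1 - c) • eF := by
        rw [mul_sub, heF, Algebra.algebraMap_eq_smul_one, mul_smul_comm, mul_one, sub_smul, one_smul]
      rw [h1] at hcnil
      obtain ⟨n, hn⟩ := hcnil
      rcases Nat.eq_zero_or_pos n with hn0 | hnpos
      · exfalso
        rw [hn0, pow_zero] at hn
        apply heFne
        rw [← one_mul eF, hn, zero_mul]
      have h2 : ((1 - c) • eF) ^ n = (1 - c) ^ n • eF := by
        rw [smul_pow]
        have hid : IsIdempotentElem eF := heF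
        obtain ⟨k', rfl⟩ : ∃ k', n = k' + 1 := ⟨n - 1, by omega⟩
        rw [hid.pow_succ_eq]
      rw [h2] at hn
      have h3 := (pow_eq_zero_iff hnpos.ne').mp ((smul_eq_zero.mp hn).resolve_right heFne)
      exact (sub_eq_zero.mp h3).symm
    intro i
    rw [← hzc i eF, hcz i, hc1, one_smul]
  obtain ⟨cw, hcwnil, hcwz⟩ := hlift w hwc
  have hcw0 : cw = 0 := by
    apply hwnil cw
    rw [hcF]
    exact hcwnil
  rw [hcw0, map_zero, sub_zero] at hcwnil
  rw [← hcenter, ← hcard]
  rw [← hcard] at hwpow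
  refine card_add_le_finrank_center (fun i => Ideal.Quotient.mk (annI eF) (z i))
    (Ideal.Quotient.mk (annI eF) w) _ ?_ (fun i => mk_mem_center eF (hzc i))
    (mk_mem_center eF hwc) ?_ ?_ ?_
  · apply LinearIndependent.of_comp (theta (F := ResF M) eF)
    have : (theta (F := ResF M) eF) ∘ (fun i => Ideal.Quotient.mk (annI eF) (z i)) = z := by
      funext i
      rw [Function.comp_apply, theta_mk, hze]
    rw [this]
    exact hzind
  · intro i
    rw [← map_mul, hcwz i, hcw0, zero_smul, map_zero]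
  · obtain ⟨n, hn⟩ := hcwnil
    refine ⟨n, ?_⟩
    have h2 := congrArg (Ideal.Quotient.mk (annI eF)) hn
    rw [map_pow, map_mul, mk_e eF heF, one_mul, map_zero] at h2
    exact h2
  · intro h0
    apply hwpow
    obtain ⟨t, ht⟩ : ∃ t, t = (p - 1) / Fintype.card ι := ⟨_, rfl⟩
    rw [← ht] at h0 ⊢
    rw [← map_pow, Ideal.Quotient.eq_zero_iff_mem, mem_annI] at h0
    rcases Nat.eq_zero_or_pos t with ht0 | ht0
    · exfalso
      rw [ht0, pow_zero, one_mul] at h0
      exact heFne h0
    · rw [pow_mul_idem (hcF w) heF ht0, h0]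

end Main

/-- **the lower bound `k(B) ≥ e + (p-1)/e` for a block `B` of defect one**, with the literal
hypotheses of the frozen statement S4442 -/
theorem card_block_ge {G : Type u} [Group G] [Finite G] (p : ℕ) [hp : Fact p.Prime]
    (M : Ideal AlgInt) (hM : IsPModular p M) (P : Sylow p G) (hP : Nat.card P = p)
    (B : Set (IrrCharacter G))
    (b : Set (IrrCharacter (Subgroup.centralizer ((P : Subgroup G) : Set G))))
    (hind : IsInducedBlock M (Subgroup.centralizer ((P : Subgroup G) : Set G)) b B)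
    (θ : IrrCharacter (Subgroup.centralizer ((P : Subgroup G) : Set G))) (hθ : θ ∈ b)
    (hθP : ∀ x : Subgroup.centralizer ((P : Subgroup G) : Set G), (x : G) ∈ (P : Subgroup G) →
      (θ : Subgroup.centralizer ((P : Subgroup G) : Set G) → ℂ) x =
        (θ : Subgroup.centralizer ((P : Subgroup G) : Set G) → ℂ) 1)
    (T : Subgroup G)
    (hT : ∀ g : G, g ∈ T ↔ (g ∈ Subgroup.normalizer ((P : Subgroup G) : Set G) ∧
      ∀ c c' : Subgroup.centralizer ((P : Subgroup G) : Set G), (c' : G) = g * c * g⁻¹ →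
        (θ : Subgroup.centralizer ((P : Subgroup G) : Set G) → ℂ) c' =
          (θ : Subgroup.centralizer ((P : Subgroup G) : Set G) → ℂ) c))
    (e : ℕ) (he : (Subgroup.centralizer ((P : Subgroup G) : Set G)).relIndex T = e) :
    e + (p - 1) / e ≤ Nat.card B := by
  classical
  letI := Fintype.ofFinite G
  haveI hMp : M.IsPrime := isPModular_isPrime hM
  haveI hchar : CharP (ResF M) p := by
    apply (CharP.charP_iff_prime_eq_zero hp.out).mpr
    have h1 : (p : ResF M) = Ideal.Quotient.mk (localIdeal M) (p : localSubring M) :=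
      (map_natCast _ p).symm
    rw [h1, Ideal.Quotient.eq_zero_iff_mem, mem_localIdeal]
    exact memLocalIdeal_p hM
  subst he
  exact card_block_ge_of_fintype p M hM P hP B b hind θ hθ hθP T hT

end Cfsg.Agent.Lib.Helper77.DefOne
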