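import Mathlib
import Cfsg.Agent.Lib.Helper12.PermRepRank

set_option autoImplicit false

namespace Cfsg.Agent.Lib.Helper77

open Cfsg Cfsg.Agent.Lib.Helper78 Cfsg.Agent.Lib.Helper3 Cfsg.Agent.Lib.Helper12

section W2pRank3

/-- A transitive permutation character `1 + χ₁ + χ₂` with distinct nonprincipal irreducible
constituents has rank three. -/
theorem rank_three {G : Type*} [Group G] [Fintype G] {Ω : Type*} [Fintype Ω] [DecidableEq Ω]
    [MulAction G Ω] [MulAction.IsPretransitive G Ω] (a₀ : Ω) (χ₁ χ₂ : G → ℂ)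
    (h₁ : IsIrrCharacter G χ₁) (h₂ : IsIrrCharacter G χ₂)
    (hπ : (fun g : G => (Nat.card (MulAction.fixedBy Ω g) : ℂ)) = fun g => 1 + χ₁ g + χ₂ g)
    (hne : χ₁ ≠ χ₂) (h1 : χ₁ ≠ fun _ => 1) (h2 : χ₂ ≠ fun _ => 1) :
    Nat.card (MulAction.orbitRel.Quotient (MulAction.stabilizer G a₀) Ω) = 3 := by
  have h0 : IsIrrCharacter G (fun _ : G => (1 : ℂ)) := isIrrCharacter_one
  have hθ : (fun g : G => (Nat.card (MulAction.fixedBy Ω g) : ℂ))
      = (fun _ : G => (1 : ℂ)) + χ₁ + χ₂ := by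
    rw [hπ]; funext g; simp
  have hnorm := classInner_card_fixedBy_self (G := G) (X := Ω)
  rw [hθ] at hnorm
  simp only [Helper78.classInner_add_left, Helper78.classInner_add_right] at hnorm
  rw [classInner_irr_self h0, classInner_irr_self h₁, classInner_irr_self h₂,
    classInner_irr_ne h0 h₁ (Ne.symm h1), classInner_irr_ne h0 h₂ (Ne.symm h2),
    classInner_irr_ne h₁ h0 h1, classInner_irr_ne h₁ h₂ hne,
    classInner_irr_ne h₂ h0 h2, classInner_irr_ne h₂ h₁ (Ne.symm hne)] at hnorm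
  rw [card_orbits_stabilizer' a₀]
  have : ((3 : ℕ) : ℂ) = (Nat.card (MulAction.orbitRel.Quotient G (Ω × Ω)) : ℂ) := by
    rw [← hnorm]; norm_num
  exact_mod_cast this.symm

end W2pRank3

end Cfsg.Agent.Lib.Helper77
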