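import Cfsg.Agent.Lib.Helper92.BPBlock
import Cfsg.Agent.Lib.Helper77.BlockRed2
import Cfsg.Agent.Lib.Helper80.BPUnit

/-!
# Project BP (helper92), module BP-[D1] (helper77)

The block idempotents of `k[H]` (`k` the residue field of `localSubring M`) are orthogonal
central idempotents with sum `1`, nonzero, and primitive in the centre.
-/

set_option autoImplicit false
set_option linter.unusedSectionVars false
set_option linter.unusedVariables false

namespace Cfsg.Agent.Lib.Helper77.BP

open Cfsg MonoidAlgebra Module Cfsg.Agent.Lib.Helper16 Cfsg.Agent.Lib.Helper77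
  Cfsg.Agent.Lib.Helper77.GrpAlg Cfsg.Agent.Lib.Helper77.GrpRed Cfsg.Agent.Lib.Helper77.Modular
  Cfsg.Agent.Lib.Helper77.BlockDimC Cfsg.Agent.Lib.Helper77.BlockRed Cfsg.Agent.Lib.Helper92.BP
open scoped ComplexConjugate

section

variable {H : Type*} [Group H] [Fintype H] {M : Ideal AlgInt} [hMp : M.IsPrime]

theorem toLocal_val {z : ℂ} (hz : MemLocalRing M z) : ((toLocal M z : localSubring M) : ℂ) = z := by
  unfold toLocal
  rw [dif_pos (show z ∈ localSubring M from hz)]

theorem coeff_blockIdemR (f : Set (IrrCharacter H)) (g : H) :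
    (blockIdemR M f).coeff g = toLocal M (blockCoeff f g) := by
  classical
  unfold blockIdemR
  rw [finsum_eq_sum_of_fintype]
  have h1 : ∀ h : H, (toLocal M (blockCoeff f h) • MonoidAlgebra.of (localSubring M) H h) =
      single h (toLocal M (blockCoeff f h)) := by
    intro h
    rw [MonoidAlgebra.of_apply, smul_single, smul_eq_mul, mul_one]
  simp_rw [h1]
  rw [MonoidAlgebra.coeff_sum, Finsupp.finsetSum_apply, Finset.sum_eq_single g]
  · rw [MonoidAlgebra.coeff_single, Finsupp.single_eq_same]
  · intro b _ hb
    rw [MonoidAlgebra.coeff_single, Finsupp.single_eq_of_ne hb.symm]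
  · intro h
    exact absurd (Finset.mem_univ g) h

theorem bc_blockIdemR {f : Set (IrrCharacter H)} (hf : IsPBlock M f) :
    bc ℂ (blockIdemR M f) = idemOf f := by
  ext g
  rw [coeff_bc, coeff_blockIdemR, coeff_idemOf, algebraMap_complex_apply,
    toLocal_val (blockCoeff_memLocalRing hf g)]

theorem blockIdemR_idem {f : Set (IrrCharacter H)} (hf : IsPBlock M f) :
    blockIdemR M f * blockIdemR M f = blockIdemR M f := by
  apply bc_injective ℂ algebraMap_complex_injective
  rw [map_mul, bc_blockIdemR hf, idemOf_mul_self]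

theorem blockIdemR_central {f : Set (IrrCharacter H)} (hf : IsPBlock M f) :
    ∀ b, b * blockIdemR M f = blockIdemR M f * b := by
  apply central_of_bc_central
  rw [bc_blockIdemR hf]
  exact idemOf_central f

theorem blockIdemR_orth {f f' : Set (IrrCharacter H)} (hf : IsPBlock M f) (hf' : IsPBlock M f')
    (hne : f ≠ f') : blockIdemR M f * blockIdemR M f' = 0 := by
  apply bc_injective ℂ algebraMap_complex_injective
  rw [map_mul, bc_blockIdemR hf, bc_blockIdemR hf', map_zero]
  have := idemC_mul_of_disjoint (IsPBlock_disjoint hf hf' hne)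
  exact congrArg Subtype.val this

theorem sum_blockIdemR : ∑ f ∈ blocksFinset M H, blockIdemR M f = 1 := by
  apply bc_injective ℂ algebraMap_complex_injective
  rw [map_sum, map_one, Finset.sum_congr rfl (fun f hf => bc_blockIdemR (mem_blocksFinset.1 hf))]
  have h := congrArg (Subalgebra.val (Subalgebra.center ℂ (MonoidAlgebra ℂ H)))
    (sum_idemC_blocks (M := M) (G := H))
  rw [map_sum, map_one] at h
  exact h

/-- `red` is the base change to the residue field -/
theorem red_eq_bc (a : MonoidAlgebra (localSubring M) H) :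
    red (localSubring M) H a = bc (IsLocalRing.ResidueField (localSubring M)) a := by
  ext g
  rw [coeff_bc]
  unfold red
  rw [MonoidAlgebra.coeff_mapRingHom]
  rfl

theorem algebraMap_kk_surjective :
    Function.Surjective (algebraMap (localSubring M) (IsLocalRing.ResidueField (localSubring M))) :=
  IsLocalRing.residue_surjective

theorem red_surjective :
    Function.Surjective (red (localSubring M) H) := by
  intro b
  obtain ⟨a, ha⟩ := bc_surjective (G := H) (IsLocalRing.ResidueField (localSubring M))
    (algebraMap_kk_surjective (M := M)) b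
  exact ⟨a, by rw [red_eq_bc, ha]⟩

theorem algebraMap_kk_eq_zero (r : localSubring M) :
    algebraMap (localSubring M) (IsLocalRing.ResidueField (localSubring M)) r = 0 ↔
      MemLocalIdeal M (r : ℂ) := by
  have : algebraMap (localSubring M) (IsLocalRing.ResidueField (localSubring M)) r =
      IsLocalRing.residue (localSubring M) r := rfl
  rw [this, IsLocalRing.residue_eq_zero_iff, maximalIdeal_localSubring, mem_localIdeal]

/-- the centre of the block algebra over the residue field `k` is local (copy of
`BlockRed.exists_nilpotent` for `IsLocalRing.ResidueField`) -/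
theorem exists_nilpotent_kk {B : Set (IrrCharacter H)} (hB : IsPBlock M B)
    {eR : MonoidAlgebra (localSubring M) H} (heR : bc ℂ eR = idemOf B)
    {a : MonoidAlgebra (IsLocalRing.ResidueField (localSubring M)) H} (ha : ∀ b, b * a = a * b) :
    ∃ c : IsLocalRing.ResidueField (localSubring M),
      IsNilpotent (bc (IsLocalRing.ResidueField (localSubring M)) eR *
        (a - algebraMap (IsLocalRing.ResidueField (localSubring M)) _ c)) := by
  classical
  obtain ⟨a₀, ha₀⟩ := bc_surjective (G := H) (IsLocalRing.ResidueField (localSubring M))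
    (algebraMap_kk_surjective (M := M)) a
  obtain ⟨aR, haR⟩ : ∃ aR : MonoidAlgebra (localSubring M) H, aR = classProj a₀ := ⟨_, rfl⟩
  have haRF : bc (IsLocalRing.ResidueField (localSubring M)) aR = a := by
    rw [haR, bc_classProj, ha₀, classProj_of_central ha]
  have hzc : bc ℂ aR ∈ Subalgebra.center ℂ (MonoidAlgebra ℂ H) := by
    apply mem_center_of_central
    rw [haR, bc_classProj]
    exact classProj_central _
  obtain ⟨z, hz⟩ : ∃ z : Subalgebra.center ℂ (MonoidAlgebra ℂ H), z = ⟨bc ℂ aR, hzc⟩ := ⟨_, rfl⟩
  have hzval : (z : MonoidAlgebra ℂ H) = bc ℂ aR := by rw [hz]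
  have hzO : z ∈ centerOrder H M := by
    intro g
    rw [hzval, coeff_bc]
    exact (aR.coeff g).2
  obtain ⟨χ₁, hχ₁⟩ := IsPBlock_nonempty hMp.ne_top hB
  have hw₁ : MemLocalRing M (omegaHom χ₁ z) := omegaHom_memLocalRing χ₁ hzO
  obtain ⟨wR, hwR⟩ : ∃ wR : localSubring M, wR = ⟨omegaHom χ₁ z, hw₁⟩ := ⟨_, rfl⟩
  have hwRval : (wR : ℂ) = omegaHom χ₁ z := by rw [hwR]
  refine ⟨algebraMap (localSubring M) (IsLocalRing.ResidueField (localSubring M)) wR,
    Nat.card (IrrCharacter H), ?_⟩
  obtain ⟨y, hy⟩ : ∃ y : Subalgebra.center ℂ (MonoidAlgebra ℂ H),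
      y = idemC B * (z - algebraMap ℂ _ (omegaHom χ₁ z)) := ⟨_, rfl⟩
  have hyO : y ∈ centerOrder H M := by
    rw [hy]
    exact (centerOrder H M).mul_mem (idemC_mem_centerOrder hB)
      ((centerOrder H M).sub_mem hzO (algebraMap_mem_centerOrder hw₁))
  have hω : ∀ ψ : IrrCharacter H, MemLocalIdeal M (omegaHom ψ y) := by
    intro ψ
    rw [hy, map_mul, omegaHom_idemC, map_sub, AlgHom.commutes]
    by_cases hψ : ψ ∈ B
    · rw [if_pos hψ, one_mul]
      exact sameBlock_omegaHom_congr (sameBlock_of_mem hB hψ hχ₁) hzO
    · rw [if_neg hψ, zero_mul]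
      exact memLocalIdeal_zero hMp.ne_top
  have hpow := exists_pow_coeffsInIdeal hyO hω
  obtain ⟨yR, hyR⟩ : ∃ yR : MonoidAlgebra (localSubring M) H,
      yR = eR * (aR - single 1 wR) := ⟨_, rfl⟩
  have hyRC : bc ℂ yR = (y : MonoidAlgebra ℂ H) := by
    rw [hyR, hy, map_mul, map_sub, heR, bc_single, algebraMap_complex_apply, hwRval]
    push_cast
    rw [hzval, algebraMap_eq_single]
    rfl
  have hyRF : bc (IsLocalRing.ResidueField (localSubring M)) yR =
      bc (IsLocalRing.ResidueField (localSubring M)) eR *
        (a - algebraMap (IsLocalRing.ResidueField (localSubring M)) _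
          (algebraMap (localSubring M) (IsLocalRing.ResidueField (localSubring M)) wR)) := by
    rw [hyR, map_mul, map_sub, haRF, bc_single, algebraMap_eq_single]
  rw [← hyRF, ← map_pow]
  ext g
  rw [coeff_bc, coeff_zero, Finsupp.zero_apply, algebraMap_kk_eq_zero]
  have h1 := hpow g
  have h2 : ((y ^ Nat.card (IrrCharacter H) : Subalgebra.center ℂ (MonoidAlgebra ℂ H)) :
      MonoidAlgebra ℂ H) = bc ℂ (yR ^ Nat.card (IrrCharacter H)) := by
    rw [map_pow, hyRC]
    rfl
  rw [h2, coeff_bc] at h1
  exact h1

/-- `ē_f ≠ 0` -/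
theorem blockIdemK_ne_zero' {f : Set (IrrCharacter H)} (hf : IsPBlock M f) :
    blockIdemK M f ≠ 0 := by
  classical
  intro h0
  have hker : blockIdemR M f ∈ LinearMap.ker
      (bc (IsLocalRing.ResidueField (localSubring M)) :
        MonoidAlgebra (localSubring M) H →ₐ[localSubring M] _).toLinearMap := by
    rw [LinearMap.mem_ker, AlgHom.toLinearMap_apply, ← red_eq_bc]
    exact h0
  have hmem := ker_bc_le (R := localSubring M) (G := H)
    (IsLocalRing.ResidueField (localSubring M)) (fun r hr => by
      rw [maximalIdeal_localSubring, mem_localIdeal]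
      exact (algebraMap_kk_eq_zero r).1 hr) hker
  have hzero : blockIdemR M f = 0 :=
    Cfsg.Agent.Lib.Helper80.BP.idem_eq_zero_of_mem (R := localSubring M) _ (blockIdemR_idem hf) hmem
  obtain ⟨χ₁, hχ₁⟩ := IsPBlock_nonempty hMp.ne_top hf
  have h1 : idemOf f = 0 := by rw [← bc_blockIdemR hf, hzero, map_zero]
  have h2 : idemC f = 0 := Subtype.ext h1
  have h3 := omegaHom_idemC (G := H) f χ₁
  rw [if_pos hχ₁, h2, map_zero] at h3
  exact zero_ne_one h3

/-- primitivity in the centre -/
theorem blockIdemK_mul_central' {f : Set (IrrCharacter H)} (hf : IsPBlock M f)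
    (z : MonoidAlgebra (IsLocalRing.ResidueField (localSubring M)) H) (hz : IsIdempotentElem z)
    (hzc : ∀ y, z * y = y * z) : blockIdemK M f * z = blockIdemK M f ∨ blockIdemK M f * z = 0 := by
  classical
  obtain ⟨e, he⟩ : ∃ e, e = blockIdemK M f := ⟨_, rfl⟩
  have hebc : e = bc (IsLocalRing.ResidueField (localSubring M)) (blockIdemR M f) := by
    rw [he, ← red_eq_bc]; rfl
  have hee : e * e = e := by
    rw [hebc, ← map_mul, blockIdemR_idem hf]
  obtain ⟨c, n, hn⟩ := exists_nilpotent_kk hf (bc_blockIdemR hf) (a := z) (fun b => (hzc b).symm)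
  rw [← hebc] at hn
  rw [← he]
  -- `u = e z`, `v = e - e z`
  have hez : e * z = z * e := (hzc e).symm
  obtain ⟨u, hu⟩ : ∃ u, u = e * z := ⟨_, rfl⟩
  obtain ⟨v, hv⟩ : ∃ v, v = e - e * z := ⟨_, rfl⟩
  have huu : u * u = u := by
    rw [hu]
    calc e * z * (e * z) = e * (z * e) * z := by noncomm_ring
      _ = e * (e * z) * z := by rw [hez]
      _ = (e * e) * (z * z) := by noncomm_ring
      _ = e * z := by rw [hee, hz.eq]
  have huv : u * v = 0 := by
    rw [hv, mul_sub, ← hu, huu]
    have : u * e = u := by
      rw [hu]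
      calc e * z * e = e * (z * e) := by noncomm_ring
        _ = e * (e * z) := by rw [hez]
        _ = (e * e) * z := by noncomm_ring
        _ = e * z := by rw [hee]
    rw [this, sub_self]
  have hvu : v * u = 0 := by
    rw [hv, sub_mul, ← hu, huu]
    have : e * u = u := by
      rw [hu, ← mul_assoc, hee]
    rw [this, sub_self]
  have hvv : v * v = v := by
    have hev : e * v = v := by
      rw [hv, mul_sub, hee, ← mul_assoc, hee]
    have : v = e - u := by rw [hv, hu]
    calc v * v = (e - u) * v := by rw [← this]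
      _ = e * v - u * v := sub_mul _ _ _
      _ = v := by rw [hev, huv, sub_zero]
  -- the nilpotent element is `(1 - c) u - c v`
  have hform : e * (z - algebraMap _ _ c) = (1 - c) • u + (-c) • v := by
    rw [hu, hv, mul_sub, Algebra.algebraMap_eq_smul_one, mul_smul_comm, mul_one, sub_smul,
      one_smul, neg_smul, smul_sub]
    abel
  rw [hform] at hn
  -- powers
  have hpow : ∀ m : ℕ, 0 < m → ((1 - c) • u + (-c) • v) ^ m = (1 - c) ^ m • u + (-c) ^ m • v := by
    intro m hm
    induction m with
    | zero => omega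
    | succ m ih =>
      rcases Nat.eq_zero_or_pos m with rfl | hm'
      · simp
      · rw [pow_succ, ih hm', add_mul, mul_add, mul_add, smul_mul_smul_comm, smul_mul_smul_comm,
          smul_mul_smul_comm, smul_mul_smul_comm, huu, hvv, huv, hvu, smul_zero, smul_zero,
          add_zero, zero_add, ← pow_succ, ← pow_succ]
  have hn0 : 0 < n := by
    rcases Nat.eq_zero_or_pos n with rfl | h
    · rw [pow_zero] at hn
      -- `1 = 0` in `k[H]`, so everything is zero
      exfalso
      have : (1 : MonoidAlgebra (IsLocalRing.ResidueField (localSubring M)) H) ≠ 0 := one_ne_zero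
      exact this hn
    · exact h
  rw [hpow n hn0] at hn
  -- multiply by `u` and by `v`
  have h1 : (1 - c) ^ n • u = 0 := by
    have := congrArg (fun t => t * u) hn
    simp only [add_mul, smul_mul_assoc, huu, hvu, smul_zero, add_zero, zero_mul] at this
    exact this
  have h2 : (-c) ^ n • v = 0 := by
    have := congrArg (fun t => t * v) hn
    simp only [add_mul, smul_mul_assoc, huv, hvv, smul_zero, zero_add, zero_mul] at this
    exact this
  by_cases hu0 : u = 0
  · right
    rw [← hu]; exact hu0
  · left
    have hc1 : (1 - c) ^ n = 0 := by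
      rcases smul_eq_zero.1 h1 with h | h
      · exact h
      · exact absurd h hu0
    have hc : c = 1 := by
      have := pow_eq_zero_iff (n := n) (by omega) |>.1 hc1
      exact (sub_eq_zero.1 this).symm
    have hv0 : v = 0 := by
      rcases smul_eq_zero.1 h2 with h | h
      · rw [hc] at h
        have : ((-1 : IsLocalRing.ResidueField (localSubring M))) ^ n ≠ 0 :=
          pow_ne_zero _ (neg_ne_zero.2 one_ne_zero)
        exact absurd h this
      · exact h
    rw [hv, sub_eq_zero] at hv0
    exact hv0.symm

end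

/-! ### the exact statements of the sheet (`[Finite H]`) -/

section sheet

variable {p : ℕ} [Fact p.Prime] {M : Ideal AlgInt} [hMp : M.IsPrime]

theorem blockIdemK_idem {H : Type*} [Group H] [Finite H] (hM : IsPModular p M)
    {f : Set (IrrCharacter H)} (hf : IsPBlock M f) : IsIdempotentElem (blockIdemK M f) := by
  have : Fintype H := Fintype.ofFinite H
  show blockIdemK M f * blockIdemK M f = blockIdemK M f
  unfold blockIdemK
  rw [← map_mul, blockIdemR_idem hf]

theorem blockIdemK_central {H : Type*} [Group H] [Finite H] (hM : IsPModular p M)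
    {f : Set (IrrCharacter H)} (hf : IsPBlock M f)
    (y : MonoidAlgebra (IsLocalRing.ResidueField (localSubring M)) H) :
    blockIdemK M f * y = y * blockIdemK M f := by
  have : Fintype H := Fintype.ofFinite H
  obtain ⟨y₀, rfl⟩ := red_surjective (M := M) (H := H) y
  unfold blockIdemK
  rw [← map_mul, ← map_mul, blockIdemR_central hf]

theorem blockIdemK_orth {H : Type*} [Group H] [Finite H] (hM : IsPModular p M)
    {f f' : Set (IrrCharacter H)} (hf : IsPBlock M f) (hf' : IsPBlock M f') (hne : f ≠ f') :
    blockIdemK M f * blockIdemK M f' = 0 := by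
  have : Fintype H := Fintype.ofFinite H
  unfold blockIdemK
  rw [← map_mul, blockIdemR_orth hf hf' hne, map_zero]

theorem blockIdemK_ne_zero {H : Type*} [Group H] [Finite H] (hM : IsPModular p M)
    {f : Set (IrrCharacter H)} (hf : IsPBlock M f) : blockIdemK M f ≠ 0 := by
  have : Fintype H := Fintype.ofFinite H
  exact blockIdemK_ne_zero' hf

theorem sum_blockIdemK {H : Type*} [Group H] [Finite H] (hM : IsPModular p M) :
    ∑ᶠ f ∈ {f : Set (IrrCharacter H) | IsPBlock M f}, blockIdemK M f = 1 := by
  classical
  have : Fintype H := Fintype.ofFinite H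
  have hset : {f : Set (IrrCharacter H) | IsPBlock M f} = ↑(blocksFinset M H) := by
    ext f
    rw [Set.mem_ofPred_eq, Finset.mem_coe, mem_blocksFinset]
  rw [hset, finsum_mem_coe_finset]
  unfold blockIdemK
  rw [← map_sum, sum_blockIdemR, map_one]

/-- BP-[D1] : a block idempotent is primitive in the centre -/
theorem blockIdemK_mul_central {H : Type*} [Group H] [Finite H] (hM : IsPModular p M)
    {f : Set (IrrCharacter H)} (hf : IsPBlock M f)
    (z : MonoidAlgebra (IsLocalRing.ResidueField (localSubring M)) H) (hz : IsIdempotentElem z)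
    (hzc : ∀ y, z * y = y * z) : blockIdemK M f * z = blockIdemK M f ∨ blockIdemK M f * z = 0 := by
  have : Fintype H := Fintype.ofFinite H
  exact blockIdemK_mul_central' hf z hz hzc

end sheet

end Cfsg.Agent.Lib.Helper77.BP
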