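import Cfsg.Agent.Lib.Helper92.BPTheta
import Cfsg.Agent.Lib.Helper51.BPEv
import Cfsg.Agent.Lib.Helper78.BPDict2
import Cfsg.Agent.Lib.Helper52.BPEps

/-!
# Project BP (helper92), module BP-[L4-E-COEF] (helper77)

`incl` of a subgroup algebra lands in the fixed points of a centralising subgroup and in the
range of `incl` of any larger subgroup; `Θ` is `Rm`-linear; and
`Θ_u(incl ε_ζ) = ζ(1) · (θ(u·)|_L, ζ)_L` (via BP-[L4-E-EPS] `ev_blockIdemR_singleton` of helper52).
-/

set_option autoImplicit false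
set_option linter.unusedSectionVars false
set_option linter.unusedVariables false

namespace Cfsg.Agent.Lib.Helper77.BPCoef

open Cfsg Cfsg.Agent.Lib.Helper16 Cfsg.Agent.Lib.Helper92.BP Cfsg.Agent.Lib.Helper51.BP

section
variable {G : Type*} [Group G]

theorem incl_single {R : Type*} [CommRing R] (L : Subgroup G) (s : L) (r : R) :
    incl R L (MonoidAlgebra.single s r) = MonoidAlgebra.single (s : G) r := by
  unfold incl
  simp [MonoidAlgebra.mapDomainRingHom]

theorem incl_mem_fixedAlg {R : Type*} [CommRing R] (Q L : Subgroup G)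
    (h : ∀ u ∈ Q, ∀ s ∈ L, u * s = s * u) (a : MonoidAlgebra R L) :
    incl R L a ∈ fixedAlg R Q := by
  unfold fixedAlg
  rw [Subalgebra.mem_centralizer_iff]
  rintro _ ⟨u, hu, rfl⟩
  induction a using MonoidAlgebra.induction_linear with
  | zero => rw [map_zero, mul_zero, zero_mul]
  | add x y hx hy => rw [map_add, mul_add, add_mul, hx, hy]
  | single s r =>
    rw [incl_single, MonoidAlgebra.of_apply, MonoidAlgebra.single_mul_single,
      MonoidAlgebra.single_mul_single, h u hu s s.2, mul_comm]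

theorem incl_mem_range_of_le {R : Type*} [CommRing R] {L K : Subgroup G} (h : L ≤ K)
    (a : MonoidAlgebra R L) : incl R L a ∈ Set.range (incl R K) := by
  induction a using MonoidAlgebra.induction_linear with
  | zero => exact ⟨0, by rw [map_zero, map_zero]⟩
  | add x y hx hy =>
    obtain ⟨x', hx'⟩ := hx
    obtain ⟨y', hy'⟩ := hy
    exact ⟨x' + y', by rw [map_add, map_add, hx', hy']⟩
  | single s r =>
    exact ⟨MonoidAlgebra.single (⟨(s : G), h s.2⟩ : K) r, by rw [incl_single, incl_single]⟩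

end

section
variable {G : Type*} [Group G] [Finite G] {p : ℕ} [Fact p.Prime] {M : Ideal AlgInt}
  [hMp : M.IsPrime]

theorem finite_blocks (H : Type*) [Group H] [Finite H] :
    {f : Set (IrrCharacter H) | IsPBlock M f}.Finite := by
  have : Finite (IrrCharacter H) := Cfsg.Agent.Lib.Helper16.finite_irrCharacter
  exact Set.toFinite _

theorem thetaQ_eq_sum (μ : LocSys G) (χ : G → ℂ) (Q : Subgroup G) (u : G)
    (a : MonoidAlgebra (localSubring M) G) :
    ThetaQ M μ χ Q u a = ∑ f ∈ (finite_blocks (M := M)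
        (Subgroup.centralizer (Q : Set G))).toFinset,
      μ Q f u * evAt χ u (a * incl (localSubring M) _ (blockIdemR M f)) := by
  unfold ThetaQ
  rw [finsum_mem_eq_finite_toFinset_sum _ (finite_blocks (M := M)
        (Subgroup.centralizer (Q : Set G)))]

theorem evAt_add (χ : G → ℂ) (u : G) (a b : MonoidAlgebra (localSubring M) G) :
    evAt χ u (a + b) = evAt χ u a + evAt χ u b := by
  unfold evAt
  rw [ev_add]

theorem evAt_smul (χ : G → ℂ) (u : G) (r : localSubring M)
    (a : MonoidAlgebra (localSubring M) G) :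
    evAt χ u (r • a) = (r : ℂ) * evAt χ u a := by
  unfold evAt
  rw [ev_smul]
  rfl

theorem thetaQ_add (μ : LocSys G) (χ : G → ℂ) (Q : Subgroup G) (u : G)
    (a b : MonoidAlgebra (localSubring M) G) :
    ThetaQ M μ χ Q u (a + b) = ThetaQ M μ χ Q u a + ThetaQ M μ χ Q u b := by
  rw [thetaQ_eq_sum, thetaQ_eq_sum, thetaQ_eq_sum, ← Finset.sum_add_distrib]
  apply Finset.sum_congr rfl
  intro f _
  rw [add_mul, evAt_add, mul_add]

theorem thetaQ_zero (μ : LocSys G) (χ : G → ℂ) (Q : Subgroup G) (u : G) :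
    ThetaQ M μ χ Q u 0 = 0 := by
  have h := thetaQ_add (M := M) μ χ Q u 0 0
  rw [add_zero] at h
  exact left_eq_add.mp h

noncomputable def thetaQHom (μ : LocSys G) (χ : G → ℂ) (Q : Subgroup G) (u : G) :
    MonoidAlgebra (localSubring M) G →+ ℂ where
  toFun := ThetaQ M μ χ Q u
  map_zero' := thetaQ_zero μ χ Q u
  map_add' := thetaQ_add μ χ Q u

theorem thetaQ_sum {ι : Type*} (s : Finset ι) (μ : LocSys G) (χ : G → ℂ) (Q : Subgroup G)
    (u : G) (a : ι → MonoidAlgebra (localSubring M) G) :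
    ThetaQ M μ χ Q u (∑ i ∈ s, a i) = ∑ i ∈ s, ThetaQ M μ χ Q u (a i) :=
  map_sum (thetaQHom (M := M) μ χ Q u) a s

theorem thetaQ_smul (μ : LocSys G) (χ : G → ℂ) (Q : Subgroup G) (u : G) (r : localSubring M)
    (a : MonoidAlgebra (localSubring M) G) :
    ThetaQ M μ χ Q u (r • a) = (r : ℂ) * ThetaQ M μ χ Q u a := by
  rw [thetaQ_eq_sum, thetaQ_eq_sum, Finset.mul_sum]
  apply Finset.sum_congr rfl
  intro f _
  rw [smul_mul_assoc, evAt_smul]
  ring

theorem thetaQ_incl_eq_ev (μ : LocSys G) (χ : G → ℂ)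
    {θ : G → ℂ} (hθ : IsStar M p μ χ θ) {u : G}
    (hu : ∃ k : ℕ, orderOf u = p ^ k) (L : Subgroup G)
    (hL : ∀ s ∈ L, ¬ p ∣ orderOf s) (hcomm : ∀ s ∈ L, u * s = s * u)
    (a : MonoidAlgebra (localSubring M) L) :
    ThetaQ M μ χ (Subgroup.zpowers u) u (incl (localSubring M) L a) =
      ev (fun s : L => θ (u * (s : G))) a := by
  induction a using MonoidAlgebra.induction_linear with
  | zero => rw [map_zero, thetaQ_zero, ev_zero]
  | add x y hx hy => rw [map_add, thetaQ_add, ev_add, hx, hy]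
  | single s r =>
    have h1 : MonoidAlgebra.single (s : G) r =
        r • MonoidAlgebra.of (localSubring M) G (s : G) := by
      rw [MonoidAlgebra.of_apply, MonoidAlgebra.smul_single, smul_eq_mul, mul_one]
    rw [incl_single, h1, thetaQ_smul, ev_single, ← hθ u (s : G) hu (hL s s.2) (hcomm s s.2)]
    rfl

/-- `_of` form: E-EPS as a hypothesis -/
theorem thetaQ_incl_blockIdemR_singleton_of (hM : IsPModular p M) (μ : LocSys G) (χ : G → ℂ)
    {θ : G → ℂ} (hθc : IsClassFunction G θ) (hθ : IsStar M p μ χ θ) {u : G}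
    (hu : ∃ k : ℕ, orderOf u = p ^ k) (L : Subgroup G) [Fintype L]
    (hL : ∀ s ∈ L, ¬ p ∣ orderOf s) (hcomm : ∀ s ∈ L, u * s = s * u) (ζ : IrrCharacter L)
    (hEPS : ¬ p ∣ Nat.card L → ∀ {ϑ : L → ℂ}, IsClassFunction L ϑ →
      ev ϑ (blockIdemR M ({ζ} : Set (IrrCharacter L))) =
        (charDegree (ζ : L → ℂ) : ℂ) * classInner ϑ (ζ : L → ℂ)) :
    ThetaQ M μ χ (Subgroup.zpowers u) u
        (incl (localSubring M) L (blockIdemR M ({ζ} : Set (IrrCharacter L)))) =
      (charDegree (ζ : L → ℂ) : ℂ) *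
        classInner (fun s : L => θ (u * (s : G))) (ζ : L → ℂ) := by
  rw [thetaQ_incl_eq_ev μ χ hθ hu L hL hcomm]
  have hcard : ¬ p ∣ Nat.card L := by
    intro hdvd
    rw [Nat.card_eq_fintype_card] at hdvd
    obtain ⟨x, hx⟩ := exists_prime_orderOf_dvd_card p hdvd
    apply hL (x : G) x.2
    rw [Subgroup.orderOf_coe, hx]
  apply hEPS hcard
  intro g h
  show θ (u * ((h * g * h⁻¹ : L) : G)) = θ (u * (g : G))
  have h1 : u * ((h * g * h⁻¹ : L) : G) = (h : G) * (u * (g : G)) * (h : G)⁻¹ := by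
    push_cast
    have := hcomm h h.2
    calc u * ((h : G) * (g : G) * (h : G)⁻¹) = (u * (h : G)) * (g : G) * (h : G)⁻¹ := by group
      _ = ((h : G) * u) * (g : G) * (h : G)⁻¹ := by rw [this]
      _ = _ := by group
  rw [h1]
  exact hθc _ _

/-- BP-[L4-E-COEF] : `Θ_u(ε_ζ) = ζ(1) · (θ(u·)|_L, ζ)_L` (exact sheet statement) -/
theorem thetaQ_incl_blockIdemR_singleton (hM : IsPModular p M) (μ : LocSys G) (χ : G → ℂ)
    {θ : G → ℂ} (hθc : IsClassFunction G θ) (hθ : IsStar M p μ χ θ) {u : G}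
    (hu : ∃ k : ℕ, orderOf u = p ^ k) (L : Subgroup G) [Fintype L]
    (hL : ∀ s ∈ L, ¬ p ∣ orderOf s) (hcomm : ∀ s ∈ L, u * s = s * u) (ζ : IrrCharacter L) :
    ThetaQ M μ χ (Subgroup.zpowers u) u
        (incl (localSubring M) L (blockIdemR M ({ζ} : Set (IrrCharacter L)))) =
      (charDegree (ζ : L → ℂ) : ℂ) *
        classInner (fun s : L => θ (u * (s : G))) (ζ : L → ℂ) :=
  thetaQ_incl_blockIdemR_singleton_of hM μ χ hθc hθ hu L hL hcomm ζ
    (fun hcard _ hϑ => Cfsg.Agent.Lib.Helper52.BP.ev_blockIdemR_singleton hM hcard ζ hϑ)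

end

end Cfsg.Agent.Lib.Helper77.BPCoef
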