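import Cfsg.Agent.Lib.Helper16.BPInstDefs
import Cfsg.Agent.Lib.Helper16.BPNilDefs
import Cfsg.Agent.Lib.Helper52.BPBridge
import Cfsg.Agent.Lib.Helper77.BPECoef

/-!
# Project BP, module BP-[INST-BR1] (helper77)

`Θ` at a group element of `C_G(u)` is the sum of the block parts:
`Θ_{⟨u⟩}(u, s) = Σ_f μ ⟨u⟩ f u · (f-part of c ↦ χ(u c))(s)`.
-/

set_option autoImplicit false
set_option linter.unusedSectionVars false
set_option linter.unusedVariables false

namespace Cfsg.Agent.Lib.Helper77.BP

open Cfsg Cfsg.Agent.Lib.Helper16 Cfsg.Agent.Lib.Helper16.BP Cfsg.Agent.Lib.Helper78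
  Cfsg.Agent.Lib.Helper92.BP Cfsg.Agent.Lib.Helper51.BP

universe u

section
variable {G : Type*} [Group G]

/-- `ev` of a class function along `incl` -/
theorem ev_incl {R : Type*} [CommRing R] [Algebra R ℂ] (K : Subgroup G) (φ : G → ℂ)
    (a : MonoidAlgebra R K) : ev φ (incl R K a) = ev (fun c : K => φ (c : G)) a := by
  induction a using MonoidAlgebra.induction_linear with
  | zero => rw [map_zero, ev_zero, ev_zero]
  | add x y hx hy => rw [map_add, ev_add, ev_add, hx, hy]
  | single s r => rw [Cfsg.Agent.Lib.Helper77.BPCoef.incl_single, ev_single, ev_single]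

theorem incl_of {R : Type*} [CommRing R] (K : Subgroup G) (s : K) :
    incl R K (MonoidAlgebra.of R K s) = MonoidAlgebra.of R G (s : G) := by
  rw [MonoidAlgebra.of_apply, Cfsg.Agent.Lib.Helper77.BPCoef.incl_single, MonoidAlgebra.of_apply]

end

variable {G : Type u} [Group G] [Fintype G] {M : Ideal AlgInt} {p : ℕ} [Fact p.Prime]

/-- BP-[INST-BR1] : `Θ` at a group element is the sum of the block parts -/
theorem thetaQ_of_eq_sum_blockPart [hMp : M.IsPrime] (hM : IsPModular p M) (μ : LocSys G)
    {χ : G → ℂ} (hχ : IsClassFunction G χ) {u : G} (hu : ∃ k : ℕ, orderOf u = p ^ k)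
    (s : locC u) :
    ThetaQ M μ χ (Subgroup.zpowers u) u (MonoidAlgebra.of (localSubring M) G (s : G)) =
      ∑ᶠ f ∈ {f : Set (IrrCharacter (locC u)) | IsPBlock M f},
        μ (Subgroup.zpowers u) f u * blockPart f (fun c : locC u => χ (u * (c : G))) s := by
  unfold ThetaQ
  apply finsum_mem_congr rfl
  intro f hf
  have hf' : IsPBlock M f := hf
  congr 1
  -- the class function `ϑ` on `C_G(u)`
  have hϑ : IsClassFunction (locC u) (fun c : locC u => χ (u * (c : G))) := by
    intro g h
    show χ (u * ((h * g * h⁻¹ : locC u) : G)) = χ (u * (g : G))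
    have hcomm : (h : G) * u = u * (h : G) := by
      have := h.2
      rw [Subgroup.mem_centralizer_iff] at this
      exact (this u (Subgroup.mem_zpowers u)).symm
    have h1 : u * ((h * g * h⁻¹ : locC u) : G) = (h : G) * (u * (g : G)) * (h : G)⁻¹ := by
      push_cast
      calc u * ((h : G) * (g : G) * (h : G)⁻¹) = (u * (h : G)) * (g : G) * (h : G)⁻¹ := by group
        _ = ((h : G) * u) * (g : G) * (h : G)⁻¹ := by rw [hcomm]
        _ = _ := by group
    rw [h1]
    exact hχ _ _
  rw [Cfsg.Agent.Lib.Helper52.BP.blockPart_eq_ev hM hf' hϑ s]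
  unfold evAt
  rw [← incl_of (R := localSubring M) (locC u) s, ← map_mul, ev_incl,
    ev_mul_comm _ hϑ]

end Cfsg.Agent.Lib.Helper77.BP
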