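import Cfsg.Agent.Lib.Helper16.BPInstDefs
import Cfsg.Agent.Lib.Helper16.BPNilDefs
import Cfsg.Agent.Lib.Helper33.BPThetaConj
import Cfsg.Agent.Lib.Helper40.BPConj

/-!
# Project BP, module BP-[INST-THETA] (helper77)

`starFun p M μ χ` satisfies `IsStar`, and is a class function when `μ` is a local system and `χ`
a class function.
-/

set_option autoImplicit false
set_option linter.unusedSectionVars false
set_option linter.unusedVariables false

namespace Cfsg.Agent.Lib.Helper77.BP

open Cfsg Cfsg.Agent.Lib.Helper16 Cfsg.Agent.Lib.Helper16.BP Cfsg.Agent.Lib.Helper78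
  Cfsg.Agent.Lib.Helper92.BP

universe u

variable {G : Type u} [Group G] [Fintype G] {M : Ideal AlgInt} {p : ℕ} [Fact p.Prime]

/-- the `p`-part of `u * s` (`u` a `p`-element, `s` a commuting `p`-regular element) is `u` -/
theorem pPartOf_mul_eq {u s : G} (hu : ∃ k : ℕ, orderOf u = p ^ k) (hs : ¬ p ∣ orderOf s)
    (hc : Commute u s) : pPartOf p (u * s) = u :=
  isPPart_unique (isPPart_pPartOf p (u * s)) ⟨s, rfl, hc, hu, hs⟩

/-- the `p`-part commutes with conjugation -/
theorem pPartOf_conj (g h : G) : pPartOf p (h * g * h⁻¹) = h * pPartOf p g * h⁻¹ :=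
  isPPart_unique (isPPart_pPartOf p (h * g * h⁻¹)) (isPPart_conj (isPPart_pPartOf p g) h)

/-- BP-[INST-THETA] : `starFun` satisfies `IsStar` -/
theorem isStar_starFun [hMp : M.IsPrime] (μ : LocSys G) (χ : G → ℂ) :
    IsStar M p μ χ (starFun p M μ χ) := by
  intro u s hu hs hc
  unfold starFun
  rw [pPartOf_mul_eq hu hs hc, inv_mul_cancel_left]

/-- BP-[INST-THETA] : `starFun` is a class function -/
theorem isClassFunction_starFun [hMp : M.IsPrime] (hM : IsPModular p M) {μ : LocSys G}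
    (hμ : IsLocalSystem p M μ) {χ : G → ℂ} (hχ : IsClassFunction G χ) :
    IsClassFunction G (starFun p M μ χ) := by
  intro g h
  unfold starFun
  rw [pPartOf_conj g h]
  have hx : ∃ k : ℕ, orderOf (pPartOf p g) = p ^ k := by
    obtain ⟨y, _, _, hk, _⟩ := isPPart_pPartOf p g
    exact hk
  have hQ : IsPGroup p (Subgroup.zpowers (pPartOf p g)) := by
    obtain ⟨k, hk⟩ := hx
    apply IsPGroup.of_card (n := k)
    rw [Nat.card_zpowers, hk]
  have h1 := Cfsg.Agent.Lib.Helper33.BP.thetaQ_conj hM hμ hχ hQ h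
    (Subgroup.mem_zpowers (pPartOf p g))
    (MonoidAlgebra.of (localSubring M) G ((pPartOf p g)⁻¹ * g))
  rw [← h1, Cfsg.Agent.Lib.Helper40.BP.conj_of]
  have h2 : (h * pPartOf p g * h⁻¹)⁻¹ * (h * g * h⁻¹) = h * ((pPartOf p g)⁻¹ * g) * h⁻¹ := by
    group
  rw [h2]
  have h3 : (Subgroup.zpowers (pPartOf p g)).map (MulAut.conj h).toMonoidHom =
      Subgroup.zpowers (h * pPartOf p g * h⁻¹) := by
    rw [MonoidHom.map_zpowers]
    rfl
  rw [h3]

end Cfsg.Agent.Lib.Helper77.BP
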