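import Cfsg.Agent.Lib.Helper77.BPBlockD1

/-!
# Project BP (helper92), module BP-[D1] (helper77), addendum for helper31 (BP-[U-A])

The `R`-level block idempotents are central idempotents, stated with `[Finite H]` and
`IsPModular p M` as in the sheet.
-/

set_option autoImplicit false
set_option linter.unusedSectionVars false
set_option linter.unusedVariables false

namespace Cfsg.Agent.Lib.Helper77.BP

open Cfsg MonoidAlgebra Module Cfsg.Agent.Lib.Helper16 Cfsg.Agent.Lib.Helper77
  Cfsg.Agent.Lib.Helper92.BP

section sheetR

variable {p : ℕ} [Fact p.Prime] {M : Ideal AlgInt} [hMp : M.IsPrime]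

theorem blockIdemR_isIdempotentElem {H : Type*} [Group H] [Finite H] (hM : IsPModular p M)
    {f : Set (IrrCharacter H)} (hf : IsPBlock M f) : IsIdempotentElem (blockIdemR M f) := by
  have : Fintype H := Fintype.ofFinite H
  exact blockIdemR_idem hf

theorem blockIdemR_mul_comm {H : Type*} [Group H] [Finite H] (hM : IsPModular p M)
    {f : Set (IrrCharacter H)} (hf : IsPBlock M f) (y : MonoidAlgebra (localSubring M) H) :
    blockIdemR M f * y = y * blockIdemR M f := by
  have : Fintype H := Fintype.ofFinite H
  exact (blockIdemR_central hf y).symm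

theorem blockIdemR_mul_of_ne {H : Type*} [Group H] [Finite H] (hM : IsPModular p M)
    {f f' : Set (IrrCharacter H)} (hf : IsPBlock M f) (hf' : IsPBlock M f') (hne : f ≠ f') :
    blockIdemR M f * blockIdemR M f' = 0 := by
  have : Fintype H := Fintype.ofFinite H
  exact blockIdemR_orth hf hf' hne

theorem finsum_blockIdemR {H : Type*} [Group H] [Finite H] (hM : IsPModular p M) :
    ∑ᶠ f ∈ {f : Set (IrrCharacter H) | IsPBlock M f}, blockIdemR M f = 1 := by
  classical
  have : Fintype H := Fintype.ofFinite H
  have hset : {f : Set (IrrCharacter H) | IsPBlock M f} = ↑(blocksFinset M H) := by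
    ext f
    rw [Set.mem_ofPred_eq, Finset.mem_coe, mem_blocksFinset]
  rw [hset, finsum_mem_coe_finset]
  exact sum_blockIdemR

end sheetR

end Cfsg.Agent.Lib.Helper77.BP
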