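import Cfsg.Agent.Lib.Helper77.BrauerExtend

set_option autoImplicit false

namespace Cfsg.Agent.Lib.Helper77

open Cfsg MonoidAlgebra Cfsg.Agent.Lib.Helper16
open scoped ComplexConjugate

section Stab

variable {G : Type*} [Group G]

/-- The normalizer of `Q` normalizes the centralizer of `Q`. -/
theorem conj_mem_centralizer_of_mem_normalizer {Q : Subgroup G} {u x : G}
    (hu : u ∈ Subgroup.normalizer (Q : Set G))
    (hx : x ∈ Subgroup.centralizer (Q : Set G)) :
    u * x * u⁻¹ ∈ Subgroup.centralizer (Q : Set G) := by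
  rw [Subgroup.mem_centralizer_iff] at hx ⊢
  intro v hv
  have h1 : u⁻¹ * v * u ∈ (Q : Set G) := by
    have := (Subgroup.mem_normalizer_iff.mp (Subgroup.inv_mem _ hu) v).mp hv
    simpa using this
  have h2 := hx _ h1
  calc v * (u * x * u⁻¹) = u * ((u⁻¹ * v * u) * x) * u⁻¹ := by group
    _ = u * (x * (u⁻¹ * v * u)) * u⁻¹ := by rw [h2]
    _ = u * x * u⁻¹ * v := by group

theorem normalizer_le_normalizer_centralizer' (Q : Subgroup G) :
    Subgroup.normalizer (Q : Set G) ≤
      Subgroup.normalizer ((Subgroup.centralizer (Q : Set G) : Subgroup G) : Set G) := by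
  intro u hu
  rw [Subgroup.mem_normalizer_iff]
  intro x
  constructor
  · exact conj_mem_centralizer_of_mem_normalizer hu
  · intro h
    have := conj_mem_centralizer_of_mem_normalizer (Subgroup.inv_mem _ hu) h
    have e : u⁻¹ * (u * x * u⁻¹) * u⁻¹⁻¹ = x := by group
    rwa [e] at this

variable [Finite G]

/-- The idempotent coefficients of a set of characters of `H` stabilized by `u` are invariant
under conjugation by `u`. -/
theorem blockCoeff_conj_of_stabilizes (H : Subgroup G) (f : Set (IrrCharacter H)) (u : G)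
    (hu : StabilizesBlock H f u) (h h' : H) (hh' : (h' : G) = u * (h : G) * u⁻¹) :
    blockCoeff f h' = blockCoeff f h := by
  classical
  obtain ⟨hun, hstab⟩ := hu
  choose! σ hσf hσ using hstab
  have hinj : Set.InjOn σ f := by
    intro χ₁ h₁ χ₂ h₂ heq
    apply Subtype.ext
    funext k
    have hk : u * (k : G) * u⁻¹ ∈ H := (Subgroup.mem_normalizer_iff.mp hun k).mp k.2
    have e1 := hσ χ₁ h₁ k ⟨_, hk⟩ rfl
    have e2 := hσ χ₂ h₂ k ⟨_, hk⟩ rfl
    rw [← e1, ← e2, heq]
  have hfin : f.Finite := Set.toFinite f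
  have hbij : Set.BijOn σ f f := (hfin.injOn_iff_bijOn_of_mapsTo hσf).mp hinj
  unfold blockCoeff
  congr 1
  symm
  apply finsum_mem_eq_of_bijOn σ hbij
  intro χ hχ
  have e1 : (σ χ : H → ℂ) h' = (χ : H → ℂ) h := hσ χ hχ h h' hh'
  have e2 : (σ χ : H → ℂ) 1 = (χ : H → ℂ) 1 := hσ χ hχ 1 1 (by simp)
  rw [e1, e2]

end Stab

section Sub

variable {G : Type*} [Group G] [Fintype G] {M : Ideal AlgInt} [hMp : M.IsPrime]

omit [Fintype G] in
/-- `subgroupBlockCoeff` is the coefficient function of the extension by zero of `idemOf`. -/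
theorem subgroupBlockCoeff_eq (H : Subgroup G) [Fintype H] (f : Set (IrrCharacter H)) :
    subgroupBlockCoeff H f = fun g => (extend H (idemOf f)).coeff g := by
  funext g
  unfold subgroupBlockCoeff
  by_cases hg : g ∈ H
  · rw [dif_pos hg, coeff_extend_of_mem H _ hg, coeff_idemOf]
  · rw [dif_neg hg, coeff_extend_of_not_mem H _ hg]

variable {P Q : Subgroup G} [Fintype (Subgroup.centralizer (Q : Set G))]

/-- The extension by zero of the idempotent of a `P`-stable block of `C_G(Q)` is admissible for
the Brauer map at `P`, when `Q ≤ P ≤ N_G(Q)`. -/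
theorem brAdm_extend_idemOf (hQP : Q ≤ P) (hPN : P ≤ Subgroup.normalizer (Q : Set G))
    {f : Set (IrrCharacter (Subgroup.centralizer (Q : Set G)))} (hf : IsPBlock M f)
    (hstab : ∀ x ∈ P, StabilizesBlock (Subgroup.centralizer (Q : Set G)) f x) :
    BrAdm M P (extend (Subgroup.centralizer (Q : Set G)) (idemOf f)) := by
  refine ⟨?_, ?_, ?_⟩
  · exact CoeffsInRing.extend hMp.ne_top _ (idemC_mem_centerOrder hf)
  · apply conjInv_extend P _ (hPN.trans (normalizer_le_normalizer_centralizer' Q))
    intro u hu h h' hh'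
    rw [coeff_idemOf, coeff_idemOf]
    exact blockCoeff_conj_of_stabilizes _ f u (hstab u hu) h h' hh'
  · have hle : Subgroup.centralizer (P : Set G) ≤ Subgroup.centralizer (Q : Set G) :=
      Subgroup.centralizer_le hQP
    apply conjInv_extend _ _ (hle.trans Subgroup.le_normalizer)
    intro u hu h h' hh'
    rw [coeff_idemOf, coeff_idemOf]
    have e : h' = (⟨u, hle hu⟩ : Subgroup.centralizer (Q : Set G)) * h *
        (⟨u, hle hu⟩ : Subgroup.centralizer (Q : Set G))⁻¹ := by
      apply Subtype.ext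
      rw [hh']
      simp
    rw [e, blockCoeff_conj]

omit [Fintype ↥(Subgroup.centralizer (Q : Set G))] in
/-- The truncation to `C_G(Q)` of a central element of the order, extended by zero, is
admissible for the Brauer map at `P`, when `Q ≤ P ≤ N_G(Q)`. -/
theorem brAdm_extend_trunc (hQP : Q ≤ P) (hPN : P ≤ Subgroup.normalizer (Q : Set G))
    {a : MonoidAlgebra ℂ G} (hac : a ∈ Subalgebra.center ℂ (MonoidAlgebra ℂ G))
    (haR : CoeffsInRing M a) :
    BrAdm M P (extend (Subgroup.centralizer (Q : Set G))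
      (trunc (Subgroup.centralizer (Q : Set G)) a)) := by
  have hle : Subgroup.centralizer (P : Set G) ≤ Subgroup.centralizer (Q : Set G) :=
    Subgroup.centralizer_le hQP
  refine ⟨?_, ?_, ?_⟩
  · exact CoeffsInRing.extend hMp.ne_top _ (CoeffsInRing.trunc _ haR)
  · apply conjInv_extend P _ (hPN.trans (normalizer_le_normalizer_centralizer' Q))
    intro u hu h h' hh'
    rw [coeff_trunc, coeff_trunc, hh']
    exact coeff_conj_of_mem_center hac _ _
  · apply conjInv_extend _ _ (hle.trans Subgroup.le_normalizer)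
    intro u hu h h' hh'
    rw [coeff_trunc, coeff_trunc, hh']
    exact coeff_conj_of_mem_center hac _ _

end Sub

end Cfsg.Agent.Lib.Helper77
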