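/-
Helper77: module PF13-[CTX] for helper16 (PF sec.13, wave 3): the (9.2)-(9.6) context of one side of
the pair with `H₀ = ⊥`, and `S_F` is a chief factor.
-/
import Mathlib
import Cfsg.Agent.Lib.Helper16.PF13Defs
import Cfsg.Agent.Lib.Helper58.PFNineDefs
import Cfsg.Agent.Lib.Helper59.PFNineBR

set_option autoImplicit false

namespace Cfsg.Agent.Lib.Helper77.PF13

open Cfsg Cfsg.Agent.Lib.Helper24.PFCyc Cfsg.Agent.Lib.Helper4.PF Cfsg.Agent.Lib.Helper58.PF9
open Cfsg.Agent.Lib.Helper16.PF13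

universe u

variable {G : Type u} [Group G] [Fintype G] {S W₁ U W₂ : Subgroup G} [Fintype S]
  {mu : WChar W₁ W₂ → (↥S → ℂ)} {dl : WChar W₁ W₂ → ℂ} {η : WChar W₁ W₂ → (G → ℂ)}

theorem ctx_bot_of (h : PSide S W₁ U W₂ mu dl η) :
    Ctx (KM S) (PS S) (U.subgroupOf S) (W₁.subgroupOf S) (W₂.subgroupOf S) ⊥
      (Nat.card W₂) (Nat.card W₁) ∧
    ∀ N : Subgroup ↥S, N.Normal → ⊥ ≤ N → N ≤ PS S → N = ⊥ ∨ N = PS S := by
  obtain ⟨H₀, p', h1, h2, h3, h4, c⟩ :=
    Cfsg.Agent.Lib.Helper59.PF9.exists_ctx_of_typeP h.hP h.hU1 h.hq h.hodd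
  have hHS : fittingHallOf S ≤ S := by
    unfold fittingHallOf
    exact Subgroup.map_subtype_le _
  have hW₂H : W₂ ≤ fittingHallOf S := h.hP.W₂_le.trans inf_le_left
  have hW₂S : W₂ ≤ S := hW₂H.trans hHS
  have hH₀S : H₀ ≤ S := h1.le.trans hHS
  -- (1) `p' = |W₂|`
  have hp' : p' = Nat.card W₂ := by
    have hd : p' ∣ Nat.card ↥(W₂.subgroupOf S) := by
      rw [← c.relIndex_W₂]
      exact Subgroup.relIndex_dvd_card _ _
    rw [Cfsg.Agent.Lib.Helper59.PF9.card_subgroupOf_of_le hW₂S] at hd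
    exact (Nat.prime_dvd_prime_iff_eq c.p_prime h.hp).1 hd
  subst hp'
  -- (2) `H₀ = ⊥`
  have hH₀bot : H₀ = ⊥ := by
    have e1 : Nat.card ↥(H₀.subgroupOf S) * (H₀.subgroupOf S).relIndex (PS S) =
        Nat.card ↥(PS S) := by
      have := Subgroup.relIndex_mul_relIndex ⊥ (H₀.subgroupOf S) (PS S) bot_le c.H₀_le
      rwa [Subgroup.relIndex_bot_left, Subgroup.relIndex_bot_left] at this
    rw [c.relIndex_H₀, Cfsg.Agent.Lib.Helper59.PF9.card_subgroupOf_of_le hH₀S,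
      Cfsg.Agent.Lib.Helper59.PF9.card_subgroupOf_of_le hHS, h.hPcard] at e1
    have hpos : 0 < Nat.card W₂ ^ Nat.card W₁ := pow_pos h.hp.pos _
    have hcard : Nat.card ↥H₀ = 1 := by
      have : Nat.card ↥H₀ * Nat.card W₂ ^ Nat.card W₁ = 1 * Nat.card W₂ ^ Nat.card W₁ := by
        rw [one_mul]; exact e1
      exact Nat.eq_of_mul_eq_mul_right hpos this
    exact Subgroup.card_eq_one.1 hcard
  subst hH₀bot
  rw [Subgroup.bot_subgroupOf] at c
  refine ⟨c, ?_⟩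
  -- (3) chief
  intro N hN _ hNP
  have hmap_le : N.map S.subtype ≤ fittingHallOf S := by
    rw [Subgroup.map_le_iff_le_comap]
    exact hNP
  have hnorm : S ≤ Subgroup.normalizer ((N.map S.subtype : Subgroup G) : Set G) := by
    intro s hs
    rw [Subgroup.mem_normalizer_iff]
    intro x
    constructor
    · rintro ⟨y, hy, rfl⟩
      exact ⟨⟨s, hs⟩ * y * ⟨s, hs⟩⁻¹, hN.conj_mem y hy ⟨s, hs⟩, rfl⟩
    · rintro ⟨y, hy, hyx⟩
      refine ⟨⟨s, hs⟩⁻¹ * y * ⟨s, hs⟩, ?_, ?_⟩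
      · have := hN.conj_mem y hy ⟨s, hs⟩⁻¹
        rwa [inv_inv] at this
      · have : (S.subtype y : G) = s * x * s⁻¹ := hyx
        simp only [Subgroup.subtype_apply, Subgroup.coe_mul, Subgroup.coe_inv] at this ⊢
        rw [this]
        group
  rcases h4 (N.map S.subtype) bot_le hmap_le hnorm with h5 | h5
  · left
    exact (Subgroup.map_eq_bot_iff_of_injective N S.subtype_injective).1 h5
  · right
    have := congrArg (Subgroup.comap S.subtype) h5
    rwa [Subgroup.comap_map_eq_self_of_injective S.subtype_injective] at this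

end Cfsg.Agent.Lib.Helper77.PF13
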