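import Mathlib
import Cfsg.Prelude
import Cfsg.Agent.Lib.Helper82.NormalDefectCover
import Cfsg.Agent.Lib.Helper76.FongReynolds
import Cfsg.Agent.Lib.Helper80.ItoMichler
import Cfsg.Agent.Lib.Helper77.BlockTransport
import Cfsg.Agent.S4723
import Cfsg.Agent.S0964

set_option autoImplicit false
set_option linter.unusedSectionVars false
set_option linter.style.haveILetI false

namespace Cfsg.Agent.Lib.Helper77

open Cfsg Cfsg.Agent.Lib.Helper16 Cfsg.Agent.Lib.Helper78

universe u

section ExtFirstMain

variable {G : Type u} [Group G] [Fintype G] {p : ℕ} [hp : Fact p.Prime] {M : Ideal AlgInt}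

/-- The stabilizer of a block, given in the element-wise form of the statements, is a block
stabilizer in the sense of `Helper76.IsBlockStab`. -/
theorem isBlockStab_of_forall (N : Subgroup G) [hN : N.Normal] [Fintype N]
    (b : Set (IrrCharacter N)) (T : Subgroup G) [Fintype T]
    (hT : ∀ g : G, g ∈ T ↔ ∀ θ ∈ b, ∀ θ' : IrrCharacter N,
      (∀ h h' : N, (h' : G) = g * h * g⁻¹ → (θ' : N → ℂ) h' = (θ : N → ℂ) h) → θ' ∈ b) :
    Helper76.IsBlockStab N T b := by
  intro g
  rw [← T.inv_mem_iff, hT]
  constructor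
  · intro h θ hθ
    apply h θ hθ
    intro k k' hk
    rw [conjIrrN_apply]
    refine congrArg (θ : N → ℂ) (Subtype.ext ?_)
    show g * (k' : G) * g⁻¹ = k
    rw [hk]; group
  · intro h θ hθ θ' hθ'
    have : θ' = conjIrrN N g θ := by
      apply Subtype.ext; funext n
      rw [conjIrrN_apply]
      exact hθ' ⟨g * n * g⁻¹, hN.conj_mem n n.2 g⟩ n (by simp [mul_assoc])
    rw [this]; exact h θ hθ

/-- A `p`-element of `T` lies in the normal subgroup `N ≤ T` of index prime to `p`. -/
theorem mem_of_pow_eq_one_of_not_dvd_relIndex (N T : Subgroup G) [hN : N.Normal]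
    (hidx : ¬ p ∣ N.relIndex T) {d : G} (hdT : d ∈ T) {k : ℕ} (hdk : d ^ p ^ k = 1) : d ∈ N := by
  have hpp : p.Prime := hp.out
  set m := N.relIndex T with hm
  haveI : (N.subgroupOf T).Normal := Subgroup.Normal.subgroupOf hN T
  have h2 : (⟨d, hdT⟩ : T) ^ m ∈ N.subgroupOf T := Subgroup.pow_index_mem (N.subgroupOf T) _
  have h3 : d ^ m ∈ N := by
    have := Subgroup.mem_subgroupOf.mp h2
    simpa using this
  have h5 : ((d : G) : G ⧸ N) ^ m = 1 := by
    rw [← QuotientGroup.mk_pow]
    exact (QuotientGroup.eq_one_iff _).mpr h3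
  have h6 : ((d : G) : G ⧸ N) ^ p ^ k = 1 := by
    rw [← QuotientGroup.mk_pow, hdk, QuotientGroup.mk_one]
  have h7 : orderOf ((d : G) : G ⧸ N) ∣ Nat.gcd m (p ^ k) :=
    Nat.dvd_gcd (orderOf_dvd_of_pow_eq_one h5) (orderOf_dvd_of_pow_eq_one h6)
  have hcop : Nat.Coprime m (p ^ k) := by
    apply Nat.Coprime.pow_right
    rw [Nat.coprime_comm]
    exact (Nat.Prime.coprime_iff_not_dvd hpp).mpr hidx
  rw [hcop, Nat.dvd_one, orderOf_eq_one_iff] at h7
  exact (QuotientGroup.eq_one_iff _).mp h7


/-- `N` lies in the stabilizer of each of its blocks. -/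
theorem le_of_isBlockStab (N : Subgroup G) [hN : N.Normal] [Fintype N]
    (b : Set (IrrCharacter N)) (T : Subgroup G) [Fintype T]
    (hstab : Helper76.IsBlockStab N T b) : N ≤ T := by
  intro n hn
  rw [hstab n]
  intro θ hθ
  have : conjIrrN N n θ = θ := by
    apply Subtype.ext; funext k
    rw [conjIrrN_apply]
    exact irr_conj θ k ⟨n, hn⟩
  rw [this]; exact hθ

/-- **Extended first main theorem, normal case.**  Let `Q` be a normal `p`-subgroup of `G`,
`N = Q C_G(Q)`, `b` a block of `N` of defect `ν_p |Q|`, `T` its stabilizer, and `β` the block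
of `G` covering `b`.  Then `β` has defect group `Q` iff `p ∤ |T : N|`. -/
theorem isDefectGroup_iff_not_dvd_relIndex_stab (hM : IsPModular p M) (Q : Subgroup G)
    [hQn : Q.Normal] (hQ : IsPGroup p Q) (N : Subgroup G) [hNn : N.Normal]
    (hN : N = Q ⊔ Subgroup.centralizer (Q : Set G)) [Fintype N]
    (b : Set (IrrCharacter N)) (hb : IsPBlock M b)
    (hdef : blockDefect p b = (Nat.card Q).factorization p)
    (T : Subgroup G)
    (hT : ∀ g : G, g ∈ T ↔ ∀ θ ∈ b, ∀ θ' : IrrCharacter N,
      (∀ h h' : N, (h' : G) = g * h * g⁻¹ → (θ' : N → ℂ) h' = (θ : N → ℂ) h) → θ' ∈ b)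
    (β : Set (IrrCharacter G)) (hβ : IsPBlock M β)
    (hcov : ∃ χ ∈ β, ∃ θ ∈ b, classInner (fun n : N => (χ : G → ℂ) n) (θ : N → ℂ) ≠ 0) :
    IsDefectGroup p M β Q ↔ ¬ p ∣ N.relIndex T := by
  classical
  haveI : Fintype T := Fintype.ofFinite T
  haveI hMp := isPModular_isPrime hM
  have hpp : p.Prime := hp.out
  have hstab := isBlockStab_of_forall N b T hT
  have hNT : N ≤ T := le_of_isBlockStab N b T hstab
  have hQN : Q ≤ N := by rw [hN]; exact le_sup_left
  have hCN : Subgroup.centralizer (Q : Set G) ≤ N := by rw [hN]; exact le_sup_right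
  constructor
  · -- a defect group `Q` forces the index to be prime to `p`
    intro hβQ
    obtain ⟨θ, hθb, -, S, hST, hS, hidx⟩ := Cfsg.Agent.S4723.result p M hM N b hb T hT
    obtain ⟨χf, hχirr, hover⟩ := Helper80.exists_irr_over' N θ.2
    have hχβ : (⟨χf, hχirr⟩ : IrrCharacter G) ∈ β :=
      Helper82.mem_of_over_covered hM hQ hβ N hN hb hcov hθb hover
    obtain ⟨g, hg, Sy, hSy⟩ := hβQ
    have hQC : Q ≤ Subgroup.centralizer ({g} : Set G) := by
      rw [hSy]
      exact Subgroup.map_subtype_le _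
    have hgC : g ∈ Subgroup.centralizer (Q : Set G) := by
      intro y hy
      exact Subgroup.mem_centralizer_singleton_iff.mp (hQC hy)
    have hgN : g ∈ N := hCN hgC
    have hω : ¬ MemLocalIdeal M (centralChar χf g) := hg.2.2 ⟨χf, hχirr⟩ hχβ
    have hrel : ¬ p ∣ N.relIndex (Subgroup.centralizer ({g} : Set G)) := by
      apply Helper76.not_dvd_index_of_sylow_le p
        (N.subgroupOf (Subgroup.centralizer ({g} : Set G))) Sy
      intro s hs
      rw [Subgroup.mem_subgroupOf]
      apply hQN
      rw [hSy]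
      exact Subgroup.mem_map_of_mem _ hs
    have hD : ∀ D : Subgroup G, IsPGroup p D → (∀ d ∈ D, conjIrrN N d θ = θ) → D ≤ N :=
      fun D hDp hfix => Helper82.pSubgroup_le_of_fixes N hM ⟨χf, hχirr⟩ θ hover ⟨g, hgN⟩ hω hrel
        D hDp hfix
    -- `N ≤ S`
    have hNS : N ≤ S := by
      intro n hn
      rw [hS]
      refine ⟨hNT hn, ?_⟩
      intro k k' hk
      have h2 := irr_conj θ k ⟨n, hn⟩
      rw [← h2]
      refine congrArg (θ : N → ℂ) (Subtype.ext ?_)
      exact hk
    -- `p ∤ |S : N|`
    have hrelS : ¬ p ∣ N.relIndex S := by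
      obtain Sy' : Sylow p S := default
      apply Helper76.not_dvd_index_of_sylow_le p (N.subgroupOf S) Sy'
      intro s hs
      rw [Subgroup.mem_subgroupOf]
      have hDp : IsPGroup p ((Sy' : Subgroup S).map S.subtype) := Sy'.isPGroup'.map S.subtype
      apply hD _ hDp _ (Subgroup.mem_map_of_mem _ hs)
      rintro d ⟨d', -, rfl⟩
      apply Subtype.ext; funext k
      rw [conjIrrN_apply]
      exact ((hS _).mp d'.2).2 k _ rfl
    rw [← Subgroup.relIndex_mul_relIndex N S T hNS hST]
    intro hdvd
    rcases (Nat.Prime.dvd_mul hpp).mp hdvd with h | h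
    · exact hrelS h
    · exact hidx h
  · -- index prime to `p` forces the defect group `Q`
    intro hidx
    obtain ⟨E, hE⟩ := exists_isDefectGroup p hβ
    have hQE : Q ≤ E := normal_pGroup_le_defectGroup hM Q hQ hβ hE
    have hcardE := card_defectGroup hM hβ hE
    obtain ⟨χ₀, hχ₀, θ₀, hθ₀, hcon₀⟩ := hcov
    have key : ∀ χ ∈ β, (Nat.card G).factorization p ≤
        (charDegree (χ : G → ℂ)).factorization p + (Nat.card Q).factorization p := by
      intro χ hχ
      obtain ⟨ψ, hψ⟩ := exists_constituent N χ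
      obtain ⟨g, θ', hθ'b, hψθ'⟩ :=
        Cfsg.Agent.S0964.result p M hM N β hβ b hb χ₀ hχ₀ θ₀ hθ₀ hcon₀ χ hχ ψ hψ
      have hψeq : ψ = conjIrrN N g θ' := by
        apply Subtype.ext; funext n
        rw [conjIrrN_apply]
        exact hψθ' n
      have hover : classInner (fun n : N => (χ : G → ℂ) n) (θ' : N → ℂ) ≠ 0 := by
        rw [← classInner_res_conjIrrN N χ g θ', ← hψeq]
        exact hψ
      have hD : ∀ D : Subgroup G, IsPGroup p D → (∀ d ∈ D, conjIrrN N d θ' = θ') → D ≤ N := by
        intro D hDp hfix d hd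
        have hdT : d ∈ T := hstab.mem_of_conj_mem hb hθ'b (by rw [hfix d hd]; exact hθ'b)
        obtain ⟨k, hk⟩ := hDp ⟨d, hd⟩
        have hdk : d ^ p ^ k = 1 := by
          have := congrArg Subtype.val hk
          simpa using this
        exact mem_of_pow_eq_one_of_not_dvd_relIndex N T hidx hdT hdk
      have h1 := Helper82.factorization_degree_ge N χ θ' hover hD
      have h2 : (Nat.card N).factorization p ≤
          (charDegree (θ' : N → ℂ)).factorization p + blockDefect p b := by
        unfold blockDefect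
        have : sInf ((fun χ : IrrCharacter N => (charDegree (χ : N → ℂ)).factorization p) '' b) ≤
            (charDegree (θ' : N → ℂ)).factorization p :=
          Nat.sInf_le ⟨θ', hθ'b, rfl⟩
        omega
      omega
    have hdβ : blockDefect p β ≤ (Nat.card Q).factorization p := by
      unfold blockDefect
      have : (Nat.card G).factorization p - (Nat.card Q).factorization p ≤
          sInf ((fun χ : IrrCharacter G => (charDegree (χ : G → ℂ)).factorization p) '' β) := by
        apply le_csInf
        · exact ⟨_, χ₀, hχ₀, rfl⟩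
        · rintro _ ⟨χ, hχ, rfl⟩
          have := key χ hχ
          show _ ≤ (charDegree (χ : G → ℂ)).factorization p
          omega
      omega
    have hcardQ : Nat.card Q = p ^ (Nat.card Q).factorization p := by
      obtain ⟨n, hn⟩ := IsPGroup.iff_card.mp hQ
      rw [hn, Nat.Prime.factorization_pow hpp]
      simp
    have hle : Nat.card E ≤ Nat.card Q := by
      rw [hcardE, hcardQ]
      exact Nat.pow_le_pow_right hpp.pos hdβ
    have hEQ : Q = E := Subgroup.eq_of_le_of_card_ge hQE hle
    rw [hEQ]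
    exact hE


/-- **Transitivity of block induction** through an intermediate subgroup `N`, with the smaller
subgroup given both as `H ≤ G` and (via the isomorphism `φ`) as a subgroup `L` of `N`. -/
theorem isInducedBlock_trans_transport [hMp : M.IsPrime] (N H : Subgroup G) [Fintype N] [Fintype H]
    (L : Subgroup N) [Fintype L] (φ : L ≃* H) (hφ : ∀ x : L, ((φ x : H) : G) = ((x : N) : G))
    {b : Set (IrrCharacter H)} {β : Set (IrrCharacter N)} {B : Set (IrrCharacter G)}
    (h₁ : IsInducedBlock M L (irrTransport φ '' b) β) (h₂ : IsInducedBlock M H b B) :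
    IsInducedBlock M N β B := by
  classical
  refine ⟨h₁.2.1, h₂.2.1, ?_⟩
  intro ψ hψ χ hχ g
  obtain ⟨ξ, hξ⟩ := IsPBlock_nonempty hMp.ne_top h₂.1
  have hzN : resAlgC N (classSumC g) ∈ centerOrder N M :=
    resAlgC_mem_centerOrder (M := M) N (classSumC_mem_centerOrder (M := M) g)
  have e1 := isInducedBlock_congr L h₁ (ξ := irrTransport φ ξ) ⟨ξ, hξ, rfl⟩ hψ hzN
  have e2 := h₂.2.2 ξ hξ χ hχ g
  have e3 : omegaHom ψ (resAlgC N (classSumC g)) = inducedCentralChar N (ψ : N → ℂ) g := by
    rw [omegaHom_apply]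
    exact omega_resAlg_classSum N _ g
  have e4 : omega (irrTransport φ ξ : L → ℂ)
      (resAlg L ((resAlgC N (classSumC g) : Subalgebra.center ℂ (MonoidAlgebra ℂ N)) :
        MonoidAlgebra ℂ N)) = inducedCentralChar H (ξ : H → ℂ) g := by
    rw [← omega_resAlg_classSum H _ g]
    unfold omega
    rw [irrTransport_apply, map_one]
    congr 1
    apply Fintype.sum_equiv φ.toEquiv
    intro x
    rw [irrTransport_apply, coeff_resAlg, coeff_resAlg]
    show (resAlg N (classSum g)).coeff (x : N) * _ = _
    rw [coeff_resAlg, ← hφ x]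
    rfl
  rw [e3, e4] at e1
  have := memLocalIdeal_sub e2 e1
  rwa [sub_sub_sub_cancel_left] at this

theorem charDegree_irrTransport' {K H : Type*} [Group K] [Group H] (φ : K ≃* H)
    (χ : IrrCharacter H) :
    charDegree (irrTransport φ χ : K → ℂ) = charDegree (χ : H → ℂ) := by
  unfold charDegree
  rw [irrTransport_apply, map_one]

theorem blockDefect_image_irrTransport {K H : Type*} [Group K] [Group H] (p : ℕ) (φ : K ≃* H)
    (b : Set (IrrCharacter H)) :
    blockDefect p (irrTransport φ '' b) = blockDefect p b := by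
  unfold blockDefect
  rw [Set.image_image, Nat.card_congr φ.toEquiv]
  simp only [charDegree_irrTransport']

end ExtFirstMain

end Cfsg.Agent.Lib.Helper77
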