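import Mathlib
import Cfsg.Agent.Lib.Helper75.BrauerHalfB

set_option autoImplicit false
set_option linter.unusedSectionVars false

namespace Cfsg.Agent.Lib.Helper77.BH
open Cfsg Cfsg.Agent.Lib.Helper78 Cfsg.Agent.Lib.Helper16 Cfsg.Agent.Lib.Helper3.DefOneGen
  Cfsg.Agent.Lib.Helper75.McKayOne Cfsg.Agent.Lib.Helper75.BrauerHalf
open scoped ComplexConjugate IsMulCommutative

universe u

variable {G : Type u} [Group G] [Fintype G] {p : ℕ} [hp : Fact p.Prime] (P : Sylow p G)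
  (hP : Nat.card P = p)
variable [Fintype ↥(Subgroup.centralizer ((P : Subgroup G) : Set G))] [Fintype ↥(P : Subgroup G)]
  [IsMulCommutative ↥(P : Subgroup G)] [Fintype (↥(P : Subgroup G) →* ℂˣ)]
  [Fintype ↥(Subgroup.normalizer ((P : Subgroup G) : Set G))]

local notation "CP" => Subgroup.centralizer ((P : Subgroup G) : Set G)
local notation "NP" => Subgroup.normalizer ((P : Subgroup G) : Set G)

attribute [local instance] nAct

section CHAR
-- [BH-CHAR]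
include hP in
theorem Lf_char_ge
    (hirr : ∀ Ξ : IrrCharacter G, (Ξ : G → ℂ) ≠ (fun _ : G => (1 : ℂ)) →
      ∃ r : ℝ, 0 ≤ r ∧ Lf P (Ξ : G → ℂ) = (r : ℂ))
    (hone : Lf P (fun _ : G => (1 : ℂ)) =
      -((p : ℂ) * ((p : ℂ) - 1) * ((CP).relIndex NP : ℂ)))
    {Γ : G → ℂ} (hΓ : IsCharacter G Γ) (m : ℕ)
    (hm : classInner Γ (fun _ : G => (1 : ℂ)) = (m : ℂ)) :
    ∃ r : ℝ, -((m : ℝ) * (p : ℝ) * ((p : ℝ) - 1) * ((CP).relIndex NP : ℝ)) ≤ r ∧
      Lf P Γ = (r : ℂ) := by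
  classical
  set one : IrrCharacter G := ⟨fun _ : G => (1 : ℂ), isIrrCharacter_one⟩ with hone_def
  set c : ℝ := (m : ℝ) * (p : ℝ) * ((p : ℝ) - 1) * ((CP).relIndex NP : ℝ) with hc
  have hterm : ∀ Ξ : IrrCharacter G, ∃ r : ℝ, -(if Ξ = one then c else 0) ≤ r ∧
      classInner Γ (Ξ : G → ℂ) * Lf P (Ξ : G → ℂ) = (r : ℂ) := by
    intro Ξ
    by_cases hΞ : Ξ = one
    · refine ⟨-c, by rw [if_pos hΞ], ?_⟩
      rw [hΞ]
      change classInner Γ (fun _ : G => (1 : ℂ)) * Lf P (fun _ : G => (1 : ℂ)) = _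
      rw [hm, hone, hc]
      push_cast
      ring
    · obtain ⟨n, hn⟩ := IsCharacter.exists_nat_classInner hΓ Ξ
      have hΞ' : (Ξ : G → ℂ) ≠ (fun _ : G => (1 : ℂ)) := by
        intro h
        exact hΞ (Subtype.ext h)
      obtain ⟨r, hr0, hr⟩ := hirr Ξ hΞ'
      refine ⟨n * r, ?_, ?_⟩
      · rw [if_neg hΞ, neg_zero]
        positivity
      · rw [hn, hr]
        push_cast
        ring
  choose r hr0 hr using hterm
  refine ⟨∑ Ξ : IrrCharacter G, r Ξ, ?_, ?_⟩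
  · have h1 : ∑ Ξ : IrrCharacter G, -(if Ξ = one then c else 0) ≤ ∑ Ξ : IrrCharacter G, r Ξ :=
      Finset.sum_le_sum (fun Ξ _ => hr0 Ξ)
    rw [Finset.sum_neg_distrib, Finset.sum_ite_eq' Finset.univ one (fun _ => c),
      if_pos (Finset.mem_univ _)] at h1
    exact h1
  · have hdec := IsCharacter.eq_sum_irr hΓ
    have h2 : Lf P Γ = Lf P (∑ ψ : IrrCharacter G, classInner Γ (ψ : G → ℂ) • (ψ : G → ℂ)) :=
      congrArg (Lf P) hdec
    rw [h2, Lf_sum]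
    push_cast
    apply Finset.sum_congr rfl
    intro Ξ _
    rw [Lf_smul, hr Ξ]

end CHAR

end Cfsg.Agent.Lib.Helper77.BH
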