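import Mathlib
import Cfsg.Agent.Lib.Helper75.BrauerHalfB

set_option autoImplicit false
set_option linter.unusedSectionVars false

namespace Cfsg.Agent.Lib.Helper77.BH
open Cfsg Cfsg.Agent.Lib.Helper78 Cfsg.Agent.Lib.Helper16 Cfsg.Agent.Lib.Helper3.DefOneGen
  Cfsg.Agent.Lib.Helper75.McKayOne Cfsg.Agent.Lib.Helper75.BrauerHalf
open scoped ComplexConjugate IsMulCommutative

universe u

variable {G : Type u} [Group G] [Fintype G] {p : ℕ} [hp : Fact p.Prime] (P : Sylow p G)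
  (hP : Nat.card P = p)
variable [Fintype ↥(Subgroup.centralizer ((P : Subgroup G) : Set G))] [Fintype ↥(P : Subgroup G)]
  [IsMulCommutative ↥(P : Subgroup G)] [Fintype (↥(P : Subgroup G) →* ℂˣ)]
  [Fintype ↥(Subgroup.normalizer ((P : Subgroup G) : Set G))]

local notation "CP" => Subgroup.centralizer ((P : Subgroup G) : Set G)
local notation "NP" => Subgroup.normalizer ((P : Subgroup G) : Set G)

attribute [local instance] nAct

section ORBAUX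

open scoped Classical in
theorem ineq_filter_orbit_eq (θ : IrrCharacter ↥CP) (hθ : θ ∈ Theta P) :
    (Theta P).filter (fun θ' => θ' ∈ MulAction.orbit ↥NP θ) =
      Finset.univ.filter (fun θ' : IrrCharacter ↥CP => θ' ∈ MulAction.orbit ↥NP θ) := by
  ext θ'
  simp only [Finset.mem_filter, Finset.mem_univ, true_and]
  constructor
  · exact fun h => h.2
  · intro h
    refine ⟨?_, h⟩
    obtain ⟨n, rfl⟩ := h
    rw [mem_Theta]
    exact smul_trivial_on P n θ ((mem_Theta P θ).mp hθ)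

open scoped Classical in
theorem ineq_sum_orbit (θ : IrrCharacter ↥CP) (hθ : θ ∈ Theta P) :
    ∑ θ' ∈ (Theta P).filter (fun θ' => θ' ∈ MulAction.orbit ↥NP θ),
      (CP).relIndex (thetaStab P θ') = (CP).relIndex NP := by
  rw [ineq_filter_orbit_eq P θ hθ]
  exact sum_orbit_relIndex P θ

open scoped Classical in
theorem ineq_sum_ge_orbit (θ : IrrCharacter ↥CP) (hθ : θ ∈ Theta P)
    (h : IrrCharacter ↥CP → ℕ) (hconst : ∀ θ' ∈ MulAction.orbit ↥NP θ, h θ' = h θ) :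
    (CP).relIndex NP * h θ ≤ ∑ θ' ∈ Theta P, (CP).relIndex (thetaStab P θ') * h θ' := by
  have h1 : ∑ θ' ∈ (Theta P).filter (fun θ' => θ' ∈ MulAction.orbit ↥NP θ),
      (CP).relIndex (thetaStab P θ') * h θ' ≤
      ∑ θ' ∈ Theta P, (CP).relIndex (thetaStab P θ') * h θ' :=
    Finset.sum_le_sum_of_subset (Finset.filter_subset _ _)
  have h2 : ∑ θ' ∈ (Theta P).filter (fun θ' => θ' ∈ MulAction.orbit ↥NP θ),
      (CP).relIndex (thetaStab P θ') * h θ' = (CP).relIndex NP * h θ := by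
    rw [← ineq_sum_orbit P θ hθ, Finset.sum_mul]
    apply Finset.sum_congr rfl
    intro θ' hθ'
    rw [hconst θ' (Finset.mem_filter.mp hθ').2]
  rw [← h2]
  exact h1

open scoped Classical in
theorem ineq_sum_ge_two_orbits (θ₁ θ₂ : IrrCharacter ↥CP) (hθ₁ : θ₁ ∈ Theta P)
    (hθ₂ : θ₂ ∈ Theta P) (hne : θ₂ ∉ MulAction.orbit ↥NP θ₁)
    (h : IrrCharacter ↥CP → ℕ) (hconst₁ : ∀ θ' ∈ MulAction.orbit ↥NP θ₁, h θ' = h θ₁)
    (hconst₂ : ∀ θ' ∈ MulAction.orbit ↥NP θ₂, h θ' = h θ₂) :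
    (CP).relIndex NP * h θ₁ + (CP).relIndex NP * h θ₂ ≤
      ∑ θ' ∈ Theta P, (CP).relIndex (thetaStab P θ') * h θ' := by
  set F₁ := (Theta P).filter (fun θ' => θ' ∈ MulAction.orbit ↥NP θ₁) with hF₁
  set F₂ := (Theta P).filter (fun θ' => θ' ∈ MulAction.orbit ↥NP θ₂) with hF₂
  have hdisj : Disjoint F₁ F₂ := by
    rw [Finset.disjoint_left]
    intro θ' h1 h2
    have e1 := (Finset.mem_filter.mp h1).2
    have e2 := (Finset.mem_filter.mp h2).2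
    apply hne
    have o1 : MulAction.orbit ↥NP θ' = MulAction.orbit ↥NP θ₁ := MulAction.orbit_eq_iff.mpr e1
    have o2 : MulAction.orbit ↥NP θ' = MulAction.orbit ↥NP θ₂ := MulAction.orbit_eq_iff.mpr e2
    rw [← o1, o2]
    exact MulAction.mem_orbit_self θ₂
  have hsub : F₁ ∪ F₂ ⊆ Theta P :=
    Finset.union_subset (Finset.filter_subset _ _) (Finset.filter_subset _ _)
  have h1 : ∑ θ' ∈ F₁ ∪ F₂, (CP).relIndex (thetaStab P θ') * h θ' ≤
      ∑ θ' ∈ Theta P, (CP).relIndex (thetaStab P θ') * h θ' :=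
    Finset.sum_le_sum_of_subset hsub
  rw [Finset.sum_union hdisj] at h1
  have h2 : ∑ θ' ∈ F₁, (CP).relIndex (thetaStab P θ') * h θ' = (CP).relIndex NP * h θ₁ := by
    rw [← ineq_sum_orbit P θ₁ hθ₁, Finset.sum_mul]
    apply Finset.sum_congr rfl
    intro θ' hθ'
    rw [hconst₁ θ' (Finset.mem_filter.mp hθ').2]
  have h3 : ∑ θ' ∈ F₂, (CP).relIndex (thetaStab P θ') * h θ' = (CP).relIndex NP * h θ₂ := by
    rw [← ineq_sum_orbit P θ₂ hθ₂, Finset.sum_mul]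
    apply Finset.sum_congr rfl
    intro θ' hθ'
    rw [hconst₂ θ' (Finset.mem_filter.mp hθ').2]
  rw [h2, h3] at h1
  exact h1

end ORBAUX


section INEQ

include hP in
open scoped Classical in
/-- integer form of the data -/
theorem ineq_Dn_eq {Ξ : G → ℂ} (hΞ : IsCharacter G Ξ) (θ : IrrCharacter ↥CP) (γ : ℤ)
    (hg : ∀ θ' ∈ Theta P, gq P Ξ (θ' : ↥CP → ℂ) =
      if θ' ∈ MulAction.orbit ↥NP θ then (γ : ℂ) else 0) :
    ∀ θ' ∈ Theta P, (Dn P Ξ (θ' : ↥CP → ℂ) : ℤ) =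
      (p : ℤ) * (un P Ξ (θ' : ↥CP → ℂ) : ℤ) - (if θ' ∈ MulAction.orbit ↥NP θ then γ else 0) := by
  intro θ' hθ'
  have h1 := un_spec P hP hΞ θ' hθ'
  rw [hg θ' hθ'] at h1
  have h2 : ((Dn P Ξ (θ' : ↥CP → ℂ) : ℤ) : ℂ) =
      (((p : ℤ) * (un P Ξ (θ' : ↥CP → ℂ) : ℤ) -
        (if θ' ∈ MulAction.orbit ↥NP θ then γ else 0) : ℤ) : ℂ) := by
    push_cast
    split_ifs with h
    · rw [if_pos h] at h1
      linear_combination h1
    · rw [if_neg h] at h1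
      linear_combination h1
  exact_mod_cast h2

include hP in
open scoped Classical in
/-- the functional in terms of `U = ∑ e u` -/
theorem ineq_Lf_eq {Ξ : G → ℂ} (hΞ : IsCharacter G Ξ) (θ : IrrCharacter ↥CP)
    (hθ : θ ∈ Theta P) (γ : ℤ)
    (hg : ∀ θ' ∈ Theta P, gq P Ξ (θ' : ↥CP → ℂ) =
      if θ' ∈ MulAction.orbit ↥NP θ then (γ : ℂ) else 0) :
    Lf P Ξ = (p : ℂ) * ((((p : ℤ) - 1) *
      ((∑ θ' ∈ Theta P, (CP).relIndex (thetaStab P θ') * un P Ξ (θ' : ↥CP → ℂ) : ℕ) : ℤ)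
        - 2 * γ * ((CP).relIndex NP : ℤ) : ℤ) : ℂ) := by
  rw [Lf_eq P hP hΞ]
  congr 2
  have hD := ineq_Dn_eq P hP hΞ θ γ hg
  have hterm : ∀ θ' ∈ Theta P, ((CP).relIndex (thetaStab P θ') : ℤ) *
      (2 * (Dn P Ξ (θ' : ↥CP → ℂ) : ℤ) - ((p : ℤ) + 1) * (un P Ξ (θ' : ↥CP → ℂ) : ℤ))
      = ((p : ℤ) - 1) * (((CP).relIndex (thetaStab P θ') * un P Ξ (θ' : ↥CP → ℂ) : ℕ) : ℤ)
        - 2 * γ * (if θ' ∈ MulAction.orbit ↥NP θ then ((CP).relIndex (thetaStab P θ') : ℤ) else 0) := by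
    intro θ' hθ'
    rw [hD θ' hθ']
    push_cast
    split_ifs <;> ring
  rw [Finset.sum_congr rfl hterm, Finset.sum_sub_distrib, ← Finset.mul_sum, ← Finset.mul_sum,
    ← Finset.sum_filter]
  have hf := ineq_sum_orbit P θ hθ
  have hf' : ∑ θ' ∈ (Theta P).filter (fun θ' => θ' ∈ MulAction.orbit ↥NP θ),
      ((CP).relIndex (thetaStab P θ') : ℤ) = ((CP).relIndex NP : ℤ) := by
    exact_mod_cast hf
  rw [hf']
  push_cast
  ring

include hP in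
theorem ineq_un_const {Ξ : G → ℂ} (hΞ : IsCharacter G Ξ) (θ : IrrCharacter ↥CP) :
    ∀ θ' ∈ MulAction.orbit ↥NP θ, un P Ξ (θ' : ↥CP → ℂ) = un P Ξ (θ : ↥CP → ℂ) := by
  intro θ' hθ'
  obtain ⟨n, hn, rfl⟩ := (mem_orbit_iff P θ θ').mp hθ'
  exact un_thetaConj P (IsCharacter.isClassFunction hΞ) n hn θ

-- [BH-INEQ]
include hP in
open scoped Classical in
theorem Lf_nonneg_of_data {Ξ : G → ℂ} (hΞ : IsCharacter G Ξ) (θ : IrrCharacter ↥CP)
    (hθ : θ ∈ Theta P) (γ : ℤ)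
    (hg : ∀ θ' ∈ Theta P, gq P Ξ (θ' : ↥CP → ℂ) =
      if θ' ∈ MulAction.orbit ↥NP θ then (γ : ℂ) else 0)
    (hγ : γ ≤ 0 ∨ 2 * γ ≤ (p : ℤ) - 1) :
    ∃ r : ℝ, 0 ≤ r ∧ Lf P Ξ = (r : ℂ) := by
  have hp1 : (1 : ℤ) ≤ (p : ℤ) := by exact_mod_cast hp.out.one_le
  have hL := ineq_Lf_eq P hP hΞ θ hθ γ hg
  have hUf0 : (CP).relIndex NP * un P Ξ (θ : ↥CP → ℂ) ≤
      ∑ θ' ∈ Theta P, (CP).relIndex (thetaStab P θ') * un P Ξ (θ' : ↥CP → ℂ) :=
    ineq_sum_ge_orbit P θ hθ (fun θ' => un P Ξ (θ' : ↥CP → ℂ)) (ineq_un_const P hP hΞ θ)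
  have hD := ineq_Dn_eq P hP hΞ θ γ hg θ hθ
  rw [if_pos (MulAction.mem_orbit_self θ)] at hD
  have hle : (un P Ξ (θ : ↥CP → ℂ) : ℤ) ≤ (Dn P Ξ (θ : ↥CP → ℂ) : ℤ) := by
    exact_mod_cast un_le_Dn P hP hΞ θ hθ
  obtain ⟨U, hU⟩ : ∃ U : ℕ, U = ∑ θ' ∈ Theta P,
      (CP).relIndex (thetaStab P θ') * un P Ξ (θ' : ↥CP → ℂ) := ⟨_, rfl⟩
  obtain ⟨f, hf⟩ : ∃ f : ℕ, f = (CP).relIndex NP := ⟨_, rfl⟩
  obtain ⟨u, hu⟩ : ∃ u : ℕ, u = un P Ξ (θ : ↥CP → ℂ) := ⟨_, rfl⟩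
  obtain ⟨D, hDd⟩ : ∃ D : ℕ, D = Dn P Ξ (θ : ↥CP → ℂ) := ⟨_, rfl⟩
  rw [← hU, ← hf] at hL
  rw [← hU, ← hf, ← hu] at hUf0
  rw [← hu, ← hDd] at hD hle
  have hS : (0 : ℤ) ≤ ((p : ℤ) - 1) * (U : ℤ) - 2 * γ * (f : ℤ) := by
    by_cases hγ0 : γ ≤ 0
    · have h1 : (0 : ℤ) ≤ ((p : ℤ) - 1) * (U : ℤ) := by positivity
      have h2 : (0 : ℤ) ≤ -γ * (f : ℤ) := by
        apply mul_nonneg <;> [linarith; positivity]
      nlinarith
    · push Not at hγ0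
      have hγ2 : 2 * γ ≤ (p : ℤ) - 1 := by
        rcases hγ with h | h
        · linarith
        · exact h
      -- u θ ≥ 1
      have hu1 : 1 ≤ u := by
        by_contra hcon
        push Not at hcon
        have h0 : u = 0 := by omega
        rw [h0] at hD hle
        simp only [Nat.cast_zero, mul_zero, zero_sub] at hD
        linarith
      have hUf' : (f : ℤ) ≤ (U : ℤ) := by
        have : f ≤ U := le_trans (by nlinarith) hUf0
        exact_mod_cast this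
      have hf0 : (0 : ℤ) ≤ (f : ℤ) := by positivity
      nlinarith
  refine ⟨(p : ℝ) * ((((p : ℤ) - 1) * (U : ℤ) - 2 * γ * (f : ℤ) : ℤ) : ℝ), ?_, ?_⟩
  · apply mul_nonneg
    · positivity
    · exact_mod_cast hS
  · rw [hL]
    push_cast
    ring

include hP in
open scoped Classical in
/-- a class function whose `Theta`-parts are constant along `P` is constant on `P` -/
theorem ineq_const_of_fpart {F : G → ℂ} (hF : IsClassFunction G F)
    (h : ∀ θ' ∈ Theta P, ∀ y : ↥(P : Subgroup G),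
      fpart p CP F (θ' : ↥CP → ℂ) (y : G) = fpart p CP F (θ' : ↥CP → ℂ) 1) :
    ∀ y : G, y ∈ (P : Subgroup G) → F y = F 1 := by
  intro y hy
  have h1 : ¬ p ∣ orderOf (1 : ↥CP) := by
    rw [orderOf_one]
    exact hp.out.not_dvd_one
  have e1 := apply_eq_sum_fpart P hP hF ⟨y, hy⟩ 1 h1
  have e2 := apply_eq_sum_fpart P hP hF (1 : ↥(P : Subgroup G)) 1 h1
  simp only [OneMemClass.coe_one, mul_one] at e1 e2
  rw [e1, e2, ← Theta_eq_filter P hP]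
  apply Finset.sum_congr rfl
  intro θ' hθ'
  rw [h θ' hθ' ⟨y, hy⟩]

include hP in
open scoped Classical in
theorem Lf_nonneg_or_const {Ξ : G → ℂ} (hΞ : IsCharacter G Ξ) (θ : IrrCharacter ↥CP)
    (hθ : θ ∈ Theta P)
    (hfp : ∀ θ' ∈ Theta P, ∀ y : ↥(P : Subgroup G), y ≠ 1 →
      fpart p CP Ξ (θ' : ↥CP → ℂ) (y : G) =
        if θ' ∈ MulAction.orbit ↥NP θ then 1 else 0) :
    (∃ r : ℝ, 0 ≤ r ∧ Lf P Ξ = (r : ℂ)) ∨
      ∀ y : G, y ∈ (P : Subgroup G) → Ξ y = Ξ 1 := by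
  have hp2 : (2 : ℤ) ≤ (p : ℤ) := by exact_mod_cast hp.out.two_le
  have hcardf : ((Finset.univ.filter (fun y : ↥(P : Subgroup G) => y ≠ 1)).card : ℂ)
      = (p : ℂ) - 1 := by
    have h1 : (Finset.univ.filter (fun y : ↥(P : Subgroup G) => y ≠ 1)).card
        = Fintype.card ↥(P : Subgroup G) - 1 := by
      rw [Finset.filter_ne' Finset.univ (1 : ↥(P : Subgroup G)), Finset.card_erase_of_mem
        (Finset.mem_univ _), Finset.card_univ]
    have h2 : Fintype.card ↥(P : Subgroup G) = p := by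
      rw [← Nat.card_eq_fintype_card]; exact hP
    rw [h1, h2, Nat.cast_sub hp.out.one_le, Nat.cast_one]
  have hg : ∀ θ' ∈ Theta P, gq P Ξ (θ' : ↥CP → ℂ) =
      if θ' ∈ MulAction.orbit ↥NP θ then ((((p : ℤ) - 1 : ℤ)) : ℂ) else 0 := by
    intro θ' hθ'
    unfold gq
    have : ∀ y ∈ Finset.univ.filter (fun y : ↥(P : Subgroup G) => y ≠ 1),
        fpart p CP Ξ (θ' : ↥CP → ℂ) (y : G) =
          if θ' ∈ MulAction.orbit ↥NP θ then 1 else 0 := by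
      intro y hy
      exact hfp θ' hθ' y (Finset.mem_filter.mp hy).2
    rw [Finset.sum_congr rfl this, Finset.sum_const, nsmul_eq_mul, hcardf]
    split_ifs
    · push_cast; ring
    · ring
  have hL := ineq_Lf_eq P hP hΞ θ hθ ((p : ℤ) - 1) hg
  have hDall := ineq_Dn_eq P hP hΞ θ ((p : ℤ) - 1) hg
  have hconst := ineq_un_const P hP hΞ θ
  have hUf0 : (CP).relIndex NP * un P Ξ (θ : ↥CP → ℂ) ≤
      ∑ θ' ∈ Theta P, (CP).relIndex (thetaStab P θ') * un P Ξ (θ' : ↥CP → ℂ) :=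
    ineq_sum_ge_orbit P θ hθ (fun θ' => un P Ξ (θ' : ↥CP → ℂ)) hconst
  have hD := hDall θ hθ
  rw [if_pos (MulAction.mem_orbit_self θ)] at hD
  have hle : (un P Ξ (θ : ↥CP → ℂ) : ℤ) ≤ (Dn P Ξ (θ : ↥CP → ℂ) : ℤ) := by
    exact_mod_cast un_le_Dn P hP hΞ θ hθ
  have hu1 : 1 ≤ un P Ξ (θ : ↥CP → ℂ) := by
    by_contra hcon
    push Not at hcon
    have h0 : un P Ξ (θ : ↥CP → ℂ) = 0 := by omega
    rw [h0] at hD hle
    simp only [Nat.cast_zero, mul_zero, zero_sub] at hD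
    linarith
  -- the three cases
  by_cases hbig : 2 * (CP).relIndex NP ≤
      ∑ θ' ∈ Theta P, (CP).relIndex (thetaStab P θ') * un P Ξ (θ' : ↥CP → ℂ)
  · left
    obtain ⟨U, hU⟩ : ∃ U : ℕ, U = ∑ θ' ∈ Theta P,
        (CP).relIndex (thetaStab P θ') * un P Ξ (θ' : ↥CP → ℂ) := ⟨_, rfl⟩
    obtain ⟨f, hf⟩ : ∃ f : ℕ, f = (CP).relIndex NP := ⟨_, rfl⟩
    rw [← hU, ← hf] at hL hbig
    have hbig' : 2 * (f : ℤ) ≤ (U : ℤ) := by exact_mod_cast hbig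
    have hS : (0 : ℤ) ≤ ((p : ℤ) - 1) * (U : ℤ) - 2 * ((p : ℤ) - 1) * (f : ℤ) := by
      nlinarith
    refine ⟨(p : ℝ) * ((((p : ℤ) - 1) * (U : ℤ) - 2 * ((p : ℤ) - 1) * (f : ℤ) : ℤ) : ℝ), ?_, ?_⟩
    · apply mul_nonneg
      · positivity
      · exact_mod_cast hS
    · rw [hL]
      push_cast
      ring
  · right
    push Not at hbig
    -- u θ = 1
    have hu_eq : un P Ξ (θ : ↥CP → ℂ) = 1 := by
      by_contra hne
      have h2 : 2 ≤ un P Ξ (θ : ↥CP → ℂ) := by omega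
      have : 2 * (CP).relIndex NP ≤ (CP).relIndex NP * un P Ξ (θ : ↥CP → ℂ) := by nlinarith
      omega
    -- off the orbit u = 0
    have hoff : ∀ θ₂ ∈ Theta P, θ₂ ∉ MulAction.orbit ↥NP θ → un P Ξ (θ₂ : ↥CP → ℂ) = 0 := by
      intro θ₂ hθ₂ hnot
      by_contra hne
      have h1 : 1 ≤ un P Ξ (θ₂ : ↥CP → ℂ) := by omega
      have h2 := ineq_sum_ge_two_orbits P θ θ₂ hθ hθ₂ hnot (fun θ' => un P Ξ (θ' : ↥CP → ℂ))
        hconst (ineq_un_const P hP hΞ θ₂)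
      rw [hu_eq] at h2
      have : (CP).relIndex NP ≤ (CP).relIndex NP * un P Ξ (θ₂ : ↥CP → ℂ) := by nlinarith
      omega
    -- D = [orbit]
    have hDval : ∀ θ' ∈ Theta P, fpart p CP Ξ (θ' : ↥CP → ℂ) 1 =
        if θ' ∈ MulAction.orbit ↥NP θ then 1 else 0 := by
      intro θ' hθ'
      rw [Dn_spec P hP hΞ θ' hθ']
      have hD' := hDall θ' hθ'
      by_cases horb : θ' ∈ MulAction.orbit ↥NP θ
      · rw [if_pos horb] at hD' ⊢
        rw [hconst θ' horb, hu_eq] at hD'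
        have : (Dn P Ξ (θ' : ↥CP → ℂ) : ℤ) = 1 := by rw [hD']; push_cast; ring
        have h1 : Dn P Ξ (θ' : ↥CP → ℂ) = 1 := by exact_mod_cast this
        rw [h1]; simp
      · rw [if_neg horb] at hD' ⊢
        rw [hoff θ' hθ' horb] at hD'
        have : (Dn P Ξ (θ' : ↥CP → ℂ) : ℤ) = 0 := by rw [hD']; push_cast; ring
        have h1 : Dn P Ξ (θ' : ↥CP → ℂ) = 0 := by exact_mod_cast this
        rw [h1]; simp
    apply ineq_const_of_fpart P hP (IsCharacter.isClassFunction hΞ)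
    intro θ' hθ' y
    by_cases hy : y = 1
    · rw [hy]; rfl
    · rw [hfp θ' hθ' y hy, hDval θ' hθ']

end INEQ

end Cfsg.Agent.Lib.Helper77.BH
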