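import Mathlib

set_option autoImplicit false

open Module

universe u v

namespace Cfsg.Agent.Lib.Helper77.Flavell

section

variable {G : Type u} [Group G] {K : Type*} [Field K]

/-- minimal non-zero invariant subspaces exist -/
theorem exists_min_inv {Y : Type v} [AddCommGroup Y] [Module K Y] [FiniteDimensional K Y]
    [Nontrivial Y] (σ : Representation K G Y) :
    ∃ U : Submodule K Y, U ≠ ⊥ ∧ (∀ g, U ≤ U.comap (σ g)) ∧
      ∀ U' : Submodule K Y, U' ≤ U → (∀ g, U' ≤ U'.comap (σ g)) → U' = ⊥ ∨ U' = U := by
  classical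
  have hex : ∃ n : ℕ, ∃ U : Submodule K Y, U ≠ ⊥ ∧ (∀ g, U ≤ U.comap (σ g)) ∧ finrank K U = n :=
    ⟨_, ⊤, top_ne_bot, fun g => by simp, rfl⟩
  obtain ⟨U, hU, hinv, hfin⟩ := Nat.find_spec hex
  refine ⟨U, hU, hinv, fun U' hle hinv' => ?_⟩
  by_cases hU' : U' = ⊥
  · exact Or.inl hU'
  · right
    have hmin : Nat.find hex ≤ finrank K U' := Nat.find_min' hex ⟨U', hU', hinv', rfl⟩
    exact Submodule.eq_of_le_of_finrank_le hle (by rw [hfin]; exact hmin)

theorem mem_ker_sub_id {Y : Type*} [AddCommGroup Y] [Module K Y] (A : Y →ₗ[K] Y) (y : Y) :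
    y ∈ LinearMap.ker (A - LinearMap.id) ↔ A y = y := by
  rw [LinearMap.mem_ker, LinearMap.sub_apply, LinearMap.id_apply, sub_eq_zero]

/-- the fixed space of `x` on `Y` is bounded by the fixed spaces on a subrepresentation and the
quotient -/
theorem finrank_ker_le {Y : Type v} [AddCommGroup Y] [Module K Y] [FiniteDimensional K Y]
    (σ : Representation K G Y) (U : Submodule K Y) (hinv : ∀ g, U ≤ U.comap (σ g)) (x : G) :
    finrank K ↥(LinearMap.ker (σ x - LinearMap.id)) ≤
      finrank K ↥(LinearMap.ker (σ.subrepresentation U hinv x - LinearMap.id)) +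
        finrank K ↥(LinearMap.ker (σ.quotient U hinv x - LinearMap.id)) := by
  obtain ⟨f, hf⟩ : ∃ f : ↥(LinearMap.ker (σ x - LinearMap.id)) →ₗ[K] (Y ⧸ U),
      f = (U.mkQ).comp (LinearMap.ker (σ x - LinearMap.id)).subtype := ⟨_, rfl⟩
  have h1 := LinearMap.finrank_range_add_finrank_ker f
  have h2 : finrank K ↥(LinearMap.range f) ≤
      finrank K ↥(LinearMap.ker (σ.quotient U hinv x - LinearMap.id)) := by
    apply Submodule.finrank_mono
    rintro _ ⟨n, rfl⟩
    rw [mem_ker_sub_id]
    have hn : σ x n.1 = n.1 := (mem_ker_sub_id _ _).1 n.2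
    simp only [hf, LinearMap.comp_apply, Submodule.subtype_apply, Submodule.mkQ_apply,
      Representation.quotient_apply, Submodule.mapQ_apply, hn]
  have h3 : finrank K ↥(LinearMap.ker f) ≤
      finrank K ↥(LinearMap.ker (σ.subrepresentation U hinv x - LinearMap.id)) := by
    have hmem : ∀ n : LinearMap.ker f, (n.1.1 : Y) ∈ U := by
      intro n
      have := LinearMap.mem_ker.1 n.2
      simp only [hf, LinearMap.comp_apply, Submodule.subtype_apply, Submodule.mkQ_apply,
        Submodule.Quotient.mk_eq_zero] at this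
      exact this
    let φ : LinearMap.ker f →ₗ[K]
        ↥(LinearMap.ker (σ.subrepresentation U hinv x - LinearMap.id)) :=
      { toFun := fun n => ⟨⟨n.1.1, hmem n⟩, by
          rw [mem_ker_sub_id]
          apply Subtype.ext
          have hn : σ x n.1.1 = n.1.1 := (mem_ker_sub_id _ _).1 n.1.2
          simp only [Representation.subrepresentation_apply, LinearMap.coe_restrict_apply]
          exact hn⟩
        map_add' := fun a b => rfl
        map_smul' := fun c a => rfl }
    apply LinearMap.finrank_le_finrank_of_injective (f := φ)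
    intro a b hab
    have := congrArg (fun z => (z.1.1 : Y)) hab
    exact Subtype.ext (Subtype.ext this)
  omega

/-- the averaging argument: the fixed-point condition passes to quotients -/
theorem hfix_quotient [Finite G] {Y : Type v} [AddCommGroup Y] [Module K Y]
    (σ : Representation K G Y) (U : Submodule K Y) (hinv : ∀ g, U ≤ U.comap (σ g))
    (M : Subgroup G) (hM : ((Nat.card M : ℕ) : K) ≠ 0)
    (hfix : ∀ y : Y, (∀ m ∈ M, σ m y = y) → y = 0) :
    ∀ z : Y ⧸ U, (∀ m ∈ M, σ.quotient U hinv m z = z) → z = 0 := by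
  classical
  haveI : Fintype M := Fintype.ofFinite M
  intro z hz
  obtain ⟨y, rfl⟩ := Submodule.Quotient.mk_surjective U z
  have hmem : ∀ m : M, σ (m : G) y - y ∈ U := by
    intro m
    have := hz m.1 m.2
    simp only [Representation.quotient_apply, Submodule.mapQ_apply] at this
    exact (Submodule.Quotient.eq U).1 this
  -- the average
  obtain ⟨y', hy'⟩ : ∃ y' : Y, y' = ((Nat.card M : ℕ) : K)⁻¹ • ∑ m : M, σ (m : G) y := ⟨_, rfl⟩
  have hfixed : ∀ m₀ ∈ M, σ m₀ y' = y' := by
    intro m₀ hm₀
    rw [hy', map_smul, map_sum]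
    congr 1
    have : ∀ m : M, σ m₀ (σ (m : G) y) = σ (((⟨m₀, hm₀⟩ : M) * m : M) : G) y := by
      intro m
      rw [Subgroup.coe_mul, map_mul, Module.End.mul_apply]
    rw [Finset.sum_congr rfl (fun m _ => this m)]
    exact Fintype.sum_bijective (fun m : M => (⟨m₀, hm₀⟩ : M) * m)
      (Group.mulLeft_bijective _) _ _ (fun m => rfl)
  have hy'0 : y' = 0 := hfix y' hfixed
  have hdiff : y' - y ∈ U := by
    have h1 : y' - y = ((Nat.card M : ℕ) : K)⁻¹ • ∑ m : M, (σ (m : G) y - y) := by
      rw [Finset.sum_sub_distrib, Finset.sum_const, Finset.card_univ, smul_sub, ← hy',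
        ← Nat.card_eq_fintype_card, ← Nat.cast_smul_eq_nsmul K, smul_smul, inv_mul_cancel₀ hM,
        one_smul]
    rw [h1]
    exact U.smul_mem _ (U.sum_mem (fun m _ => hmem m))
  rw [hy'0, zero_sub] at hdiff
  rw [Submodule.Quotient.mk_eq_zero]
  exact (Submodule.neg_mem_iff U).1 hdiff

/-- the induction on the dimension -/
theorem bc_ind_aux [Finite G] (x : G) (hgen : Subgroup.normalClosure ({x} : Set G) = ⊤)
    (M : Subgroup G) [M.Normal] (hM : ((Nat.card M : ℕ) : K) ≠ 0)
    (hirrcase : ∀ (Y : Type v) [AddCommGroup Y] [Module K Y] [FiniteDimensional K Y]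
      [Nontrivial Y] (σ : Representation K G Y),
      (∀ W : Submodule K Y, (∀ g, W ≤ W.comap (σ g)) → W = ⊥ ∨ W = ⊤) → σ x ≠ 1 →
        2 * finrank K ↥(LinearMap.ker (σ x - LinearMap.id)) < finrank K Y) :
    ∀ n : ℕ, ∀ (Y : Type v) [AddCommGroup Y] [Module K Y] [FiniteDimensional K Y]
      (σ : Representation K G Y), finrank K Y = n →
      (∀ y : Y, (∀ m ∈ M, σ m y = y) → y = 0) →
      2 * finrank K ↥(LinearMap.ker (σ x - LinearMap.id)) ≤ finrank K Y ∧
        (0 < n → 2 * finrank K ↥(LinearMap.ker (σ x - LinearMap.id)) < finrank K Y) := by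
  intro n
  induction n using Nat.strong_induction_on with
  | _ n ih =>
  intro Y _ _ _ σ hn hfix
  rcases Nat.eq_zero_or_pos n with h0 | hpos
  · have hk : finrank K ↥(LinearMap.ker (σ x - LinearMap.id)) ≤ finrank K Y :=
      Submodule.finrank_le _
    refine ⟨by omega, fun h => by omega⟩
  · haveI : Nontrivial Y := Module.finrank_pos_iff.1 (hn ▸ hpos)
    obtain ⟨U, hU, hinv, hmin⟩ := exists_min_inv σ
    haveI : Nontrivial U := Submodule.nontrivial_iff_ne_bot.2 hU
    -- the subrepresentation is irreducible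
    have hirr : ∀ W : Submodule K U,
        (∀ g, W ≤ W.comap (σ.subrepresentation U hinv g)) → W = ⊥ ∨ W = ⊤ := by
      intro W hW
      have h1 : W.map U.subtype ≤ U := by
        rintro _ ⟨w, _, rfl⟩
        exact w.2
      have h2 : ∀ g, W.map U.subtype ≤ (W.map U.subtype).comap (σ g) := by
        rintro g _ ⟨w, hw, rfl⟩
        refine ⟨σ.subrepresentation U hinv g w, hW g hw, ?_⟩
        simp only [Representation.subrepresentation_apply, Submodule.subtype_apply,
          LinearMap.coe_restrict_apply]
      rcases hmin _ h1 h2 with h | h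
      · left
        rw [eq_bot_iff]
        intro w hw
        have hw' : (w : Y) ∈ W.map U.subtype := ⟨w, hw, rfl⟩
        rw [h, Submodule.mem_bot] at hw'
        rw [Submodule.mem_bot]
        exact Subtype.ext hw'
      · right
        rw [eq_top_iff]
        intro w _
        have hw : (w : Y) ∈ W.map U.subtype := by rw [h]; exact w.2
        obtain ⟨w', hw', hww'⟩ := hw
        have : w' = w := Subtype.ext hww'
        rw [← this]
        exact hw'
    -- `x` is not trivial on `U`
    have hx1 : σ.subrepresentation U hinv x ≠ 1 := by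
      intro h1
      have hker : Subgroup.normalClosure ({x} : Set G) ≤
          MonoidHom.ker (σ.subrepresentation U hinv) := by
        apply Subgroup.normalClosure_le_normal
        intro g hg
        rw [Set.mem_singleton_iff] at hg
        rw [hg]
        exact (MonoidHom.mem_ker).2 h1
      rw [hgen] at hker
      apply hU
      rw [eq_bot_iff]
      intro u hu
      rw [Submodule.mem_bot]
      apply hfix u
      intro m _
      have hm : σ.subrepresentation U hinv m = 1 := MonoidHom.mem_ker.1 (hker (Subgroup.mem_top m))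
      have := congrArg (fun A : Module.End K U => ((A ⟨u, hu⟩ : U) : Y)) hm
      simpa using this
    have hsub := hirrcase U (σ.subrepresentation U hinv) hirr hx1
    -- the quotient
    have hfix₂ := hfix_quotient σ U hinv M hM hfix
    have hdim : finrank K (Y ⧸ U) + finrank K U = finrank K Y :=
      Submodule.finrank_quotient_add_finrank U
    have hUpos : 0 < finrank K U := Module.finrank_pos
    have hquot := (ih (finrank K (Y ⧸ U)) (by omega) (Y ⧸ U) (σ.quotient U hinv) rfl hfix₂).1
    have hle := finrank_ker_le σ U hinv x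
    refine ⟨by omega, fun _ => by omega⟩

/-- S3818 [BCIND]: the half-dimension bound for the fixed space of `x` passes from irreducible
representations to all representations without `M`-fixed vectors. -/
theorem bc_ind {G : Type u} [Group G] [Finite G] {K : Type*} [Field K] (x : G)
    (hgen : Subgroup.normalClosure ({x} : Set G) = ⊤) (M : Subgroup G) [M.Normal]
    (hM : ((Nat.card M : ℕ) : K) ≠ 0)
    (hirrcase : ∀ (Y : Type v) [AddCommGroup Y] [Module K Y] [FiniteDimensional K Y]
      [Nontrivial Y] (σ : Representation K G Y),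
      (∀ W : Submodule K Y, (∀ g, W ≤ W.comap (σ g)) → W = ⊥ ∨ W = ⊤) → σ x ≠ 1 →
        2 * finrank K ↥(LinearMap.ker (σ x - LinearMap.id)) < finrank K Y)
    {Y : Type v} [AddCommGroup Y] [Module K Y] [FiniteDimensional K Y] [Nontrivial Y]
    (σ : Representation K G Y) (hfix : ∀ y : Y, (∀ m ∈ M, σ m y = y) → y = 0) :
    2 * finrank K ↥(LinearMap.ker (σ x - LinearMap.id)) < finrank K Y :=
  (bc_ind_aux x hgen M hM hirrcase (finrank K Y) Y σ rfl hfix).2 Module.finrank_pos

end

end Cfsg.Agent.Lib.Helper77.Flavell
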