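import Mathlib

set_option autoImplicit false

open scoped commutatorElement

namespace Cfsg.Agent.Lib.Helper77.Flavell

/-- S3818 [BCM]: a nontrivial finite solvable group with trivial `ℓ`-core has a nontrivial normal
subgroup of order prime to `ℓ`. -/
theorem exists_normal_coprime {G : Type*} [Group G] [Finite G] [Group.IsSolvable G] [Nontrivial G]
    (ℓ : ℕ) [Fact ℓ.Prime] (hO : ∀ S : Subgroup G, S.Normal → IsPGroup ℓ S → S = ⊥) :
    ∃ M : Subgroup G, M.Normal ∧ M ≠ ⊥ ∧ ¬ ℓ ∣ Nat.card M := by
  classical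
  -- the last nontrivial term of the derived series
  have hsol : ∃ n, derivedSeries G n = ⊥ := (Group.isSolvable_def G).1 inferInstance
  have h0 : derivedSeries G 0 ≠ ⊥ := by
    rw [derivedSeries_zero]
    exact top_ne_bot
  have hpos : 0 < Nat.find hsol := by
    rcases Nat.eq_zero_or_pos (Nat.find hsol) with h | h
    · exact absurd (h ▸ Nat.find_spec hsol) h0
    · exact h
  obtain ⟨n, hn⟩ : ∃ n, Nat.find hsol = n + 1 := ⟨Nat.find hsol - 1, by omega⟩
  have hA0 : derivedSeries G n ≠ ⊥ := Nat.find_min hsol (by omega)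
  have hA1 : derivedSeries G (n + 1) = ⊥ := hn ▸ Nat.find_spec hsol
  have hcomm : ∀ a ∈ derivedSeries G n, ∀ b ∈ derivedSeries G n, a * b = b * a := by
    intro a ha b hb
    have h1 : ⁅a, b⁆ ∈ derivedSeries G (n + 1) := by
      rw [derivedSeries_succ]
      exact Subgroup.commutator_mem_commutator ha hb
    rw [hA1, Subgroup.mem_bot, commutatorElement_def] at h1
    have h2 : a * b * a⁻¹ = b := by
      have := congrArg (fun z => z * b) h1
      simpa using this
    have h3 := congrArg (fun z => z * a) h2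
    simpa using h3
  refine ⟨derivedSeries G n, inferInstance, hA0, ?_⟩
  intro hdvd
  -- the elements of order dividing `ℓ` form a normal `ℓ`-subgroup
  let S : Subgroup G :=
    { carrier := {a | a ∈ derivedSeries G n ∧ a ^ ℓ = 1}
      one_mem' := ⟨Subgroup.one_mem _, one_pow _⟩
      mul_mem' := by
        rintro a b ⟨ha, ha'⟩ ⟨hb, hb'⟩
        refine ⟨Subgroup.mul_mem _ ha hb, ?_⟩
        rw [(show Commute a b from hcomm a ha b hb).mul_pow, ha', hb', one_mul]
      inv_mem' := by
        rintro a ⟨ha, ha'⟩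
        exact ⟨Subgroup.inv_mem _ ha, by rw [inv_pow, ha', inv_one]⟩ }
  have hSn : S.Normal := by
    refine ⟨fun a ha g => ?_⟩
    obtain ⟨ha1, ha2⟩ := ha
    refine ⟨(inferInstance : (derivedSeries G n).Normal).conj_mem a ha1 g, ?_⟩
    rw [conj_pow, ha2, mul_one, mul_inv_cancel]
  have hSp : IsPGroup ℓ S := by
    intro a
    refine ⟨1, ?_⟩
    apply Subtype.ext
    rw [pow_one, Subgroup.coe_pow]
    exact a.2.2
  have hSbot := hO S hSn hSp
  -- but Cauchy gives an element of order `ℓ`
  obtain ⟨a, ha⟩ := exists_prime_orderOf_dvd_card' (G := derivedSeries G n) ℓ hdvd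
  have haS : (a : G) ∈ S := by
    refine ⟨a.2, ?_⟩
    have := pow_orderOf_eq_one a
    rw [ha] at this
    have h2 := congrArg Subtype.val this
    simpa using h2
  rw [hSbot, Subgroup.mem_bot] at haS
  have : a = 1 := Subtype.ext haS
  rw [this, orderOf_one] at ha
  exact (Fact.out : ℓ.Prime).one_lt.ne ha

end Cfsg.Agent.Lib.Helper77.Flavell
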