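/-
Helper77: S3360-[D2c] (Huppert, dimension 2), abstract group-theoretic half.
-/
import Mathlib

set_option autoImplicit false

namespace Cfsg.Agent.Lib.Helper77.HuppertD2c

/-- If all `L`-conjugates of `a` lie in the finite set `T`, then `C_L(a)` has index at most `|T|`
in `L`. -/
theorem index_centralizer_le {H : Type*} [Group H] (L : Subgroup H) (a : H) (T : Finset H)
    (hT : ∀ c ∈ L, c * a * c⁻¹ ∈ T) :
    ((Subgroup.centralizer {a}).subgroupOf L).index ≤ T.card := by
  let _ : MulAction ↥L H := MulAction.compHom H ((MulAut.conj : H →* MulAut H).comp L.subtype)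
  have hsmul : ∀ (c : ↥L) (h : H), c • h = (c : H) * h * (c : H)⁻¹ := fun c h => rfl
  have hstab : MulAction.stabilizer ↥L a = (Subgroup.centralizer {a}).subgroupOf L := by
    ext c
    rw [MulAction.mem_stabilizer_iff, hsmul, Subgroup.mem_subgroupOf,
      Subgroup.mem_centralizer_iff]
    constructor
    · intro h y hy
      rw [Set.mem_singleton_iff] at hy
      subst hy
      calc y * (c : H) = ((c : H) * y * (c : H)⁻¹) * (c : H) := by rw [h]
        _ = (c : H) * y := by group
    · intro h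
      have h1 := h a rfl
      calc (c : H) * a * (c : H)⁻¹ = (a * (c : H)) * (c : H)⁻¹ := by rw [h1]
        _ = a := by group
  rw [← hstab, MulAction.index_stabilizer]
  calc (MulAction.orbit ↥L a).ncard ≤ ((T : Set H)).ncard := by
        apply Set.ncard_le_ncard _ (Finset.finite_toSet T)
        rintro _ ⟨c, rfl⟩
        exact hT c c.2
    _ = T.card := Set.ncard_coe_finset T

/-- Two elements with the same central commutator with `h` differ by an element commuting
with `h`. -/
theorem comm_of_same {G : Type*} [Group G] (g b h c : G) (hc : c ∈ Subgroup.center G)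
    (hg : g * h * g⁻¹ * h⁻¹ = c) (hb : b * h * b⁻¹ * h⁻¹ = c) :
    (g * b⁻¹) * h = h * (g * b⁻¹) := by
  have hc' : ∀ u, u * c = c * u := Subgroup.mem_center_iff.1 hc
  have e1 : g * h = c * (h * g) := by
    rw [← hg]; group
  have e2 : b * h = c * (h * b) := by
    rw [← hb]; group
  have e3 : h * b⁻¹ = c * (b⁻¹ * h) := by
    calc h * b⁻¹ = b⁻¹ * (b * h) * b⁻¹ := by group
      _ = b⁻¹ * (c * (h * b)) * b⁻¹ := by rw [e2]
      _ = (b⁻¹ * c) * h := by group
      _ = c * (b⁻¹ * h) := by rw [hc' b⁻¹]; group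
  have e4 : c * (g * b⁻¹ * h) = c * (h * (g * b⁻¹)) := by
    calc c * (g * b⁻¹ * h) = (c * g) * (b⁻¹ * h) := by group
      _ = g * (c * (b⁻¹ * h)) := by rw [← hc' g]; group
      _ = g * (h * b⁻¹) := by rw [e3]
      _ = (g * h) * b⁻¹ := by group
      _ = c * (h * g) * b⁻¹ := by rw [e1]
      _ = c * (h * (g * b⁻¹)) := by group
  exact mul_left_cancel e4

theorem comm_eq_one_iff {G : Type*} [Group G] (g h : G) :
    g * h * g⁻¹ * h⁻¹ = 1 ↔ g * h = h * g := by
  constructor
  · intro e
    calc g * h = (g * h * g⁻¹ * h⁻¹) * (h * g) := by group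
      _ = h * g := by rw [e, one_mul]
  · intro e
    calc g * h * g⁻¹ * h⁻¹ = (g * h) * g⁻¹ * h⁻¹ := by group
      _ = (h * g) * g⁻¹ * h⁻¹ := by rw [e]
      _ = 1 := by group

theorem card_eq_mul_card_center {G : Type*} [Group G] [Finite G] (B : Subgroup G) [B.Normal]
    (x y : G) (hx : x ∈ B) (hy : y ∈ B) (z₀ : G) (hz₀ : z₀ = x * y * x⁻¹ * y⁻¹)
    (hz₀c : z₀ ∈ Subgroup.center G) (hz₀1 : z₀ ≠ 1)
    (hcent : ∀ g : G, g * x = x * g → g * y = y * g → g ∈ Subgroup.center G)
    (hpm : ∀ g h : G, g * h * g⁻¹ * h⁻¹ ∈ Subgroup.center G →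
      g * h * g⁻¹ * h⁻¹ = 1 ∨ g * h * g⁻¹ * h⁻¹ = z₀)
    (hB : ∀ a ∈ B, ∀ b ∈ B, a * b * a⁻¹ * b⁻¹ ∈ Subgroup.center G) :
    ∃ m : ℕ, (m = 4 ∨ m = 8 ∨ m = 12 ∨ m = 16 ∨ m = 24) ∧
      Nat.card G = m * Nat.card (Subgroup.center G) := by
  classical
  have hxy : x * y ≠ y * x := by
    intro h
    apply hz₀1
    rw [hz₀]
    exact (comm_eq_one_iff x y).2 h
  -- the commutator `[y, x]` is `z₀` too
  have hyx : y * x * y⁻¹ * x⁻¹ = z₀ := by
    have hmem : y * x * y⁻¹ * x⁻¹ ∈ Subgroup.center G := by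
      have : y * x * y⁻¹ * x⁻¹ = z₀⁻¹ := by rw [hz₀]; group
      rw [this]
      exact (Subgroup.center G).inv_mem hz₀c
    rcases hpm y x hmem with h | h
    · exact absurd ((comm_eq_one_iff y x).1 h).symm hxy
    · exact h
  -- patterns of `1, x, y, x * y`
  have hxx : x * x * x⁻¹ * x⁻¹ = 1 := by group
  have hyy : y * y * y⁻¹ * y⁻¹ = 1 := by group
  have hxyx : (x * y) * x * (x * y)⁻¹ * x⁻¹ = z₀ := by
    have hc' : ∀ u, u * z₀ = z₀ * u := Subgroup.mem_center_iff.1 hz₀c
    calc (x * y) * x * (x * y)⁻¹ * x⁻¹ = x * (y * x * y⁻¹ * x⁻¹) * x⁻¹ := by group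
      _ = x * z₀ * x⁻¹ := by rw [hyx]
      _ = z₀ := by rw [hc' x]; group
  have hxyy : (x * y) * y * (x * y)⁻¹ * y⁻¹ = z₀ := by
    rw [hz₀]; group
  -- the key lemma
  have KL : ∀ g : G, g * x * g⁻¹ * x⁻¹ ∈ Subgroup.center G →
      g * y * g⁻¹ * y⁻¹ ∈ Subgroup.center G →
      ∃ b : G, (b = 1 ∨ b = x ∨ b = y ∨ b = x * y) ∧ g * b⁻¹ ∈ Subgroup.center G := by
    intro g h1 h2
    have one_c : (1 : G) ∈ Subgroup.center G := (Subgroup.center G).one_mem
    rcases hpm g x h1 with e1 | e1 <;> rcases hpm g y h2 with e2 | e2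
    · exact ⟨1, Or.inl rfl, hcent _ (comm_of_same g 1 x 1 one_c e1 (by group))
        (comm_of_same g 1 y 1 one_c e2 (by group))⟩
    · exact ⟨x, Or.inr (Or.inl rfl), hcent _ (comm_of_same g x x 1 one_c e1 hxx)
        (comm_of_same g x y z₀ hz₀c e2 hz₀.symm)⟩
    · exact ⟨y, Or.inr (Or.inr (Or.inl rfl)), hcent _ (comm_of_same g y x z₀ hz₀c e1 hyx)
        (comm_of_same g y y 1 one_c e2 hyy)⟩
    · exact ⟨x * y, Or.inr (Or.inr (Or.inr rfl)), hcent _ (comm_of_same g (x * y) x z₀ hz₀c e1 hxyx)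
        (comm_of_same g (x * y) y z₀ hz₀c e2 hxyy)⟩
  -- the quotient
  let π : G →* G ⧸ Subgroup.center G := QuotientGroup.mk' (Subgroup.center G)
  have hπ1 : ∀ g, π g = 1 ↔ g ∈ Subgroup.center G := fun g => QuotientGroup.eq_one_iff g
  have hπs : Function.Surjective π := QuotientGroup.mk'_surjective _
  have hcommQ : ∀ g h : G, π g * π h = π h * π g ↔ g * h * g⁻¹ * h⁻¹ ∈ Subgroup.center G := by
    intro g h
    rw [← hπ1, map_mul, map_mul, map_mul, map_inv, map_inv]
    exact (comm_eq_one_iff (π g) (π h)).symm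
  obtain ⟨X, hX⟩ : ∃ X : G ⧸ Subgroup.center G, X = π x := ⟨_, rfl⟩
  obtain ⟨Y, hY⟩ : ∃ Y : G ⧸ Subgroup.center G, Y = π y := ⟨_, rfl⟩
  have hXY : X * Y = Y * X := by
    rw [hX, hY, hcommQ, ← hz₀]; exact hz₀c
  have hncent : ∀ g : G, g ∈ Subgroup.center G → g * x = x * g ∧ g * y = y * g := by
    intro g hg
    have := Subgroup.mem_center_iff.1 hg
    exact ⟨(this x).symm, (this y).symm⟩
  have hX1 : X ≠ 1 := by
    rw [hX]
    intro h
    exact hxy ((hncent x ((hπ1 x).1 h)).2)
  have hY1 : Y ≠ 1 := by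
    rw [hY]
    intro h
    exact hxy ((hncent y ((hπ1 y).1 h)).1).symm
  have hXY1 : X * Y ≠ 1 := by
    rw [hX, hY, ← map_mul]
    intro h
    have h1 := (hncent (x * y) ((hπ1 _).1 h)).1
    apply hxy
    have e : x * y * x = x * (y * x) := by group
    rw [e] at h1
    exact (mul_left_cancel h1).symm
  have hXneY : X ≠ Y := by
    intro h
    rw [hX, hY] at h
    have h1 : x⁻¹ * y ∈ Subgroup.center G := QuotientGroup.eq.1 h
    have h2 := (hncent _ h1).1
    apply hxy
    have e : x * (x⁻¹ * y) = y := by group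
    rw [e] at h2
    calc x * y = x * (x⁻¹ * y * x) := by rw [h2]
      _ = y * x := by group
  -- elements commuting with `X` and `Y`
  have KLQ : ∀ u : G ⧸ Subgroup.center G, u * X = X * u → u * Y = Y * u →
      u = 1 ∨ u = X ∨ u = Y ∨ u = X * Y := by
    intro u h1 h2
    obtain ⟨g, rfl⟩ := hπs u
    rw [hX, hcommQ] at h1
    rw [hY, hcommQ] at h2
    obtain ⟨b, hb, hgb⟩ := KL g h1 h2
    have e : π g = π b := by
      have h3 := (hπ1 _).2 hgb
      rw [map_mul, map_inv] at h3
      exact mul_inv_eq_one.1 h3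
    rw [e]
    rcases hb with rfl | rfl | rfl | rfl
    · exact Or.inl (map_one π)
    · exact Or.inr (Or.inl hX.symm)
    · exact Or.inr (Or.inr (Or.inl hY.symm))
    · exact Or.inr (Or.inr (Or.inr (by rw [map_mul, hX, hY])))
  have hBQ : ∀ b ∈ B, π b = 1 ∨ π b = X ∨ π b = Y ∨ π b = X * Y := by
    intro b hb
    apply KLQ
    · rw [hX, hcommQ]; exact hB b hb x hx
    · rw [hY, hcommQ]; exact hB b hb y hy
  have hconjB : ∀ (u : G ⧸ Subgroup.center G) (b : G), b ∈ B →
      u * π b * u⁻¹ = 1 ∨ u * π b * u⁻¹ = X ∨ u * π b * u⁻¹ = Y ∨ u * π b * u⁻¹ = X * Y := by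
    intro u b hb
    obtain ⟨g, rfl⟩ := hπs u
    rw [← map_inv, ← map_mul, ← map_mul]
    exact hBQ _ (‹B.Normal›.conj_mem b hb g)
  have hconj_ne : ∀ (u w : G ⧸ Subgroup.center G), w ≠ 1 → u * w * u⁻¹ ≠ 1 := by
    intro u w hw h
    apply hw
    calc w = u⁻¹ * (u * w * u⁻¹) * u := by group
      _ = 1 := by rw [h]; group
  have hconjX : ∀ u : G ⧸ Subgroup.center G, u * X * u⁻¹ ∈ ({X, Y, X * Y} : Finset _) := by
    intro u
    simp only [Finset.mem_insert, Finset.mem_singleton]
    rcases hconjB u x hx with h | h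
    · rw [← hX] at h
      exact absurd h (hconj_ne u X hX1)
    · rw [← hX] at h; exact h
  have hconjY : ∀ u : G ⧸ Subgroup.center G, u * Y * u⁻¹ ∈ ({X, Y, X * Y} : Finset _) := by
    intro u
    simp only [Finset.mem_insert, Finset.mem_singleton]
    rcases hconjB u y hy with h | h
    · rw [← hY] at h
      exact absurd h (hconj_ne u Y hY1)
    · rw [← hY] at h; exact h
  obtain ⟨C, hC⟩ : ∃ C : Subgroup (G ⧸ Subgroup.center G), C = Subgroup.centralizer {X} :=
    ⟨_, rfl⟩
  obtain ⟨D, hD⟩ : ∃ D : Subgroup (G ⧸ Subgroup.center G), D = Subgroup.centralizer {Y} :=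
    ⟨_, rfl⟩
  have hCmem : ∀ u, u ∈ C ↔ u * X = X * u := by
    intro u
    rw [hC, Subgroup.mem_centralizer_iff]
    constructor
    · intro h; exact (h X rfl).symm
    · intro h w hw
      rw [Set.mem_singleton_iff] at hw
      subst hw
      exact h.symm
  have hDmem : ∀ u, u ∈ D ↔ u * Y = Y * u := by
    intro u
    rw [hD, Subgroup.mem_centralizer_iff]
    constructor
    · intro h; exact (h Y rfl).symm
    · intro h w hw
      rw [Set.mem_singleton_iff] at hw
      subst hw
      exact h.symm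
  have hconjY' : ∀ u ∈ C, u * Y * u⁻¹ ∈ ({Y, X * Y} : Finset _) := by
    intro u hu
    have h1 := hconjY u
    simp only [Finset.mem_insert, Finset.mem_singleton] at h1 ⊢
    rcases h1 with h | h | h
    · exfalso
      apply hXneY
      have hu' := (hCmem u).1 hu
      calc X = u⁻¹ * (u * X) := by group
        _ = u⁻¹ * (X * u) := by rw [hu']
        _ = u⁻¹ * ((u * Y * u⁻¹) * u) := by rw [h]
        _ = Y := by group
    · exact Or.inl h
    · exact Or.inr h
  -- indices
  have hi1 : C.index ≤ 3 := by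
    have h1 := index_centralizer_le (⊤ : Subgroup (G ⧸ Subgroup.center G)) X {X, Y, X * Y}
      (fun u _ => hconjX u)
    have h2 : ((Subgroup.centralizer {X}).subgroupOf (⊤ : Subgroup (G ⧸ Subgroup.center G))).index =
        C.index := by
      rw [hC]
      exact Subgroup.relIndex_top_right _
    rw [h2] at h1
    exact h1.trans (Finset.card_le_three)
  have hi2 : (D.subgroupOf C).index ≤ 2 := by
    have h1 := index_centralizer_le C Y {Y, X * Y} hconjY'
    rw [← hD] at h1
    exact h1.trans (Finset.card_le_two)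
  have hi1' : C.index ≠ 0 := Subgroup.index_ne_zero_of_finite
  have hi2' : (D.subgroupOf C).index ≠ 0 := Subgroup.index_ne_zero_of_finite
  -- the intersection
  have hDC : Nat.card ↥(D.subgroupOf C) = 4 := by
    rw [← Subgroup.inf_subgroupOf_right,
      Nat.card_congr (Subgroup.subgroupOfEquivOfLe (inf_le_right : D ⊓ C ≤ C)).toEquiv]
    have hset : ((D ⊓ C : Subgroup (G ⧸ Subgroup.center G)) : Set (G ⧸ Subgroup.center G)) =
        (({1, X, Y, X * Y} : Finset (G ⧸ Subgroup.center G)) : Set (G ⧸ Subgroup.center G)) := by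
      ext u
      simp only [Subgroup.coe_inf, Set.mem_inter_iff, SetLike.mem_coe, Finset.coe_insert,
        Finset.coe_singleton, Set.mem_insert_iff, Set.mem_singleton_iff]
      rw [hCmem, hDmem]
      constructor
      · rintro ⟨h1, h2⟩
        exact KLQ u h2 h1
      · rintro (rfl | rfl | rfl | rfl)
        · simp
        · exact ⟨hXY, rfl⟩
        · exact ⟨rfl, hXY.symm⟩
        · constructor
          · rw [← mul_assoc Y X Y, ← hXY]
          · rw [mul_assoc, ← hXY]
    have hcard : ({1, X, Y, X * Y} : Finset (G ⧸ Subgroup.center G)).card = 4 := by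
      rw [Finset.card_insert_of_notMem, Finset.card_insert_of_notMem,
        Finset.card_insert_of_notMem, Finset.card_singleton]
      · simp only [Finset.mem_singleton]
        intro h
        apply hX1
        have e : 1 * Y = X * Y := by rw [one_mul]; exact h
        exact (mul_right_cancel e).symm
      · simp only [Finset.mem_insert, Finset.mem_singleton, not_or]
        refine ⟨hXneY, ?_⟩
        intro h
        apply hY1
        have e : X * 1 = X * Y := by rw [mul_one]; exact h
        exact (mul_left_cancel e).symm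
      · simp only [Finset.mem_insert, Finset.mem_singleton, not_or]
        exact ⟨hX1.symm, hY1.symm, hXY1.symm⟩
    calc Nat.card ↥(D ⊓ C) = ((D ⊓ C : Subgroup (G ⧸ Subgroup.center G)) :
          Set (G ⧸ Subgroup.center G)).ncard := Nat.card_coe_set_eq _
      _ = 4 := by rw [hset, Set.ncard_coe_finset, hcard]
  have hQ : Nat.card (G ⧸ Subgroup.center G) = C.index * ((D.subgroupOf C).index * 4) := by
    rw [← hDC, Subgroup.index_mul_card, Subgroup.index_mul_card]
  have hG : Nat.card G = Nat.card (G ⧸ Subgroup.center G) * Nat.card (Subgroup.center G) :=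
    Subgroup.card_eq_card_quotient_mul_card_subgroup _
  refine ⟨C.index * ((D.subgroupOf C).index * 4), ?_, by rw [hG, hQ]⟩
  have a1 : C.index = 1 ∨ C.index = 2 ∨ C.index = 3 := by omega
  have a2 : (D.subgroupOf C).index = 1 ∨ (D.subgroupOf C).index = 2 := by omega
  rcases a1 with h | h | h <;> rcases a2 with h' | h' <;> rw [h, h'] <;> norm_num

end Cfsg.Agent.Lib.Helper77.HuppertD2c
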