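/-
Helper77: S3360-[D2c] (Huppert, dimension 2): linear algebra half and the module statement.
-/
import Mathlib
import Cfsg.Prelude.Def_Solvable
import Cfsg.Agent.Lib.Helper2.HuppertDefs
import Cfsg.Agent.Lib.Helper77.HuppertD2cGrp

set_option autoImplicit false

namespace Cfsg.Agent.Lib.Helper77.HuppertD2c

open Cfsg Module Cfsg.Agent.Lib.Helper2.Huppert

section LinAlg

variable {K : Type*} [Field K] {V : Type*} [AddCommGroup V] [Module K V]

/-- In dimension 2 the centralizer of a non-scalar endomorphism `f` is `K[f]`. -/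
theorem centralizer_of_not_scalar (hdim : finrank K V = 2) (f h : V →ₗ[K] V)
    (hf : ¬ ∃ a : K, f = a • 1) (hc : h * f = f * h) : ∃ a b : K, h = a • 1 + b • f := by
  have hfin : FiniteDimensional K V := Module.finite_of_finrank_pos (by rw [hdim]; norm_num)
  obtain ⟨v, hv⟩ : ∃ v, LinearIndependent K ![v, f v] := by
    by_contra hne
    push Not at hne
    exact hf (LinearMap.exists_eq_smul_id_of_forall_notLinearIndependent hne)
  let b : Basis (Fin 2) K V := basisOfLinearIndependentOfCardEqFinrank hv (by simp [hdim])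
  have hb0 : b 0 = v := by simp [b]
  have hb1 : b 1 = f v := by simp [b]
  obtain ⟨α, hα⟩ : ∃ α : K, α = b.repr (h v) 0 := ⟨_, rfl⟩
  obtain ⟨β, hβ⟩ : ∃ β : K, β = b.repr (h v) 1 := ⟨_, rfl⟩
  have hrepr := b.sum_repr (h v)
  rw [Fin.sum_univ_two, hb0, hb1, ← hα, ← hβ] at hrepr
  have hcv : ∀ w, h (f w) = f (h w) := fun w => congrArg (fun g : V →ₗ[K] V => g w) hc
  refine ⟨α, β, ?_⟩
  have key : ∀ i, h (b i) = (α • (1 : V →ₗ[K] V) + β • f) (b i) := by
    rw [Fin.forall_fin_two]
    constructor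
    · rw [hb0]
      simp only [LinearMap.add_apply, LinearMap.smul_apply, Module.End.one_apply]
      exact hrepr.symm
    · rw [hb1, hcv, ← hrepr]
      simp only [LinearMap.add_apply, LinearMap.smul_apply, Module.End.one_apply, map_add,
        map_smul]
  exact b.ext key

/-- In dimension 2 and characteristic `≠ 2`, an endomorphism commuting with two anticommuting
invertible endomorphisms is a scalar. -/
theorem scalar_of_commute_anticomm (hdim : finrank K V = 2) (h2 : (2 : K) ≠ 0)
    (X Y : V →ₗ[K] V) (hX : IsUnit X) (hY : IsUnit Y) (hXY : X * Y = -(Y * X))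
    (f : V →ₗ[K] V) (hfX : f * X = X * f) (hfY : f * Y = Y * f) : ∃ a : K, f = a • 1 := by
  have hfin : FiniteDimensional K V := Module.finite_of_finrank_pos (by rw [hdim]; norm_num)
  have hnt : Nontrivial V := Module.nontrivial_of_finrank_pos (R := K) (by rw [hdim]; norm_num)
  have hXYu : IsUnit (X * Y) := hX.mul hY
  have hXY0 : X * Y ≠ 0 := hXYu.ne_zero
  -- `X` is not a scalar
  have hXns : ¬ ∃ a : K, X = a • 1 := by
    rintro ⟨a, rfl⟩
    apply hXY0
    have e : (a • (1 : V →ₗ[K] V)) * Y = Y * (a • (1 : V →ₗ[K] V)) := by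
      rw [smul_mul_assoc, one_mul, mul_smul_comm, mul_one]
    have e2 : (2 : K) • ((a • (1 : V →ₗ[K] V)) * Y) = 0 := by
      rw [two_smul]
      nth_rewrite 2 [hXY]
      rw [e, add_neg_cancel]
    rcases smul_eq_zero.1 e2 with h | h
    · exact absurd h h2
    · exact h
  obtain ⟨a, b, rfl⟩ := centralizer_of_not_scalar hdim X f hXns hfX
  -- `b = 0`
  have hb : b = 0 := by
    have e1 : (a • (1 : V →ₗ[K] V) + b • X) * Y = a • Y + b • (X * Y) := by
      rw [add_mul, smul_mul_assoc, one_mul, smul_mul_assoc]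
    have e2 : Y * (a • (1 : V →ₗ[K] V) + b • X) = a • Y - b • (X * Y) := by
      rw [mul_add, mul_smul_comm, mul_one, mul_smul_comm, hXY, smul_neg, sub_neg_eq_add]
    rw [e1, e2] at hfY
    have e3 : (2 * b) • (X * Y) = 0 := by
      have : b • (X * Y) = -(b • (X * Y)) := by
        have h' : a • Y + b • (X * Y) = a • Y + -(b • (X * Y)) := by
          rw [hfY, sub_eq_add_neg]
        exact add_left_cancel h'
      rw [mul_smul, two_smul]
      nth_rewrite 2 [this]
      rw [add_neg_cancel]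
    rcases smul_eq_zero.1 e3 with h | h
    · rcases mul_eq_zero.1 h with h | h
      · exact absurd h h2
      · exact h
    · exact absurd h hXY0
  exact ⟨a, by rw [hb, zero_smul, add_zero]⟩

/-- the determinant argument: a scalar commutator of invertible maps in dimension 2 is `±1` -/
theorem eq_one_or_neg_one_of_conj (hdim : finrank K V = 2) (g X : V →ₗ[K] V) (hg : IsUnit g)
    (hX : IsUnit X) (c : K) (h : g * X = c • (X * g)) : c = 1 ∨ c = -1 := by
  have hfin : FiniteDimensional K V := Module.finite_of_finrank_pos (by rw [hdim]; norm_num)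
  have h1 := congrArg LinearMap.det h
  rw [map_mul, LinearMap.det_smul, hdim, map_mul] at h1
  have hdg : LinearMap.det g ≠ 0 := (hg.map LinearMap.det).ne_zero
  have hdX : LinearMap.det X ≠ 0 := (hX.map LinearMap.det).ne_zero
  have h2 : c * c = 1 := by
    have h3 : (c * c) * (LinearMap.det X * LinearMap.det g) =
        1 * (LinearMap.det X * LinearMap.det g) := by
      calc (c * c) * (LinearMap.det X * LinearMap.det g)
          = c ^ 2 * (LinearMap.det X * LinearMap.det g) := by ring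
        _ = LinearMap.det g * LinearMap.det X := h1.symm
        _ = 1 * (LinearMap.det X * LinearMap.det g) := by ring
    exact mul_right_cancel₀ (mul_ne_zero hdX hdg) h3
  exact mul_self_eq_one_iff.1 h2

end LinAlg

section Rep

variable {q : ℕ} [Fact q.Prime] {V : Type*} [AddCommGroup V] [Module (ZMod q) V]
  {G : Type*} [Group G]

/-- the representation as a monoid hom into `End V` -/
def toEnd (ρ : G →* (V ≃ₗ[ZMod q] V)) : G →* (V →ₗ[ZMod q] V) :=
  (LinearEquiv.automorphismGroup.toLinearMapMonoidHom).comp ρ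

theorem toEnd_apply (ρ : G →* (V ≃ₗ[ZMod q] V)) (g : G) (v : V) : toEnd ρ g v = ρ g v := rfl

theorem toEnd_injective (ρ : G →* (V ≃ₗ[ZMod q] V)) (hρ : Function.Injective ρ) :
    Function.Injective (toEnd ρ) := by
  intro a b h
  apply hρ
  ext v
  exact congrArg (fun f : V →ₗ[ZMod q] V => f v) h

theorem isScalar_iff (ρ : G →* (V ≃ₗ[ZMod q] V)) (g : G) :
    IsScalar ρ g ↔ ∃ c : ZMod q, toEnd ρ g = c • 1 := by
  constructor
  · rintro ⟨c, hc⟩
    exact ⟨c, LinearMap.ext fun v => by rw [toEnd_apply, hc]; rfl⟩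
  · rintro ⟨c, hc⟩
    exact ⟨c, fun v => by rw [← toEnd_apply, hc]; rfl⟩

end Rep

section Main

variable {q : ℕ} [Fact q.Prime] {V : Type*} [AddCommGroup V] [Module (ZMod q) V] [Finite V]
  {G : Type*} [Group G] [Finite G]

/-- **S3360-[D2c]**: a class-two normal subgroup with scalar commutators in a faithful
2-dimensional representation bounds the group order. -/
theorem card_dvd_of_class_two (ρ : G →* (V ≃ₗ[ZMod q] V)) (hρ : Function.Injective ρ)
    (hdim : finrank (ZMod q) V = 2) (B : Subgroup G) [B.Normal]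
    (hB : ∀ a ∈ B, ∀ b ∈ B, IsScalar ρ (a * b * a⁻¹ * b⁻¹)) (x y : G) (hx : x ∈ B) (hy : y ∈ B)
    (hxy : x * y ≠ y * x) :
    q ≠ 2 ∧ ∃ m : ℕ, (m = 4 ∨ m = 8 ∨ m = 12 ∨ m = 16 ∨ m = 24) ∧
      Nat.card G ∣ m * (q - 1) := by
  classical
  obtain ⟨R, hR⟩ : ∃ R : G →* (V →ₗ[ZMod q] V), R = toEnd ρ := ⟨_, rfl⟩
  have hRinj : Function.Injective R := by rw [hR]; exact toEnd_injective ρ hρ
  have hunit : ∀ g, IsUnit (R g) := fun g => (Group.isUnit g).map R
  have hscal : ∀ g, IsScalar ρ g ↔ ∃ c : ZMod q, R g = c • 1 := by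
    intro g; rw [hR]; exact isScalar_iff ρ g
  have hnt : Nontrivial V :=
    Module.nontrivial_of_finrank_pos (R := ZMod q) (by rw [hdim]; norm_num)
  -- a scalar commutator gives a relation
  have hrel : ∀ (g h : G) (c : ZMod q), R (g * h * g⁻¹ * h⁻¹) = c • 1 →
      R g * R h = c • (R h * R g) := by
    intro g h c hc
    have e : g * h = (g * h * g⁻¹ * h⁻¹) * (h * g) := by group
    rw [← map_mul, e, map_mul, hc, smul_mul_assoc, one_mul, map_mul]
  have hpm0 : ∀ (g h : G) (c : ZMod q), R (g * h * g⁻¹ * h⁻¹) = c • 1 → c = 1 ∨ c = -1 :=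
    fun g h c hc =>
      eq_one_or_neg_one_of_conj hdim (R g) (R h) (hunit g) (hunit h) c (hrel g h c hc)
  obtain ⟨z₀, hz₀⟩ : ∃ z₀ : G, z₀ = x * y * x⁻¹ * y⁻¹ := ⟨_, rfl⟩
  obtain ⟨c₀, hc₀⟩ := (hscal z₀).1 (by rw [hz₀]; exact hB x hx y hy)
  have hz₀1 : z₀ ≠ 1 := by
    rw [hz₀]
    intro h
    exact hxy ((comm_eq_one_iff x y).1 h)
  have hc₀ne : c₀ ≠ 1 := by
    rintro rfl
    apply hz₀1
    apply hRinj
    rw [hc₀, one_smul, map_one]
  have hc₀' : c₀ = -1 := (hpm0 x y c₀ (by rw [← hz₀]; exact hc₀)).resolve_left hc₀ne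
  subst hc₀'
  have h2 : (2 : ZMod q) ≠ 0 := by
    intro h
    apply hc₀ne
    have h' : (1 : ZMod q) + 1 = 0 := by rw [one_add_one_eq_two]; exact h
    exact (eq_neg_of_add_eq_zero_left h').symm
  have hq2 : q ≠ 2 := by
    intro hq
    subst hq
    apply h2
    have h3 : ((2 : ℕ) : ZMod 2) = 0 := ZMod.natCast_self 2
    exact_mod_cast h3
  refine ⟨hq2, ?_⟩
  have hXY : R x * R y = -(R y * R x) := by
    have := hrel x y (-1) (by rw [← hz₀]; exact hc₀)
    rw [this, neg_smul, one_smul]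
  have hscal_cent : ∀ g : G, (∃ c : ZMod q, R g = c • 1) → g ∈ Subgroup.center G := by
    rintro g ⟨c, hc⟩
    rw [Subgroup.mem_center_iff]
    intro h
    apply hRinj
    rw [map_mul, map_mul, hc, smul_mul_assoc, one_mul, mul_smul_comm, mul_one]
  have hcent : ∀ g : G, g * x = x * g → g * y = y * g → g ∈ Subgroup.center G := by
    intro g h1 h2'
    apply hscal_cent
    apply scalar_of_commute_anticomm hdim h2 (R x) (R y) (hunit x) (hunit y) hXY (R g)
    · rw [← map_mul, ← map_mul, h1]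
    · rw [← map_mul, ← map_mul, h2']
  have hcent_scal : ∀ g ∈ Subgroup.center G, ∃ c : ZMod q, R g = c • 1 := by
    intro g hg
    have hg' := Subgroup.mem_center_iff.1 hg
    apply scalar_of_commute_anticomm hdim h2 (R x) (R y) (hunit x) (hunit y) hXY (R g)
    · rw [← map_mul, ← map_mul, hg' x]
    · rw [← map_mul, ← map_mul, hg' y]
  have hz₀c : z₀ ∈ Subgroup.center G := hscal_cent z₀ ⟨-1, hc₀⟩
  have hpm : ∀ g h : G, g * h * g⁻¹ * h⁻¹ ∈ Subgroup.center G →
      g * h * g⁻¹ * h⁻¹ = 1 ∨ g * h * g⁻¹ * h⁻¹ = z₀ := by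
    intro g h hgh
    obtain ⟨c, hc⟩ := hcent_scal _ hgh
    rcases hpm0 g h c hc with rfl | rfl
    · left; apply hRinj; rw [hc, one_smul, map_one]
    · right; apply hRinj; rw [hc, hc₀]
  have hB' : ∀ a ∈ B, ∀ b ∈ B, a * b * a⁻¹ * b⁻¹ ∈ Subgroup.center G :=
    fun a ha b hb => hscal_cent _ ((hscal _).1 (hB a ha b hb))
  obtain ⟨m, hm, hcard⟩ := card_eq_mul_card_center B x y hx hy z₀ hz₀ hz₀c hz₀1 hcent hpm hB'
  refine ⟨m, hm, ?_⟩
  rw [hcard]
  apply Nat.mul_dvd_mul_left
  -- `|Z(G)|` divides `q - 1`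
  have hsmul_inj : ∀ c c' : ZMod q, c • (1 : V →ₗ[ZMod q] V) = c' • 1 → c = c' := by
    intro c c' h
    obtain ⟨v, hv⟩ := exists_ne (0 : V)
    have h' := congrArg (fun f : V →ₗ[ZMod q] V => f v) h
    simp only [LinearMap.smul_apply, Module.End.one_apply] at h'
    exact smul_left_injective (ZMod q) hv h'
  obtain ⟨cf, hcf⟩ : ∃ cf : ↥(Subgroup.center G) → ZMod q,
      ∀ g : ↥(Subgroup.center G), R (g : G) = cf g • 1 :=
    ⟨fun g => Classical.choose (hcent_scal g.1 g.2),
      fun g => Classical.choose_spec (hcent_scal g.1 g.2)⟩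
  let φ : ↥(Subgroup.center G) →* ZMod q :=
    { toFun := cf
      map_one' := by
        apply hsmul_inj
        rw [← hcf, one_smul]
        exact map_one R
      map_mul' := by
        intro g h
        apply hsmul_inj
        rw [← hcf, Subgroup.coe_mul, map_mul, hcf g, hcf h, smul_mul_assoc, one_mul, smul_smul] }
  have hφinj : Function.Injective φ.toHomUnits := by
    intro g h hgh
    have h1 : φ g = φ h := by
      have := congrArg (fun u : (ZMod q)ˣ => (u : ZMod q)) hgh
      simpa using this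
    apply Subtype.ext
    apply hRinj
    rw [hcf g, hcf h]
    exact congrArg (fun c : ZMod q => c • (1 : V →ₗ[ZMod q] V)) h1
  have hdvd := Subgroup.card_dvd_of_injective φ.toHomUnits hφinj
  rwa [Nat.card_eq_fintype_card (α := (ZMod q)ˣ), ZMod.card_units] at hdvd

end Main

end Cfsg.Agent.Lib.Helper77.HuppertD2c
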