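/-
Helper77: module GOLD-[DAGGER] for helper22 (project GOLD = S1329).
-/
import Mathlib
import Cfsg.Agent.Lib.Helper22.GoldDefs
import Cfsg.Agent.Lib.Helper22.GoldPar

set_option autoImplicit false

namespace Cfsg.Agent.Lib.Helper77.Gold

open Subgroup
open scoped commutatorElement
open Cfsg.Agent.Lib.Helper22.Gold

variable {G : Type*} [Group G]

/-- a subgroup all of whose conjugates by elements of `normalizer Y` stay inside is normalized by
`normalizer Y` -/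
theorem le_normalizer_of_conj {Y N : Subgroup G}
    (hc : ∀ g ∈ normalizer (Y : Set G), ∀ x ∈ N, g * x * g⁻¹ ∈ N) :
    normalizer (Y : Set G) ≤ normalizer (N : Set G) := by
  intro g hg
  rw [mem_normalizer_iff]
  intro x
  constructor
  · exact hc g hg x
  · intro hx
    have := hc g⁻¹ (inv_mem hg) _ hx
    have e : g⁻¹ * (g * x * g⁻¹) * g⁻¹⁻¹ = x := by group
    rwa [e] at this

/-- the centre of `Y`, as a subgroup of `G` -/
def zY (Y : Subgroup G) : Subgroup G := Y ⊓ centralizer (Y : Set G)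

theorem mem_zY {Y : Subgroup G} {x : G} : x ∈ zY Y ↔ x ∈ Y ∧ ∀ y ∈ Y, y * x = x * y := by
  unfold zY
  rw [mem_inf, mem_centralizer_iff]
  rfl

theorem zY_conj {Y : Subgroup G} {g : G} (hg : g ∈ normalizer (Y : Set G)) {x : G}
    (hx : x ∈ zY Y) : g * x * g⁻¹ ∈ zY Y := by
  rw [mem_zY] at hx ⊢
  refine ⟨conj_mem_of_mem_normalizer hg hx.1, ?_⟩
  intro y hy
  have h1 := hx.2 (g⁻¹ * y * g) (conj_inv_mem_of_mem_normalizer hg hy)
  have e1 : y * (g * x * g⁻¹) = g * ((g⁻¹ * y * g) * x) * g⁻¹ := by group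
  have e2 : g * x * g⁻¹ * y = g * (x * (g⁻¹ * y * g)) * g⁻¹ := by group
  rw [e1, e2, h1]

/-- the second centre of `Y`, as a subgroup of `G` -/
def zY2 (Y : Subgroup G) : Subgroup G where
  carrier := {x | x ∈ Y ∧ ∀ y ∈ Y, x * y * x⁻¹ * y⁻¹ ∈ zY Y}
  one_mem' := by
    refine ⟨one_mem _, ?_⟩
    intro y _
    have e : (1 : G) * y * 1⁻¹ * y⁻¹ = 1 := by group
    rw [e]
    exact one_mem _
  mul_mem' := by
    rintro a b ⟨haY, ha⟩ ⟨hbY, hb⟩
    refine ⟨mul_mem haY hbY, ?_⟩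
    intro y hy
    have h1 := hb y hy
    have h2 := ha y hy
    have h3 : a * (b * y * b⁻¹ * y⁻¹) * a⁻¹ = b * y * b⁻¹ * y⁻¹ := by
      have := (mem_zY.1 h1).2 a haY
      rw [this]
      group
    have e : a * b * y * (a * b)⁻¹ * y⁻¹ =
        (a * (b * y * b⁻¹ * y⁻¹) * a⁻¹) * (a * y * a⁻¹ * y⁻¹) := by group
    rw [e, h3]
    exact mul_mem h1 h2
  inv_mem' := by
    rintro a ⟨haY, ha⟩
    refine ⟨inv_mem haY, ?_⟩
    intro y hy
    have h2 := ha y hy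
    have h3 : a⁻¹ * (a * y * a⁻¹ * y⁻¹)⁻¹ * a = (a * y * a⁻¹ * y⁻¹)⁻¹ := by
      have := (mem_zY.1 (inv_mem h2)).2 a⁻¹ (inv_mem haY)
      rw [this]
      group
    have e : a⁻¹ * y * a⁻¹⁻¹ * y⁻¹ = a⁻¹ * (a * y * a⁻¹ * y⁻¹)⁻¹ * a := by group
    rw [e, h3]
    exact inv_mem h2

theorem mem_zY2 {Y : Subgroup G} {x : G} :
    x ∈ zY2 Y ↔ x ∈ Y ∧ ∀ y ∈ Y, x * y * x⁻¹ * y⁻¹ ∈ zY Y := Iff.rfl

theorem zY2_conj {Y : Subgroup G} {g : G} (hg : g ∈ normalizer (Y : Set G)) {x : G}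
    (hx : x ∈ zY2 Y) : g * x * g⁻¹ ∈ zY2 Y := by
  rw [mem_zY2] at hx ⊢
  refine ⟨conj_mem_of_mem_normalizer hg hx.1, ?_⟩
  intro y hy
  have h1 := hx.2 (g⁻¹ * y * g) (conj_inv_mem_of_mem_normalizer hg hy)
  have h2 := zY_conj hg h1
  have e : g * x * g⁻¹ * y * (g * x * g⁻¹)⁻¹ * y⁻¹ =
      g * (x * (g⁻¹ * y * g) * x⁻¹ * (g⁻¹ * y * g)⁻¹) * g⁻¹ := by group
  rw [e]
  exact h2

/-- the centralizer in `Y` of the second centre -/
def cY (Y : Subgroup G) : Subgroup G := Y ⊓ centralizer ((zY2 Y : Subgroup G) : Set G)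

theorem mem_cY {Y : Subgroup G} {x : G} : x ∈ cY Y ↔ x ∈ Y ∧ ∀ w ∈ zY2 Y, w * x = x * w := by
  unfold cY
  rw [mem_inf, mem_centralizer_iff]
  rfl

theorem cY_conj {Y : Subgroup G} {g : G} (hg : g ∈ normalizer (Y : Set G)) {x : G}
    (hx : x ∈ cY Y) : g * x * g⁻¹ ∈ cY Y := by
  rw [mem_cY] at hx ⊢
  refine ⟨conj_mem_of_mem_normalizer hg hx.1, ?_⟩
  intro w hw
  have hw' : g⁻¹ * w * g ∈ zY2 Y := by
    have := zY2_conj (inv_mem hg) hw
    simpa using this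
  have h1 := hx.2 _ hw'
  have e1 : w * (g * x * g⁻¹) = g * ((g⁻¹ * w * g) * x) * g⁻¹ := by group
  have e2 : g * x * g⁻¹ * w = g * (x * (g⁻¹ * w * g)) * g⁻¹ := by group
  rw [e1, e2, h1]

/-- [DAGGER] -/
theorem dagger [Finite G] {A Y : Subgroup G} (h : Hyp A Y) {r : ℕ} [Fact r.Prime] (hr : IsPGroup r Y)
    (hd : ∀ N0 : Subgroup G, N0 ≤ Y → (∀ x ∈ N0, ∀ y ∈ N0, x * y = y * x) →
      Y ≤ normalizer (N0 : Set G) → A ≤ normalizer (N0 : Set G) → ⁅N0, Y⁆ = ⊥) :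
    ⁅Y, Y⁆ ≤ centralizer (Y : Set G) := by
  have hYn : Y ≤ normalizer (Y : Set G) := le_normalizer
  -- `N0 := Z2 ⊓ C` is central
  have hN0 : zY2 Y ⊓ cY Y ≤ zY Y := by
    have hnorm : normalizer (Y : Set G) ≤ normalizer ((zY2 Y ⊓ cY Y : Subgroup G) : Set G) := by
      apply le_normalizer_of_conj
      intro g hg x hx
      exact ⟨zY2_conj hg hx.1, cY_conj hg hx.2⟩
    have h1 := hd (zY2 Y ⊓ cY Y) (fun x hx => hx.1.1)
      (fun x hx y hy => ((mem_cY.1 hx.2).2 y hy.1).symm) (hYn.trans hnorm) (h.norm.trans hnorm)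
    intro x hx
    rw [mem_zY]
    refine ⟨hx.1.1, ?_⟩
    intro y hy
    have h2 : ⁅x, y⁆ ∈ ⁅zY2 Y ⊓ cY Y, Y⁆ := commutator_mem_commutator hx hy
    rw [h1, mem_bot, commutatorElement_eq_one_iff_mul_comm] at h2
    exact h2.symm
  -- `C ≤ Z` by descending the lower central series of `Y`
  have hC : cY Y ≤ zY Y := by
    have : Finite ↥Y := inferInstance
    have hnil : Group.IsNilpotent ↥Y := hr.isNilpotent
    obtain ⟨n, hn⟩ := (Subgroup.isNilpotent_iff_lowerCentralSeries Y).1 hnil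
    have hlY : ∀ m : ℕ, Y.lowerCentralSeries m ≤ Y := fun m =>
      Subgroup.lowerCentralSeries_antitone Y (Nat.zero_le m)
    have key : ∀ k : ℕ, k ≤ n → ∀ x : G, x ∈ Y.lowerCentralSeries (n - k) →
        x ∈ cY Y → x ∈ zY Y := by
      intro k
      induction k with
      | zero =>
        intro _ x hxl _
        rw [Nat.sub_zero, hn, mem_bot] at hxl
        rw [hxl]
        exact one_mem _
      | succ k ih =>
        intro hk x hxl hxc
        have hx : x ∈ Y := hlY _ hxl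
        apply hN0
        refine ⟨?_, hxc⟩
        change x ∈ zY2 Y
        rw [mem_zY2]
        refine ⟨hx, ?_⟩
        intro y hy
        apply ih (Nat.le_of_succ_le hk)
        · have e : n - k = (n - (k + 1)) + 1 := by omega
          rw [e, Subgroup.lowerCentralSeries_succ, ← commutatorElement_def]
          exact commutator_mem_commutator hxl hy
        · have h1 : y * x⁻¹ * y⁻¹ ∈ cY Y := cY_conj (hYn hy) (inv_mem hxc)
          have e : x * y * x⁻¹ * y⁻¹ = x * (y * x⁻¹ * y⁻¹) := by group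
          rw [e]
          exact mul_mem hxc h1
    intro x hxc
    have hx : x ∈ Y := (mem_cY.1 hxc).1
    apply key n le_rfl x _ hxc
    rw [Nat.sub_self, Subgroup.lowerCentralSeries_zero]
    exact hx
  -- three subgroups lemma
  have hZ2Y : ⁅zY2 Y, Y⁆ ≤ zY Y := by
    rw [commutator_le]
    intro x hx y hy
    rw [commutatorElement_def]
    exact (mem_zY2.1 hx).2 y hy
  have hZY : ⁅zY Y, Y⁆ = ⊥ := by
    rw [commutator_eq_bot_iff_le_centralizer]
    exact inf_le_right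
  have h1 : ⁅⁅zY2 Y, Y⁆, Y⁆ = ⊥ := by
    rw [eq_bot_iff, ← hZY]
    exact commutator_mono hZ2Y le_rfl
  have h2 : ⁅⁅Y, zY2 Y⁆, Y⁆ = ⊥ := by
    rw [commutator_comm Y (zY2 Y)]
    exact h1
  have h3 : ⁅⁅Y, Y⁆, zY2 Y⁆ = ⊥ := commutator_commutator_eq_bot_of_rotate h2 h1
  rw [commutator_eq_bot_iff_le_centralizer] at h3
  have h4 : ⁅Y, Y⁆ ≤ Y := comm_le hYn
  have h5 : ⁅Y, Y⁆ ≤ cY Y := le_inf h4 h3
  exact (h5.trans hC).trans inf_le_right

end Cfsg.Agent.Lib.Helper77.Gold
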