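/-
Helper77: module GOLD-[QUOT] for helper22 (project GOLD = S1329): the quotient step.
-/
import Mathlib
import Cfsg.Agent.Lib.Helper22.GoldDefs
import Cfsg.Agent.Lib.Helper22.GoldPar

set_option autoImplicit false

namespace Cfsg.Agent.Lib.Helper77.Gold

open Subgroup
open scoped commutatorElement
open Cfsg.Agent.Lib.Helper22.Gold

universe u
variable {G : Type u} [Group G]

/-- a subgroup `H` whose elements conjugate `N` into itself normalizes `N` -/
theorem le_normalizer_of_forall_conj {H N : Subgroup G}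
    (hc : ∀ g ∈ H, ∀ x ∈ N, g * x * g⁻¹ ∈ N) : H ≤ normalizer (N : Set G) := by
  intro g hg
  rw [mem_normalizer_iff]
  intro x
  constructor
  · exact hc g hg x
  · intro hx
    have := hc g⁻¹ (inv_mem hg) _ hx
    have e : g⁻¹ * (g * x * g⁻¹) * g⁻¹⁻¹ = x := by group
    rwa [e] at this

/-- a 2-group meets an odd-order group trivially -/
theorem inf_eq_bot_of_hyp [Finite G] {A Y N : Subgroup G} (h : Hyp A Y) (hN : N ≤ Y) :
    A ⊓ N = ⊥ := by
  rw [eq_bot_iff]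
  intro x hx
  rw [mem_bot]
  obtain ⟨hxA, hxN⟩ := mem_inf.1 hx
  obtain ⟨k, hk⟩ := h.two ⟨x, hxA⟩
  have hk' : x ^ 2 ^ k = 1 := by
    have := congrArg Subtype.val hk
    simpa using this
  have h1 : orderOf x ∣ 2 ^ k := orderOf_dvd_of_pow_eq_one hk'
  have h2 : orderOf x ∣ Nat.card N := Subgroup.orderOf_dvd_natCard N hxN
  have hodd : Odd (Nat.card N) := odd_card_of_le h hN
  have hcop : Nat.Coprime (2 ^ k) (Nat.card N) :=
    Nat.Coprime.pow_left k (Nat.coprime_two_left.2 hodd)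
  have h3 : orderOf x = 1 := Nat.eq_one_of_dvd_coprimes hcop h1 h2
  exact orderOf_eq_one_iff.1 h3

/-- `A` normalizes `C_Y(K)` for `K ≤ A` -/
theorem le_normalizer_inf_centralizer {A Y K : Subgroup G} (h : Hyp A Y) (hK : K ≤ A) :
    A ≤ normalizer ((Y ⊓ centralizer (K : Set G) : Subgroup G) : Set G) := by
  apply le_normalizer_of_forall_conj
  intro g hg x hx
  obtain ⟨hxY, hxK⟩ := mem_inf.1 hx
  refine mem_inf.2 ⟨conj_mem_of_mem_normalizer (h.norm hg) hxY, ?_⟩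
  rw [mem_centralizer_iff]
  intro k hk
  have hkg : Commute k g := h.comm k (hK hk) g hg
  have hkx : Commute k x := (mem_centralizer_iff.1 hxK) k hk
  exact (hkg.mul_right hkx).mul_right hkg.inv_right

/-- the quotient step when `N` is normal in the whole group -/
theorem quot_step_normal [Finite G] {A Y N : Subgroup G} [N.Normal] (h : Hyp A Y)
    (hs : Group.IsSolvable Y) (hYA : ⁅Y, A⁆ = Y) (hN : N ≤ Y) (hN1 : N ≠ ⊥)
    (IH : ∀ (Q : Type u) [Group Q] [Finite Q] (A' Y' : Subgroup Q), Nat.card Y' < Nat.card Y →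
      Hyp A' Y' → Group.IsSolvable Y' → ⁅Y', A'⁆ = Y' → Y' ⊓ centralizer (A' : Set Q) ≤ RR Y' A') :
    ∀ c ∈ Y ⊓ centralizer (A : Set G), ∃ ρ ∈ RR Y A, ∃ n ∈ N, c = ρ * n := by
  classical
  obtain ⟨π, hπ⟩ : ∃ π : G →* G ⧸ N, π = QuotientGroup.mk' N := ⟨_, rfl⟩
  have hker : ∀ x : G, π x = 1 ↔ x ∈ N := by
    intro x
    rw [hπ]
    exact QuotientGroup.eq_one_iff x
  have hAN0 : A ⊓ N = ⊥ := inf_eq_bot_of_hyp h hN
  have hinjA : ∀ x ∈ A, ∀ y ∈ A, π x = π y → x = y := by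
    intro x hx y hy hxy
    have h1 : x⁻¹ * y ∈ A ⊓ N :=
      mem_inf.2 ⟨mul_mem (inv_mem hx) hy,
        (hker _).1 (by rw [map_mul, map_inv, hxy, inv_mul_cancel])⟩
    rw [hAN0, mem_bot] at h1
    exact inv_mul_eq_one.1 h1
  have hNnorm : ∀ H : Subgroup G, H ≤ normalizer (N : Set G) := by
    intro H
    apply le_normalizer_of_forall_conj
    intro g _ x hx
    exact ‹N.Normal›.conj_mem x hx g
  -- the hypotheses for the images
  have hyp' : Hyp (A.map π) (Y.map π) :=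
    { two := h.two.map π
      comm := by
        rintro _ ⟨a, ha, rfl⟩ _ ⟨b, hb, rfl⟩
        rw [← map_mul, ← map_mul, h.comm a ha b hb]
      odd := by
        obtain ⟨k, hk⟩ := Subgroup.card_map_dvd Y π
        have := h.odd
        rw [hk] at this
        exact (Nat.odd_mul.mp this).1
      norm := by
        apply le_normalizer_of_forall_conj
        rintro _ ⟨a, ha, rfl⟩ _ ⟨y, hy, rfl⟩
        rw [← map_inv, ← map_mul, ← map_mul]
        exact mem_map_of_mem π (conj_mem_of_mem_normalizer (h.norm ha) hy) }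
  have hlt : Nat.card (Y.map π) < Nat.card Y := by
    by_contra hge
    push Not at hge
    have hbij := Function.Surjective.bijective_of_nat_card_le
      (MonoidHom.subgroupMap_surjective π Y) hge
    obtain ⟨⟨n, hn⟩, hn1⟩ := (Subgroup.ne_bot_iff_exists_ne_one (H := N)).1 hN1
    apply hn1
    have h1 : (π.subgroupMap Y) ⟨n, hN hn⟩ = (π.subgroupMap Y) 1 := by
      apply Subtype.ext
      rw [map_one]
      exact (hker n).2 hn
    have h2 := congrArg Subtype.val (hbij.1 h1)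
    exact Subtype.ext h2
  have hs' : Group.IsSolvable (Y.map π) :=
    Group.isSolvable_of_surjective (MonoidHom.subgroupMap_surjective π Y)
  have hcomm' : ⁅Y.map π, A.map π⁆ = Y.map π := by
    rw [← Subgroup.map_commutator, hYA]
  have hIH := IH (G ⧸ N) (A.map π) (Y.map π) hlt hyp' hs' hcomm'
  -- the key inclusion
  have hRR : RR (Y.map π) (A.map π) ≤ (RR Y A).map π := by
    unfold RR
    apply iSup_le
    rintro ⟨K', hK'⟩
    obtain ⟨K, hKdef⟩ : ∃ K : Subgroup G, K = A ⊓ K'.comap π := ⟨_, rfl⟩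
    have hKA : K ≤ A := by rw [hKdef]; exact inf_le_left
    have hKmap : ∀ k ∈ K, π k ∈ K' := by
      intro k hk
      rw [hKdef] at hk
      exact (mem_inf.1 hk).2
    have hK'map : ∀ k' ∈ K', ∃ k ∈ K, π k = k' := by
      intro k' hk'
      obtain ⟨a, ha, rfl⟩ := hK'.1 hk'
      exact ⟨a, by rw [hKdef]; exact mem_inf.2 ⟨ha, hk'⟩, rfl⟩
    have hKmapeq : K.map π = K' := by
      apply le_antisymm
      · rintro _ ⟨k, hk, rfl⟩
        exact hKmap k hk
      · intro k' hk'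
        obtain ⟨k, hk, rfl⟩ := hK'map k' hk'
        exact mem_map_of_mem π hk
    have hKcyc : CycQuot A K := by
      refine ⟨hKA, ?_⟩
      obtain ⟨a', ha', hsup⟩ := hK'.2
      obtain ⟨a₀, ha₀, rfl⟩ := ha'
      refine ⟨a₀, ha₀, ?_⟩
      intro x hx
      have h1 : π x ∈ K' ⊔ zpowers (π a₀) := hsup (mem_map_of_mem π hx)
      rw [← hKmapeq, ← MonoidHom.map_zpowers, ← Subgroup.map_sup] at h1
      obtain ⟨w, hw, hwx⟩ := h1
      have hwA : w ∈ A := (sup_le hKA (zpowers_le.2 ha₀)) hw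
      rw [← hinjA w hwA x hx hwx]
      exact hw
    -- centralizers
    have h1 : Y.map π ⊓ centralizer (K' : Set (G ⧸ N)) ≤ (Y ⊓ centralizer (K : Set G)).map π := by
      intro y' hy'
      obtain ⟨hy1, hyc⟩ := mem_inf.1 hy'
      obtain ⟨y, hy, rfl⟩ := hy1
      rw [mem_centralizer_iff] at hyc
      obtain ⟨n, hn, hfix⟩ := fix_lift (B := K) h hKA hN (hNnorm K) (y := y) (by
        intro b hb
        apply (hker _).1
        have := hyc (π b) (hKmap b hb)
        rw [map_mul, map_inv, map_mul, map_mul, map_inv, this]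
        group)
      refine ⟨y * n, mem_inf.2 ⟨mul_mem hy (hN hn), hfix⟩, ?_⟩
      rw [map_mul, (hker n).2 hn, mul_one]
    have hAnormC := le_normalizer_inf_centralizer (Y := Y) h hKA
    obtain ⟨D, hDdef⟩ : ∃ D : Subgroup G, D = ⁅Y ⊓ centralizer (K : Set G), A⁆ := ⟨_, rfl⟩
    have hD_le : D ≤ Y ⊓ centralizer (K : Set G) := by rw [hDdef]; exact comm_le hAnormC
    have hAD : A ≤ normalizer (D : Set G) := by rw [hDdef]; exact (comm_normalized hAnormC).2
    have hypD : Hyp A D := h.of_le (hD_le.trans inf_le_left) hAD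
    have h2 : ⁅Y.map π ⊓ centralizer (K' : Set (G ⧸ N)), A.map π⁆ ≤ D.map π := by
      rw [hDdef, Subgroup.map_commutator]
      exact commutator_mono h1 le_rfl
    have hAND : A ≤ normalizer ((N ⊓ D : Subgroup G) : Set G) := by
      apply le_normalizer_of_forall_conj
      intro g hg x hx
      obtain ⟨hxN, hxD⟩ := mem_inf.1 hx
      exact mem_inf.2 ⟨‹N.Normal›.conj_mem x hxN g, conj_mem_of_mem_normalizer (hAD hg) hxD⟩
    intro x' hx'
    unfold piece at hx'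
    obtain ⟨hx'1, hdc⟩ := mem_inf.1 hx'
    obtain ⟨d, hd, rfl⟩ := h2 hx'1
    rw [mem_centralizer_iff] at hdc
    obtain ⟨n, hn, hfix⟩ := fix_lift (B := A) hypD le_rfl (inf_le_right : N ⊓ D ≤ D) hAND (y := d) (by
      intro b hb
      refine mem_inf.2 ⟨?_, ?_⟩
      · apply (hker _).1
        have := hdc (π b) (mem_map_of_mem π hb)
        rw [map_mul, map_inv, map_mul, map_mul, map_inv, this]
        group
      · exact mul_mem (inv_mem hd) (conj_mem_of_mem_normalizer (hAD hb) hd))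
    have hmem : d * n ∈ piece Y A K := by
      unfold piece
      rw [← hDdef]
      exact mem_inf.2 ⟨mul_mem hd (mem_inf.1 hn).2, hfix⟩
    refine ⟨d * n, piece_le_RR hKcyc hmem, ?_⟩
    rw [map_mul, (hker n).2 (mem_inf.1 hn).1, mul_one]
  -- conclusion
  intro c hc
  obtain ⟨hcY, hcA⟩ := mem_inf.1 hc
  have hc' : π c ∈ Y.map π ⊓ centralizer ((A.map π : Subgroup (G ⧸ N)) : Set (G ⧸ N)) := by
    refine mem_inf.2 ⟨mem_map_of_mem π hcY, ?_⟩
    rw [mem_centralizer_iff]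
    rintro _ ⟨a, ha, rfl⟩
    rw [← map_mul, ← map_mul, (mem_centralizer_iff.1 hcA) a ha]
  obtain ⟨ρ, hρ, hρc⟩ := hRR (hIH hc')
  refine ⟨ρ, hρ, ρ⁻¹ * c, ?_, by group⟩
  apply (hker _).1
  rw [map_mul, map_inv, hρc, inv_mul_cancel]

/-- [QUOT] -/
theorem quot_step [Finite G] {A Y N : Subgroup G} (h : Hyp A Y) (hs : Group.IsSolvable Y)
    (hYA : ⁅Y, A⁆ = Y) (hN : N ≤ Y) (hN1 : N ≠ ⊥) (hYN : Y ≤ normalizer (N : Set G))
    (hAN : A ≤ normalizer (N : Set G))
    (IH : ∀ (Q : Type u) [Group Q] [Finite Q] (A' Y' : Subgroup Q), Nat.card Y' < Nat.card Y →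
      Hyp A' Y' → Group.IsSolvable Y' → ⁅Y', A'⁆ = Y' → Y' ⊓ centralizer (A' : Set Q) ≤ RR Y' A') :
    ∀ c ∈ Y ⊓ centralizer (A : Set G), ∃ ρ ∈ RR Y A, ∃ n ∈ N, c = ρ * n := by
  classical
  obtain ⟨L, hL⟩ : ∃ L : Subgroup G, L = normalizer (N : Set G) := ⟨_, rfl⟩
  have hYL : Y ≤ L := by rw [hL]; exact hYN
  have hAL : A ≤ L := by rw [hL]; exact hAN
  have hNL : N ≤ L := by rw [hL]; exact le_normalizer
  obtain ⟨Y₁, hY₁⟩ : ∃ Y₁ : Subgroup ↥L, Y₁ = Y.subgroupOf L := ⟨_, rfl⟩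
  obtain ⟨A₁, hA₁⟩ : ∃ A₁ : Subgroup ↥L, A₁ = A.subgroupOf L := ⟨_, rfl⟩
  obtain ⟨N₁, hN₁⟩ : ∃ N₁ : Subgroup ↥L, N₁ = N.subgroupOf L := ⟨_, rfl⟩
  have hNn : N₁.Normal := by
    rw [hN₁]
    subst hL
    exact Subgroup.normal_in_normalizer
  have hmapY : Y₁.map L.subtype = Y := by rw [hY₁]; exact map_subgroupOf_eq_of_le hYL
  have hmapA : A₁.map L.subtype = A := by rw [hA₁]; exact map_subgroupOf_eq_of_le hAL
  have hmapN : N₁.map L.subtype = N := by rw [hN₁]; exact map_subgroupOf_eq_of_le hNL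
  have memY₁ : ∀ x : ↥L, x ∈ Y₁ ↔ (x : G) ∈ Y := by intro x; rw [hY₁]; exact mem_subgroupOf
  have memA₁ : ∀ x : ↥L, x ∈ A₁ ↔ (x : G) ∈ A := by intro x; rw [hA₁]; exact mem_subgroupOf
  have memN₁ : ∀ x : ↥L, x ∈ N₁ ↔ (x : G) ∈ N := by intro x; rw [hN₁]; exact mem_subgroupOf
  have hcardY : Nat.card Y₁ = Nat.card Y := by
    rw [hY₁]
    exact Nat.card_congr (Subgroup.subgroupOfEquivOfLe hYL).toEquiv
  have hyp₁ : Hyp A₁ Y₁ :=
    { two := by
        rw [hA₁]
        exact h.two.comap_of_injective L.subtype Subtype.val_injective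
      comm := fun a ha b hb => Subtype.ext (h.comm a ((memA₁ a).1 ha) b ((memA₁ b).1 hb))
      odd := by rw [hcardY]; exact h.odd
      norm := by
        apply le_normalizer_of_forall_conj
        intro g hg x hx
        rw [memY₁]
        exact conj_mem_of_mem_normalizer (h.norm ((memA₁ g).1 hg)) ((memY₁ x).1 hx) }
  have hs₁ : Group.IsSolvable Y₁ := by
    rw [hY₁]
    have : Group.IsSolvable ↥Y := hs
    exact Group.isSolvable_of_isSolvable_injective
      (f := (Subgroup.subgroupOfEquivOfLe hYL).toMonoidHom) (MulEquiv.injective _)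
  have hYA₁ : ⁅Y₁, A₁⁆ = Y₁ := by
    apply Subgroup.map_injective L.subtype_injective
    rw [Subgroup.map_commutator, hmapY, hmapA, hYA]
  have hN₁Y₁ : N₁ ≤ Y₁ := by
    intro x hx
    rw [memY₁]
    exact hN ((memN₁ x).1 hx)
  have hN₁1 : N₁ ≠ ⊥ := by
    intro hbot
    apply hN1
    rw [← hmapN, hbot, Subgroup.map_bot]
  have IH₁ : ∀ (Q : Type u) [Group Q] [Finite Q] (A' Y' : Subgroup Q),
      Nat.card Y' < Nat.card Y₁ → Hyp A' Y' → Group.IsSolvable Y' → ⁅Y', A'⁆ = Y' →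
      Y' ⊓ centralizer (A' : Set Q) ≤ RR Y' A' := by
    intro Q _ _ A' Y' hlt
    rw [hcardY] at hlt
    exact IH Q A' Y' hlt
  have res := quot_step_normal (N := N₁) hyp₁ hs₁ hYA₁ hN₁Y₁ hN₁1 IH₁
  -- transport of `RR`
  have hRRmap : (RR Y₁ A₁).map L.subtype ≤ RR Y A := by
    unfold RR
    rw [Subgroup.map_iSup]
    apply iSup_le
    rintro ⟨K₁, hK₁⟩
    obtain ⟨K, hKdef⟩ : ∃ K : Subgroup G, K = K₁.map L.subtype := ⟨_, rfl⟩
    have hKA : K ≤ A := by
      rw [hKdef]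
      rintro _ ⟨k, hk, rfl⟩
      exact (memA₁ k).1 (hK₁.1 hk)
    have hKcyc : CycQuot A K := by
      refine ⟨hKA, ?_⟩
      obtain ⟨a, ha, hsup⟩ := hK₁.2
      refine ⟨(a : G), (memA₁ a).1 ha, ?_⟩
      intro x hx
      have h1 : (⟨x, hAL hx⟩ : ↥L) ∈ K₁ ⊔ zpowers a := hsup ((memA₁ _).2 hx)
      have h2 := mem_map_of_mem L.subtype h1
      rw [Subgroup.map_sup, MonoidHom.map_zpowers, ← hKdef] at h2
      exact h2
    refine le_trans ?_ (le_iSup (fun K : {K : Subgroup G // CycQuot A K} => piece Y A K) ⟨K, hKcyc⟩)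
    unfold piece
    rintro _ ⟨w, hw, rfl⟩
    obtain ⟨hw1, hw2⟩ := mem_inf.1 hw
    refine mem_inf.2 ⟨?_, ?_⟩
    · have h1 := mem_map_of_mem L.subtype hw1
      rw [Subgroup.map_commutator, hmapA] at h1
      refine commutator_mono ?_ le_rfl h1
      rintro _ ⟨v, hv, rfl⟩
      obtain ⟨hv1, hv2⟩ := mem_inf.1 hv
      refine mem_inf.2 ⟨(memY₁ v).1 hv1, ?_⟩
      rw [mem_centralizer_iff]
      intro k' hk'
      change k' ∈ K at hk'
      rw [hKdef] at hk'
      obtain ⟨k, hk, rfl⟩ := hk'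
      exact congrArg Subtype.val ((mem_centralizer_iff.1 hv2) k hk)
    · rw [mem_centralizer_iff]
      intro a ha
      exact congrArg Subtype.val ((mem_centralizer_iff.1 hw2) ⟨a, hAL ha⟩ ((memA₁ _).2 ha))
  -- conclusion
  intro c hc
  obtain ⟨hcY, hcA⟩ := mem_inf.1 hc
  have hc₁ : (⟨c, hYL hcY⟩ : ↥L) ∈ Y₁ ⊓ centralizer (A₁ : Set ↥L) := by
    refine mem_inf.2 ⟨(memY₁ _).2 hcY, ?_⟩
    rw [mem_centralizer_iff]
    intro a ha
    exact Subtype.ext ((mem_centralizer_iff.1 hcA) (a : G) ((memA₁ a).1 ha))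
  obtain ⟨ρ, hρ, n, hn, hcn⟩ := res _ hc₁
  refine ⟨(ρ : G), hRRmap (mem_map_of_mem L.subtype hρ), (n : G), (memN₁ n).1 hn, ?_⟩
  exact congrArg Subtype.val hcn

end Cfsg.Agent.Lib.Helper77.Gold
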