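import Mathlib
import Cfsg.Prelude.Def_OddOrderLocal
import Cfsg.Agent.Lib.Helper51.BGAsymA
import Cfsg.Agent.Lib.Helper23.TypeP

/-!
# PF (10.9)/(10.10) module PF10V-[FROB] (helper77, for helper46)

For type-P data `(M, W₁, U, W₂)`: `M / M''` is a Frobenius group with kernel `M' / M''`, in the
form: if `k ∈ M' ∖ M''`, `x ∈ M` and `[x, k] ∈ M''` then `x ∈ M'`.
-/

set_option autoImplicit false

namespace Cfsg.Agent.Lib.Helper77.PFTenV

open Cfsg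
open scoped commutatorElement

/-- The elements `b ∈ M` with `b k b⁻¹ k⁻¹ ∈ N`, for `N` normalized by `M`, form a subgroup. -/
def commFixer {G : Type*} [Group G] (M N : Subgroup G)
    (hN : ∀ m ∈ M, ∀ t ∈ N, m * t * m⁻¹ ∈ N) (k : G) : Subgroup G where
  carrier := {b | b ∈ M ∧ b * k * b⁻¹ * k⁻¹ ∈ N}
  one_mem' := ⟨M.one_mem, by simp⟩
  mul_mem' := by
    rintro b c ⟨hb, hb'⟩ ⟨hc, hc'⟩
    refine ⟨M.mul_mem hb hc, ?_⟩
    have : b * c * k * (b * c)⁻¹ * k⁻¹ = b * (c * k * c⁻¹ * k⁻¹) * b⁻¹ * (b * k * b⁻¹ * k⁻¹) := by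
      group
    rw [this]
    exact N.mul_mem (hN b hb _ hc') hb'
  inv_mem' := by
    rintro b ⟨hb, hb'⟩
    refine ⟨M.inv_mem hb, ?_⟩
    have : b⁻¹ * k * b⁻¹⁻¹ * k⁻¹ = b⁻¹ * (b * k * b⁻¹ * k⁻¹)⁻¹ * b⁻¹⁻¹ := by
      group
    rw [this]
    exact hN b⁻¹ (M.inv_mem hb) _ (N.inv_mem hb')

theorem conj_mem_commutator_of_conj_mem {G : Type*} [Group G] (A : Subgroup G) (g : G)
    (hA : ∀ a ∈ A, g * a * g⁻¹ ∈ A) : ∀ t ∈ ⁅A, A⁆, g * t * g⁻¹ ∈ ⁅A, A⁆ := by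
  have hle : ⁅A, A⁆ ≤ (⁅A, A⁆).comap (MulAut.conj g).toMonoidHom := by
    rw [Subgroup.commutator_le]
    intro a ha b hb
    rw [Subgroup.mem_comap]
    show MulAut.conj g ⁅a, b⁆ ∈ ⁅A, A⁆
    rw [map_commutatorElement]
    exact Subgroup.commutator_mem_commutator (hA a ha) (hA b hb)
  intro t ht
  exact hle ht

theorem mem_normalizer_of_conj_mem_both {G : Type*} [Group G] (N : Subgroup G) (g : G)
    (h1 : ∀ t ∈ N, g * t * g⁻¹ ∈ N) (h2 : ∀ t ∈ N, g⁻¹ * t * g⁻¹⁻¹ ∈ N) :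
    g ∈ Subgroup.normalizer (N : Set G) := by
  rw [Subgroup.mem_normalizer_iff]
  intro t
  constructor
  · exact h1 t
  · intro h
    have := h2 _ h
    have e : g⁻¹ * (g * t * g⁻¹) * g⁻¹⁻¹ = t := by group
    rwa [e] at this

/-- [FROB] -/
theorem typeP_frob_mod_der2 {G : Type*} [Group G] [Finite G] {M W₁ U W₂ : Subgroup G}
    (hP : IsTypePWith M W₁ U W₂)
    (k : G) (hk : k ∈ ⁅M, M⁆) (hk' : k ∉ ⁅⁅M, M⁆, ⁅M, M⁆⁆) (x : G) (hx : x ∈ M)
    (hxk : x * k * x⁻¹ * k⁻¹ ∈ ⁅⁅M, M⁆, ⁅M, M⁆⁆) : x ∈ ⁅M, M⁆ := by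
  have hcompl := hP.W₁_compl
  have hcard := Cfsg.Agent.Lib.Helper23.card_of_isComplIn hP.W₁_compl
  have hhall := hP.W₁_hall
  have hW2c := hP.W₂_centralizer
  have hW2le := hP.W₂_le
  obtain ⟨K, hKdef⟩ : ∃ K : Subgroup G, K = ⁅M, M⁆ := ⟨_, rfl⟩
  rw [← hKdef] at hk hk' hxk hcompl hcard hW2c hW2le ⊢
  obtain ⟨K', hK'def⟩ : ∃ K' : Subgroup G, K' = ⁅K, K⁆ := ⟨_, rfl⟩
  rw [← hK'def] at hk' hxk hW2le
  obtain ⟨hKM, hWM, _, hfact⟩ := hcompl
  have hconjK : ∀ m ∈ M, ∀ t ∈ K, m * t * m⁻¹ ∈ K := by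
    intro m hm t ht
    rw [hKdef] at ht ⊢
    exact Cfsg.Agent.Lib.Helper23.conj_mem_commutator_self M hm ht
  have hconjK' : ∀ m ∈ M, ∀ t ∈ K', m * t * m⁻¹ ∈ K' := by
    intro m hm t ht
    rw [hK'def] at ht ⊢
    exact conj_mem_commutator_of_conj_mem K m (hconjK m hm) t ht
  have hK'K : K' ≤ K := by
    rw [hK'def, Subgroup.commutator_le]
    intro a ha b hb
    exact K.mul_mem (K.mul_mem (K.mul_mem ha hb) (K.inv_mem ha)) (K.inv_mem hb)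
  have hnormM : ∀ m ∈ M, m ∈ Subgroup.normalizer (K' : Set G) := by
    intro m hm
    exact mem_normalizer_of_conj_mem_both K' m (hconjK' m hm) (hconjK' m⁻¹ (M.inv_mem hm))
  obtain ⟨a, ha, w, hw, rfl⟩ := hfact x hx
  by_cases hw1 : w = 1
  · rw [hw1, mul_one]; exact ha
  exfalso
  have hwM : w ∈ M := hWM hw
  -- `w k w⁻¹ k⁻¹ ∈ K'`
  have hy : w * k * w⁻¹ ∈ K := hconjK w hwM k hk
  have hwk : w * k * w⁻¹ * k⁻¹ ∈ K' := by
    have hc : ⁅a, w * k * w⁻¹⁆ ∈ K' := by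
      rw [hK'def]
      exact Subgroup.commutator_mem_commutator ha hy
    have e : w * k * w⁻¹ * k⁻¹ = ⁅a, w * k * w⁻¹⁆⁻¹ * (a * w * k * (a * w)⁻¹ * k⁻¹) := by
      rw [commutatorElement_def]
      group
    rw [e]
    exact K'.mul_mem (K'.inv_mem hc) hxk
  -- all of `A = ⟨w⟩`
  have hAle : Subgroup.zpowers w ≤ commFixer M K' hconjK' k := by
    rw [Subgroup.zpowers_le]
    exact ⟨hwM, hwk⟩
  have hfix : ∀ b ∈ Subgroup.zpowers w, b * k * b⁻¹ * k⁻¹ ∈ K' := fun b hb => (hAle hb).2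
  have hAM : Subgroup.zpowers w ≤ M := fun b hb => (hAle hb).1
  have hNA : Subgroup.zpowers w ≤ Subgroup.normalizer (K' : Set G) :=
    fun b hb => hnormM b (hAM hb)
  have hcop : (Nat.card (Subgroup.zpowers w)).Coprime (Nat.card K') := by
    have h1 : Nat.card (Subgroup.zpowers w) ∣ Nat.card W₁ :=
      Subgroup.card_dvd_of_le (by rw [Subgroup.zpowers_le]; exact hw)
    have h2 : Nat.card K' ∣ Nat.card K := Subgroup.card_dvd_of_le hK'K
    have h3 : W₁.relIndex M = Nat.card K := by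
      have h4 := Cfsg.Agent.Lib.Helper23.card_mul_relIndex_of_le hWM
      rw [hcard, mul_comm] at h4
      have hpos : 0 < Nat.card W₁ := Nat.card_pos
      exact Nat.eq_of_mul_eq_mul_right hpos h4
    rw [h3] at hhall
    exact Nat.Coprime.of_dvd h1 h2 hhall
  have hsolv : Group.IsSolvable (Subgroup.zpowers w) :=
    Group.isSolvable_of_comm (fun a b => mul_comm' a b)
  obtain ⟨c, hc, hkc⟩ := Cfsg.Agent.Lib.Helper51.BGAsym.exists_mem_centralizer_of_fixed_coset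
    (Subgroup.zpowers w) K' hNA hcop (Or.inl hsolv) k (hnormM k (hKM hk)) hfix
  have hcK : c ∈ K := by
    have : c = k * (k⁻¹ * c) := by group
    rw [this]
    exact K.mul_mem hk (hK'K hkc)
  have hcw : c ∈ Subgroup.centralizer ({w} : Set G) := by
    rw [Subgroup.mem_centralizer_iff]
    intro z hz
    rw [Set.mem_singleton_iff] at hz
    rw [hz]
    exact Subgroup.mem_centralizer_iff.mp hc w (Subgroup.mem_zpowers w)
  have hcW2 : c ∈ W₂ := by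
    rw [← hW2c w hw hw1]
    exact ⟨hcK, hcw⟩
  have hcK' : c ∈ K' := (hW2le hcW2).2
  apply hk'
  have : k = c * (k⁻¹ * c)⁻¹ := by group
  rw [this]
  exact K'.mul_mem hcK' (K'.inv_mem hkc)

end Cfsg.Agent.Lib.Helper77.PFTenV
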