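import Mathlib
import Cfsg.Agent.Lib.Helper24.PFCycCtx
import Cfsg.Agent.Lib.Helper23.TypeP

/-!
# PF (10.9)/(10.10) module PF10V-[TR] (helper77, for helper46)

Translation between subgroups of `↥M` (`KM M = M'` as a subgroup of `↥M`) and subgroups of `G`.
-/

set_option autoImplicit false

namespace Cfsg.Agent.Lib.Helper77.PFTenV

open Cfsg Cfsg.Agent.Lib.Helper24.PFCyc

variable {G : Type*} [Group G]

theorem KM_comm_sup_bot (M : Subgroup G) :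
    ⁅KM M, KM M⁆ ⊔ ⊥ = (⁅⁅M, M⁆, ⁅M, M⁆⁆).subgroupOf M := by
  have hKM : ⁅M, M⁆ ≤ M := Subgroup.commutator_le_self M
  rw [sup_bot_eq]
  apply Subgroup.map_injective M.subtype_injective
  rw [Subgroup.map_commutator, Subgroup.map_subgroupOf_eq_of_le hKM,
    Subgroup.map_subgroupOf_eq_of_le ((Subgroup.commutator_le_self _).trans hKM)]

theorem KM_index [Finite G] {M W₁ U W₂ : Subgroup G} (hP : IsTypePWith M W₁ U W₂) :
    (KM M).index = Nat.card W₁ := by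
  have hKM : ⁅M, M⁆ ≤ M := Subgroup.commutator_le_self M
  have h1 := Cfsg.Agent.Lib.Helper23.card_of_isComplIn hP.W₁_compl
  have h2 := Cfsg.Agent.Lib.Helper23.card_mul_relIndex_of_le hKM
  rw [h1] at h2
  have hpos : 0 < Nat.card ↥⁅M, M⁆ := Nat.card_pos
  exact Nat.eq_of_mul_eq_mul_left hpos h2

theorem KM_relIndex_bot (M : Subgroup G) :
    (⊥ : Subgroup ↥M).relIndex (KM M) = Nat.card ↥⁅M, M⁆ := by
  have hKM : ⁅M, M⁆ ≤ M := Subgroup.commutator_le_self M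
  rw [Subgroup.relIndex_bot_left]
  exact Nat.card_congr (Subgroup.subgroupOfEquivOfLe hKM).toEquiv

theorem KM_relIndex_comm (M : Subgroup G) :
    (⁅KM M, KM M⁆ ⊔ ⊥).relIndex (KM M) = (⁅⁅M, M⁆, ⁅M, M⁆⁆).relIndex ⁅M, M⁆ := by
  have hKM : ⁅M, M⁆ ≤ M := Subgroup.commutator_le_self M
  rw [KM_comm_sup_bot, Subgroup.relIndex_subgroupOf hKM]

theorem chief_transfer (M : Subgroup G)
    (h : ¬ ∃ N : Subgroup ↥M, N.Normal ∧ ⁅KM M, KM M⁆ ⊔ ⊥ < N ∧ N < KM M) (N : Subgroup G)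
    (h1 : ⁅⁅M, M⁆, ⁅M, M⁆⁆ ≤ N) (h2 : N ≤ ⁅M, M⁆) (h3 : M ≤ Subgroup.normalizer (N : Set G)) :
    N = ⁅⁅M, M⁆, ⁅M, M⁆⁆ ∨ N = ⁅M, M⁆ := by
  have hKM : ⁅M, M⁆ ≤ M := Subgroup.commutator_le_self M
  have hNM : N ≤ M := h2.trans hKM
  have hK'M : ⁅⁅M, M⁆, ⁅M, M⁆⁆ ≤ M := h1.trans hNM
  have hnorm : (N.subgroupOf M).Normal :=
    (Subgroup.normal_subgroupOf_iff_le_normalizer hNM).mpr h3
  rw [KM_comm_sup_bot] at h
  have hle1 : (⁅⁅M, M⁆, ⁅M, M⁆⁆).subgroupOf M ≤ N.subgroupOf M := Subgroup.subgroupOf_mono M h1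
  have hle2 : N.subgroupOf M ≤ KM M := Subgroup.subgroupOf_mono M h2
  by_cases hc : (⁅⁅M, M⁆, ⁅M, M⁆⁆).subgroupOf M = N.subgroupOf M
  · left
    rw [Subgroup.subgroupOf_inj, inf_of_le_left hK'M, inf_of_le_left hNM] at hc
    exact hc.symm
  · right
    by_contra hne
    apply h
    refine ⟨N.subgroupOf M, hnorm, lt_of_le_of_ne hle1 hc, lt_of_le_of_ne hle2 ?_⟩
    intro heq
    apply hne
    have : N.subgroupOf M = (⁅M, M⁆ : Subgroup G).subgroupOf M := heq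
    rw [Subgroup.subgroupOf_inj, inf_of_le_left hNM, inf_of_le_left hKM] at this
    exact this

end Cfsg.Agent.Lib.Helper77.PFTenV
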