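import Mathlib
import Cfsg.Agent.Lib.Helper75.Clifford3

set_option autoImplicit false

namespace Cfsg.Agent.Lib.Helper77

open Cfsg Cfsg.Agent.Lib.Helper75 Cfsg.Agent.Lib.Helper78
open scoped ComplexConjugate

universe u

section DGV

/-- An irreducible character vanishing off a normal subgroup of index a positive power of `q`
has degree divisible by `q`. -/
theorem prime_dvd_charDegree_of_vanishing_off {N : Type u} [Group N] [Fintype N] (K : Subgroup N)
    [K.Normal] (q : ℕ) (hq : q.Prime) (hidx : ∃ a : ℕ, 0 < a ∧ K.index = q ^ a)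
    (ψ : IrrCharacter N) (hvan : ∀ n : N, n ∉ K → (ψ : N → ℂ) n = 0) :
    q ∣ charDegree (ψ : N → ℂ) := by
  classical
  have : Fintype K := Fintype.ofFinite K
  obtain ⟨a, ha, hKa⟩ := hidx
  set χ : N → ℂ := (ψ : N → ℂ) with hχdef
  have hχ : IsIrrCharacter N χ := ψ.2
  have hχc : IsCharacter N χ := IsIrrCharacter.isCharacter hχ
  have hcl : IsClassFunction N χ := IsCharacter.isClassFunction hχc
  -- norm of the restriction
  have hnorm : classInner (fun k : K => χ k) (fun k : K => χ k) = (K.index : ℂ) := by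
    have h1 : classInner χ χ = 1 := classInner_irr_self hχ
    unfold classInner at h1 ⊢
    have hsum : ∑ g : N, χ g * conj (χ g) = ∑ k : K, χ k * conj (χ k) := by
      have e1 : ∑ g : N, χ g * conj (χ g)
          = ∑ g ∈ Finset.univ.filter (fun g : N => g ∈ K), χ g * conj (χ g) := by
        symm
        apply Finset.sum_subset (Finset.filter_subset _ _)
        intro g _ hg
        have : g ∉ K := by simpa using hg
        rw [hvan g this, zero_mul]
      rw [e1]
      exact Finset.sum_subtype (Finset.univ.filter (fun g : N => g ∈ K))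
        (fun x => by simp) (fun g => χ g * conj (χ g))
    rw [← hsum]
    have hN0 : (Nat.card N : ℂ) ≠ 0 := by exact_mod_cast Nat.card_pos.ne'
    have hK0 : (Nat.card K : ℂ) ≠ 0 := by exact_mod_cast Nat.card_pos.ne'
    have hS : ∑ g : N, χ g * conj (χ g) = (Nat.card N : ℂ) := by
      field_simp at h1
      exact h1
    rw [hS, ← Subgroup.card_mul_index K]
    push_cast
    field_simp
  -- Clifford
  obtain ⟨θ, hθ⟩ := exists_constituent_res K hχ
  obtain ⟨m, hm⟩ := IsCharacter.exists_nat_classInner (isCharacter_res K hχc) θ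
  have hclif := clifford_finset K hχ θ.2 hθ
  set t : ℕ := (conjOrbit K (θ : K → ℂ)).card with ht
  have hmφ : ∀ φ ∈ conjOrbit K (θ : K → ℂ),
      classInner (fun k : K => χ k) (φ : K → ℂ) = (m : ℂ) := by
    intro φ hφ
    obtain ⟨g, hg⟩ := (mem_conjOrbit K).mp hφ
    rw [← hg, classInner_res_conjFun K hcl g, hm]
  have hnorm2 : classInner (fun k : K => χ k) (fun k : K => χ k) = (m : ℂ) * t * m := by
    have hclif' : (fun k : K => χ k) = (m : ℂ) • ∑ φ ∈ conjOrbit K (θ : K → ℂ), (φ : K → ℂ) := by
      rw [← hm]; exact hclif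
    have e0 : classInner (fun k : K => χ k) (fun k : K => χ k)
        = classInner ((m : ℂ) • ∑ φ ∈ conjOrbit K (θ : K → ℂ), (φ : K → ℂ)) (fun k : K => χ k) :=
      congrArg (fun f => classInner f (fun k : K => χ k)) hclif'
    rw [e0, classInner_smul_left, classInner_sum_left]
    have : ∀ φ ∈ conjOrbit K (θ : K → ℂ),
        classInner (φ : K → ℂ) (fun k : K => χ k) = (m : ℂ) := by
      intro φ hφ
      rw [← classInner_conj_symm, hmφ φ hφ, Complex.conj_natCast]
    rw [Finset.sum_congr rfl this, Finset.sum_const, nsmul_eq_mul]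
    ring
  have hidx2 : K.index = m * t * m := by
    have : (K.index : ℂ) = ((m * t * m : ℕ) : ℂ) := by
      rw [← hnorm, hnorm2]; push_cast; ring
    exact_mod_cast this
  -- degree
  have hφ1 : ∀ φ ∈ conjOrbit K (θ : K → ℂ), (φ : K → ℂ) 1 = (θ : K → ℂ) 1 := by
    intro φ hφ
    obtain ⟨g, hg⟩ := (mem_conjOrbit K).mp hφ
    rw [← hg, conjFun_apply]
    exact congrArg (θ : K → ℂ) (Subtype.ext (by simp))
  have hdeg : χ 1 = (m : ℂ) * t * (charDegree (θ : K → ℂ) : ℂ) := by
    have h1 := congrFun hclif 1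
    simp only [Pi.smul_apply, Finset.sum_apply, smul_eq_mul] at h1
    rw [Finset.sum_congr rfl hφ1, Finset.sum_const, nsmul_eq_mul, hm,
      IsCharacter.apply_one_eq_charDegree (IsIrrCharacter.isCharacter θ.2)] at h1
    have h2 : χ 1 = χ ((1 : K) : N) := by simp
    rw [h2, h1]
    ring
  have hdegN : charDegree χ = m * t * charDegree (θ : K → ℂ) := by
    have : (charDegree χ : ℂ) = ((m * t * charDegree (θ : K → ℂ) : ℕ) : ℂ) := by
      rw [← IsCharacter.apply_one_eq_charDegree hχc, hdeg]; push_cast; ring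
    exact_mod_cast this
  rw [hdegN]
  have hq1 : q ∣ m * t * m := by
    rw [← hidx2, hKa]
    exact dvd_pow_self q ha.ne'
  rcases (Nat.Prime.dvd_mul hq).mp hq1 with h | h
  · exact Dvd.dvd.mul_right h _
  · exact Dvd.dvd.mul_right (Dvd.dvd.mul_right h _) _

end DGV

end Cfsg.Agent.Lib.Helper77
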