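import Mathlib
import Cfsg.Prelude.Def_Characters
import Cfsg.Agent.Lib.Helper77.W2pEig

set_option autoImplicit false

open Cfsg

namespace Cfsg.Agent.Lib.Helper77.PSIX

/-- For a character `ψ` of `N`, an element `x` of order `r` and an `r`-th root of unity `ζ`,
the sum `Σ_{i<r} ψ(x^i) ζ^{-i}` is `r` times an integer (the multiplicity of the eigenvalue `ζ`
of `x`). -/
theorem sum_pow_mul_eq_card_mul_int {N : Type*} [Group N] [Fintype N] (ψ : N → ℂ)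
    (hψ : IsCharacter N ψ) (x : N) (r : ℕ) (hr : 0 < r) (hx : orderOf x = r) (ζ : ℂˣ)
    (hζ : ζ ^ r = 1) :
    ∃ B : ℤ, ∑ i ∈ Finset.range r, ψ (x ^ i) * ((ζ⁻¹ : ℂˣ) : ℂ) ^ i = (r : ℂ) * B := by
  obtain ⟨n, ρ, hρ⟩ := hψ
  have hxr : x ^ r = 1 := by rw [← hx]; exact pow_orderOf_eq_one x
  have hζ' : ((ζ : ℂˣ) : ℂ) ^ r = 1 := by
    have := congrArg (fun u : ℂˣ => (u : ℂ)) hζ
    simpa using this
  have hr0 : (r : ℂ) ≠ 0 := by exact_mod_cast hr.ne'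
  have key := Cfsg.Agent.Lib.Helper77.finrank_eigenspace_eq ρ x r hr hxr (ζ : ℂ) hζ'
  refine ⟨(Module.finrank ℂ (Module.End.eigenspace (ρ x) (ζ : ℂ)) : ℕ), ?_⟩
  rw [Int.cast_natCast, key, ← mul_assoc, mul_inv_cancel₀ hr0, one_mul]
  apply Finset.sum_congr rfl
  intro i _
  rw [hρ, mul_comm, Units.val_inv_eq_inv_val]

end Cfsg.Agent.Lib.Helper77.PSIX
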