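import Cfsg.Agent.Lib.Helper94.SPMD.Defs

/-!
# Project SPMD (helper94), module SPMD-[R-DEC] (helper77)

Weight spaces of distinct additive characters are independent: at most `dim V` characters have a
non-zero weight space.
-/

set_option autoImplicit false

namespace Cfsg.Agent.Lib.Helper94.SPMD

open Matrix Module

section R
variable {G : Type*} [Group G] {V : Type*} [AddCommGroup V] [Module ℂ V] [FiniteDimensional ℂ V]
variable {A : Type*} [AddCommGroup A] [Finite A]

/-- **[R-DEC]** weight spaces of distinct characters are independent: at most `dim V` characters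
have a non-zero weight space -/
theorem card_le_finrank_of_wt_ne_bot (ρ : Representation ℂ G V) (u : Multiplicative A →* G)
    {ι : Type*} [Finite ι] (θs : ι → AddChar A ℂ) (hinj : Function.Injective θs)
    (hne : ∀ i, wt ρ u (θs i) ≠ ⊥) : Nat.card ι ≤ finrank ℂ V := by
  classical
  have : Fintype ι := Fintype.ofFinite ι
  have hx : ∀ i, ∃ x : V, x ∈ wt ρ u (θs i) ∧ x ≠ 0 := fun i =>
    (Submodule.ne_bot_iff _).mp (hne i)
  choose x hxm hx0 using hx
  have hchar : LinearIndependent ℂ (fun i : ι => ((θs i : AddChar A ℂ) : A → ℂ)) :=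
    (AddChar.linearIndependent A ℂ).comp θs hinj
  have hli : LinearIndependent ℂ x := by
    rw [linearIndependent_iff']
    intro s c hsum i hi
    -- apply `ρ (u a)` and a functional
    have h1 : ∀ (φ : Module.Dual ℂ V) (a : A), ∑ j ∈ s, (c j * φ (x j)) * θs j a = 0 := by
      intro φ a
      have h2 : ρ (u (Multiplicative.ofAdd a)) (∑ j ∈ s, c j • x j) = 0 := by
        rw [hsum, map_zero]
      rw [map_sum] at h2
      have h3 : φ (∑ j ∈ s, ρ (u (Multiplicative.ofAdd a)) (c j • x j)) = 0 := by
        rw [h2, map_zero]
      rw [map_sum] at h3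
      rw [← h3]
      apply Finset.sum_congr rfl
      intro j _
      rw [map_smul, hxm j a, map_smul, map_smul, smul_eq_mul, smul_eq_mul]
      ring
    have h4 : ∀ φ : Module.Dual ℂ V, c i * φ (x i) = 0 := by
      intro φ
      have h5 : ∑ j ∈ s, (c j * φ (x j)) • ((θs j : AddChar A ℂ) : A → ℂ) = 0 := by
        funext a
        rw [Finset.sum_apply, Pi.zero_apply, ← h1 φ a]
        apply Finset.sum_congr rfl
        intro j _
        rw [Pi.smul_apply, smul_eq_mul]
      exact linearIndependent_iff'.mp hchar s (fun j => c j * φ (x j)) h5 i hi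
    have h6 : c i • x i = 0 := by
      rw [← Module.forall_dual_apply_eq_zero_iff ℂ]
      intro φ
      rw [map_smul, smul_eq_mul]
      exact h4 φ
    rcases smul_eq_zero.mp h6 with h | h
    · exact h
    · exact absurd h (hx0 i)
  rw [Nat.card_eq_fintype_card]
  exact hli.fintype_card_le_finrank

end R

end Cfsg.Agent.Lib.Helper94.SPMD
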