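import Mathlib
import Cfsg.Agent.S0752

set_option autoImplicit false

namespace Cfsg.Agent.Lib.Helper77

open Matrix

section CayleyDisc

variable {F : Type*} [Field F]

/-- Gram determinants in two bases differ by a square factor. -/
theorem cayley_gram_change {V ι κ : Type*} [AddCommGroup V] [Module F V]
    [Fintype ι] [DecidableEq ι] [Fintype κ] [DecidableEq κ]
    (B : LinearMap.BilinForm F V) (b : Module.Basis ι F V) (c : Module.Basis κ F V) :
    ∃ s : F, (LinearMap.BilinForm.toMatrix c B).det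
      = s * s * (LinearMap.BilinForm.toMatrix b B).det := by
  let e : κ ≃ ι := c.indexEquiv b
  let c' : Module.Basis ι F V := c.reindex e
  have h1 : LinearMap.BilinForm.toMatrix c B
      = (LinearMap.BilinForm.toMatrix c' B).submatrix e e := by
    ext i j
    simp [LinearMap.BilinForm.toMatrix_apply, c']
  have h2 := LinearMap.BilinForm.toMatrix_mul_basis_toMatrix (b := b) c' B
  refine ⟨(b.toMatrix c').det, ?_⟩
  rw [h1, Matrix.det_submatrix_equiv_self, ← h2, Matrix.det_mul, Matrix.det_mul,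
    Matrix.det_transpose]
  ring

theorem cayley_isSquare_det_std (m : ℕ) :
    IsSquare (fromBlocks (0 : Matrix (Fin m) (Fin m) F) (1 : Matrix (Fin m) (Fin m) F)
      (-1 : Matrix (Fin m) (Fin m) F) (0 : Matrix (Fin m) (Fin m) F)).det := by
  have hU : (fromBlocks (1 : Matrix (Fin m) (Fin m) F) (1 : Matrix (Fin m) (Fin m) F)
      (0 : Matrix (Fin m) (Fin m) F) (1 : Matrix (Fin m) (Fin m) F)).det = 1 := by
    rw [det_fromBlocks_zero₂₁, det_one, mul_one]
  have hmul : fromBlocks (1 : Matrix (Fin m) (Fin m) F) (1 : Matrix (Fin m) (Fin m) F)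
      (0 : Matrix (Fin m) (Fin m) F) (1 : Matrix (Fin m) (Fin m) F)
      * fromBlocks (0 : Matrix (Fin m) (Fin m) F) (1 : Matrix (Fin m) (Fin m) F)
        (-1 : Matrix (Fin m) (Fin m) F) (0 : Matrix (Fin m) (Fin m) F)
      = fromBlocks (-1 : Matrix (Fin m) (Fin m) F) (1 : Matrix (Fin m) (Fin m) F)
        (-1 : Matrix (Fin m) (Fin m) F) (0 : Matrix (Fin m) (Fin m) F) := by
    rw [fromBlocks_multiply]; simp
  letI : Invertible (-1 : Matrix (Fin m) (Fin m) F) := ⟨-1, by simp, by simp⟩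
  have hinv : ⅟(-1 : Matrix (Fin m) (Fin m) F) = -1 := rfl
  have h3 : (fromBlocks (-1 : Matrix (Fin m) (Fin m) F) (1 : Matrix (Fin m) (Fin m) F)
        (-1 : Matrix (Fin m) (Fin m) F) (0 : Matrix (Fin m) (Fin m) F)).det
      = det (-1 : Matrix (Fin m) (Fin m) F) * det (-1 : Matrix (Fin m) (Fin m) F) := by
    rw [det_fromBlocks₁₁, hinv]
    simp
  have h4 : (fromBlocks (0 : Matrix (Fin m) (Fin m) F) (1 : Matrix (Fin m) (Fin m) F)
        (-1 : Matrix (Fin m) (Fin m) F) (0 : Matrix (Fin m) (Fin m) F)).det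
      = det (-1 : Matrix (Fin m) (Fin m) F) * det (-1 : Matrix (Fin m) (Fin m) F) := by
    rw [← h3, ← hmul, det_mul, hU, one_mul]
  rw [h4]
  exact ⟨_, rfl⟩

theorem isSquare_det_of_alt {κ : Type*} [Fintype κ] [DecidableEq κ] (h2 : (2 : F) ≠ 0)
    (A : Matrix κ κ F) (hA : Aᵀ = -A) : IsSquare A.det := by
  set B : LinearMap.BilinForm F (κ → F) := Matrix.toBilin' A with hB
  have halt : B.IsAlt := by
    intro x
    have h1 : B x x = x ⬝ᵥ A *ᵥ x := Matrix.toBilin'_apply' A x x
    have h2' : x ⬝ᵥ A *ᵥ x = - (x ⬝ᵥ A *ᵥ x) := by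
      calc x ⬝ᵥ A *ᵥ x = (A *ᵥ x) ⬝ᵥ x := dotProduct_comm _ _
        _ = (x ᵥ* Aᵀ) ⬝ᵥ x := by rw [vecMul_transpose]
        _ = x ⬝ᵥ (Aᵀ *ᵥ x) := (dotProduct_mulVec _ _ _).symm
        _ = - (x ⬝ᵥ A *ᵥ x) := by rw [hA, neg_mulVec, dotProduct_neg]
    rw [h1]
    have h3 : (2 : F) * (x ⬝ᵥ A *ᵥ x) = 0 := by linear_combination h2'
    rcases mul_eq_zero.mp h3 with h | h
    · exact absurd h h2
    · exact h
  obtain ⟨m, k, b, h1, h2', h3, h4⟩ := Cfsg.Agent.S0752.result B halt
  obtain ⟨s, hs⟩ := cayley_gram_change B b (Pi.basisFun F κ)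
  have hAeq : LinearMap.BilinForm.toMatrix (Pi.basisFun F κ) B = A := by
    rw [LinearMap.BilinForm.toMatrix_basisFun, hB]
    exact LinearMap.BilinForm.toMatrix'_toBilin' A
  rw [hAeq] at hs
  rw [hs]
  suffices h : IsSquare (LinearMap.BilinForm.toMatrix b B).det by
    obtain ⟨r, hr⟩ := h
    exact ⟨s * r, by rw [hr]; ring⟩
  rcases Nat.eq_zero_or_pos k with hk | hk
  · subst hk
    set N : Matrix (Fin m ⊕ Fin m) (Fin m ⊕ Fin m) F := fromBlocks 0 1 (-1) 0 with hN
    have hM : LinearMap.BilinForm.toMatrix b B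
        = N.submatrix (Equiv.sumEmpty (Fin m ⊕ Fin m) (Fin 0))
          (Equiv.sumEmpty (Fin m ⊕ Fin m) (Fin 0)) := by
      ext i j
      rw [LinearMap.BilinForm.toMatrix_apply, submatrix_apply]
      rcases i with (i | i) | i
      · rcases j with (j | j) | j
        · simp [hN, h2']
        · simp [hN, h1, Matrix.one_apply]
        · exact j.elim0
      · rcases j with (j | j) | j
        · rw [← halt.neg_eq, h1]
          simp [hN, Matrix.one_apply, eq_comm]
        · simp [hN, h3]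
        · exact j.elim0
      · exact i.elim0
    rw [hM, det_submatrix_equiv_self]
    exact cayley_isSquare_det_std m
  · have : (LinearMap.BilinForm.toMatrix b B).det = 0 := by
      apply det_eq_zero_of_row_eq_zero (Sum.inr ⟨0, hk⟩)
      intro j
      rw [LinearMap.BilinForm.toMatrix_apply]
      exact h4 _ _
    rw [this]
    exact ⟨0, by simp⟩

/-- Cayley transform discriminant: for an isometry `X` of a symmetric Gram matrix `G`,
`det G * det (1 - X) * det (1 + X)` is a square (the hypothesis `hX1` is not needed). -/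
theorem isSquare_det_mul_of_isometry {κ : Type*} [Fintype κ] [DecidableEq κ] (h2 : (2 : F) ≠ 0)
    (G X : Matrix κ κ F) (hGs : Gᵀ = G) (hX : Xᵀ * G * X = G) (hX1 : (1 + X).det ≠ 0) :
    IsSquare (G.det * (1 - X).det * (1 + X).det) := by
  have hA : (1 + X)ᵀ * G * (1 - X) = Xᵀ * G - G * X := by
    rw [transpose_add, transpose_one]
    simp only [add_mul, mul_sub, one_mul, mul_one, Matrix.mul_assoc]
    rw [← Matrix.mul_assoc Xᵀ G X, hX]
    abel
  have halt : ((1 + X)ᵀ * G * (1 - X))ᵀ = -((1 + X)ᵀ * G * (1 - X)) := by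
    rw [hA, transpose_sub, transpose_mul, transpose_mul, transpose_transpose, hGs]
    abel
  have h := isSquare_det_of_alt h2 _ halt
  rw [det_mul, det_mul, det_transpose] at h
  have e : G.det * (1 - X).det * (1 + X).det = (1 + X).det * G.det * (1 - X).det := by ring
  rw [e]
  exact h

end CayleyDisc

end Cfsg.Agent.Lib.Helper77
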