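import Mathlib
import Cfsg.Agent.Lib.Helper41.N22.Defs

set_option autoImplicit false

namespace Cfsg.Agent.Lib.Helper77.N22
open Cfsg.Agent.Lib.Helper41.N22

/-- local copy of [FIXMOD] -/
theorem card_fixed_modEq_aux {Ω : Type*} [Fintype Ω] [DecidableEq Ω] (u : Equiv.Perm Ω) (q : ℕ)
    [Fact q.Prime] (hu : u ^ q = 1) (S : Finset Ω) (hS : ∀ ω ∈ S, u ω ∈ S) :
    (S.filter (fun ω => u ω = ω)).card ≡ S.card [MOD q] := by
  obtain ⟨f, hf⟩ : ∃ f : Function.End ↥S, ∀ ω, (f ω : Ω) = u ω :=
    ⟨fun ω => ⟨u ω, hS ω ω.2⟩, fun _ => rfl⟩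
  have hpow : ∀ (n : ℕ) (ω : ↥S), ((f ^ n) ω : Ω) = (u ^ n) ω := by
    intro n
    induction n with
    | zero => intro ω; rfl
    | succ n ih =>
      intro ω
      rw [pow_succ, pow_succ]
      show ((f ^ n) (f ω) : Ω) = (u ^ n) (u ω)
      rw [ih, hf]
  have hfq : f ^ q ^ 1 = 1 := by
    rw [pow_one]
    funext ω
    apply Subtype.ext
    rw [hpow, hu]
    rfl
  have h := Equiv.Perm.card_fixedPoints_modEq (f := f) (p := q) (n := 1) hfq
  rw [Fintype.card_coe] at h
  have e : Function.fixedPoints f ≃ {ω // ω ∈ S.filter (fun ω => u ω = ω)} :=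
    { toFun := fun ω => ⟨ω.1.1, Finset.mem_filter.mpr ⟨ω.1.2, by
        have := congrArg Subtype.val ω.2
        rwa [hf] at this⟩⟩
      invFun := fun ω => ⟨⟨ω.1, (Finset.mem_filter.mp ω.2).1⟩, by
        apply Subtype.ext
        rw [hf]
        exact (Finset.mem_filter.mp ω.2).2⟩
      left_inv := fun ω => rfl
      right_inv := fun ω => rfl }
  rw [Fintype.card_eq_nat_card, Nat.card_congr e, Nat.card_eq_fintype_card,
    Fintype.card_coe] at h
  exact h.symm

section B
variable {Ω : Type*} [Finite Ω] {H : Subgroup (Equiv.Perm Ω)} {α : Ω} {x : Equiv.Perm Ω}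

theorem twentyone_dvd_card_stabilizer (hD : PermData H α x) :
    21 ∣ Nat.card (MulAction.stabilizer H α) := by
  classical
  have hcard := hD.card
  obtain ⟨β, hβ⟩ : ∃ β : Ω, β ≠ α := by
    by_contra hcon
    push Not at hcon
    have : Subsingleton Ω := ⟨fun a b => (hcon a).trans (hcon b).symm⟩
    have := Finite.card_le_one_iff_subsingleton.mpr this
    omega
  have horb : MulAction.orbit (MulAction.stabilizer H α) β = ({α} : Set Ω)ᶜ := by
    ext γ
    simp only [Set.mem_compl_iff, Set.mem_singleton_iff]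
    constructor
    · rintro ⟨s, rfl⟩ hs
      apply hβ
      have h1 : (s : H) • α = α := s.2
      have h2 : (s : H) • β = α := hs
      have : (s : H) • β = (s : H) • α := by rw [h1, h2]
      exact smul_left_cancel _ this
    · intro hγ
      obtain ⟨h, hH, hα, hβγ⟩ := hD.two α β α γ (Ne.symm hβ) (Ne.symm hγ)
      exact ⟨⟨⟨h, hH⟩, hα⟩, hβγ⟩
  have hidx := MulAction.index_stabilizer (MulAction.stabilizer H α) β
  rw [horb, Set.ncard_compl, Set.ncard_singleton, hcard] at hidx
  have := Subgroup.index_dvd_card (MulAction.stabilizer (MulAction.stabilizer H α) β)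
  rwa [hidx] at this

/-- [B-Y] -/
theorem exists_seven (hD : PermData H α x) :
    ∃ y ∈ H, orderOf y = 7 ∧ y * x = x * y ∧ ∀ ω : Ω, y ω = ω ↔ ω = α := by
  classical
  have : Fintype Ω := Fintype.ofFinite Ω
  have : Fact (Nat.Prime 7) := ⟨by norm_num⟩
  have : Fact (Nat.Prime 3) := ⟨by norm_num⟩
  have hcard : Fintype.card Ω = 22 := by rw [← Nat.card_eq_fintype_card]; exact hD.card
  have h7 : 7 ∣ Nat.card (MulAction.stabilizer H α) :=
    Dvd.dvd.trans (by norm_num) (twentyone_dvd_card_stabilizer hD)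
  obtain ⟨s, hs⟩ := exists_prime_orderOf_dvd_card' 7 h7
  obtain ⟨y, hy⟩ : ∃ y : Equiv.Perm Ω, y = ((s : H) : Equiv.Perm Ω) := ⟨_, rfl⟩
  have hyH : y ∈ H := by rw [hy]; exact (s : H).2
  have hyo : orderOf y = 7 := by rw [hy, Subgroup.orderOf_coe, Subgroup.orderOf_coe, hs]
  have hyα : y α = α := by
    rw [hy]
    exact s.2
  have hy7 : y ^ 7 = 1 := by rw [← hyo]; exact pow_orderOf_eq_one y
  -- `y` commutes with `x`
  have hcomm : y * x = x * y := by
    rcases hD.norm y hyH hyα with h | h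
    · calc y * x = y * x * y⁻¹ * y := by group
        _ = x * y := by rw [h]
    · have hinv : y * x⁻¹ * y⁻¹ = x := by
        have : y * x⁻¹ * y⁻¹ = (y * x * y⁻¹)⁻¹ := by group
        rw [this, h, inv_inv]
      have h2 : Commute (y ^ 2) x := by
        rw [pow_two]
        show y * y * x = x * (y * y)
        have : y * y * x * (y * y)⁻¹ = x := by
          calc y * y * x * (y * y)⁻¹ = y * (y * x * y⁻¹) * y⁻¹ := by group
            _ = x := by rw [h, hinv]
        calc y * y * x = y * y * x * (y * y)⁻¹ * (y * y) := by group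
          _ = x * (y * y) := by rw [this]
      have h8 : (y ^ 2) ^ 4 = y := by
        rw [← pow_mul]
        calc y ^ (2 * 4) = y ^ 7 * y := by group
          _ = y := by rw [hy7, one_mul]
      have := h2.pow_left 4
      rw [h8] at this
      exact this
  refine ⟨y, hyH, hyo, hcomm, ?_⟩
  -- fixed points of `y`
  obtain ⟨F, hF⟩ : ∃ F : Finset Ω, F = Finset.univ.filter (fun ω => y ω = ω) := ⟨_, rfl⟩
  have hmemF : ∀ ω, ω ∈ F ↔ y ω = ω := by
    intro ω; rw [hF]; simp
  have h1 := card_fixed_modEq_aux y 7 hy7 Finset.univ (fun ω _ => Finset.mem_univ _)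
  rw [← hF, Finset.card_univ, hcard] at h1
  have hFx : ∀ ω ∈ F, x ω ∈ F := by
    intro ω hω
    rw [hmemF] at hω ⊢
    have : y (x ω) = (y * x) ω := rfl
    rw [this, hcomm]
    show x (y ω) = x ω
    rw [hω]
  have h2 := card_fixed_modEq_aux x 3 hD.cube F hFx
  have hsingle : F.filter (fun ω => x ω = ω) = {α} := by
    ext ω
    simp only [Finset.mem_filter, Finset.mem_singleton]
    constructor
    · rintro ⟨_, hω⟩
      exact (hD.fix ω).mp hω
    · rintro rfl
      exact ⟨(hmemF ω).mpr hyα, (hD.fix ω).mpr rfl⟩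
  rw [hsingle, Finset.card_singleton] at h2
  have hle : F.card ≤ 22 := by
    rw [← hcard, ← Finset.card_univ]
    exact Finset.card_le_card (Finset.subset_univ _)
  have hF1 : F.card = 1 ∨ F.card = 22 := by
    have h1' : F.card % 7 = 22 % 7 := h1
    have h2' : 1 % 3 = F.card % 3 := h2
    omega
  have hαF : α ∈ F := (hmemF α).mpr hyα
  rcases hF1 with hF1 | hF22
  · obtain ⟨a, ha⟩ := Finset.card_eq_one.mp hF1
    rw [ha, Finset.mem_singleton] at hαF
    intro ω
    rw [← hmemF, ha, Finset.mem_singleton, hαF]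
  · exfalso
    have hFuniv : F = Finset.univ := by
      apply Finset.eq_univ_of_card
      rw [hF22, hcard]
    have hy1 : y = 1 := by
      ext ω
      have : ω ∈ F := by rw [hFuniv]; exact Finset.mem_univ _
      exact (hmemF ω).mp this
    rw [hy1, orderOf_one] at hyo
    omega

end B

end Cfsg.Agent.Lib.Helper77.N22
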