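import Mathlib
import Cfsg.Agent.Lib.Helper41.N22.Defs
import Cfsg.Agent.Lib.Helper12.PrimeDegree3
import Cfsg.Agent.Lib.Helper12.PrimeDegree4
import Cfsg.Agent.Lib.Helper11.N22T7Swap

/-!
# S4346 module [T7] (helper77, for helper41)

A transitive group `T` of degree `7` with `3 ∤ |T|` has order dividing `14`.
-/

set_option autoImplicit false

namespace Cfsg.Agent.Lib.Helper77.N22
open Cfsg.Agent.Lib.Helper41.N22 Cfsg.Agent.Lib.Helper12

set_option maxRecDepth 100000 in
theorem arith_index_seven : ∀ b ≤ 360, b ∣ 360 → ¬ 3 ∣ b → b % 7 = 1 → b = 1 ∨ b = 8 := by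
  decide

/-- [T7] -/
theorem card_dvd_fourteen {X : Type*} [Fintype X] [DecidableEq X] (hX : Fintype.card X = 7)
    (T : Subgroup (Equiv.Perm X)) [MulAction.IsPretransitive T X] (h3 : ¬ 3 ∣ Nat.card T) :
    Nat.card T ∣ 14 := by
  have : Fact (Nat.Prime 7) := ⟨by norm_num⟩
  obtain ⟨P⟩ : Nonempty (Sylow 7 T) := inferInstance
  have hN42 := card_normalizer_dvd hX T P
  have hN7 := dvd_card_normalizer hX T P
  obtain ⟨N, hN⟩ : ∃ N : Subgroup T, N = Subgroup.normalizer ((P : Subgroup T) : Set T) :=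
    ⟨_, rfl⟩
  rw [← hN] at hN42 hN7
  have hNT : Nat.card N ∣ Nat.card T := Subgroup.card_subgroup_dvd_card _
  have hidx : Nat.card (Sylow 7 T) = N.index := by
    rw [hN]; exact Sylow.card_eq_index_normalizer P
  have hmod : Nat.card (Sylow 7 T) ≡ 1 [MOD 7] := card_sylow_modEq_one 7 T
  rw [hidx] at hmod
  have hT : Nat.card N * N.index = Nat.card T := N.card_mul_index
  have hT5040 : Nat.card T ∣ 5040 := by
    have := Subgroup.card_subgroup_dvd_card T
    rwa [Nat.card_eq_fintype_card (α := Equiv.Perm X), Fintype.card_perm, hX] at this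
  have h3N : ¬ 3 ∣ Nat.card N := fun h => h3 (h.trans hNT)
  have h3b : ¬ 3 ∣ N.index := fun h => h3 (h.trans (Dvd.intro_left _ hT))
  -- `|N| ∈ {7, 14}`
  have hcases : Nat.card N = 7 ∨ Nat.card N = 14 := by
    obtain ⟨k, hk⟩ := hN7
    rw [hk] at hN42 h3N
    have hk6 : k ∣ 6 := by
      have : 7 * k ∣ 7 * 6 := hN42
      exact (Nat.mul_dvd_mul_iff_left (by norm_num)).mp this
    have hkle : k ≤ 6 := Nat.le_of_dvd (by norm_num) hk6
    have hkpos : 0 < k := Nat.pos_of_dvd_of_pos hk6 (by norm_num)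
    interval_cases k <;> omega
  rcases hcases with h7 | h14
  · have := card_eq_of_card_normalizer_eq hX T P (by rw [← hN]; exact h7)
    rw [this]
    norm_num
  · rw [h14] at hT
    have hb360 : N.index ∣ 360 := by
      have : 14 * N.index ∣ 14 * 360 := by rw [hT]; exact hT5040
      exact (Nat.mul_dvd_mul_iff_left (by norm_num)).mp this
    have hble : N.index ≤ 360 := Nat.le_of_dvd (by norm_num) hb360
    have hb7 : N.index % 7 = 1 := hmod
    rcases arith_index_seven N.index hble hb360 h3b hb7 with h1 | h8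
    · rw [h1] at hT
      rw [← hT]
    · exfalso
      rw [h8] at hT
      have h16 : 16 ∣ Nat.card T := by rw [← hT]; norm_num
      have htop := Cfsg.Agent.Lib.Helper11.N22.eq_top_of_sixteen_dvd hX T h16
      have hcard : Nat.card T = 5040 := by
        rw [htop, Subgroup.card_top, Nat.card_eq_fintype_card, Fintype.card_perm, hX]
        rfl
      omega

end Cfsg.Agent.Lib.Helper77.N22
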