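import Mathlib
import Cfsg.Agent.Lib.Helper48.FL.Defs

/-!
# Project FL (S2863, helper48): module FL-[LGEN] (helper77)

`A = Y0 · Y0^g`, `Y0 ∩ Y0^g = C`, `[A, A] ≤ C` for `Y0 = Y ∩ A`, `C = Y ∩ Z(L)`, `g ∉ N_L(Y)`.
-/

set_option autoImplicit false
set_option linter.unusedSectionVars false
set_option linter.unusedVariables false

namespace Cfsg.Agent.Lib.Helper77.FL

open Cfsg Cfsg.Agent.Lib.Helper48 Cfsg.Agent.Lib.Helper48.FL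
open scoped Pointwise

universe u

theorem le_normalizer_of_conj_mem {G : Type*} [Group G] (P N : Subgroup G)
    (h : ∀ s ∈ P, ∀ g ∈ N, s * g * s⁻¹ ∈ N) : P ≤ Subgroup.normalizer (N : Set G) := by
  intro s hs
  rw [Subgroup.mem_normalizer_iff]
  intro g
  constructor
  · exact h s hs g
  · intro hg
    have := h s⁻¹ (P.inv_mem hs) _ hg
    rw [inv_inv] at this
    have e : s⁻¹ * (s * g * s⁻¹) * s = g := by group
    rwa [e] at this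

theorem mem_map_conj {G : Type*} [Group G] (H : Subgroup G) (g x : G) :
    x ∈ H.map (MulAut.conj g).toMonoidHom ↔ ∃ v ∈ H, g * v * g⁻¹ = x := by
  rw [Subgroup.mem_map]
  rfl

section

variable {L : Type u} [Group L] {p : ℕ} (Y A : Subgroup L) [hA : A.Normal]

theorem Y_comm (hD : LRaw p Y A) : ∀ y ∈ Y, ∀ y' ∈ Y, y * y' = y' * y := by
  intro y hy y' hy'
  have := hD.eaY.1.is_comm.comm ⟨y, hy⟩ ⟨y', hy'⟩
  exact congrArg Subtype.val this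

theorem norm_iff (hD : LRaw p Y A) : ∀ a ∈ A, ∀ y, y ∈ Y ↔ a * y * a⁻¹ ∈ Y :=
  fun a ha => Subgroup.mem_normalizer_iff.1 (hD.norm ha)

/-- part (1): `[Y, A] ≤ Y ∩ A` -/
theorem comm_mem (hD : LRaw p Y A) : ∀ y ∈ Y, ∀ a ∈ A, y * a * y⁻¹ * a⁻¹ ∈ Y ⊓ A := by
  intro y hy a ha
  refine Subgroup.mem_inf.2 ⟨?_, ?_⟩
  · have : a * y⁻¹ * a⁻¹ ∈ Y := (norm_iff Y A hD a ha y⁻¹).1 (Y.inv_mem hy)
    have e : y * a * y⁻¹ * a⁻¹ = y * (a * y⁻¹ * a⁻¹) := by group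
    rw [e]
    exact Y.mul_mem hy this
  · exact A.mul_mem (hA.conj_mem a ha y) (A.inv_mem ha)

/-- `Y0^g ≤ A` -/
theorem Y0g_le_A (g : L) : (Y ⊓ A).map (MulAut.conj g).toMonoidHom ≤ A := by
  intro x hx
  obtain ⟨v, hv, rfl⟩ := (mem_map_conj _ g x).1 hx
  exact hA.conj_mem v (Subgroup.mem_inf.1 hv).2 g

/-- `Y0` normalizes `Y0^g`: conjugating `g v g⁻¹` by `s ∈ A`. -/
theorem conj_Y0g_mem (hD : LRaw p Y A) (g : L) (s : L) (hs : s ∈ A) (x : L)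
    (hx : x ∈ (Y ⊓ A).map (MulAut.conj g).toMonoidHom) :
    s * x * s⁻¹ ∈ (Y ⊓ A).map (MulAut.conj g).toMonoidHom := by
  obtain ⟨v, hv, rfl⟩ := (mem_map_conj _ g x).1 hx
  have hv' := Subgroup.mem_inf.1 hv
  have ha' : g⁻¹ * s * g ∈ A := by
    have := hA.conj_mem s hs g⁻¹
    rwa [inv_inv] at this
  refine (mem_map_conj _ g _).2 ⟨(g⁻¹ * s * g) * v * (g⁻¹ * s * g)⁻¹, ?_, by group⟩
  exact Subgroup.mem_inf.2 ⟨(norm_iff Y A hD _ ha' v).1 hv'.1, hA.conj_mem v hv'.2 _⟩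

theorem Y0_le_normalizer_Y0g (hD : LRaw p Y A) (g : L) :
    Y ⊓ A ≤ Subgroup.normalizer (((Y ⊓ A).map (MulAut.conj g).toMonoidHom : Subgroup L) : Set L) :=
  le_normalizer_of_conj_mem _ _
    (fun s hs x hx => conj_Y0g_mem Y A hD g s (Subgroup.mem_inf.1 hs).2 x hx)

/-- elements of `D = Y0 ⊔ Y0^g` are products -/
theorem mem_D_iff (hD : LRaw p Y A) (g : L) (x : L) :
    x ∈ (Y ⊓ A) ⊔ (Y ⊓ A).map (MulAut.conj g).toMonoidHom ↔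
      ∃ u ∈ Y ⊓ A, ∃ v ∈ Y ⊓ A, x = u * (g * v * g⁻¹) := by
  have h := Subgroup.coe_mul_of_left_le_normalizer_right (Y ⊓ A)
    ((Y ⊓ A).map (MulAut.conj g).toMonoidHom) (Y0_le_normalizer_Y0g Y A hD g)
  rw [← SetLike.mem_coe, h, Set.mem_mul]
  constructor
  · rintro ⟨u, hu, w, hw, rfl⟩
    obtain ⟨v, hv, rfl⟩ := (mem_map_conj _ g w).1 hw
    exact ⟨u, hu, v, hv, rfl⟩
  · rintro ⟨u, hu, v, hv, rfl⟩
    exact ⟨u, hu, g * v * g⁻¹, (mem_map_conj _ g _).2 ⟨v, hv, rfl⟩, rfl⟩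

/-- `Y` normalizes `D` -/
theorem Y_le_normalizer_D (hD : LRaw p Y A) (g : L) :
    Y ≤ Subgroup.normalizer
      (((Y ⊓ A) ⊔ (Y ⊓ A).map (MulAut.conj g).toMonoidHom : Subgroup L) : Set L) := by
  apply le_normalizer_of_conj_mem
  intro s hs x hx
  obtain ⟨u, hu, v, hv, rfl⟩ := (mem_D_iff Y A hD g x).1 hx
  have hu' := Subgroup.mem_inf.1 hu
  have hw : g * v * g⁻¹ ∈ (Y ⊓ A).map (MulAut.conj g).toMonoidHom :=
    (mem_map_conj _ g _).2 ⟨v, hv, rfl⟩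
  have hwA : g * v * g⁻¹ ∈ A := Y0g_le_A Y A g hw
  have e : s * (u * (g * v * g⁻¹)) * s⁻¹ =
      (s * u * s⁻¹) * ((s * (g * v * g⁻¹) * s⁻¹ * (g * v * g⁻¹)⁻¹) * (g * v * g⁻¹)) := by group
  rw [e]
  apply Subgroup.mul_mem
  · have : s * u * s⁻¹ = u := by
      rw [Y_comm Y A hD s hs u hu'.1, mul_inv_cancel_right]
    rw [this]
    exact Subgroup.mem_sup_left hu
  · apply Subgroup.mul_mem
    · exact Subgroup.mem_sup_left (comm_mem Y A hD s hs _ hwA)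
    · exact Subgroup.mem_sup_right hw

/-- `Y^g` normalizes `D` -/
theorem Yg_le_normalizer_D (hD : LRaw p Y A) (g : L) :
    Y.map (MulAut.conj g).toMonoidHom ≤ Subgroup.normalizer
      (((Y ⊓ A) ⊔ (Y ⊓ A).map (MulAut.conj g).toMonoidHom : Subgroup L) : Set L) := by
  apply le_normalizer_of_conj_mem
  intro s hs x hx
  obtain ⟨y, hy, rfl⟩ := (mem_map_conj _ g s).1 hs
  obtain ⟨u, hu, v, hv, rfl⟩ := (mem_D_iff Y A hD g x).1 hx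
  have hu' := Subgroup.mem_inf.1 hu
  have hv' := Subgroup.mem_inf.1 hv
  have ha' : g⁻¹ * u * g ∈ A := by
    have := hA.conj_mem u hu'.2 g⁻¹
    rwa [inv_inv] at this
  have e : (g * y * g⁻¹) * (u * (g * v * g⁻¹)) * (g * y * g⁻¹)⁻¹ =
      ((g * (y * (g⁻¹ * u * g) * y⁻¹ * (g⁻¹ * u * g)⁻¹) * g⁻¹) * u) *
        (g * (y * v * y⁻¹) * g⁻¹) := by group
  rw [e]
  apply Subgroup.mul_mem
  · apply Subgroup.mul_mem
    · exact Subgroup.mem_sup_right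
        ((mem_map_conj _ g _).2 ⟨_, comm_mem Y A hD y hy _ ha', rfl⟩)
    · exact Subgroup.mem_sup_left hu
  · have : y * v * y⁻¹ = v := by
      rw [Y_comm Y A hD y hy v hv'.1, mul_inv_cancel_right]
    rw [this]
    exact Subgroup.mem_sup_right ((mem_map_conj _ g _).2 ⟨v, hv, rfl⟩)

/-- part (2) -/
theorem A_decomp (hD : LRaw p Y A) (g : L)
    (hg2 : Y ⊔ Y.map (MulAut.conj g).toMonoidHom = ⊤) :
    ∀ a ∈ A, ∃ u ∈ Y ⊓ A, ∃ v ∈ Y ⊓ A, a = u * (g * v * g⁻¹) := by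
  have hnorm : Subgroup.normalizer
      (((Y ⊓ A) ⊔ (Y ⊓ A).map (MulAut.conj g).toMonoidHom : Subgroup L) : Set L) = ⊤ := by
    rw [eq_top_iff, ← hg2]
    exact sup_le (Y_le_normalizer_D Y A hD g) (Yg_le_normalizer_D Y A hD g)
  have hN : ((Y ⊓ A) ⊔ (Y ⊓ A).map (MulAut.conj g).toMonoidHom : Subgroup L).Normal :=
    Subgroup.normalizer_eq_top_iff.1 hnorm
  have hle : Subgroup.normalClosure ((Y ⊓ A : Subgroup L) : Set L) ≤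
      (Y ⊓ A) ⊔ (Y ⊓ A).map (MulAut.conj g).toMonoidHom :=
    Subgroup.normalClosure_le_normal (fun x hx => Subgroup.mem_sup_left hx)
  intro a ha
  exact (mem_D_iff Y A hD g a).1 (hle (hD.gen ha))

/-- part (3) -/
theorem mem_center_of_conj_mem (hD : LRaw p Y A) (g : L)
    (hg2 : Y ⊔ Y.map (MulAut.conj g).toMonoidHom = ⊤) (u : L) (hu : u ∈ Y ⊓ A)
    (hgu : g * u * g⁻¹ ∈ Y ⊓ A) : u ∈ Y ⊓ Subgroup.center L := by
  have hu' := Subgroup.mem_inf.1 hu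
  have hx := Subgroup.mem_inf.1 hgu
  -- `x = g u g⁻¹` is centralized by `Y` and `Y^g`
  have h1 : Y ≤ Subgroup.centralizer ({g * u * g⁻¹} : Set L) := by
    intro y hy
    rw [Subgroup.mem_centralizer_iff]
    intro h hh
    rw [Set.mem_singleton_iff] at hh
    rw [hh]
    exact Y_comm Y A hD _ hx.1 y hy
  have h2 : Y.map (MulAut.conj g).toMonoidHom ≤ Subgroup.centralizer ({g * u * g⁻¹} : Set L) := by
    intro s hs
    obtain ⟨y, hy, rfl⟩ := (mem_map_conj _ g s).1 hs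
    rw [Subgroup.mem_centralizer_iff]
    intro h hh
    rw [Set.mem_singleton_iff] at hh
    rw [hh]
    have := Y_comm Y A hD u hu'.1 y hy
    have e1 : g * u * g⁻¹ * (g * y * g⁻¹) = g * (u * y) * g⁻¹ := by group
    have e2 : g * y * g⁻¹ * (g * u * g⁻¹) = g * (y * u) * g⁻¹ := by group
    rw [e1, e2, this]
  have h3 : Subgroup.centralizer ({g * u * g⁻¹} : Set L) = ⊤ := by
    rw [eq_top_iff, ← hg2]
    exact sup_le h1 h2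
  have hcen : g * u * g⁻¹ ∈ Subgroup.center L := by
    rw [Subgroup.mem_center_iff]
    intro z
    have hz : z ∈ Subgroup.centralizer ({g * u * g⁻¹} : Set L) := by rw [h3]; exact Subgroup.mem_top z
    exact ((Subgroup.mem_centralizer_iff.1 hz) _ (Set.mem_singleton _)).symm
  have hux : u = g * u * g⁻¹ := by
    have := Subgroup.mem_center_iff.1 hcen g⁻¹
    calc u = g⁻¹ * (g * u * g⁻¹) * g := by group
      _ = (g * u * g⁻¹) * g⁻¹ * g := by rw [this]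
      _ = g * u * g⁻¹ := by group
  rw [hux]
  exact Subgroup.mem_inf.2 ⟨hx.1, hcen⟩

/-- part (4) -/
theorem center_le (hD : LRaw p Y A) : Y ⊓ Subgroup.center L ≤ Y ⊓ A := by
  intro x hx
  have hx' := Subgroup.mem_inf.1 hx
  refine Subgroup.mem_inf.2 ⟨hx'.1, hD.self ?_⟩
  rw [Subgroup.mem_centralizer_iff]
  intro h _
  exact (Subgroup.mem_center_iff.1 hx'.2 h)

/-- `[Y0, Y0^g] ≤ C` -/
theorem comm_Y0_Y0g_mem (hD : LRaw p Y A) (g : L)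
    (hg2 : Y ⊔ Y.map (MulAut.conj g).toMonoidHom = ⊤) (u : L) (hu : u ∈ Y ⊓ A) (v : L)
    (hv : v ∈ Y ⊓ A) :
    u * (g * v * g⁻¹) * u⁻¹ * (g * v * g⁻¹)⁻¹ ∈ Y ⊓ Subgroup.center L := by
  have hu' := Subgroup.mem_inf.1 hu
  have hw : g * v * g⁻¹ ∈ (Y ⊓ A).map (MulAut.conj g).toMonoidHom :=
    (mem_map_conj _ g _).2 ⟨v, hv, rfl⟩
  have hwA : g * v * g⁻¹ ∈ A := Y0g_le_A Y A g hw
  have h1 : u * (g * v * g⁻¹) * u⁻¹ * (g * v * g⁻¹)⁻¹ ∈ Y ⊓ A := comm_mem Y A hD u hu'.1 _ hwA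
  have h2 : u * (g * v * g⁻¹) * u⁻¹ * (g * v * g⁻¹)⁻¹ ∈
      (Y ⊓ A).map (MulAut.conj g).toMonoidHom :=
    Subgroup.mul_mem _ (conj_Y0g_mem Y A hD g u hu'.2 _ hw) (Subgroup.inv_mem _ hw)
  obtain ⟨t, ht, hte⟩ := (mem_map_conj _ g _).1 h2
  have h3 : g * t * g⁻¹ ∈ Y ⊓ A := by rw [hte]; exact h1
  have h4 := mem_center_of_conj_mem Y A hD g hg2 t ht h3
  have h4' := Subgroup.mem_inf.1 h4
  -- `g t g⁻¹ = t`
  have h5 : g * t * g⁻¹ = t := by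
    rw [Subgroup.mem_center_iff.1 h4'.2 g, mul_inv_cancel_right]
  rw [← hte, h5]
  exact h4

/-- part (5) -/
theorem comm_A_mem (hD : LRaw p Y A) (g : L)
    (hg2 : Y ⊔ Y.map (MulAut.conj g).toMonoidHom = ⊤) :
    ∀ a ∈ A, ∀ b ∈ A, a * b * a⁻¹ * b⁻¹ ∈ Y ⊓ Subgroup.center L := by
  intro a ha b hb
  obtain ⟨u, hu, v, hv, rfl⟩ := A_decomp Y A hD g hg2 a ha
  obtain ⟨u', hu', v', hv', rfl⟩ := A_decomp Y A hD g hg2 b hb
  have hu1 := Subgroup.mem_inf.1 hu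
  have hu1' := Subgroup.mem_inf.1 hu'
  have hv1 := Subgroup.mem_inf.1 hv
  have hv1' := Subgroup.mem_inf.1 hv'
  obtain ⟨w, hwdef⟩ : ∃ w, w = g * v * g⁻¹ := ⟨_, rfl⟩
  obtain ⟨w', hwdef'⟩ : ∃ w', w' = g * v' * g⁻¹ := ⟨_, rfl⟩
  rw [← hwdef, ← hwdef']
  -- the two central commutators
  have hc2 : (u' * w * u'⁻¹ * w⁻¹) ∈ Y ⊓ Subgroup.center L := by
    rw [hwdef]; exact comm_Y0_Y0g_mem Y A hD g hg2 u' hu' v hv
  have hc3 : (u * w' * u⁻¹ * w'⁻¹) ∈ Y ⊓ Subgroup.center L := by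
    rw [hwdef']; exact comm_Y0_Y0g_mem Y A hD g hg2 u hu v' hv'
  have hz2 := Subgroup.mem_center_iff.1 (Subgroup.mem_inf.1 hc2).2
  have hz3 := Subgroup.mem_center_iff.1 (Subgroup.mem_inf.1 hc3).2
  have huu : u * u' = u' * u := Y_comm Y A hD u hu1.1 u' hu1'.1
  have hww : w * w' = w' * w := by
    have := Y_comm Y A hD v hv1.1 v' hv1'.1
    rw [hwdef, hwdef']
    have e1 : g * v * g⁻¹ * (g * v' * g⁻¹) = g * (v * v') * g⁻¹ := by group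
    have e2 : g * v' * g⁻¹ * (g * v * g⁻¹) = g * (v' * v) * g⁻¹ := by group
    rw [e1, e2, this]
  -- `w u' = c2⁻¹ u' w`, `w' u = c3⁻¹ u w'`
  have e1 : u * w * (u' * w') = (u' * w * u'⁻¹ * w⁻¹)⁻¹ * (u * u' * (w * w')) := by
    have h' : u * (u' * w * u'⁻¹ * w⁻¹)⁻¹ = (u' * w * u'⁻¹ * w⁻¹)⁻¹ * u :=
      (show Commute u (u' * w * u'⁻¹ * w⁻¹) from hz2 u).inv_right.eq
    calc u * w * (u' * w') = u * (u' * w * u'⁻¹ * w⁻¹)⁻¹ * (u' * (w * w')) := by group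
      _ = (u' * w * u'⁻¹ * w⁻¹)⁻¹ * u * (u' * (w * w')) := by rw [h']
      _ = (u' * w * u'⁻¹ * w⁻¹)⁻¹ * (u * u' * (w * w')) := by group
  have e2 : u' * w' * (u * w) = (u * w' * u⁻¹ * w'⁻¹)⁻¹ * (u * u' * (w * w')) := by
    have h' : u' * (u * w' * u⁻¹ * w'⁻¹)⁻¹ = (u * w' * u⁻¹ * w'⁻¹)⁻¹ * u' :=
      (show Commute u' (u * w' * u⁻¹ * w'⁻¹) from hz3 u').inv_right.eq
    calc u' * w' * (u * w) = u' * (u * w' * u⁻¹ * w'⁻¹)⁻¹ * (u * (w' * w)) := by group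
      _ = (u * w' * u⁻¹ * w'⁻¹)⁻¹ * u' * (u * (w' * w)) := by rw [h']
      _ = (u * w' * u⁻¹ * w'⁻¹)⁻¹ * ((u' * u) * (w' * w)) := by group
      _ = (u * w' * u⁻¹ * w'⁻¹)⁻¹ * (u * u' * (w * w')) := by rw [← huu, ← hww]
  have e3 : u * w * (u' * w') * (u * w)⁻¹ * (u' * w')⁻¹ =
      (u * w * (u' * w')) * (u' * w' * (u * w))⁻¹ := by group
  rw [e3, e1, e2]
  have e4 : (u' * w * u'⁻¹ * w⁻¹)⁻¹ * (u * u' * (w * w')) *
      ((u * w' * u⁻¹ * w'⁻¹)⁻¹ * (u * u' * (w * w')))⁻¹ =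
      (u' * w * u'⁻¹ * w⁻¹)⁻¹ * (u * w' * u⁻¹ * w'⁻¹) := by group
  rw [e4]
  exact Subgroup.mul_mem _ (Subgroup.inv_mem _ hc2) hc3

end

/-- FL-[LGEN] -/
theorem gen_facts {L : Type u} [Group L] {p : ℕ} (Y A : Subgroup L) [A.Normal] (hD : LRaw p Y A)
    (hgen2 : ∀ g : L, g ∉ Subgroup.normalizer (Y : Set L) →
      Y ⊔ Y.map (MulAut.conj g).toMonoidHom = ⊤) :
    (∀ y ∈ Y, ∀ a ∈ A, y * a * y⁻¹ * a⁻¹ ∈ Y ⊓ A) ∧
    (∀ g : L, g ∉ Subgroup.normalizer (Y : Set L) → ∀ a ∈ A,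
      ∃ u ∈ Y ⊓ A, ∃ v ∈ Y ⊓ A, a = u * (g * v * g⁻¹)) ∧
    (∀ g : L, g ∉ Subgroup.normalizer (Y : Set L) → ∀ u ∈ Y ⊓ A, g * u * g⁻¹ ∈ Y ⊓ A →
      u ∈ Y ⊓ Subgroup.center L) ∧
    (Y ⊓ Subgroup.center L ≤ Y ⊓ A) ∧
    (∀ a ∈ A, ∀ b ∈ A, a * b * a⁻¹ * b⁻¹ ∈ Y ⊓ Subgroup.center L) := by
  refine ⟨comm_mem Y A hD, fun g hg => A_decomp Y A hD g (hgen2 g hg),
    fun g hg u hu hgu => mem_center_of_conj_mem Y A hD g (hgen2 g hg) u hu hgu,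
    center_le Y A hD, ?_⟩
  obtain ⟨g, hg⟩ : ∃ g : L, g ∉ Subgroup.normalizer (Y : Set L) := by
    by_contra hcon
    push Not at hcon
    exact hD.lt (eq_top_iff.2 (fun x _ => hcon x))
  exact comm_A_mem Y A hD g (hgen2 g hg)

end Cfsg.Agent.Lib.Helper77.FL
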