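/-
Helper77: module HIG-[ELEM8] for helper48 (project HIG = S3050, Higman's lemma).
-/
import Mathlib
import Cfsg.Agent.Lib.Helper48.Hig.Act
import Cfsg.Agent.Lib.Helper24.Maschke
import Cfsg.Agent.Lib.Helper19.NatSL2Main
import Cfsg.Agent.Lib.Helper51.HigV0Inv

set_option autoImplicit false

namespace Cfsg.Agent.Lib.Helper77.Hig

open Matrix Matrix.SpecialLinearGroup
open scoped MatrixGroups
open Cfsg.Agent.Lib.Helper19.NatSL2
open Cfsg.Agent.Lib.Helper48.Hig

section general

variable {A : Type*} [Group A] {M : Type*} [CommGroup M]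

/-- restriction of an action by automorphisms to an invariant subgroup -/
def restrictAct (θ : A →* MulAut M) (N : Subgroup M) (hN : ∀ a, ∀ m ∈ N, θ a m ∈ N) :
    A →* MulAut N where
  toFun a :=
    { toFun := fun x => ⟨θ a x, hN a x x.2⟩
      invFun := fun x => ⟨θ a⁻¹ x, hN a⁻¹ x x.2⟩
      left_inv := fun x => by
        apply Subtype.ext
        simp
      right_inv := fun x => by
        apply Subtype.ext
        simp
      map_mul' := fun x y => by
        apply Subtype.ext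
        simp }
  map_one' := by
    ext x
    simp
  map_mul' g h := by
    ext x
    simp

@[simp] theorem restrictAct_coe (θ : A →* MulAut M) (N : Subgroup M)
    (hN : ∀ a, ∀ m ∈ N, θ a m ∈ N) (a : A) (x : N) :
    ((restrictAct θ N hN a x : N) : M) = θ a x := rfl

/-- the induced action on the quotient by an invariant subgroup -/
def quotAct (θ : A →* MulAut M) (N : Subgroup M) (hN : ∀ a, ∀ m ∈ N, θ a m ∈ N) :
    A →* MulAut (M ⧸ N) where
  toFun a := QuotientGroup.congr N N (θ a) (by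
    apply le_antisymm
    · rintro _ ⟨m, hm, rfl⟩
      exact hN a m hm
    · intro m hm
      refine ⟨θ a⁻¹ m, hN a⁻¹ m hm, ?_⟩
      show θ a (θ a⁻¹ m) = m
      rw [← MulAut.mul_apply, ← map_mul, mul_inv_cancel, map_one, MulAut.one_apply])
  map_one' := by
    ext x
    induction x using QuotientGroup.induction_on with
    | H m => simp
  map_mul' g h := by
    ext x
    induction x using QuotientGroup.induction_on with
    | H m => simp

theorem quotAct_mk (θ : A →* MulAut M) (N : Subgroup M) (hN : ∀ a, ∀ m ∈ N, θ a m ∈ N) (a : A)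
    (m : M) : quotAct θ N hN a (m : M ⧸ N) = ((θ a m : M) : M ⧸ N) := rfl

end general

section abstract

variable {F : Type*} [Field F] [CharP F 2] {M : Type*} [CommGroup M] (φ : SL(2, F) →* MulAut M)

/-- the diagonal torus as a homomorphism -/
def hhHom : Fˣ →* SL(2, F) where
  toFun := hh
  map_one' := hh_one
  map_mul' := hh_mul

omit [CharP F 2] in
@[simp] theorem hhHom_apply (t : Fˣ) : (hhHom : Fˣ →* SL(2, F)) t = hh t := rfl

/-- the units of a field of characteristic two have odd order -/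
theorem coprime_card_units [Finite F] : (Nat.card Fˣ).Coprime 2 := by
  rw [Nat.coprime_comm, Nat.Prime.coprime_iff_not_dvd Nat.prime_two]
  intro hdvd
  have : Fintype Fˣ := Fintype.ofFinite _
  rw [Nat.card_eq_fintype_card] at hdvd
  obtain ⟨t, ht⟩ := exists_prime_orderOf_dvd_card 2 hdvd
  have h1 : t ^ 2 = 1 := by rw [← ht]; exact pow_orderOf_eq_one t
  have h2 : ((t : F) - 1) * ((t : F) - 1) = 0 := by
    have h3 : (t : F) ^ 2 = 1 := by
      have := congrArg Units.val h1
      simpa using this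
    have h4 : (t : F) * t = 1 := by rw [← pow_two]; exact h3
    have : ((t : F) - 1) * ((t : F) - 1) = (t : F) * t - ((t : F) + t) + 1 := by ring
    rw [this, h4, CharTwo.add_self_eq_zero, sub_zero, CharTwo.add_self_eq_zero]
  have h5 : (t : F) = 1 := by
    rcases mul_self_eq_zero.1 h2 with h
    exact sub_eq_zero.1 h
  have h6 : t = 1 := Units.ext h5
  rw [h6, orderOf_one] at ht
  omega

/-- the subgroup of elements whose commutators with `U` lie in `V0` -/
def What : Subgroup M where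
  carrier := {m | ∀ s : F, φ (uu s) m / m ∈ V0 φ}
  one_mem' := by
    intro s
    rw [map_one, div_one]
    exact one_mem _
  mul_mem' := by
    intro a b ha hb s
    have : φ (uu s) (a * b) / (a * b) = (φ (uu s) a / a) * (φ (uu s) b / b) := by
      rw [map_mul, mul_div_mul_comm]
    rw [this]
    exact mul_mem (ha s) (hb s)
  inv_mem' := by
    intro a ha s
    have : φ (uu s) a⁻¹ / a⁻¹ = (φ (uu s) a / a)⁻¹ := by
      rw [map_inv, inv_div_inv, inv_div]
    rw [this]
    exact inv_mem (ha s)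

omit [CharP F 2] in
theorem mem_What {m : M} : m ∈ What φ ↔ ∀ s : F, φ (uu s) m / m ∈ V0 φ := Iff.rfl

/-- [ELEM8], with the statements of `uu_ww_fix`, `V0_invariant`, `key_lemma` as hypotheses -/
theorem eq_V0_of_elem_of [Finite F] [Finite M]
    (huw : ∀ (c : Fˣ) {w : M}, w ∈ fixU φ →
      φ (uu (c : F)) (φ ww w) = (φ (hh c) w)⁻¹ * (φ ww w)⁻¹)
    (hV0inv : ∀ (g : SL(2, F)) {m : M}, m ∈ V0 φ → φ g m ∈ V0 φ)
    (hkey : ∀ D : Subgroup M, (∀ (t : Fˣ), ∀ d ∈ D, φ (hh t) d ∈ D) →
      (∀ d ∈ D, ∀ s : F, φ (uu s) d / d ∈ fixU φ) →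
      (∀ d ∈ D, d ∈ V0 φ → d ∈ fixU φ) → D ≤ fixU φ)
    (hexp : ∀ m : M, m * m = 1) : V0 φ = ⊤ := by
  classical
  have hinv : ∀ m : M, m⁻¹ = m := fun m => inv_eq_of_mul_eq_one_left (hexp m)
  have hWV0 : fixU φ ≤ V0 φ := by unfold V0; exact le_sup_left
  -- Step 2: commutators of elements of `What` are fixed by `U`
  have step2 : ∀ m ∈ What φ, ∀ s : F, φ (uu s) m / m ∈ fixU φ := by
    intro m hm s
    by_cases hs : s = 0
    · subst hs
      rw [uu_zero, map_one, MulAut.one_apply, div_self']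
      exact one_mem _
    · lift s to Fˣ using IsUnit.mk0 s hs
      obtain ⟨w₁, hw₁, w₂, hw₂, hβ⟩ := (mem_V0 φ).1 (hm (s : F))
      -- `X_s β = β`
      have hfixβ : φ (uu (s : F)) (φ (uu (s : F)) m / m) = φ (uu (s : F)) m / m := by
        rw [map_div, ← phi_mul, uu_mul_self, map_one, MulAut.one_apply]
        rw [div_eq_mul_inv, div_eq_mul_inv, hinv, hinv, mul_comm]
      rw [hβ] at hfixβ
      rw [map_mul, hw₁ (s : F), huw s hw₂, hinv, hinv] at hfixβ
      -- `w₁ * (hh s w₂ * ww w₂) = w₁ * ww w₂`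
      have h1 : φ (hh s) w₂ = 1 := by
        have h2 : w₁ * (φ (hh s) w₂ * φ ww w₂) = (w₁ * φ ww w₂) * φ (hh s) w₂ := by
          rw [mul_assoc, mul_comm (φ (hh s) w₂)]
        rw [h2] at hfixβ
        exact mul_eq_left.1 hfixβ
      have h3 : w₂ = 1 := by
        have := (φ (hh s)).injective (h1.trans (map_one _).symm)
        exact this
      rw [hβ, h3, map_one, mul_one]
      exact hw₁
  -- Step 3: `V0 ≤ What`
  have hV0W : V0 φ ≤ What φ := by
    intro v hv s
    exact div_mem (hV0inv _ hv) hv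
  -- Step 4: `What` is invariant under the torus
  have hWhatH : ∀ (t : Fˣ), ∀ m ∈ What φ, φ (hh t) m ∈ What φ := by
    intro t m hm s
    rw [← phi_mul, uu_hh, phi_mul, ← map_div]
    exact hV0inv _ (hm _)
  -- Step 5: Maschke
  obtain ⟨θ, hθ⟩ : ∃ θ : Fˣ →* MulAut M, θ = φ.comp hhHom := ⟨_, rfl⟩
  have hθapp : ∀ (t : Fˣ) (m : M), θ t m = φ (hh t) m := by
    intro t m
    rw [hθ]
    rfl
  have hNθ : ∀ a, ∀ m ∈ What φ, θ a m ∈ What φ := by
    intro a m hm
    rw [hθapp]
    exact hWhatH a m hm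
  obtain ⟨ψ, hψ⟩ : ∃ ψ : Fˣ →* MulAut (What φ), ψ = restrictAct θ (What φ) hNθ := ⟨_, rfl⟩
  have hψapp : ∀ (t : Fˣ) (x : What φ), ((ψ t x : What φ) : M) = φ (hh t) x := by
    intro t x
    rw [hψ, restrictAct_coe, hθapp]
  have : Fact (Nat.Prime 2) := ⟨Nat.prime_two⟩
  obtain ⟨U', hU'inv, hinf, hsup⟩ := Cfsg.Agent.Lib.Helper24.exists_invariant_compl 2
    (fun x y : What φ => mul_comm x y)
    (fun x : What φ => by
      apply Subtype.ext
      rw [pow_two]
      exact hexp x)
    ψ coprime_card_units ((V0 φ).subgroupOf (What φ)) (by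
      intro a u hu
      rw [Subgroup.mem_subgroupOf] at hu ⊢
      rw [hψapp]
      exact hV0inv _ hu)
  -- Step 6: the complement is trivial
  obtain ⟨D, hDdef⟩ : ∃ D : Subgroup M, D = U'.map (What φ).subtype := ⟨_, rfl⟩
  have hDW : D ≤ What φ := by
    rw [hDdef]
    rintro _ ⟨x, _, rfl⟩
    exact x.2
  have hDfix : D ≤ fixU φ := by
    apply hkey D
    · intro t d hd
      rw [hDdef] at hd ⊢
      obtain ⟨x, hx, rfl⟩ := hd
      exact ⟨ψ t x, hU'inv t x hx, hψapp t x⟩
    · intro d hd s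
      exact step2 d (hDW hd) s
    · intro d hd hdV
      rw [hDdef] at hd
      obtain ⟨x, hx, rfl⟩ := hd
      have hx0 : x ∈ (V0 φ).subgroupOf (What φ) ⊓ U' :=
        Subgroup.mem_inf.2 ⟨Subgroup.mem_subgroupOf.2 hdV, hx⟩
      rw [hinf, Subgroup.mem_bot] at hx0
      rw [hx0]
      exact one_mem _
  have hWhat_le : What φ ≤ V0 φ := by
    intro m hm
    have hx : (⟨m, hm⟩ : What φ) ∈ (V0 φ).subgroupOf (What φ) ⊔ U' := by
      rw [hsup]
      exact Subgroup.mem_top _
    obtain ⟨u, hu, u', hu', huu'⟩ := Subgroup.mem_sup.1 hx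
    have hu'V : (u' : M) ∈ V0 φ := by
      apply hWV0
      apply hDfix
      rw [hDdef]
      exact ⟨u', hu', rfl⟩
    have : m = (u : M) * (u' : M) := by
      have := congrArg Subtype.val huu'
      simpa using this.symm
    rw [this]
    exact mul_mem (Subgroup.mem_subgroupOf.1 hu) hu'V
  -- Step 7: the fixed point on the quotient
  by_contra hne
  obtain ⟨m₀, hm₀⟩ : ∃ m₀ : M, m₀ ∉ V0 φ := by
    by_contra hall
    push Not at hall
    exact hne (eq_top_iff.2 (fun m _ => hall m))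
  have hNφ : ∀ g, ∀ m ∈ V0 φ, φ g m ∈ V0 φ := fun g m hm => hV0inv g hm
  have hnt : Nontrivial (M ⧸ V0 φ) := by
    refine ⟨⟨(m₀ : M ⧸ V0 φ), 1, ?_⟩⟩
    intro h
    exact hm₀ ((QuotientGroup.eq_one_iff m₀).1 h)
  have hP : IsPGroup 2 (M ⧸ V0 φ) := by
    intro x
    induction x using QuotientGroup.induction_on with
    | H m =>
      refine ⟨1, ?_⟩
      rw [pow_one, pow_two, ← QuotientGroup.mk_mul, hexp, QuotientGroup.mk_one]
  obtain ⟨v, hv, hv1⟩ := exists_fixU_ne_one (quotAct φ (V0 φ) hNφ) 2 hP hnt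
  induction v using QuotientGroup.induction_on with
  | H m =>
    apply hv1
    rw [QuotientGroup.eq_one_iff]
    apply hWhat_le
    intro s
    have h1 := hv s
    rw [quotAct_mk, QuotientGroup.eq] at h1
    have h2 : φ (uu s) m / m = ((φ (uu s) m)⁻¹ * m)⁻¹ := by
      rw [_root_.mul_inv_rev, inv_inv, div_eq_mul_inv, mul_comm]
    rw [h2]
    exact inv_mem h1

/-- [ELEM8] with only the statement of `key_lemma` ([KEYFIN]) as hypothesis -/
theorem eq_V0_of_elem_of_key [Finite F] [Finite M] (hf : FPF φ)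
    (hkey : ∀ D : Subgroup M, (∀ (t : Fˣ), ∀ d ∈ D, φ (hh t) d ∈ D) →
      (∀ d ∈ D, ∀ s : F, φ (uu s) d / d ∈ fixU φ) →
      (∀ d ∈ D, d ∈ V0 φ → d ∈ fixU φ) → D ≤ fixU φ)
    (hexp : ∀ m : M, m * m = 1) : V0 φ = ⊤ :=
  eq_V0_of_elem_of φ (fun c _ hw => Cfsg.Agent.Lib.Helper51.Hig.uu_ww_fix φ hf c hw)
    (fun g _ hm => Cfsg.Agent.Lib.Helper51.Hig.V0_invariant φ hf g hm) hkey hexp

end abstract

end Cfsg.Agent.Lib.Helper77.Hig
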