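import Mathlib

set_option autoImplicit false

open Equiv MulAction
open scoped Pointwise

namespace Cfsg.Agent.Lib.Helper77.LW

/-- S0745 [SWAPTRANS]: a group that is `j`-homogeneous and realises every transposition of two
points outside a `(j-2)`-set while fixing that set pointwise is `j`-transitive. -/
theorem isMultiplyPretransitive_of_swaps {α : Type*} [Fintype α] [DecidableEq α]
    (G : Subgroup (Equiv.Perm α)) (j : ℕ)
    (hhom : MulAction.IsPretransitive G (Set.powersetCard α j))
    (hswap : ∀ (E : Finset α) (a b : α), E.card + 2 = j → a ∉ E → b ∉ E → a ≠ b →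
      ∃ w ∈ G, (∀ e ∈ E, w e = e) ∧ w a = b ∧ w b = a) :
    MulAction.IsMultiplyPretransitive G α j := by
  -- the key property of a permutation of the index set
  have key : ∀ σ : Perm (Fin j), ∀ x : Fin j ↪ α, ∃ g : G, ∀ i, (g : Perm α) (x i) = x (σ i) := by
    intro σ
    induction σ using Equiv.Perm.swap_induction_on with
    | one => exact fun x => ⟨1, fun i => by simp⟩
    | swap_mul f i k hik ih =>
      intro x
      -- first realise the swap
      have hcard : ((Finset.univ.erase i).erase k).card + 2 = j := by
        rw [Finset.card_erase_of_mem (by simp [hik.symm]), Finset.card_erase_of_mem (by simp),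
          Finset.card_univ, Fintype.card_fin]
        have : 2 ≤ j := by
          have h1 := i.isLt
          have h2 := k.isLt
          have : (i : ℕ) ≠ k := fun h => hik (Fin.ext h)
          omega
        omega
      obtain ⟨w, hwG, hwE, hwa, hwb⟩ := hswap (((Finset.univ.erase i).erase k).map x) (x i) (x k)
        (by rw [Finset.card_map]; exact hcard)
        (by simp)
        (by simp)
        (fun h => hik (x.injective h))
      have hw : ∀ l, w (x l) = x (Equiv.swap i k l) := by
        intro l
        by_cases hli : l = i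
        · rw [hli, Equiv.swap_apply_left, hwa]
        · by_cases hlk : l = k
          · rw [hlk, Equiv.swap_apply_right, hwb]
          · rw [Equiv.swap_apply_of_ne_of_ne hli hlk]
            exact hwE _ (by simp [hli, hlk])
      obtain ⟨g₂, hg₂⟩ := ih ((Equiv.swap i k).toEmbedding.trans x)
      refine ⟨g₂ * ⟨w, hwG⟩, fun l => ?_⟩
      have := hg₂ l
      simp only [Function.Embedding.trans_apply, Equiv.coe_toEmbedding] at this
      rw [Subgroup.coe_mul, Perm.mul_apply, Subgroup.coe_mk, hw l, this, Perm.mul_apply]
  rw [MulAction.IsMultiplyPretransitive]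
  refine ⟨fun x y => ?_⟩
  -- move the range of `x` onto the range of `y`
  obtain ⟨g₀, hg₀⟩ := hhom.exists_smul_eq
    (⟨Finset.univ.map x, by simp⟩ : Set.powersetCard α j)
    (⟨Finset.univ.map y, by simp⟩ : Set.powersetCard α j)
  have hg₀' : g₀ • (Finset.univ.map x) = Finset.univ.map y := by
    have := congrArg (fun s : Set.powersetCard α j => (s : Finset α)) hg₀
    exact this
  have hmem : ∀ i, ∃ k, y k = (g₀ : Perm α) (x i) := by
    intro i
    have h1 : g₀ • (x i) ∈ g₀ • (Finset.univ.map x) :=
      Finset.smul_mem_smul_finset (by simp)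
    rw [hg₀'] at h1
    obtain ⟨k, -, hk⟩ := Finset.mem_map.1 h1
    exact ⟨k, hk⟩
  choose τ hτ using hmem
  have hτinj : Function.Injective τ := by
    intro i i' h
    have h1 := hτ i
    rw [h, hτ i'] at h1
    exact x.injective ((g₀ : Perm α).injective h1.symm)
  have hτbij : Function.Bijective τ := Finite.injective_iff_bijective.1 hτinj
  obtain ⟨g₁, hg₁⟩ := key (Equiv.ofBijective τ hτbij).symm (g₀ • x)
  refine ⟨g₁ * g₀, ?_⟩
  ext i
  have h2 := hg₁ i
  have h3 : (g₀ • x) ((Equiv.ofBijective τ hτbij).symm i) = y i := by
    have h4 := hτ ((Equiv.ofBijective τ hτbij).symm i)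
    rw [Equiv.ofBijective_apply_symm_apply τ hτbij i] at h4
    rw [h4]
    rfl
  rw [h3] at h2
  rw [← h2]
  rfl

end Cfsg.Agent.Lib.Helper77.LW
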