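import Mathlib
import Cfsg.Agent.Lib.Helper8.OddFourFaithful

set_option autoImplicit false

open Equiv MulAction

namespace Cfsg.Agent.Lib.Helper77.LW

open Cfsg.Agent.Lib.Helper8.OddFour

/-- order of a `4`-transitive group -/
theorem card_eq_descFactorial_mul_stab {G α : Type*} [Group G] [MulAction G α] [Fintype α]
    [IsMultiplyPretransitive G α 4] (x : Fin 4 ↪ α) :
    Nat.card G = (Fintype.card α).descFactorial 4 * Nat.card (stabilizer G x) := by
  have h1 := Subgroup.card_eq_card_quotient_mul_card_subgroup (stabilizer G x)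
  have h2 : Nat.card (orbit G x) = Nat.card (G ⧸ stabilizer G x) :=
    Nat.card_congr (orbitEquivQuotientStabilizer G x)
  have h3 : Nat.card (orbit G x) = (Fintype.card α).descFactorial 4 := by
    rw [orbit_eq_univ G x, Nat.card_congr (Equiv.Set.univ _), Nat.card_eq_fintype_card,
      Fintype.card_embedding_eq, Fintype.card_fin]
  rw [h1, ← h2, h3]

/-- `x ^ 3 = h`, `h` odd, `h ∣ 5040` forces `h = 1` -/
theorem eq_one_of_cube_dvd {x h : ℕ} (hx : x * x * x = h) (hodd : Odd h) (hd : h ∣ 5040) :
    h = 1 := by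
  have hle : h ≤ 5040 := Nat.le_of_dvd (by norm_num) hd
  have hx17 : x ≤ 17 := by
    by_contra hcon
    have h18 : 18 ≤ x := by omega
    have h2 : 18 * 18 * 18 ≤ x * x * x := Nat.mul_le_mul (Nat.mul_le_mul h18 h18) h18
    omega
  obtain ⟨k, hk⟩ := hodd
  obtain ⟨m, hm⟩ := hd
  subst hx
  interval_cases x <;> omega

/-- a faithful `4`-transitive group of degree at least `8` with an odd four-point stabilizer has
degree `11`, order `7920` and trivial four-point stabilizers -/
theorem big_case_stab {G α : Type*} [Group G] [MulAction G α] [Fintype α] [DecidableEq α]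
    [IsMultiplyPretransitive G α 4] [Finite G] [FaithfulSMul G α] (x : Fin 4 ↪ α)
    (hodd : Odd (Nat.card (stabilizer G x)))
    (hdvd : Nat.card G ∣ (Fintype.card α).factorial) (hn8 : 8 ≤ Fintype.card α) :
    Fintype.card α = 11 ∧ Nat.card (stabilizer G x) = 1 := by
  have hodd' : ∀ z : Fin 4 ↪ α, Odd (Nat.card (stabilizer G z)) := by
    intro z
    rw [card_stabilizer_eq z x]
    exact hodd
  have hcard := card_eq_descFactorial_mul_stab (G := G) x
  obtain ⟨P⟩ := exists_epair hodd' x
  obtain ⟨h11, hX, hf, hf3, x0, hx0⟩ := main_count hodd' P hn8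
  have hbot := P.stab_inf_CE_eq_bot hodd' hX hf hf3
  rw [hbot, Subgroup.card_bot, one_pow, mul_one] at hx0
  refine ⟨h11, ?_⟩
  rw [h11] at hcard hdvd
  have e1 : Nat.descFactorial 11 4 = 7920 := by decide
  have e2 : Nat.factorial 11 = 7920 * 5040 := by decide
  rw [e1] at hcard
  have h5040 : Nat.card (stabilizer G x) ∣ 5040 := by
    rw [hcard, e2] at hdvd
    exact Nat.dvd_of_mul_dvd_mul_left (by norm_num) hdvd
  exact eq_one_of_cube_dvd hx0 hodd h5040

/-- S0745 [HALL]: a `t`-transitive group (`t ≥ 4`) of degree at least `t + 4` with an odd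
`t`-point stabilizer has degree `t + 7` and trivial `t`-point stabilizers. -/
theorem hall_reduction {α : Type*} [Fintype α] [DecidableEq α] (G : Subgroup (Equiv.Perm α))
    (t : ℕ) (ht : 4 ≤ t) (hT : MulAction.IsMultiplyPretransitive G α t)
    (hn : t + 4 ≤ Fintype.card α) (x : Fin t ↪ α)
    (hodd : Odd (Nat.card (MulAction.stabilizer G x))) :
    Fintype.card α = t + 7 ∧ Nat.card (MulAction.stabilizer G x) = 1 := by
  classical
  have hle : t - 4 ≤ t := Nat.sub_le t 4
  -- the first `t - 4` coordinates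
  obtain ⟨E, hE⟩ : ∃ E : Set α, E = Set.range (fun i : Fin (t - 4) => x (Fin.castLE hle i)) :=
    ⟨_, rfl⟩
  have hinj : Function.Injective (fun i : Fin (t - 4) => x (Fin.castLE hle i)) := by
    intro i i' h
    exact Fin.castLE_injective hle (x.injective h)
  have hEfin : E.Finite := by rw [hE]; exact Set.finite_range _
  haveI : Finite E := hEfin.to_subtype
  have hEcard : E.ncard = t - 4 := by
    rw [hE, ← Set.image_univ, Set.ncard_image_of_injective _ hinj, Set.ncard_univ, Nat.card_fin]
  have hmemE : ∀ i : Fin t, x i ∈ E ↔ (i : ℕ) < t - 4 := by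
    intro i
    rw [hE]
    constructor
    · rintro ⟨k, hk⟩
      have := x.injective hk
      rw [← this]
      simp
    · intro hi
      exact ⟨⟨i, hi⟩, by simp⟩
  -- the fixing subgroup and its action on the complement
  haveI h4 : IsMultiplyPretransitive (fixingSubgroup ↥G E) (SubMulAction.ofFixingSubgroup ↥G E) 4 :=
    SubMulAction.ofFixingSubgroup.isMultiplyPretransitive (m := 4) (n := t) ↥G E
      (by rw [hEcard]; omega)
  haveI : Fintype (SubMulAction.ofFixingSubgroup ↥G E) := Fintype.ofFinite _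
  have hXcard : Fintype.card (SubMulAction.ofFixingSubgroup ↥G E) + (t - 4) = Fintype.card α := by
    have h1 := Set.ncard_add_ncard_compl E hEfin (Set.toFinite _)
    rw [hEcard, Nat.card_eq_fintype_card] at h1
    have h2 : Fintype.card (SubMulAction.ofFixingSubgroup ↥G E) = Eᶜ.ncard := by
      rw [← Nat.card_eq_fintype_card]
      exact Nat.card_coe_set_eq Eᶜ
    omega
  haveI : FaithfulSMul (fixingSubgroup ↥G E) (SubMulAction.ofFixingSubgroup ↥G E) := by
    refine ⟨fun {k k'} h => ?_⟩
    apply Subtype.ext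
    apply Subtype.ext
    apply Equiv.ext
    intro a
    by_cases ha : a ∈ E
    · have h1 := (mem_fixingSubgroup_iff ↥G).1 k.2 a ha
      have h2 := (mem_fixingSubgroup_iff ↥G).1 k'.2 a ha
      change ((k : ↥G) : Perm α) a = ((k' : ↥G) : Perm α) a
      change ((k : ↥G) : Perm α) a = a at h1
      change ((k' : ↥G) : Perm α) a = a at h2
      rw [h1, h2]
    · have := congrArg Subtype.val (h ⟨a, ha⟩)
      exact this
  have hdvd : Nat.card (fixingSubgroup ↥G E) ∣
      (Fintype.card (SubMulAction.ofFixingSubgroup ↥G E)).factorial := by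
    have := Subgroup.card_dvd_of_injective
      (MulAction.toPermHom (fixingSubgroup ↥G E) (SubMulAction.ofFixingSubgroup ↥G E))
      MulAction.toPerm_injective
    rwa [Nat.card_eq_fintype_card (α := Perm _), Fintype.card_perm] at this
  have hn8 : 8 ≤ Fintype.card (SubMulAction.ofFixingSubgroup ↥G E) := by omega
  -- the last four coordinates
  have hidx : ∀ i : Fin 4, t - 4 + (i : ℕ) < t := fun i => by have := i.isLt; omega
  have hnotE : ∀ i : Fin 4, x ⟨t - 4 + (i : ℕ), hidx i⟩ ∉ E := by
    intro i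
    rw [hmemE]
    simp
  let x' : Fin 4 ↪ SubMulAction.ofFixingSubgroup ↥G E :=
    ⟨fun i => ⟨x ⟨t - 4 + (i : ℕ), hidx i⟩, hnotE i⟩, by
      intro i i' h
      have h1 := congrArg Subtype.val h
      have h2 := x.injective h1
      have h3 := congrArg Fin.val h2
      simp only at h3
      exact Fin.ext (by omega)⟩
  -- the two stabilizers correspond
  have hstab : Nat.card (stabilizer (fixingSubgroup ↥G E) x') = Nat.card (stabilizer ↥G x) := by
    refine Nat.card_congr ⟨fun k => ⟨((k : fixingSubgroup ↥G E) : ↥G), ?_⟩,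
      fun g => ⟨⟨(g : ↥G), ?_⟩, ?_⟩, fun k => rfl, fun g => rfl⟩
    · rw [mem_stabilizer_iff]
      ext i
      by_cases hi : (i : ℕ) < t - 4
      · exact (mem_fixingSubgroup_iff ↥G).1 (k : fixingSubgroup ↥G E).2 (x i) ((hmemE i).2 hi)
      · have hk := mem_stabilizer_iff.1 k.2
        obtain ⟨j, hj⟩ : ∃ j : Fin 4, i = ⟨t - 4 + (j : ℕ), hidx j⟩ :=
          ⟨⟨(i : ℕ) - (t - 4), by have := i.isLt; omega⟩, Fin.ext (by simp only; omega)⟩
        subst hj
        have h1 := congrArg Subtype.val (DFunLike.congr_fun hk j)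
        exact h1
    · rw [mem_fixingSubgroup_iff]
      intro a ha
      rw [hE] at ha
      obtain ⟨k, rfl⟩ := ha
      have hg := mem_stabilizer_iff.1 g.2
      exact DFunLike.congr_fun hg (Fin.castLE hle k)
    · rw [mem_stabilizer_iff]
      ext i
      have hg := mem_stabilizer_iff.1 g.2
      have h1 := DFunLike.congr_fun hg ⟨t - 4 + (i : ℕ), hidx i⟩
      exact h1
  have hodd' : Odd (Nat.card (stabilizer (fixingSubgroup ↥G E) x')) := by rw [hstab]; exact hodd
  obtain ⟨h11, h1⟩ := big_case_stab (G := fixingSubgroup ↥G E) x' hodd' hdvd hn8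
  refine ⟨by omega, ?_⟩
  rw [← hstab, h1]

end Cfsg.Agent.Lib.Helper77.LW
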