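import Cfsg.Agent.Lib.Helper77.KnorrSub
import Cfsg.Agent.Lib.Helper77.ExtFirstMain
import Cfsg.Agent.Lib.Helper82.KnorrGen
import Cfsg.Agent.Lib.Helper16.FirstMain
import Cfsg.Agent.Lib.Helper16.BrauerIdem

set_option autoImplicit false
set_option linter.unusedSectionVars false
set_option linter.style.haveILetI false

namespace Cfsg.Agent.Lib.Helper77

open Cfsg Cfsg.Agent.Lib.Helper16

universe u

section ExtUp

variable {G : Type u} [Group G] [Fintype G] {M : Ideal AlgInt}


open MonoidAlgebra in
/-- **Transitivity of block induction**, second form: if `b` (on `H`, seen inside `N` as `L`)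
induces `β` and `β` induces `B`, then `b` induces `B`. -/
theorem isInducedBlock_trans_transport' [hMp : M.IsPrime] (N H : Subgroup G) [Fintype N]
    [Fintype H] (L : Subgroup N) [Fintype L] (φ : L ≃* H)
    (hφ : ∀ x : L, ((φ x : H) : G) = ((x : N) : G))
    {b : Set (IrrCharacter H)} {β : Set (IrrCharacter N)} {B : Set (IrrCharacter G)}
    (hb : IsPBlock M b)
    (h₁ : IsInducedBlock M L (irrTransport φ '' b) β) (h₂ : IsInducedBlock M N β B) :
    IsInducedBlock M H b B := by
  classical
  refine ⟨hb, h₂.2.1, ?_⟩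
  intro ξ hξ χ hχ g
  obtain ⟨ψ, hψ⟩ := IsPBlock_nonempty hMp.ne_top h₁.2.1
  have hzN : resAlgC N (classSumC g) ∈ centerOrder N M :=
    resAlgC_mem_centerOrder (M := M) N (classSumC_mem_centerOrder (M := M) g)
  have e1 := isInducedBlock_congr L h₁ (ξ := irrTransport φ ξ) ⟨ξ, hξ, rfl⟩ hψ hzN
  have e2 := h₂.2.2 ψ hψ χ hχ g
  have e3 : omegaHom ψ (resAlgC N (classSumC g)) = inducedCentralChar N (ψ : N → ℂ) g := by
    rw [omegaHom_apply]
    exact omega_resAlg_classSum N _ g
  have e4 : omega (irrTransport φ ξ : L → ℂ)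
      (resAlg L ((resAlgC N (classSumC g) : Subalgebra.center ℂ (MonoidAlgebra ℂ N)) :
        MonoidAlgebra ℂ N)) = inducedCentralChar H (ξ : H → ℂ) g := by
    rw [← omega_resAlg_classSum H _ g]
    unfold omega
    rw [irrTransport_apply, map_one]
    congr 1
    apply Fintype.sum_equiv φ.toEquiv
    intro x
    rw [irrTransport_apply, coeff_resAlg, coeff_resAlg]
    show (resAlg N (classSum g)).coeff (x : N) * _ = _
    rw [coeff_resAlg, ← hφ x]
    rfl
  rw [e3, e4] at e1
  exact memLocalIdeal_sub_trans e1 e2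

/-- Data common to the two halves of the extended first main theorem: a block `c` of `H ⊇ N_G(P)`
with defect group `P` has a Brauer correspondent `b` in `N_G(P)`: `b` has defect group `P` and
induces `c` (inside `H`). -/
theorem exists_normalizer_block {p : ℕ} [Fact p.Prime] (hM : IsPModular p M) (P H : Subgroup G)
    [Fintype H] [Fintype ↥(Subgroup.normalizer (P : Set G))]
    [Fintype ↥((Subgroup.normalizer (P : Set G)).subgroupOf H)]
    (hPH : P ≤ H) (hNH : Subgroup.normalizer (P : Set G) ≤ H)
    {c : Set (IrrCharacter H)} (hc : IsPBlock M c)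
    (hcP : IsDefectGroup p M c (P.subgroupOf H)) :
    ∃ b : Set (IrrCharacter ↥(Subgroup.normalizer (P : Set G))), IsPBlock M b ∧
      IsDefectGroup p M b (P.subgroupOf (Subgroup.normalizer (P : Set G))) ∧
      IsInducedBlock M ((Subgroup.normalizer (P : Set G)).subgroupOf H)
        (pullBlock (subEquiv hNH) b) c := by
  classical
  set Np := Subgroup.normalizer (P : Set G) with hNp
  set L : Subgroup H := Np.subgroupOf H with hL
  have hle : Subgroup.normalizer ((P.subgroupOf H : Subgroup H) : Set H) ≤ L := by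
    rw [hL, hNp, Subgroup.subgroupOf_normalizer_eq hPH]
  obtain ⟨B₁, hB₁, hB₁P, hind⟩ := Cfsg.Agent.Lib.Helper82.exists_intermediate_block hM hc
    (P.subgroupOf H) hcP L hle
  refine ⟨pullBlock (subEquiv hNH).symm B₁, isPBlock_pullBlock _ hB₁, ?_, ?_⟩
  · have h1 := isDefectGroup_pullBlock (subEquiv hNH).symm hB₁P
    have h2 : ((P.subgroupOf H).subgroupOf L).comap (subEquiv hNH).symm.toMonoidHom =
        P.subgroupOf Np := by
      ext x
      rw [Subgroup.mem_comap, Subgroup.mem_subgroupOf, Subgroup.mem_subgroupOf,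
        Subgroup.mem_subgroupOf]
      rfl
    rwa [h2] at h1
  · have h3 : pullBlock (subEquiv hNH) (pullBlock (subEquiv hNH).symm B₁) = B₁ := by
      ext ξ
      rw [mem_pullBlock_iff]
      constructor
      · rintro ⟨ξ', hξ', h'⟩
        have := irrPull_injective _ h'
        rwa [← this]
      · intro hξ
        exact ⟨ξ, hξ, rfl⟩
    rw [h3]
    exact hind

/-- **Extended first main theorem, going up.**  A block `c` of `H ⊇ N_G(P)` with defect group `P`
induces a block of `G` with defect group `P`. -/
theorem exists_induced_of_normalizer_le {p : ℕ} [Fact p.Prime] (hM : IsPModular p M)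
    (P H : Subgroup G) [Fintype H] (hP : IsPGroup p P)
    (hPH : P ≤ H) (hNH : Subgroup.normalizer (P : Set G) ≤ H)
    {c : Set (IrrCharacter H)} (hc : IsPBlock M c)
    (hcP : IsDefectGroup p M c (P.subgroupOf H)) :
    ∃ B : Set (IrrCharacter G), IsPBlock M B ∧ IsDefectGroup p M B P ∧
      IsInducedBlock M H c B := by
  classical
  haveI hMp := isPModular_isPrime hM
  haveI : Fintype ↥(Subgroup.normalizer (P : Set G)) := Fintype.ofFinite _
  haveI : Fintype ↥((Subgroup.normalizer (P : Set G)).subgroupOf H) := Fintype.ofFinite _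
  obtain ⟨b, hb, hbP, hbc⟩ := exists_normalizer_block hM P H hPH hNH hc hcP
  obtain ⟨B, hB, hBP, hbB⟩ := firstMain_exists_induced hM P hP b hb hbP
  refine ⟨B, hB, hBP, ?_⟩
  exact isInducedBlock_trans_transport H (Subgroup.normalizer (P : Set G))
    ((Subgroup.normalizer (P : Set G)).subgroupOf H) (subEquiv hNH) (fun x => rfl) hbc hbB

/-- **Extended first main theorem, uniqueness.**  Two blocks of `H ⊇ N_G(P)` with defect group `P`
inducing the same block of `G` are equal. -/
theorem eq_of_isInducedBlock_of_normalizer_le {p : ℕ} [Fact p.Prime] (hM : IsPModular p M)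
    (P H : Subgroup G) [Fintype H] (hP : IsPGroup p P)
    (hPH : P ≤ H) (hNH : Subgroup.normalizer (P : Set G) ≤ H)
    {c c' : Set (IrrCharacter H)} (hc : IsPBlock M c) (hc' : IsPBlock M c')
    (hcP : IsDefectGroup p M c (P.subgroupOf H)) (hcP' : IsDefectGroup p M c' (P.subgroupOf H))
    {B : Set (IrrCharacter G)} (hind : IsInducedBlock M H c B)
    (hind' : IsInducedBlock M H c' B) : c = c' := by
  classical
  haveI hMp := isPModular_isPrime hM
  haveI : Fintype ↥(Subgroup.normalizer (P : Set G)) := Fintype.ofFinite _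
  haveI : Fintype ↥((Subgroup.normalizer (P : Set G)).subgroupOf H) := Fintype.ofFinite _
  obtain ⟨b, hb, hbP, hbc⟩ := exists_normalizer_block hM P H hPH hNH hc hcP
  obtain ⟨b', hb', hbP', hbc'⟩ := exists_normalizer_block hM P H hPH hNH hc' hcP'
  have h1 : IsInducedBlock M (Subgroup.normalizer (P : Set G)) b B :=
    isInducedBlock_trans_transport' H (Subgroup.normalizer (P : Set G))
      ((Subgroup.normalizer (P : Set G)).subgroupOf H) (subEquiv hNH) (fun x => rfl) hb hbc hind
  have h1' : IsInducedBlock M (Subgroup.normalizer (P : Set G)) b' B :=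
    isInducedBlock_trans_transport' H (Subgroup.normalizer (P : Set G))
      ((Subgroup.normalizer (P : Set G)).subgroupOf H) (subEquiv hNH) (fun x => rfl) hb' hbc' hind'
  have hbb : b = b' := firstMain_unique hM P hP B hind.2.1 hb hbP h1 hb' h1'
  subst hbb
  exact isInducedBlock_unique _ hbc hbc'

end ExtUp

end Cfsg.Agent.Lib.Helper77
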