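import Mathlib
import Cfsg.Agent.Lib.Helper71.LWDefs
import Cfsg.Agent.Lib.Helper77.LWHall

/-!
# S0747 module [A-HALL] (helper77, for helper71)

A `k`-transitive group (`k ≥ 4`) of degree at least `k + 4` with a `k`-point stabiliser of odd order
has degree `k + 7` and is sharply `k`-transitive.
-/

set_option autoImplicit false
set_option linter.unusedSectionVars false
open Equiv
open Cfsg.Agent.Lib.Helper71.LW

namespace Cfsg.Agent.Lib.Helper77.LW

variable {α : Type*} [Fintype α] [DecidableEq α]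

/-- an enumeration of a finset of cardinality `k` -/
theorem exists_enum (Γ : Finset α) (k : ℕ) (hΓ : Γ.card = k) :
    ∃ x : Fin k ↪ α, ∀ a, a ∈ Γ ↔ ∃ i, x i = a := by
  refine ⟨(Γ.equivFinOfCardEq hΓ).symm.toEmbedding.trans (Function.Embedding.subtype _), ?_⟩
  intro a
  constructor
  · intro ha
    refine ⟨Γ.equivFinOfCardEq hΓ ⟨a, ha⟩, ?_⟩
    simp
  · rintro ⟨i, rfl⟩
    simp

theorem isMultiplyPretransitive_of_trans (G : Subgroup (Perm α)) (k : ℕ) (hG : Trans G k) :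
    MulAction.IsMultiplyPretransitive G α k := by
  refine ⟨fun x y => ?_⟩
  obtain ⟨g, hg, h⟩ := hG x y
  refine ⟨⟨g, hg⟩, ?_⟩
  ext i
  exact h i

/-- the stabiliser of an enumeration of `Γ` is the pointwise stabiliser of `Γ` -/
theorem card_stabilizer_enum (G : Subgroup (Perm α)) (Γ : Finset α) (k : ℕ) (x : Fin k ↪ α)
    (hx : ∀ a, a ∈ Γ ↔ ∃ i, x i = a) :
    Nat.card (MulAction.stabilizer G x) = Nat.card (pstab G Γ) := by
  apply Nat.card_congr
  refine
    { toFun := fun g => ⟨((g : G) : Perm α), (g : G).2, fun a ha => ?_⟩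
      invFun := fun g => ⟨⟨(g : Perm α), g.2.1⟩, ?_⟩
      left_inv := fun g => rfl
      right_inv := fun g => rfl }
  · obtain ⟨i, rfl⟩ := (hx a).mp ha
    have h := g.2
    rw [MulAction.mem_stabilizer_iff] at h
    exact congrArg (fun e : Fin k ↪ α => e i) h
  · rw [MulAction.mem_stabilizer_iff]
    ext i
    exact g.2.2 (x i) ((hx (x i)).mpr ⟨i, rfl⟩)

/-- [A-HALL] -/
theorem sharp_of_odd (G : Subgroup (Perm α)) (k : ℕ) (hk : 4 ≤ k) (hn : k + 4 ≤ Fintype.card α)
    (hG : Trans G k) (Γ : Finset α) (hΓ : Γ.card = k) (hodd : Odd (Nat.card (pstab G Γ))) :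
    Fintype.card α = k + 7 ∧ Sharp G k := by
  obtain ⟨x, hx⟩ := exists_enum Γ k hΓ
  have hcard := card_stabilizer_enum G Γ k x hx
  have hall := hall_reduction G k hk (isMultiplyPretransitive_of_trans G k hG) hn x
    (by rw [hcard]; exact hodd)
  refine ⟨hall.1, ?_⟩
  have hbot : pstab G Γ = ⊥ := by
    apply Subgroup.eq_bot_of_card_eq
    rw [← hcard, hall.2]
  intro g hg Γ' hΓ' hfix
  obtain ⟨y, hy⟩ := exists_enum Γ' k hΓ'
  obtain ⟨h, hh, hxy⟩ := hG x y
  have hmem : h⁻¹ * g * h ∈ pstab G Γ := by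
    refine ⟨G.mul_mem (G.mul_mem (G.inv_mem hh) hg) hh, ?_⟩
    intro a ha
    obtain ⟨i, rfl⟩ := (hx a).mp ha
    rw [Perm.mul_apply, Perm.mul_apply, hxy i, hfix (y i) ((hy (y i)).mpr ⟨i, rfl⟩),
      ← hxy i]
    simp
  rw [hbot, Subgroup.mem_bot] at hmem
  have : g = h * (h⁻¹ * g * h) * h⁻¹ := by group
  rw [this, hmem]
  group

end Cfsg.Agent.Lib.Helper77.LW
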