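import Mathlib
import Cfsg.Agent.Lib.Helper71.LWDefs
import Cfsg.Agent.Lib.Helper77.LWAHall
import Cfsg.Agent.S0415
import Cfsg.Agent.S0416
import Cfsg.Agent.S0417

/-!
# S0747 module [A-SMALL] (helper77, for helper71)

A `k`-transitive group (`k ≥ 4`) of degree `n` with `k < n ≤ k + 3` and a `k`-point stabiliser of odd
order contains the alternating group.
-/

set_option autoImplicit false
set_option linter.unusedSectionVars false
open Equiv
open Cfsg.Agent.Lib.Helper71.LW

namespace Cfsg.Agent.Lib.Helper77.LW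

variable {α : Type*} [Fintype α] [DecidableEq α]

/-- the pointwise stabiliser of `Γ` embeds into the symmetric group of the complement -/
theorem card_pstab_dvd (G : Subgroup (Perm α)) (Γ : Finset α) :
    Nat.card (pstab G Γ) ∣ (Fintype.card α - Γ.card).factorial := by
  have hle : pstab G Γ ≤ (Equiv.Perm.ofSubtype : Perm {x // x ∈ Γᶜ} →* Perm α).range := by
    intro g hg
    have hfix := hg.2
    have h₁ : ∀ x, (g x ∈ Γᶜ) ↔ (x ∈ Γᶜ) := by
      intro x
      rw [Finset.mem_compl, Finset.mem_compl, not_iff_not]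
      constructor
      · intro h
        have := hfix _ h
        have hx : g x = x := g.injective this
        rwa [hx] at h
      · intro h
        rw [hfix x h]; exact h
    have h₂ : ∀ x, g x ≠ x → x ∈ Γᶜ := by
      intro x hx
      rw [Finset.mem_compl]
      intro h
      exact hx (hfix x h)
    exact ⟨Equiv.Perm.subtypePerm g h₁, Equiv.Perm.ofSubtype_subtypePerm h₁ h₂⟩
  have h1 := Subgroup.card_dvd_of_le hle
  have h2 : Nat.card (Equiv.Perm.ofSubtype : Perm {x // x ∈ Γᶜ} →* Perm α).range =
      (Fintype.card α - Γ.card).factorial := by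
    rw [Nat.card_congr (MonoidHom.ofInjective Equiv.Perm.ofSubtype_injective).symm.toEquiv,
      Nat.card_eq_fintype_card, Fintype.card_perm, Fintype.card_coe, Finset.card_compl]
  rwa [h2] at h1

/-- orbit-stabiliser on injective `k`-tuples -/
theorem card_eq_card_pstab_mul (G : Subgroup (Perm α)) (k : ℕ) (hG : Trans G k) (Γ : Finset α)
    (hΓ : Γ.card = k) :
    Nat.card G = Nat.card (pstab G Γ) * (Fintype.card α).descFactorial k := by
  obtain ⟨x, hx⟩ := exists_enum Γ k hΓ
  have hT : MulAction.IsPretransitive G (Fin k ↪ α) := isMultiplyPretransitive_of_trans G k hG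
  have h1 := @MulAction.index_stabilizer_of_transitive G _ _ _ x hT
  have h2 := (MulAction.stabilizer G x).card_mul_index
  rw [h1, card_stabilizer_enum G Γ k x hx, Nat.card_eq_fintype_card (α := Fin k ↪ α),
    Fintype.card_embedding_eq, Fintype.card_fin] at h2
  exact h2.symm

theorem sharp_stabilizer_eq_bot (G : Subgroup (Perm α)) (k : ℕ) (hG : Trans G k)
    (hcard : Nat.card G = (Fintype.card α).descFactorial k) (hkn : k ≤ Fintype.card α)
    (x : Fin k ↪ α) : MulAction.stabilizer G x = ⊥ := by
  have hT : MulAction.IsPretransitive G (Fin k ↪ α) := isMultiplyPretransitive_of_trans G k hG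
  have h1 := @MulAction.index_stabilizer_of_transitive G _ _ _ x hT
  have h2 := (MulAction.stabilizer G x).card_mul_index
  rw [h1, Nat.card_eq_fintype_card (α := Fin k ↪ α), Fintype.card_embedding_eq, Fintype.card_fin,
    hcard] at h2
  apply Subgroup.eq_bot_of_card_eq
  have hpos : 0 < (Fintype.card α).descFactorial k := Nat.descFactorial_pos.mpr hkn
  exact Nat.eq_of_mul_eq_mul_right hpos (by rw [h2, one_mul])

/-- the core case analysis -/
theorem top_or_index_two (G : Subgroup (Perm α)) (k : ℕ) (hk : 4 ≤ k)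
    (hkn : k < Fintype.card α) (hn : Fintype.card α ≤ k + 3) (hG : Trans G k) (Γ : Finset α)
    (hΓ : Γ.card = k) (hodd : Odd (Nat.card (pstab G Γ))) :
    (Fintype.card α = k + 1 ∧ G = ⊤) ∨ G.index = 2 := by
  have hcount := card_eq_card_pstab_mul G k hG Γ hΓ
  have hdvd := card_pstab_dvd G Γ
  rw [hΓ] at hdvd
  have hfac := Nat.factorial_mul_descFactorial hkn.le
  have hperm : Nat.card (Perm α) = (Fintype.card α).factorial := by
    rw [Nat.card_eq_fintype_card, Fintype.card_perm]
  have hidx := G.index_mul_card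
  rw [hperm] at hidx
  have hNpos : 0 < (Fintype.card α).descFactorial k := Nat.descFactorial_pos.mpr hkn.le
  obtain ⟨d, hd⟩ : ∃ d, Fintype.card α = k + d := ⟨Fintype.card α - k, by omega⟩
  have hnk : Fintype.card α - k = d := by omega
  rw [hnk] at hdvd hfac
  obtain ⟨N, hN⟩ : ∃ N, N = (Fintype.card α).descFactorial k := ⟨_, rfl⟩
  rw [← hN] at hcount hfac hNpos
  obtain ⟨c, hc⟩ : ∃ c, c = Nat.card (pstab G Γ) := ⟨_, rfl⟩
  rw [← hc] at hcount hdvd hodd
  have hd13 : 1 ≤ d ∧ d ≤ 3 := by omega
  obtain ⟨hd1, hd3⟩ := hd13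
  interval_cases d
  · -- `d = 1`
    left
    refine ⟨hd, ?_⟩
    have hc1 : c = 1 := by
      have : c ∣ 1 := hdvd
      exact Nat.dvd_one.mp this
    apply Subgroup.eq_top_of_card_eq
    rw [hperm, hcount, hc1, one_mul, ← hfac]
    simp
  · -- `d = 2`
    right
    have hc1 : c = 1 := by
      have h2 : c ∣ 2 := hdvd
      have hle : c ≤ 2 := Nat.le_of_dvd (by norm_num) h2
      have hpos : 0 < c := Nat.pos_of_dvd_of_pos h2 (by norm_num)
      obtain ⟨m, hm⟩ := hodd
      omega
    rw [hcount, hc1, one_mul, ← hfac] at hidx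
    have : (2 : ℕ).factorial = 2 := rfl
    rw [this] at hidx
    exact Nat.eq_of_mul_eq_mul_right hNpos hidx
  · -- `d = 3`
    have h6 : (3 : ℕ).factorial = 6 := rfl
    rw [h6] at hdvd hfac
    have hc13 : c = 1 ∨ c = 3 := by
      have hle : c ≤ 6 := Nat.le_of_dvd (by norm_num) hdvd
      have hpos : 0 < c := Nat.pos_of_dvd_of_pos hdvd (by norm_num)
      obtain ⟨m, hm⟩ := hodd
      interval_cases c <;> omega
    rcases hc13 with hc1 | hc3
    · exfalso
      rw [hc1, one_mul, hN] at hcount
      have hsharp := sharp_stabilizer_eq_bot G k hG hcount hkn.le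
      have hT : MulAction.IsMultiplyPretransitive G α k := isMultiplyPretransitive_of_trans G k hG
      rcases (by omega : k = 4 ∨ k = 5 ∨ 6 ≤ k) with h4 | h5 | h6'
      · subst h4
        have := Cfsg.Agent.S0415.result G (by omega) hsharp
        omega
      · subst h5
        have := Cfsg.Agent.S0416.result G (by omega) hsharp
        omega
      · have := Cfsg.Agent.S0417.result G k h6' hkn.le hsharp
        omega
    · right
      rw [hcount, hc3, ← hfac] at hidx
      have : G.index * (3 * N) = 2 * (3 * N) := by rw [hidx]; ring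
      exact Nat.eq_of_mul_eq_mul_right (by omega) this

/-- [A-SMALL] -/
theorem alt_le_of_small (G : Subgroup (Perm α)) (k : ℕ) (hk : 4 ≤ k) (hkn : k < Fintype.card α)
    (hn : Fintype.card α ≤ k + 3) (hG : Trans G k) (Γ : Finset α) (hΓ : Γ.card = k)
    (hodd : Odd (Nat.card (pstab G Γ))) : alternatingGroup α ≤ G := by
  rcases top_or_index_two G k hk hkn hn hG Γ hΓ hodd with ⟨_, h⟩ | h
  · rw [h]; exact le_top
  · rw [Equiv.Perm.eq_alternatingGroup_of_index_eq_two h]

theorem eq_alt_of_card_add_two (G : Subgroup (Perm α)) (k : ℕ) (hk : 4 ≤ k)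
    (hn : Fintype.card α = k + 2) (hG : Trans G k) (Γ : Finset α) (hΓ : Γ.card = k)
    (hodd : Odd (Nat.card (pstab G Γ))) : G = alternatingGroup α := by
  rcases top_or_index_two G k hk (by omega) (by omega) hG Γ hΓ hodd with ⟨h, _⟩ | h
  · omega
  · exact Equiv.Perm.eq_alternatingGroup_of_index_eq_two h

end Cfsg.Agent.Lib.Helper77.LW
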