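import Cfsg.Agent.Lib.Helper16.Inflate
import Cfsg.Agent.Lib.Helper76.PCore
import Cfsg.Agent.Lib.Helper54.PCores
import Cfsg.Agent.Lib.Helper1.MinimalNormal
import Cfsg.Agent.S4145
import Cfsg.Agent.S0915
import Cfsg.Agent.S4691

/-!
# The principal block of a `p`-solvable group (helper77)

* `sameBlock_inflate`: characters of `G ⧸ N` in the same block inflate to characters of `G` in the
  same block.
* `isPSolvable_of_isSolvable`: a finite solvable group is `p`-solvable.
* `principalBlock_eq_of_isPSolvable` (Fong): for `p`-solvable `G` the principal block consists of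
  the irreducible characters with `O_{p'}(G)` in their kernel.
-/

set_option autoImplicit false

namespace Cfsg.Agent.Lib.Helper77

open Cfsg Cfsg.Agent.Lib.Helper16

section Inflate

variable {G : Type*} [Group G] [Finite G] (N : Subgroup G) [N.Normal]

/-- The class of `g` in `G` has size a multiple of the size of the class of its image. -/
theorem index_centralizer_mk_dvd (g : G) :
    (Subgroup.centralizer ({(g : G ⧸ N)} : Set (G ⧸ N))).index ∣
      (Subgroup.centralizer ({g} : Set G)).index := by
  have hle : Subgroup.centralizer ({g} : Set G) ≤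
      (Subgroup.centralizer ({(g : G ⧸ N)} : Set (G ⧸ N))).comap (QuotientGroup.mk' N) := by
    intro x hx
    rw [Subgroup.mem_comap, Subgroup.mem_centralizer_singleton_iff]
    rw [Subgroup.mem_centralizer_singleton_iff] at hx
    show (x : G ⧸ N) * (g : G ⧸ N) = (g : G ⧸ N) * (x : G ⧸ N)
    rw [← QuotientGroup.mk_mul, ← QuotientGroup.mk_mul, hx]
  have h1 := Subgroup.index_dvd_of_le hle
  rwa [Subgroup.index_comap_of_surjective _ (QuotientGroup.mk'_surjective N)] at h1

/-- The central character of an inflated character is an integer multiple of the central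
character of the quotient. -/
theorem centralChar_inflate (χ : IrrCharacter (G ⧸ N)) (g : G) :
    ∃ m : ℕ, centralChar (inflate N χ : G → ℂ) g =
      (m : ℂ) * centralChar (χ : G ⧸ N → ℂ) (g : G ⧸ N) ∧
      (Subgroup.centralizer ({g} : Set G)).index =
        m * (Subgroup.centralizer ({(g : G ⧸ N)} : Set (G ⧸ N))).index := by
  obtain ⟨m, hm⟩ := index_centralizer_mk_dvd N g
  refine ⟨m, ?_, by rw [hm, mul_comm]⟩
  unfold centralChar
  rw [inflate_apply, inflate_apply, hm, QuotientGroup.mk_one]
  push_cast
  ring

/-- Inflation preserves lying in the same block. -/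
theorem sameBlock_inflate {M : Ideal AlgInt} [hMp : M.IsPrime] {χ ψ : IrrCharacter (G ⧸ N)}
    (h : SameBlock M (χ : G ⧸ N → ℂ) (ψ : G ⧸ N → ℂ)) :
    SameBlock M (inflate N χ : G → ℂ) (inflate N ψ : G → ℂ) := by
  intro g
  obtain ⟨m, hm, hidx⟩ := centralChar_inflate N χ g
  obtain ⟨m', hm', hidx'⟩ := centralChar_inflate N ψ g
  have hmm : m = m' := by
    have hpos : 0 < (Subgroup.centralizer ({(g : G ⧸ N)} : Set (G ⧸ N))).index :=
      Nat.pos_of_ne_zero (Subgroup.index_ne_zero_of_finite)
    rw [hidx] at hidx'
    exact Nat.eq_of_mul_eq_mul_right hpos hidx'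
  subst hmm
  rw [hm, hm', ← mul_sub]
  exact memLocalIdeal_mul_left (memLocalRing_natCast hMp.ne_top m) (h (g : G ⧸ N))

end Inflate

section PSolvable

/-- A finite solvable group is `p`-solvable. -/
theorem isPSolvable_of_isSolvable (p : ℕ) [Fact p.Prime] :
    ∀ (n : ℕ) (G : Type*) [Group G] [Finite G] [Group.IsSolvable G], Nat.card G = n →
      IsPSolvable p G := by
  intro n
  induction n using Nat.strong_induction_on with
  | _ n ih =>
    intro G _ _ _ hn
    by_cases hG : Subsingleton G
    · exact Cfsg.Agent.S4145.isPSolvable_of_subsingleton p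
    · rw [not_subsingleton_iff_nontrivial] at hG
      obtain ⟨q, R, hq, hRn, hR1, hRq, -, -, -⟩ :=
        Helper1.exists_normal_pSubgroup_of_isSolvable (G := G)
      have hcard : Nat.card (G ⧸ R) < n := by
        rw [← hn, ← Subgroup.index_eq_card]
        have h1 : Nat.card R * R.index = Nat.card G := Subgroup.card_mul_index R
        have h2 : 1 < Nat.card R := by
          rw [Finite.one_lt_card_iff_nontrivial]
          exact (Subgroup.nontrivial_iff_ne_bot R).mpr hR1
        have h3 : 0 < R.index := Nat.pos_of_ne_zero Subgroup.index_ne_zero_of_finite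
        nlinarith
      have hquot : IsPSolvable p (G ⧸ R) := ih _ hcard (G ⧸ R) rfl
      apply Cfsg.Agent.S4145.isPSolvable_of_quotient p R _ hquot
      haveI : Fact q.Prime := ⟨hq⟩
      obtain ⟨k, hk⟩ := hRq.exists_card_eq
      by_cases hpq : q = p
      · left
        exact ⟨k, by rw [hk, hpq]⟩
      · right
        rw [hk]
        apply Nat.Coprime.pow_left
        exact (Nat.coprime_primes hq (Fact.out : p.Prime)).mpr hpq

end PSolvable

section Fong

variable {G : Type*} [Group G] [Finite G]

/-- **Fong**: for a `p`-solvable group the principal block consists of the irreducible characters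
with `O_{p'}(G)` in their kernel. -/
theorem principalBlock_eq_of_isPSolvable (p : ℕ) [Fact p.Prime] (M : Ideal AlgInt)
    (hM : IsPModular p M) (hsolv : IsPSolvable p G) :
    principalBlock M G =
      {χ : IrrCharacter G | ∀ n ∈ pPrimeCore p G, (χ : G → ℂ) n = (χ : G → ℂ) 1} := by
  classical
  have hMp : M.IsPrime := isPModular_isPrime hM
  have : Fintype G := Fintype.ofFinite G
  have : Fintype (pPrimeCore p G) := Fintype.ofFinite _
  have hp : ¬ p ∣ Nat.card (pPrimeCore p G) := by
    have hc := Cfsg.Agent.Lib.Helper76.pPrimeCore_coprime (G := G) p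
    intro hd
    have := Nat.Coprime.eq_one_of_dvd hc.symm hd
    exact (Fact.out : p.Prime).one_lt.ne' this
  set one : IrrCharacter G := Cfsg.Agent.S4691.oneIrr G with hone
  have hone_const : ∀ n ∈ pPrimeCore p G, (one : G → ℂ) n = (one : G → ℂ) 1 := fun _ _ => rfl
  ext χ
  show SameBlock M (fun _ : G => (1 : ℂ)) (χ : G → ℂ) ↔ _
  constructor
  · intro h n hn
    exact eq_apply_one_of_sameBlock_of_not_dvd (pPrimeCore p G) hM hp
      (χ := one) (ψ := χ) h hone_const n hn
  · intro h
    have hq : IsPSolvable p (G ⧸ pPrimeCore p G) :=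
      Helper76.IsPSolvable_of_surjective p (QuotientGroup.mk' (pPrimeCore p G))
        (QuotientGroup.mk'_surjective _) hsolv
    have hcore : pPrimeCore p (G ⧸ pPrimeCore p G) = ⊥ :=
      Helper54.pPrimeCore_quotient_pPrimeCore p
    have hsb := Cfsg.Agent.S0915.result p M hM hq hcore
      (deflate (pPrimeCore p G) one hone_const) (deflate (pPrimeCore p G) χ h)
    have h2 := sameBlock_inflate (pPrimeCore p G) hsb
    rw [inflate_deflate, inflate_deflate] at h2
    exact h2

end Fong

end Cfsg.Agent.Lib.Helper77
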