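import Mathlib
import Cfsg.Agent.Lib.Helper75.BrauerHalfB

set_option autoImplicit false
set_option linter.unusedSectionVars false

namespace Cfsg.Agent.Lib.Helper77.BH
open Cfsg Cfsg.Agent.Lib.Helper78 Cfsg.Agent.Lib.Helper16 Cfsg.Agent.Lib.Helper3.DefOneGen
  Cfsg.Agent.Lib.Helper75.McKayOne Cfsg.Agent.Lib.Helper75.BrauerHalf
open scoped ComplexConjugate IsMulCommutative

universe u

variable {G : Type u} [Group G] [Fintype G] {p : ℕ} [hp : Fact p.Prime] (P : Sylow p G)
  (hP : Nat.card P = p)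
variable [Fintype ↥(Subgroup.centralizer ((P : Subgroup G) : Set G))] [Fintype ↥(P : Subgroup G)]
  [IsMulCommutative ↥(P : Subgroup G)] [Fintype (↥(P : Subgroup G) →* ℂˣ)]
  [Fintype ↥(Subgroup.normalizer ((P : Subgroup G) : Set G))]

local notation "CP" => Subgroup.centralizer ((P : Subgroup G) : Set G)
local notation "NP" => Subgroup.normalizer ((P : Subgroup G) : Set G)

attribute [local instance] nAct

section TRIV

/-- the trivial character of `C_G(P)` -/
noncomputable def trivC : IrrCharacter ↥CP := ⟨fun _ => (1 : ℂ), isIrrCharacter_one⟩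

theorem trivC_mem_Theta : trivC P ∈ Theta P := by
  rw [mem_Theta]
  intro x _
  rfl

open scoped Classical in
include hP in
theorem fpart_one_eq (θ : IrrCharacter ↥CP) (hθ : θ ∈ Theta P) (y : ↥(P : Subgroup G)) :
    fpart p CP (fun _ : G => (1 : ℂ)) (θ : ↥CP → ℂ) (y : G) = if θ = trivC P then 1 else 0 := by
  have hθK := (mem_Theta_iff_inKer P hP θ).mp hθ
  have htK := (mem_Theta_iff_inKer P hP (trivC P)).mp (trivC_mem_Theta P)
  rw [fpart_eq_sum_dual P hP _ θ hθK y]
  have hterm : ∀ ψ : ↥(P : Subgroup G) →* ℂˣ,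
      classInner (fun c : ↥CP => (fun _ : G => (1 : ℂ)) (c : G))
        (twist (ppart P hP) ψ θ : ↥CP → ℂ) * ((ψ y : ℂˣ) : ℂ)
      = if ψ = 1 then (if θ = trivC P then 1 else 0) else 0 := by
    intro ψ
    have h1 : classInner (fun c : ↥CP => (fun _ : G => (1 : ℂ)) (c : G))
        (twist (ppart P hP) ψ θ : ↥CP → ℂ)
        = if (trivC P : ↥CP → ℂ) = (twist (ppart P hP) ψ θ : ↥CP → ℂ) then 1 else 0 :=
      classInner_irr (trivC P).2 (twist (ppart P hP) ψ θ).2
    rw [h1]
    by_cases hψ : ψ = 1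
    · subst hψ
      rw [if_pos rfl, twist_one]
      by_cases hθt : θ = trivC P
      · rw [if_pos hθt, if_pos (by rw [hθt])]
        simp
      · rw [if_neg hθt, if_neg (fun h => hθt (Subtype.ext h.symm)), zero_mul]
    · rw [if_neg hψ, if_neg, zero_mul]
      intro h
      have h2 : twist (ppart P hP) 1 (trivC P) = twist (ppart P hP) ψ θ := by
        rw [twist_one]
        exact Subtype.ext h
      exact hψ (twist_injective (ppart_spec P hP) htK hθK h2).1.symm
  rw [Finset.sum_congr rfl (fun ψ _ => hterm ψ), Finset.sum_ite_eq' Finset.univ 1,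
    if_pos (Finset.mem_univ _)]

theorem thetaStab_trivC : thetaStab P (trivC P) = NP := by
  ext g
  rw [mem_thetaStab]
  constructor
  · exact fun h => h.1
  · intro h
    exact ⟨h, fun _ _ _ => rfl⟩

-- [BH-TRIV]
include hP in
theorem Lf_one : Lf P (fun _ : G => (1 : ℂ)) =
    -((p : ℂ) * ((p : ℂ) - 1) * ((CP).relIndex NP : ℂ)) := by
  classical
  have hcardf : ((Finset.univ.filter (fun y : ↥(P : Subgroup G) => y ≠ 1)).card : ℂ)
      = (p : ℂ) - 1 := by
    have h1 : (Finset.univ.filter (fun y : ↥(P : Subgroup G) => y ≠ 1)).card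
        = Fintype.card ↥(P : Subgroup G) - 1 := by
      rw [Finset.filter_ne' Finset.univ (1 : ↥(P : Subgroup G)), Finset.card_erase_of_mem
        (Finset.mem_univ _), Finset.card_univ]
    have h2 : Fintype.card ↥(P : Subgroup G) = p := by
      rw [← Nat.card_eq_fintype_card]; exact hP
    rw [h1, h2, Nat.cast_sub hp.out.one_le, Nat.cast_one]
  have hgq : ∀ θ ∈ Theta P, gq P (fun _ : G => (1 : ℂ)) (θ : ↥CP → ℂ)
      = ((p : ℂ) - 1) * (if θ = trivC P then 1 else 0) := by
    intro θ hθ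
    unfold gq
    rw [Finset.sum_congr rfl (fun y _ => fpart_one_eq P hP θ hθ y), Finset.sum_const,
      nsmul_eq_mul, hcardf]
  have hf1 : ∀ θ ∈ Theta P, fpart p CP (fun _ : G => (1 : ℂ)) (θ : ↥CP → ℂ) 1
      = if θ = trivC P then 1 else 0 := by
    intro θ hθ
    have := fpart_one_eq P hP θ hθ 1
    rwa [OneMemClass.coe_one] at this
  unfold Lf
  have hterm : ∀ θ ∈ Theta P, ((CP).relIndex (thetaStab P θ) : ℂ) *
      (((p : ℂ) - 1) * fpart p CP (fun _ : G => (1 : ℂ)) (θ : ↥CP → ℂ) 1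
        - ((p : ℂ) + 1) * gq P (fun _ : G => (1 : ℂ)) (θ : ↥CP → ℂ))
      = if θ = trivC P then -((p : ℂ) * ((p : ℂ) - 1) * ((CP).relIndex NP : ℂ)) else 0 := by
    intro θ hθ
    rw [hf1 θ hθ, hgq θ hθ]
    by_cases h : θ = trivC P
    · rw [if_pos h, if_pos h, h, thetaStab_trivC]
      ring
    · rw [if_neg h, if_neg h]
      ring
  rw [Finset.sum_congr rfl hterm, Finset.sum_ite_eq' (Theta P) (trivC P),
    if_pos (trivC_mem_Theta P)]

end TRIV

end Cfsg.Agent.Lib.Helper77.BH
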