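import Mathlib
import Cfsg.Prelude.Def_BlockFusion

/-!
# Project BP, module BP-[ROB-FOC] (helper77)

The focal subgroup of a fusion system over `P` lies in `P` and contains the commutators of `P`.
-/

set_option autoImplicit false

namespace Cfsg.Agent.Lib.Helper77.BP

open Cfsg

universe u

variable {G : Type u} [Group G] {P : Subgroup G}

/-- BP-[ROB-FOC] : the focal subgroup lies in `P` -/
theorem focal_le (F : FusionSystem P) : F.focalSubgroup ≤ P := by
  unfold FusionSystem.focalSubgroup
  rw [Subgroup.closure_le]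
  rintro y ⟨Q, φ, x, hφ, rfl⟩
  obtain ⟨hQ, himg⟩ := F.le_of_mem hφ
  exact P.mul_mem (P.inv_mem (hQ x.2)) (himg x)

/-- BP-[ROB-FOC] : the focal subgroup contains the commutators of `P` -/
theorem commutator_le_focal (F : FusionSystem P) :
    commutator P ≤ F.focalSubgroup.subgroupOf P := by
  rw [commutator_def, Subgroup.commutator_le]
  intro a _ b _
  rw [Subgroup.mem_subgroupOf]
  apply Subgroup.subset_closure
  refine ⟨P, conjHom P (b : G), a⁻¹, F.conj_mem le_rfl b.2, ?_⟩
  show ((a * b * a⁻¹ * b⁻¹ : P) : G) = ((a⁻¹ : P) : G)⁻¹ * ((b : G) * ((a⁻¹ : P) : G) * (b : G)⁻¹)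
  push_cast
  group

end Cfsg.Agent.Lib.Helper77.BP
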