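import Mathlib
import Cfsg.Prelude.Def_BlockFusion
import Cfsg.Agent.Lib.Helper16.BPNilDefs
import Cfsg.Agent.Lib.Helper16.BPNorm
import Cfsg.Agent.Lib.Helper16.BPNilNorm

/-!
# Project BP, module BP-[ROB-STABLE] (helper77)

A function on `P` constant on the cosets of the focal subgroup of the block fusion system is
fusion stable.
-/

set_option autoImplicit false
set_option linter.unusedSectionVars false
set_option linter.unusedVariables false

namespace Cfsg.Agent.Lib.Helper77.BP

open Cfsg Cfsg.Agent.Lib.Helper16 Cfsg.Agent.Lib.Helper16.BP Cfsg.Agent.Lib.Helper78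

universe u

variable {G : Type u} [Group G] [Fintype G] {M : Ideal AlgInt} {p : ℕ} [Fact p.Prime]
  {B : Set (IrrCharacter G)} {P : Subgroup G}
  {e : Set (IrrCharacter (Subgroup.centralizer (P : Set G)))}

/-- BP-[ROB-STABLE] : a function on `P` constant on the cosets of the focal subgroup is fusion
stable -/
theorem isFusionStable_of_focal (hM : IsPModular p M) {F : FusionSystem P}
    (hF : IsBlockFusionSystemOn p M B P e F) {η : P → ℂ}
    (hη : ∀ u v : P, (u : G)⁻¹ * (v : G) ∈ F.focalSubgroup → η u = η v) :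
    IsFusionStable p M P e η := by
  have hMp := isPModular_isPrime hM
  have hPe : IsBrauerPair p M P e := hF.1.1.1
  intro u v hu hv fu fv g hfu hfv hg hconj
  apply hη
  show u⁻¹ * v ∈ F.focalSubgroup
  obtain ⟨ξ, hξ, ξ', hξ', hc⟩ := hconj
  have hfu' : fu = subF p M P e u := eq_subF hM hPe hu hfu
  have hfv' : fv = subF p M P e v := eq_subF hM hPe hv hfv
  subst hfu'
  subst hfv'
  obtain ⟨hblock, hle⟩ := subF_spec hM hPe hu
  have hf'block : IsPBlock M (conjBlock (Subgroup.zpowers u) g (subF p M P e u)) := by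
    rw [conjBlock_eq_pullBlock]
    exact isPBlock_pullBlock _ hblock
  have hQ' : (Subgroup.zpowers u).map (MulAut.conj g).toMonoidHom = Subgroup.zpowers v := by
    rw [map_conj_zpowers, hg]
  have hle' : SubpairLE p M ((Subgroup.zpowers u).map (MulAut.conj g).toMonoidHom)
      (conjBlock (Subgroup.zpowers u) g (subF p M P e u)) P e := by
    apply subpairLE_of_eq hM hPe hv _ hQ' _ hf'block
    refine ⟨irrPull (conjCent (Subgroup.zpowers u) g) ξ, ?_, ξ', hξ', ?_⟩
    · rw [conjBlock_eq_pullBlock]
      exact irrPull_mem_pullBlock _ hξ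
    · intro c₁ c' hcc
      rw [irrPull_apply]
      apply hc
      rw [conjCent_coe, ← hcc]
      group
  have hmem : conjHom (Subgroup.zpowers u) g ∈ F.Hom (Subgroup.zpowers u) := by
    rw [hF.2]
    refine ⟨by rwa [Subgroup.zpowers_le], g, fun x => rfl, ?_, subF p M P e u, hle, hle'⟩
    rw [hQ', Subgroup.zpowers_le]
    exact hv
  apply Subgroup.subset_closure
  refine ⟨Subgroup.zpowers u, conjHom (Subgroup.zpowers u) g, ⟨u, Subgroup.mem_zpowers u⟩, hmem, ?_⟩
  show u⁻¹ * v = u⁻¹ * (g * u * g⁻¹)
  rw [hg]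

end Cfsg.Agent.Lib.Helper77.BP
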