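import Mathlib

set_option autoImplicit false

namespace Cfsg.Agent.Lib.Helper77.BrandtArith

/-- coprime squares summing to a power of two -/
theorem coprime_sq_add_sq_eq_two_pow {y₁ y₂ j : ℕ} (h1 : 0 < y₁) (h2 : 0 < y₂)
    (hc : Nat.Coprime y₁ y₂) (h : y₁ ^ 2 + y₂ ^ 2 = 2 ^ j) : y₁ = 1 ∧ y₂ = 1 ∧ j = 1 := by
  have hj : j = 1 := by
    rcases Nat.lt_or_ge j 1 with hj0 | hj1
    · have : j = 0 := by omega
      subst this
      nlinarith
    · rcases Nat.lt_or_ge 1 j with hj2 | hj2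
      · exfalso
        obtain ⟨i, rfl⟩ : ∃ i, j = i + 2 := ⟨j - 2, by omega⟩
        have h4 : 4 ∣ y₁ ^ 2 + y₂ ^ 2 := by
          rw [h, pow_add]
          exact Dvd.intro_left _ rfl
        obtain ⟨k₁, hk₁ | hk₁⟩ := Nat.even_or_odd' y₁ <;>
        obtain ⟨k₂, hk₂ | hk₂⟩ := Nat.even_or_odd' y₂
        · have : 2 ∣ Nat.gcd y₁ y₂ := Nat.dvd_gcd ⟨k₁, hk₁⟩ ⟨k₂, hk₂⟩
          rw [hc] at this
          omega
        · subst hk₁ hk₂
          obtain ⟨q, hq⟩ := h4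
          ring_nf at hq
          omega
        · subst hk₁ hk₂
          obtain ⟨q, hq⟩ := h4
          ring_nf at hq
          omega
        · subst hk₁ hk₂
          obtain ⟨q, hq⟩ := h4
          ring_nf at hq
          omega
      · omega
  subst hj
  have h3 : y₁ < 2 := by nlinarith
  have h4 : y₂ < 2 := by nlinarith
  refine ⟨by omega, by omega, rfl⟩

theorem two_block_arith {p a x₁ x₂ A₁ A₂ d : ℕ} (hp : p.Prime) (hx₁ : 0 < x₁) (hx₂ : 0 < x₂)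
    (hsum : A₁ + A₂ = p ^ a)
    (hrel : A₂ * x₁ ^ 2 = A₁ * x₂ ^ 2) (hd : x₁ ^ 2 + x₂ ^ 2 = 2 * d ^ 2) :
    p = 2 ∧ x₁ = x₂ ∧ A₁ = A₂ ∧ 2 * A₁ = 2 ^ a := by
  obtain ⟨g, y₁, y₂, hg0, hcop, hy₁, hy₂⟩ := Nat.exists_coprime' (Nat.gcd_pos_of_pos_left x₂ hx₁)
  have hy₁pos : 0 < y₁ := by
    rcases Nat.eq_zero_or_pos y₁ with h | h
    · rw [h, zero_mul] at hy₁; omega
    · exact h
  have hy₂pos : 0 < y₂ := by
    rcases Nat.eq_zero_or_pos y₂ with h | h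
    · rw [h, zero_mul] at hy₂; omega
    · exact h
  -- cancel g²
  have hrel2 : A₂ * y₁ ^ 2 = A₁ * y₂ ^ 2 := by
    have h1 : g ^ 2 * (A₂ * y₁ ^ 2) = g ^ 2 * (A₁ * y₂ ^ 2) := by
      rw [hy₁, hy₂] at hrel
      nlinarith [hrel]
    exact Nat.eq_of_mul_eq_mul_left (by positivity) h1
  have hcop2 : Nat.Coprime (y₁ ^ 2) (y₂ ^ 2) := Nat.Coprime.pow 2 2 hcop
  have hdvd : y₁ ^ 2 ∣ A₁ := by
    have h1 : y₁ ^ 2 ∣ A₁ * y₂ ^ 2 := ⟨A₂, by rw [← hrel2, mul_comm]⟩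
    exact hcop2.dvd_of_dvd_mul_right h1
  obtain ⟨t, ht⟩ := hdvd
  have hA₂t : A₂ = t * y₂ ^ 2 := by
    have h1 : y₁ ^ 2 * A₂ = y₁ ^ 2 * (t * y₂ ^ 2) := by
      rw [ht] at hrel2
      nlinarith [hrel2]
    exact Nat.eq_of_mul_eq_mul_left (by positivity) h1
  have hsum2 : t * (y₁ ^ 2 + y₂ ^ 2) = p ^ a := by
    rw [← hsum, ht, hA₂t]; ring
  obtain ⟨j, hja, hj⟩ := (Nat.dvd_prime_pow hp).mp ⟨t, by rw [← hsum2, mul_comm]⟩
  have hd2 : g ^ 2 * p ^ j = 2 * d ^ 2 := by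
    rw [← hd, hy₁, hy₂, ← hj]; ring
  have hdpos : 0 < d := by
    rcases Nat.eq_zero_or_pos d with h | h
    · rw [h] at hd; nlinarith
    · exact h
  have hp2 : p = 2 := by
    by_contra hne
    have h1 : (g ^ 2 * p ^ j).factorization 2 = (2 * d ^ 2).factorization 2 := by rw [hd2]
    rw [Nat.factorization_mul (by positivity) (by have := hp.pos; positivity),
      Nat.factorization_mul (by norm_num) (by positivity), Nat.factorization_pow,
      Nat.factorization_pow, Nat.factorization_pow] at h1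
    simp only [Finsupp.coe_add, Finsupp.coe_smul, Pi.add_apply, Pi.smul_apply, smul_eq_mul] at h1
    rw [Nat.Prime.factorization_self Nat.prime_two,
      Nat.factorization_eq_zero_of_not_dvd (n := p) (p := 2) (by
        intro h
        exact hne ((Nat.prime_dvd_prime_iff_eq Nat.prime_two hp).mp h).symm)] at h1
    omega
  subst hp2
  obtain ⟨e1, e2, e3⟩ := coprime_sq_add_sq_eq_two_pow hy₁pos hy₂pos hcop hj
  subst e1 e2 e3
  refine ⟨rfl, by rw [hy₁, hy₂], by rw [ht, hA₂t]; ring, ?_⟩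
  rw [← hsum2, ht]; ring

end Cfsg.Agent.Lib.Helper77.BrandtArith
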