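import Mathlib
import Cfsg.Agent.Lib.Helper77.BlockTwo
import Cfsg.Agent.Lib.Helper77.BrandtArith
import Cfsg.Agent.Lib.Helper79.BrauerFeit
import Cfsg.Agent.Lib.Helper78.BlockRankDefect
import Cfsg.Agent.S0908
import Cfsg.Agent.S4494

set_option autoImplicit false
set_option linter.unusedSectionVars false

namespace Cfsg.Agent.Lib.Helper77.BrandtMain

open Cfsg Cfsg.Agent.Lib.Helper16 Cfsg.Agent.Lib.Helper78 Cfsg.Agent.Lib.Helper79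
  Cfsg.Agent.Lib.Helper77.BlockRed Cfsg.Agent.Lib.Helper77.BrandtArith
open scoped ComplexConjugate

variable {G : Type*} [Group G] [Fintype G]

/-- a sum over all irreducible characters of a function vanishing off `{χ₁, χ₂}` -/
theorem sum_eq_pair {α : Type*} [AddCommMonoid α] {χ₁ χ₂ : IrrCharacter G} (hne : χ₁ ≠ χ₂)
    (f : IrrCharacter G → α) (hf : ∀ ψ, ψ ≠ χ₁ → ψ ≠ χ₂ → f ψ = 0) :
    ∑ ψ : IrrCharacter G, f ψ = f χ₁ + f χ₂ :=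
  Finset.sum_eq_add χ₁ χ₂ hne (fun c _ hc => hf c hc.1 hc.2)
    (fun h => absurd (Finset.mem_univ _) h) (fun h => absurd (Finset.mem_univ _) h)

/-- Brandt: a block with exactly two irreducible characters has `p = 2` and defect one -/
theorem defect_of_card_two (p : ℕ) [Fact p.Prime] {M : Ideal AlgInt} (hM : IsPModular p M)
    {B : Set (IrrCharacter G)} (hB : IsPBlock M B) (hcard : Nat.card B = 2) :
    p = 2 ∧ blockDefect p B = 1 := by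
  classical
  have hp : p.Prime := Fact.out
  have hMp : M.IsPrime := isPModular_isPrime hM
  obtain ⟨χ₁', χ₂', hne', huniv⟩ := Nat.card_eq_two_iff.mp hcard
  obtain ⟨χ₁, hχ₁⟩ := χ₁'
  obtain ⟨χ₂, hχ₂⟩ := χ₂'
  have hne : χ₁ ≠ χ₂ := fun h => hne' (Subtype.ext h)
  have hBmem : ∀ ψ ∈ B, ψ = χ₁ ∨ ψ = χ₂ := by
    intro ψ hψ
    have : (⟨ψ, hψ⟩ : B) ∈ ({⟨χ₁, hχ₁⟩, ⟨χ₂, hχ₂⟩} : Set B) := by
      rw [huniv]; exact Set.mem_univ _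
    rcases this with h | h
    · left; exact congrArg Subtype.val h
    · right; exact congrArg Subtype.val h
  have hBset : B = {χ₁, χ₂} := by
    ext ψ
    constructor
    · intro hψ
      rcases hBmem ψ hψ with h | h
      · left; exact h
      · right; exact h
    · rintro (h | h)
      · rw [h]; exact hχ₁
      · rw [Set.mem_singleton_iff] at h; rw [h]; exact hχ₂
  have hnotB : ∀ ψ : IrrCharacter G, ψ ≠ χ₁ → ψ ≠ χ₂ → ψ ∉ B := by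
    intro ψ h1 h2 hψ
    rcases hBmem ψ hψ with h | h
    · exact h1 h
    · exact h2 h
  obtain ⟨a, ha⟩ : ∃ a, a = (Nat.card G).factorization p := ⟨_, rfl⟩
  obtain ⟨X₁, hX₁⟩ : ∃ X₁, X₁ = charDegree (χ₁ : G → ℂ) := ⟨_, rfl⟩
  obtain ⟨X₂, hX₂⟩ : ∃ X₂, X₂ = charDegree (χ₂ : G → ℂ) := ⟨_, rfl⟩
  have hX₁pos : 0 < X₁ := hX₁ ▸ irr_charDegree_pos χ₁
  have hX₂pos : 0 < X₂ := hX₂ ▸ irr_charDegree_pos χ₂
  have hx₁ : (χ₁ : G → ℂ) 1 = (X₁ : ℂ) := by rw [hX₁]; exact irr_apply_one_eq_charDegree χ₁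
  have hx₂ : (χ₂ : G → ℂ) 1 = (X₂ : ℂ) := by rw [hX₂]; exact irr_apply_one_eq_charDegree χ₂
  obtain ⟨c₁₁, hc₁₁⟩ : ∃ c : ℤ, c = contrib p χ₁ χ₁ := ⟨_, rfl⟩
  obtain ⟨c₁₂, hc₁₂⟩ : ∃ c : ℤ, c = contrib p χ₁ χ₂ := ⟨_, rfl⟩
  obtain ⟨c₂₂, hc₂₂⟩ : ∃ c : ℤ, c = contrib p χ₂ χ₂ := ⟨_, rfl⟩
  have hc₂₁ : c₁₂ = contrib p χ₂ χ₁ := by rw [hc₁₂, contrib_symm hM]
  -- Parseval relations
  have hS1 : c₁₁ ^ 2 + c₁₂ ^ 2 = (p : ℤ) ^ a * c₁₁ := by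
    have h := sum_contrib_sq hM χ₁
    rw [sum_eq_pair hne _ (fun ψ h1 h2 => by
      rw [contrib_eq_zero_of_not_mem hM hB hχ₁ (hnotB ψ h1 h2)]; rfl)] at h
    rw [hc₁₁, hc₁₂, ha]; exact h
  have hS2 : c₁₂ ^ 2 + c₂₂ ^ 2 = (p : ℤ) ^ a * c₂₂ := by
    have h := sum_contrib_sq hM χ₂
    rw [sum_eq_pair hne _ (fun ψ h1 h2 => by
      rw [contrib_eq_zero_of_not_mem hM hB hχ₂ (hnotB ψ h1 h2)]; rfl)] at h
    rw [hc₂₁, hc₂₂, ha]; exact h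
  -- degree relations
  have h1reg : ¬ p ∣ orderOf (1 : G) := by
    rw [orderOf_one]; exact hp.one_lt.ne' ∘ Nat.dvd_one.mp
  have hE1 : (p : ℤ) ^ a * X₁ = c₁₁ * X₁ + c₁₂ * X₂ := by
    have h := congrFun (tld_eq_sum_contrib hM χ₁) 1
    rw [sum_eq_pair hne _ (fun ψ h1 h2 => by
      rw [contrib_eq_zero_of_not_mem hM hB hχ₁ (hnotB ψ h1 h2)]; simp)] at h
    unfold tld at h
    rw [if_neg h1reg, hx₁, hx₂, ← ha, ← hc₁₁, ← hc₁₂] at h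
    exact_mod_cast h
  have hE2 : (p : ℤ) ^ a * X₂ = c₁₂ * X₁ + c₂₂ * X₂ := by
    have h := congrFun (tld_eq_sum_contrib hM χ₂) 1
    rw [sum_eq_pair hne _ (fun ψ h1 h2 => by
      rw [contrib_eq_zero_of_not_mem hM hB hχ₂ (hnotB ψ h1 h2)]; simp)] at h
    unfold tld at h
    rw [if_neg h1reg, hx₁, hx₂, ← ha, ← hc₂₁, ← hc₂₂] at h
    exact_mod_cast h
  -- the mixed contribution does not vanish
  have hb : c₁₂ ≠ 0 := by
    obtain ⟨χ₀, hχ₀, h0⟩ := exists_min_factorization (p := p) (B := B) ⟨χ₁, hχ₁⟩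
    have hh : blockHeight p B (χ₀ : G → ℂ) = 0 := by
      unfold blockHeight; omega
    have hall := (blockHeight_eq_zero_iff_contrib hM hB hχ₀).2.mp hh
    intro hb0
    rcases hBmem χ₀ hχ₀ with h | h
    · apply hall χ₂ hχ₂
      rw [h, ← hc₁₂, hb0]; exact dvd_zero _
    · apply hall χ₁ hχ₁
      rw [h, ← hc₂₁, hb0]; exact dvd_zero _
  have hX₁z : (X₁ : ℤ) ≠ 0 := by exact_mod_cast hX₁pos.ne'
  have hX₂z : (X₂ : ℤ) ≠ 0 := by exact_mod_cast hX₂pos.ne'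
  have hP1 : (p : ℤ) ^ a - c₁₁ ≠ 0 := by
    intro h
    have h2 : c₁₂ * X₂ = 0 := by linear_combination (X₁ : ℤ) * h - hE1
    rcases mul_eq_zero.mp h2 with h | h
    · exact hb h
    · exact hX₂z h
  have hsumz : c₁₁ + c₂₂ = (p : ℤ) ^ a := by
    have h1 : ((p : ℤ) ^ a - c₁₁) * ((p : ℤ) ^ a - c₂₂ - c₁₁) * ((X₁ : ℤ) * X₂) = 0 := by
      linear_combination (((p : ℤ) ^ a - c₂₂) * X₂) * hE1 + (c₁₂ * X₂) * hE2 +
        ((X₁ : ℤ) * X₂) * hS1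
    rcases mul_eq_zero.mp h1 with h | h
    · rcases mul_eq_zero.mp h with h | h
      · exact absurd h hP1
      · linarith
    · exfalso; exact mul_ne_zero hX₁z hX₂z h
  have hrelz : c₂₂ * (X₁ : ℤ) ^ 2 = c₁₁ * (X₂ : ℤ) ^ 2 := by
    linear_combination (X₁ : ℤ) * hE1 - (X₂ : ℤ) * hE2 + ((X₁ : ℤ) ^ 2 - (X₂ : ℤ) ^ 2) * hsumz
  -- pass to natural numbers
  have hc₁₁pos : 0 < c₁₁ := hc₁₁ ▸ contrib_self_pos hM χ₁
  have hc₂₂pos : 0 < c₂₂ := hc₂₂ ▸ contrib_self_pos hM χ₂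
  obtain ⟨A₁, hA₁⟩ : ∃ A₁ : ℕ, (A₁ : ℤ) = c₁₁ := ⟨c₁₁.toNat, Int.toNat_of_nonneg hc₁₁pos.le⟩
  obtain ⟨A₂, hA₂⟩ : ∃ A₂ : ℕ, (A₂ : ℤ) = c₂₂ := ⟨c₂₂.toNat, Int.toNat_of_nonneg hc₂₂pos.le⟩
  have hsum : A₁ + A₂ = p ^ a := by
    rw [← hA₁, ← hA₂] at hsumz
    exact_mod_cast hsumz
  have hrel : A₂ * X₁ ^ 2 = A₁ * X₂ ^ 2 := by
    rw [← hA₁, ← hA₂] at hrelz
    exact_mod_cast hrelz
  obtain ⟨d, hd⟩ := exists_sum_sq_eq hB hcard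
  rw [hBset, finsum_mem_pair hne, hx₁, hx₂, Complex.conj_natCast, Complex.conj_natCast] at hd
  have hd' : X₁ ^ 2 + X₂ ^ 2 = 2 * d ^ 2 := by
    have : ((X₁ ^ 2 + X₂ ^ 2 : ℕ) : ℂ) = ((2 * d ^ 2 : ℕ) : ℂ) := by
      push_cast
      push_cast at hd
      rw [pow_two, pow_two, pow_two]
      exact hd
    exact_mod_cast this
  obtain ⟨hp2, hXeq, hAeq, hA2⟩ := two_block_arith hp hX₁pos hX₂pos hsum hrel hd'
  refine ⟨hp2, ?_⟩
  subst hp2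
  have ha1 : 1 ≤ a := by
    rcases Nat.eq_zero_or_pos a with h | h
    · rw [h] at hA2; omega
    · exact h
  have hA₁eq : A₁ = 2 ^ (a - 1) := by
    obtain ⟨a', rfl⟩ : ∃ a', a = a' + 1 := ⟨a - 1, by omega⟩
    rw [pow_succ] at hA2
    simp only [Nat.add_sub_cancel]
    omega
  obtain ⟨ν, hν⟩ : ∃ ν, ν = X₁.factorization 2 := ⟨_, rfl⟩
  have hν1 : ν ≤ a - 1 := by
    have h := pow_dvd_contrib_left hM χ₁ χ₁
    rw [← hX₁, ← hν, ← hc₁₁, ← hA₁] at h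
    have h2 : 2 ^ ν ∣ A₁ := by exact_mod_cast h
    rw [hA₁eq] at h2
    exact (Nat.pow_dvd_pow_iff_le_right (by norm_num)).mp h2
  have hsInf : sInf ((fun ψ : IrrCharacter G => (charDegree (ψ : G → ℂ)).factorization 2) '' B)
      = ν := by
    obtain ⟨χ₀, hχ₀, h0⟩ := exists_min_factorization (p := 2) (B := B) ⟨χ₁, hχ₁⟩
    rw [← h0]
    rcases hBmem χ₀ hχ₀ with h | h
    · rw [h, ← hX₁, hν]
    · rw [h, ← hX₂, ← hXeq, hν]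
  have hh0 : blockHeight 2 B (χ₁ : G → ℂ) = 0 := by
    unfold blockHeight
    rw [hsInf, ← hX₁, ← hν]
    omega
  have hν2 : a - 1 ≤ ν := by
    have h := (blockHeight_eq_zero_iff_contrib hM hB hχ₁).2.mp hh0 χ₁ hχ₁
    rw [← hX₁, ← hν, ← hc₁₁, ← hA₁] at h
    by_contra hcon
    apply h
    have h2 : 2 ^ (ν + 1) ∣ A₁ := by
      rw [hA₁eq]
      exact pow_dvd_pow 2 (by omega)
    exact_mod_cast h2
  unfold blockDefect
  rw [hsInf, ← ha]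
  omega

end Cfsg.Agent.Lib.Helper77.BrandtMain
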