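import Cfsg.Agent.Lib.Helper77.BlockIdem
import Cfsg.Prelude.Def_BlockLocal

set_option autoImplicit false

namespace Cfsg.Agent.Lib.Helper77

open Cfsg MonoidAlgebra Cfsg.Agent.Lib.Helper16
open scoped ComplexConjugate

section Extend

variable {G : Type*} [Group G]

/-- Extension by zero of an element of the group algebra of a subgroup. -/
noncomputable def extend (H : Subgroup G) (x : MonoidAlgebra ℂ H) : MonoidAlgebra ℂ G :=
  MonoidAlgebra.mapDomain H.subtype x

theorem coeff_extend_coe (H : Subgroup G) (x : MonoidAlgebra ℂ H) (h : H) :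
    (extend H x).coeff (h : G) = x.coeff h := by
  unfold extend
  show (Finsupp.mapDomain H.subtype x.coeff) (H.subtype h) = x.coeff h
  exact Finsupp.mapDomain_apply H.subtype_injective _ _

theorem coeff_extend_of_mem (H : Subgroup G) (x : MonoidAlgebra ℂ H) {g : G} (hg : g ∈ H) :
    (extend H x).coeff g = x.coeff ⟨g, hg⟩ :=
  coeff_extend_coe H x ⟨g, hg⟩

theorem coeff_extend_of_not_mem (H : Subgroup G) (x : MonoidAlgebra ℂ H) {g : G} (hg : g ∉ H) :
    (extend H x).coeff g = 0 := by
  unfold extend
  show (Finsupp.mapDomain H.subtype x.coeff) g = 0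
  apply Finsupp.mapDomain_of_notMem_range
  rintro ⟨h, rfl⟩
  exact hg h.2

theorem extend_mul (H : Subgroup G) (x y : MonoidAlgebra ℂ H) :
    extend H (x * y) = extend H x * extend H y :=
  mapDomain_mul H.subtype x y

theorem extend_add (H : Subgroup G) (x y : MonoidAlgebra ℂ H) :
    extend H (x + y) = extend H x + extend H y :=
  mapDomain_add _ x y

theorem extend_zero (H : Subgroup G) : extend H (0 : MonoidAlgebra ℂ H) = 0 :=
  mapDomain_zero _

theorem extend_sub (H : Subgroup G) (x y : MonoidAlgebra ℂ H) :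
    extend H (x - y) = extend H x - extend H y := by
  rw [eq_sub_iff_add_eq, ← extend_add, sub_add_cancel]

theorem trunc_extend (H : Subgroup G) (x : MonoidAlgebra ℂ H) : trunc H (extend H x) = x := by
  ext h
  rw [coeff_trunc, coeff_extend_coe]

/-- Truncating to a smaller subgroup factors through truncation to a larger one. -/
theorem coeff_extend_trunc_of_mem (H : Subgroup G) (a : MonoidAlgebra ℂ G) {g : G} (hg : g ∈ H) :
    (extend H (trunc H a)).coeff g = a.coeff g := by
  rw [coeff_extend_of_mem H _ hg, coeff_trunc]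

theorem trunc_extend_trunc {K H : Subgroup G} (hKH : K ≤ H) (a : MonoidAlgebra ℂ G) :
    trunc K (extend H (trunc H a)) = trunc K a := by
  ext k
  rw [coeff_trunc, coeff_trunc, coeff_extend_trunc_of_mem H a (hKH k.2)]

variable {M : Ideal AlgInt}

theorem CoeffsInRing.extend (hM : M ≠ ⊤) (H : Subgroup G) {x : MonoidAlgebra ℂ H}
    (hx : CoeffsInRing M x) : CoeffsInRing M (extend H x) := by
  intro g
  by_cases hg : g ∈ H
  · rw [coeff_extend_of_mem H x hg]; exact hx _
  · rw [coeff_extend_of_not_mem H x hg]; exact memLocalRing_zero hM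

theorem CoeffsInIdeal.extend (hM : M ≠ ⊤) (H : Subgroup G) {x : MonoidAlgebra ℂ H}
    (hx : CoeffsInIdeal M x) : CoeffsInIdeal M (extend H x) := by
  intro g
  by_cases hg : g ∈ H
  · rw [coeff_extend_of_mem H x hg]; exact hx _
  · rw [coeff_extend_of_not_mem H x hg]; exact memLocalIdeal_zero hM

/-- Conjugation invariance of an extension by zero. -/
theorem conjInv_extend (S H : Subgroup G) (hS : S ≤ Subgroup.normalizer (H : Set G))
    (x : MonoidAlgebra ℂ H)
    (hx : ∀ u ∈ S, ∀ (h h' : H), (h' : G) = u * (h : G) * u⁻¹ → x.coeff h' = x.coeff h) :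
    ConjInv S (extend H x) := by
  intro u hu g
  have hn := hS hu
  rw [Subgroup.mem_normalizer_iff] at hn
  by_cases hg : g ∈ H
  · have hg' : u * g * u⁻¹ ∈ H := (hn g).mp hg
    rw [coeff_extend_of_mem H x hg, coeff_extend_of_mem H x hg']
    exact hx u hu ⟨g, hg⟩ ⟨_, hg'⟩ rfl
  · have hg' : u * g * u⁻¹ ∉ H := fun h => hg ((hn g).mpr h)
    rw [coeff_extend_of_not_mem H x hg, coeff_extend_of_not_mem H x hg']

end Extend

section Nilp

variable {G : Type*} [Group G] [Fintype G] {M : Ideal AlgInt} [hMp : M.IsPrime]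

theorem CoeffsInRing.pow {a : MonoidAlgebra ℂ G} (ha : CoeffsInRing M a) (n : ℕ) :
    CoeffsInRing M (a ^ n) := by
  induction n with
  | zero => rw [pow_zero]; exact coeffsInRing_one
  | succ n ih => rw [pow_succ]; exact CoeffsInRing.mul ih ha

/-- An element which is "minus an idempotent" modulo the ideal and nilpotent modulo the ideal
vanishes modulo the ideal. -/
theorem coeffsInIdeal_of_sq_add_self {x : MonoidAlgebra ℂ G} (hx : CoeffsInRing M x)
    (hsq : CoeffsInIdeal M (x * x + x)) (n : ℕ) (hn : CoeffsInIdeal M (x ^ (n + 1))) :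
    CoeffsInIdeal M x := by
  induction n with
  | zero => simpa using hn
  | succ n ih =>
    apply ih
    have e : x ^ (n + 1) = x ^ n * (x * x + x) - x ^ (n + 1 + 1) := by
      rw [mul_add, pow_succ x (n + 1), pow_succ x n, mul_assoc]
      abel
    rw [e]
    exact (CoeffsInIdeal.mul_left (CoeffsInRing.pow hx n) hsq).sub hn

end Nilp

end Cfsg.Agent.Lib.Helper77
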