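import Cfsg.Agent.Lib.Helper77.BrauerTrunc

set_option autoImplicit false

namespace Cfsg.Agent.Lib.Helper77

open Cfsg MonoidAlgebra Cfsg.Agent.Lib.Helper16
open scoped ComplexConjugate

section Main

variable {G : Type*} [Group G] [Fintype G] {M : Ideal AlgInt} [hMp : M.IsPrime]

omit [Fintype G] in
theorem conj_mem_centralizer_of_mem {P : Subgroup G} {u x : G} (hu : u ∈ P)
    (hx : x ∈ Subgroup.centralizer (P : Set G)) :
    u * x * u⁻¹ ∈ Subgroup.centralizer (P : Set G) := by
  rw [Subgroup.mem_centralizer_iff] at hx ⊢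
  intro v hv
  have h1 : u⁻¹ * v * u ∈ P := P.mul_mem (P.mul_mem (P.inv_mem hu) hv) hu
  have h2 := hx _ h1
  calc v * (u * x * u⁻¹) = u * ((u⁻¹ * v * u) * x) * u⁻¹ := by group
    _ = u * (x * (u⁻¹ * v * u)) * u⁻¹ := by rw [h2]
    _ = u * x * u⁻¹ * v := by group

omit [Fintype G] in
theorem conj_mem_centralizer_iff {P : Subgroup G} {u x : G} (hu : u ∈ P) :
    u * x * u⁻¹ ∈ Subgroup.centralizer (P : Set G) ↔ x ∈ Subgroup.centralizer (P : Set G) := by
  constructor
  · intro h
    have := conj_mem_centralizer_of_mem (P.inv_mem hu) h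
    have e : u⁻¹ * (u * x * u⁻¹) * u⁻¹⁻¹ = x := by group
    rwa [e] at this
  · exact conj_mem_centralizer_of_mem hu

/-- **Brauer homomorphism**: for a `p`-subgroup `P`, truncation to `C_G(P)` is multiplicative
modulo the local ideal on `P`-invariant elements with coefficients in the local ring. -/
theorem coeffsInIdeal_trunc_mul {p : ℕ} [Fact p.Prime] (hM : IsPModular p M) (P : Subgroup G)
    (hP : IsPGroup p P) {a b : MonoidAlgebra ℂ G} (ha : CoeffsInRing M a) (hb : CoeffsInRing M b)
    (hPa : ConjInv P a) (hPb : ConjInv P b) [Fintype (Subgroup.centralizer (P : Set G))] :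
    CoeffsInIdeal M (trunc (Subgroup.centralizer (P : Set G)) (a * b) -
      trunc (Subgroup.centralizer (P : Set G)) a * trunc (Subgroup.centralizer (P : Set G)) b) := by
  classical
  intro z
  rw [coeff_sub, Finsupp.sub_apply, coeff_trunc, coeff_mul_eq_sum_left, coeff_mul_eq_sum_left]
  simp only [coeff_trunc]
  have h2 : ∑ x : Subgroup.centralizer (P : Set G), a.coeff (x : G) * b.coeff ((x⁻¹ * z :
      Subgroup.centralizer (P : Set G)) : G) =
      ∑ x : G, if x ∈ Subgroup.centralizer (P : Set G) then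
        a.coeff x * b.coeff (x⁻¹ * (z : G)) else 0 := by
    rw [← Finset.sum_filter]
    simp only [Subgroup.coe_mul, Subgroup.coe_inv]
    exact (Finset.sum_subtype (Finset.univ.filter (· ∈ Subgroup.centralizer (P : Set G)))
      (by simp) (fun x : G => a.coeff x * b.coeff (x⁻¹ * (z : G)))).symm
  rw [h2, ← Finset.sum_sub_distrib]
  let _ : MulAction P G := MulAction.compHom G ((MulAut.conj : G →* MulAut G).comp P.subtype)
  have hsmul : ∀ (u : P) (x : G), u • x = (u : G) * x * (u : G)⁻¹ := fun u x => rfl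
  have hP' : IsPGroup p (P : Type _) := hP
  apply sum_memLocalIdeal_of_pGroup hM hP'
  · intro u x
    rw [hsmul]
    have hu : (u : G) ∈ P := u.2
    have hz : (z : G) * (u : G)⁻¹ = (u : G)⁻¹ * (z : G) := by
      have := Subgroup.mem_centralizer_iff.mp z.2 ((u : G)) hu
      -- this : u * z = z * u
      calc (z : G) * (u : G)⁻¹ = (u : G)⁻¹ * ((u : G) * (z : G)) * (u : G)⁻¹ := by group
        _ = (u : G)⁻¹ * ((z : G) * (u : G)) * (u : G)⁻¹ := by rw [this]
        _ = (u : G)⁻¹ * (z : G) := by group
    have hmem : (u : G) * x * (u : G)⁻¹ ∈ Subgroup.centralizer (P : Set G) ↔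
        x ∈ Subgroup.centralizer (P : Set G) := conj_mem_centralizer_iff hu
    have hb' : b.coeff (((u : G) * x * (u : G)⁻¹)⁻¹ * (z : G)) = b.coeff (x⁻¹ * (z : G)) := by
      rw [← hPb u hu (x⁻¹ * (z : G))]
      congr 1
      calc ((u : G) * x * (u : G)⁻¹)⁻¹ * (z : G) = (u : G) * x⁻¹ * ((u : G)⁻¹ * (z : G)) := by group
        _ = (u : G) * x⁻¹ * ((z : G) * (u : G)⁻¹) := by rw [hz]
        _ = (u : G) * (x⁻¹ * (z : G)) * (u : G)⁻¹ := by group
    rw [hPa u hu x, hb']
    simp only [hmem]
  · intro x
    split_ifs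
    · rw [sub_self]; exact memLocalRing_zero hMp.ne_top
    · rw [sub_zero]; exact memLocalRing_mul (ha _) (hb _)
  · intro x hx
    have hxC : x ∈ Subgroup.centralizer (P : Set G) := by
      rw [Subgroup.mem_centralizer_iff]
      intro u hu
      have := hx ⟨u, hu⟩
      rw [hsmul] at this
      -- this : u * x * u⁻¹ = x
      calc u * x = u * x * u⁻¹ * u := by group
        _ = x * u := by rw [show u * x * u⁻¹ = x from this]
    rw [if_pos hxC, sub_self]

/-! ### Central characters of truncations -/

/-- The central character of a central element with coefficients in the local ideal lies in the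
local ideal. -/
theorem omega_memLocalIdeal (χ : IrrCharacter G) {z : MonoidAlgebra ℂ G}
    (hz : z ∈ Subalgebra.center ℂ (MonoidAlgebra ℂ G)) (hzJ : CoeffsInIdeal M z) :
    MemLocalIdeal M (omega (χ : G → ℂ) z) := by
  classical
  rw [omega_eq_sum_classes _ (irr_conj χ) hz]
  apply memLocalIdeal_sum
  intro c _
  exact memLocalIdeal_mul_right (hzJ _)
    (memLocalRing_of_isIntegral hMp.ne_top (Cfsg.Agent.Lib.Helper79.isIntegral_centralChar χ _))

theorem CoeffsInRing.mul {a b : MonoidAlgebra ℂ G} (ha : CoeffsInRing M a)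
    (hb : CoeffsInRing M b) : CoeffsInRing M (a * b) := by
  intro g
  rw [coeff_mul_eq_sum_left]
  exact memLocalRing_sum _ _ fun x _ => memLocalRing_mul (ha _) (hb _)

omit [Fintype G] in
theorem CoeffsInRing.add {a b : MonoidAlgebra ℂ G} (ha : CoeffsInRing M a)
    (hb : CoeffsInRing M b) : CoeffsInRing M (a + b) := by
  intro g
  rw [coeff_add, Finsupp.add_apply]
  exact memLocalRing_add (ha g) (hb g)

omit [Fintype G] in
theorem CoeffsInRing.sub {a b : MonoidAlgebra ℂ G} (ha : CoeffsInRing M a)
    (hb : CoeffsInRing M b) : CoeffsInRing M (a - b) := by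
  intro g
  rw [coeff_sub, Finsupp.sub_apply]
  exact memLocalRing_sub (ha g) (hb g)

omit [Fintype G] in
theorem coeffsInRing_one : CoeffsInRing M (1 : MonoidAlgebra ℂ G) := by
  classical
  intro g
  rw [coeff_one_apply]
  split_ifs
  · exact memLocalRing_one hMp.ne_top
  · exact memLocalRing_zero hMp.ne_top

omit [Fintype G] in
/-- `brauerOmega` is the central character of the truncation. -/
theorem brauerOmega_eq_omega (P : Subgroup G) [Fintype (Subgroup.centralizer (P : Set G))]
    (a : MonoidAlgebra ℂ G) (ξ : Subgroup.centralizer (P : Set G) → ℂ) :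
    brauerOmega P (fun g => a.coeff g) ξ = omega ξ (trunc (Subgroup.centralizer (P : Set G)) a) := by
  unfold brauerOmega omega
  rw [finsum_eq_sum_of_fintype, Finset.sum_div]
  refine Finset.sum_congr rfl fun x _ => ?_
  rw [coeff_trunc]

/-- Elements of the group algebra to which the Brauer map at `P` applies: coefficients in the
local ring, invariant under conjugation by `P` and by `C_G(P)`. -/
structure BrAdm (M : Ideal AlgInt) (P : Subgroup G) (a : MonoidAlgebra ℂ G) : Prop where
  ring : CoeffsInRing M a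
  invP : ConjInv P a
  invC : ConjInv (Subgroup.centralizer (P : Set G)) a

theorem BrAdm.mul {P : Subgroup G} {a b : MonoidAlgebra ℂ G} (ha : BrAdm M P a)
    (hb : BrAdm M P b) : BrAdm M P (a * b) :=
  ⟨CoeffsInRing.mul ha.ring hb.ring, ConjInv.mul ha.invP hb.invP, ConjInv.mul ha.invC hb.invC⟩

omit [Fintype G] in
theorem BrAdm.add {P : Subgroup G} {a b : MonoidAlgebra ℂ G} (ha : BrAdm M P a)
    (hb : BrAdm M P b) : BrAdm M P (a + b) :=
  ⟨CoeffsInRing.add ha.ring hb.ring, ConjInv.add ha.invP hb.invP, ConjInv.add ha.invC hb.invC⟩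

omit [Fintype G] in
theorem BrAdm.sub {P : Subgroup G} {a b : MonoidAlgebra ℂ G} (ha : BrAdm M P a)
    (hb : BrAdm M P b) : BrAdm M P (a - b) :=
  ⟨CoeffsInRing.sub ha.ring hb.ring, ConjInv.sub ha.invP hb.invP, ConjInv.sub ha.invC hb.invC⟩

omit [Fintype G] in
theorem brAdm_one (P : Subgroup G) : BrAdm M P (1 : MonoidAlgebra ℂ G) :=
  ⟨coeffsInRing_one, conjInv_one _, conjInv_one _⟩

theorem brAdm_of_mem_centerOrder (P : Subgroup G)
    {z : Subalgebra.center ℂ (MonoidAlgebra ℂ G)} (hz : z ∈ centerOrder G M) :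
    BrAdm M P (z : MonoidAlgebra ℂ G) :=
  ⟨hz, conjInv_of_mem_center _ z.2, conjInv_of_mem_center _ z.2⟩

variable {P : Subgroup G} [Fintype (Subgroup.centralizer (P : Set G))]

/-- The truncation of an admissible element, as an element of the centre of the group algebra
of `C_G(P)`. -/
noncomputable def truncC (P : Subgroup G) (a : MonoidAlgebra ℂ G)
    (ha : ConjInv (Subgroup.centralizer (P : Set G)) a) :
    Subalgebra.center ℂ (MonoidAlgebra ℂ (Subgroup.centralizer (P : Set G))) :=
  ⟨trunc _ a, trunc_mem_center _ ha⟩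

omit [Fintype G] in
theorem truncC_mem_centerOrder {a : MonoidAlgebra ℂ G} (ha : BrAdm M P a) :
    truncC P a ha.invC ∈ centerOrder (Subgroup.centralizer (P : Set G)) M :=
  fun g => CoeffsInRing.trunc _ ha.ring g

theorem brOmega_memLocalRing (ξ : IrrCharacter (Subgroup.centralizer (P : Set G)))
    {a : MonoidAlgebra ℂ G} (ha : BrAdm M P a) :
    MemLocalRing M (omega (ξ : Subgroup.centralizer (P : Set G) → ℂ)
      (trunc (Subgroup.centralizer (P : Set G)) a)) := by
  have := omegaHom_memLocalRing ξ (truncC_mem_centerOrder ha)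
  rwa [omegaHom_apply] at this

/-- Central characters in the same block of `C_G(P)` agree modulo the ideal on truncations. -/
theorem brOmega_congr {ξ ξ' : IrrCharacter (Subgroup.centralizer (P : Set G))}
    (h : SameBlock M (ξ : Subgroup.centralizer (P : Set G) → ℂ)
      (ξ' : Subgroup.centralizer (P : Set G) → ℂ)) {a : MonoidAlgebra ℂ G} (ha : BrAdm M P a) :
    MemLocalIdeal M (omega (ξ : Subgroup.centralizer (P : Set G) → ℂ)
        (trunc (Subgroup.centralizer (P : Set G)) a) -
      omega (ξ' : Subgroup.centralizer (P : Set G) → ℂ)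
        (trunc (Subgroup.centralizer (P : Set G)) a)) := by
  have := sameBlock_omegaHom_congr h (truncC_mem_centerOrder ha)
  rwa [omegaHom_apply, omegaHom_apply] at this

/-- The Brauer map followed by a central character is multiplicative modulo the ideal. -/
theorem brOmega_mul {p : ℕ} [Fact p.Prime] (hM : IsPModular p M) (hP : IsPGroup p P)
    (ξ : IrrCharacter (Subgroup.centralizer (P : Set G))) {a b : MonoidAlgebra ℂ G}
    (ha : BrAdm M P a) (hb : BrAdm M P b) :
    MemLocalIdeal M (omega (ξ : Subgroup.centralizer (P : Set G) → ℂ)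
        (trunc (Subgroup.centralizer (P : Set G)) (a * b)) -
      omega (ξ : Subgroup.centralizer (P : Set G) → ℂ)
        (trunc (Subgroup.centralizer (P : Set G)) a) *
        omega (ξ : Subgroup.centralizer (P : Set G) → ℂ)
          (trunc (Subgroup.centralizer (P : Set G)) b)) := by
  rw [← omega_mul ξ (trunc_mem_center _ ha.invC), ← omega_sub]
  apply omega_memLocalIdeal ξ
  · exact Subalgebra.sub_mem _ (trunc_mem_center _ (ha.mul hb).invC)
      (Subalgebra.mul_mem _ (trunc_mem_center _ ha.invC) (trunc_mem_center _ hb.invC))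
  · exact coeffsInIdeal_trunc_mul hM P hP ha.ring hb.ring ha.invP hb.invP

end Main

end Cfsg.Agent.Lib.Helper77
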