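import Cfsg.Agent.Lib.Helper16.MinMax
import Cfsg.Prelude.Def_BrauerPairs

set_option autoImplicit false

namespace Cfsg.Agent.Lib.Helper77

open Cfsg MonoidAlgebra Cfsg.Agent.Lib.Helper16
open scoped ComplexConjugate

section OrbitSum

variable {M : Ideal AlgInt} [hMp : M.IsPrime]

/-- Weighted orbit counting: a `P`-invariant function with values in the local ring which vanishes on
the fixed points of a `p`-group `P` has its total sum in the local ideal. -/
theorem sum_memLocalIdeal_of_pGroup {p : ℕ} [Fact p.Prime] (hM : IsPModular p M)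
    {P : Type*} [Group P] [Finite P] (hP : IsPGroup p P) {X : Type*} [Fintype X] [MulAction P X]
    (f : X → ℂ) (hf : ∀ (u : P) (x : X), f (u • x) = f x)
    (hR : ∀ x, MemLocalRing M (f x))
    (h0 : ∀ x ∈ MulAction.fixedPoints P X, f x = 0) :
    MemLocalIdeal M (∑ x, f x) := by
  classical
  have := Fintype.ofFinite P
  rw [← Finset.sum_fiberwise Finset.univ
    (Quotient.mk (MulAction.orbitRel P X) : X → MulAction.orbitRel.Quotient P X) f]
  apply memLocalIdeal_sum
  intro b _
  obtain ⟨x₀, rfl⟩ := Quotient.exists_rep b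
  have hconst : ∀ a ∈ Finset.univ.filter (fun a : X =>
      (Quotient.mk (MulAction.orbitRel P X) a) = Quotient.mk (MulAction.orbitRel P X) x₀),
      f a = f x₀ := by
    intro a ha
    rw [Finset.mem_filter] at ha
    have h1 : a ∈ MulAction.orbit P x₀ := by
      have := Quotient.exact ha.2
      exact this
    obtain ⟨u, rfl⟩ := h1
    exact hf u x₀
  rw [Finset.sum_congr rfl hconst, Finset.sum_const, nsmul_eq_mul]
  by_cases hx : x₀ ∈ MulAction.fixedPoints P X
  · rw [h0 x₀ hx, mul_zero]
    exact memLocalIdeal_zero hMp.ne_top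
  · apply memLocalIdeal_mul_right _ (hR x₀)
    rw [memLocalIdeal_natCast_iff hM]
    have hcard : (Finset.univ.filter (fun a : X =>
        (Quotient.mk (MulAction.orbitRel P X) a) = Quotient.mk (MulAction.orbitRel P X) x₀)).card
        = Nat.card (MulAction.orbit P x₀) := by
      rw [Nat.card_eq_fintype_card, ← Set.toFinset_card]
      congr 1
      ext a
      simp only [Finset.mem_filter, Finset.mem_univ, true_and, Set.mem_toFinset]
      constructor
      · intro h; exact Quotient.exact h
      · intro h; exact Quotient.sound h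
    rw [hcard]
    obtain ⟨k, hk⟩ := hP.card_orbit x₀
    rw [hk]
    rcases Nat.eq_zero_or_pos k with rfl | hkpos
    · exfalso
      apply hx
      rw [MulAction.mem_fixedPoints_iff_card_orbit_eq_one]
      rw [← Nat.card_eq_fintype_card]
      simpa using hk
    · exact dvd_pow_self p hkpos.ne'

end OrbitSum

section Trunc

variable {G : Type*} [Group G]

/-- Truncation of an element of the group algebra of `G` to a subgroup `H`. -/
noncomputable def trunc (H : Subgroup G) (a : MonoidAlgebra ℂ G) : MonoidAlgebra ℂ H :=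
  MonoidAlgebra.ofCoeff (a.coeff.comapDomain Subtype.val Subtype.val_injective.injOn)

@[simp] theorem coeff_trunc (H : Subgroup G) (a : MonoidAlgebra ℂ G) (h : H) :
    (trunc H a).coeff h = a.coeff (h : G) := by
  simp [trunc]

theorem trunc_add (H : Subgroup G) (a b : MonoidAlgebra ℂ G) :
    trunc H (a + b) = trunc H a + trunc H b := by
  ext h; simp [coeff_add]

theorem trunc_sub (H : Subgroup G) (a b : MonoidAlgebra ℂ G) :
    trunc H (a - b) = trunc H a - trunc H b := by
  ext h; simp [coeff_sub]

theorem trunc_zero (H : Subgroup G) : trunc H (0 : MonoidAlgebra ℂ G) = 0 := by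
  ext h; simp

theorem trunc_sum {ι : Type*} (H : Subgroup G) (s : Finset ι) (f : ι → MonoidAlgebra ℂ G) :
    trunc H (∑ i ∈ s, f i) = ∑ i ∈ s, trunc H (f i) := by
  classical
  induction s using Finset.induction_on with
  | empty => simp [trunc_zero]
  | insert a s ha ih => rw [Finset.sum_insert ha, Finset.sum_insert ha, trunc_add, ih]

theorem trunc_one (H : Subgroup G) : trunc H (1 : MonoidAlgebra ℂ G) = 1 := by
  classical
  ext h
  rw [coeff_trunc, coeff_one_apply, coeff_one_apply]
  simp

/-- Invariance of the coefficient function under conjugation by the elements of `S`. -/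
def ConjInv (S : Subgroup G) (a : MonoidAlgebra ℂ G) : Prop :=
  ∀ u ∈ S, ∀ x : G, a.coeff (u * x * u⁻¹) = a.coeff x

theorem conjInv_iff_commute (S : Subgroup G) (a : MonoidAlgebra ℂ G) :
    ConjInv S a ↔ ∀ u ∈ S, single u (1 : ℂ) * a = a * single u 1 := by
  constructor
  · intro h u hu
    ext x
    rw [coeff_single_mul_apply, coeff_mul_single_apply, one_mul, mul_one, ← h u hu (u⁻¹ * x)]
    congr 1
    group
  · intro h u hu x
    have h1 := congrArg (fun z => z.coeff (u * x)) (h u hu)
    simp only [coeff_single_mul_apply, coeff_mul_single_apply, one_mul, mul_one] at h1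
    rw [← h1]
    congr 1
    group

theorem ConjInv.mul {S : Subgroup G} {a b : MonoidAlgebra ℂ G} (ha : ConjInv S a)
    (hb : ConjInv S b) : ConjInv S (a * b) := by
  rw [conjInv_iff_commute] at *
  intro u hu
  rw [← mul_assoc, ha u hu, mul_assoc, hb u hu, mul_assoc]

theorem ConjInv.add {S : Subgroup G} {a b : MonoidAlgebra ℂ G} (ha : ConjInv S a)
    (hb : ConjInv S b) : ConjInv S (a + b) := by
  intro u hu x
  rw [coeff_add, Finsupp.add_apply, Finsupp.add_apply, ha u hu, hb u hu]

theorem ConjInv.sub {S : Subgroup G} {a b : MonoidAlgebra ℂ G} (ha : ConjInv S a)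
    (hb : ConjInv S b) : ConjInv S (a - b) := by
  intro u hu x
  rw [coeff_sub, Finsupp.sub_apply, Finsupp.sub_apply, ha u hu, hb u hu]

theorem ConjInv.mono {S T : Subgroup G} (h : S ≤ T) {a : MonoidAlgebra ℂ G} (ha : ConjInv T a) :
    ConjInv S a := fun u hu x => ha u (h hu) x

theorem conjInv_of_mem_center (S : Subgroup G) {a : MonoidAlgebra ℂ G}
    (ha : a ∈ Subalgebra.center ℂ (MonoidAlgebra ℂ G)) : ConjInv S a :=
  fun u _ x => coeff_conj_of_mem_center ha x u

theorem conjInv_one (S : Subgroup G) : ConjInv S (1 : MonoidAlgebra ℂ G) :=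
  conjInv_of_mem_center S (Subalgebra.one_mem _)

/-- The truncation to `H` of an element invariant under conjugation by `H` is central. -/
theorem trunc_mem_center (H : Subgroup G) {a : MonoidAlgebra ℂ G} (ha : ConjInv H a) :
    trunc H a ∈ Subalgebra.center ℂ (MonoidAlgebra ℂ H) := by
  apply mem_center_of_coeff_conj
  intro g h
  rw [coeff_trunc, coeff_trunc]
  exact ha h h.2 g

end Trunc

section Main

variable {G : Type*} [Group G] [Fintype G] {M : Ideal AlgInt} [hMp : M.IsPrime]

theorem coeff_mul_eq_sum_left (a b : MonoidAlgebra ℂ G) (z : G) :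
    (a * b).coeff z = ∑ x : G, a.coeff x * b.coeff (x⁻¹ * z) := by
  rw [coeff_mul_apply_left, Finsupp.sum_fintype _ _ (by simp)]

omit [Fintype G] hMp in
theorem CoeffsInRing.trunc (H : Subgroup G) {a : MonoidAlgebra ℂ G} (ha : CoeffsInRing M a) :
    CoeffsInRing M (trunc H a) := fun h => by
  rw [coeff_trunc]; exact ha _

omit [Fintype G] hMp in
theorem CoeffsInIdeal.trunc (H : Subgroup G) {a : MonoidAlgebra ℂ G} (ha : CoeffsInIdeal M a) :
    CoeffsInIdeal M (trunc H a) := fun h => by
  rw [coeff_trunc]; exact ha _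

end Main

end Cfsg.Agent.Lib.Helper77
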