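import Cfsg.Agent.Lib.Helper77.HarrisKnorrUnique
import Cfsg.Agent.Lib.Helper77.NrmAct

set_option autoImplicit false
set_option linter.unusedSectionVars false
set_option linter.style.haveILetI false

namespace Cfsg.Agent.Lib.Helper77

open Cfsg MonoidAlgebra Cfsg.Agent.Lib.Helper16

universe u

section ConjK

variable {G : Type u} [Group G] {M : Ideal AlgInt}

/-- Lying over a character of `K ≤ H` is invariant under conjugating that character by an element
of `H` normalizing `K`. -/
theorem classInner_res_irrPull_normalizer [Fintype G] {K H : Subgroup G} (hKH : K ≤ H) [Fintype K]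
    (u : Subgroup.normalizer (K : Set G)) (huH : (u : G) ∈ H) (ψ : IrrCharacter H)
    (ξ : IrrCharacter K) :
    classInner (fun k : K => (ψ : H → ℂ) ⟨(k : G), hKH k.2⟩)
        (irrPull (K.normalizerMonoidHom u) ξ : K → ℂ) =
      classInner (fun k : K => (ψ : H → ℂ) ⟨(k : G), hKH k.2⟩) (ξ : K → ℂ) := by
  rw [← Cfsg.Agent.Lib.Helper81.classInner_comp_equiv_gen (K.normalizerMonoidHom u).toEquiv
    (fun k : K => (ψ : H → ℂ) ⟨(k : G), hKH k.2⟩) (ξ : K → ℂ)]
  congr 1
  funext k
  show (ψ : H → ℂ) ⟨(k : G), hKH k.2⟩ =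
    (ψ : H → ℂ) ⟨((K.normalizerMonoidHom u k : K) : G), hKH (K.normalizerMonoidHom u k).2⟩
  have : (⟨((K.normalizerMonoidHom u k : K) : G), hKH (K.normalizerMonoidHom u k).2⟩ : H) =
      (⟨(u : G), huH⟩ : H) * ⟨(k : G), hKH k.2⟩ * (⟨(u : G), huH⟩ : H)⁻¹ := by
    apply Subtype.ext
    rfl
  rw [this, irr_conj]

/-- Conjugating both blocks by `u` preserves `IsInducedBlockIn` from `K` to a normal subgroup
`N`. -/
theorem isInducedBlockIn_pullBlock_conj (N K : Subgroup G) [hN : N.Normal]
    (u : Subgroup.normalizer (K : Set G)) {e : Set (IrrCharacter K)} {d : Set (IrrCharacter N)}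
    (h : IsInducedBlockIn M N K e d) :
    IsInducedBlockIn M N K (pullBlock (K.normalizerMonoidHom u) e)
      (pullBlock (MulAut.conjNormal (H := N) (u : G)) d) := by
  obtain ⟨he, hd, hcong⟩ := h
  refine ⟨isPBlock_pullBlock _ he, isPBlock_pullBlock _ hd, ?_⟩
  rintro _ ⟨ξ, hξ, rfl⟩ _ ⟨θ, hθ, rfl⟩ n
  have h1 : centralChar (irrPull (MulAut.conjNormal (H := N) (u : G)) θ : N → ℂ) n =
      centralChar (θ : N → ℂ) (MulAut.conjNormal (H := N) (u : G) n) :=
    centralChar_comp_mulEquiv (MulAut.conjNormal (H := N) (u : G)) (θ : N → ℂ) n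
  have h2 : inducedCentralCharIn N K (irrPull (K.normalizerMonoidHom u) ξ : K → ℂ) (n : G) =
      inducedCentralCharIn N K (ξ : K → ℂ)
        ((MulAut.conjNormal (H := N) (u : G) n : N) : G) := by
    unfold inducedCentralCharIn
    apply finsum_mem_eq_of_bijOn (K.normalizerMonoidHom u)
    · refine ⟨?_, (K.normalizerMonoidHom u).injective.injOn, ?_⟩
      · rintro k ⟨x, hx⟩
        refine ⟨MulAut.conjNormal (H := N) (u : G) x, ?_⟩
        rw [MulAut.conjNormal_apply, MulAut.conjNormal_apply, ← hx]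
        show (u : G) * x * (u : G)⁻¹ * ((u : G) * k * (u : G)⁻¹) * ((u : G) * x * (u : G)⁻¹)⁻¹ = _
        group
      · rintro k' ⟨x, hx⟩
        refine ⟨(K.normalizerMonoidHom u).symm k', ⟨(MulAut.conjNormal (H := N) (u : G)).symm x, ?_⟩,
          MulEquiv.apply_symm_apply _ _⟩
        rw [MulAut.conjNormal_symm_apply]
        have e1 : (((K.normalizerMonoidHom u).symm k' : K) : G) = (u : G)⁻¹ * k' * (u : G) := by
          have : K.normalizerMonoidHom u ((K.normalizerMonoidHom u).symm k') = k' :=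
            MulEquiv.apply_symm_apply _ _
          have h3 := congrArg (Subtype.val : K → G) this
          have h4 : ((K.normalizerMonoidHom u ((K.normalizerMonoidHom u).symm k') : K) : G) =
              (u : G) * (((K.normalizerMonoidHom u).symm k' : K) : G) * (u : G)⁻¹ := rfl
          rw [h4] at h3
          rw [← h3]
          group
        rw [e1]
        rw [MulAut.conjNormal_apply] at hx
        have e2 : (n : G) = (u : G)⁻¹ * ((u : G) * n * (u : G)⁻¹) * (u : G) := by group
        rw [e2, ← hx]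
        group
    · intro k _
      rw [irrPull_apply, irrPull_apply, map_one]
  rw [h1, h2]
  exact hcong ξ hξ θ hθ _

/-- First main theorem uniqueness for a subgroup equal to the normalizer. -/
theorem eq_of_isInducedBlock_of_eq_normalizer [Fintype G] {p : ℕ} [Fact p.Prime]
    (hM : IsPModular p M) (D X : Subgroup G) (hD : IsPGroup p D)
    (hX : X = Subgroup.normalizer (D : Set G)) [Fintype X]
    {B : Set (IrrCharacter G)} (hB : IsPBlock M B) {b₁ b₂ : Set (IrrCharacter X)}
    (hb₁ : IsPBlock M b₁) (hD₁ : IsDefectGroup p M b₁ (D.subgroupOf X))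
    (hind₁ : IsInducedBlock M X b₁ B) (hb₂ : IsPBlock M b₂)
    (hind₂ : IsInducedBlock M X b₂ B) : b₁ = b₂ := by
  subst hX
  exact firstMain_unique hM D hD B hB hb₁ hD₁ hind₁ hb₂ hind₂

end ConjK

end Cfsg.Agent.Lib.Helper77
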