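import Cfsg.Agent.Lib.Helper77.ExtFirstMainUp
import Cfsg.Agent.S0965

set_option autoImplicit false
set_option linter.unusedSectionVars false
set_option linter.style.haveILetI false

namespace Cfsg.Agent.Lib.Helper77

open Cfsg MonoidAlgebra Cfsg.Agent.Lib.Helper16

universe u

section CoverInd

variable {G : Type u} [Group G] [Fintype G] {M : Ideal AlgInt}

/-- `H ∩ N`, seen inside `H`, is normal. -/
theorem inf_subgroupOf_normal (H N : Subgroup G) [hN : N.Normal] :
    ((H ⊓ N).subgroupOf H).Normal := by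
  rw [Subgroup.inf_subgroupOf_left]
  infer_instance

/-- **Covering is compatible with induction.**  If the block `c` of `H` covers the block `e` of
`H ∩ N`, `c` induces `B` in `G` and `e` induces `d` in `N`, then `B` covers `d`. -/
theorem covers_of_isInducedBlock {p : ℕ} [Fact p.Prime] (hM : IsPModular p M)
    (N H : Subgroup G) [hN : N.Normal] [Fintype N] [Fintype H] [Fintype ↥(H ⊓ N)]
    {c : Set (IrrCharacter H)} {B : Set (IrrCharacter G)} (hind : IsInducedBlock M H c B)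
    {e : Set (IrrCharacter ↥(H ⊓ N))} {d : Set (IrrCharacter N)}
    (hed : IsInducedBlockIn M N (H ⊓ N) e d)
    (hcov : ∃ ψ ∈ c, ∃ ξ ∈ e, classInner (fun k : ↥(H ⊓ N) =>
      (ψ : H → ℂ) ⟨(k : G), (inf_le_left : H ⊓ N ≤ H) k.2⟩) (ξ : ↥(H ⊓ N) → ℂ) ≠ 0) :
    ∃ χ ∈ B, ∃ θ ∈ d, classInner (fun n : N => (χ : G → ℂ) n) (θ : N → ℂ) ≠ 0 := by
  classical
  haveI hMp := isPModular_isPrime hM
  have hc : IsPBlock M c := hind.1
  have hB : IsPBlock M B := hind.2.1
  have he : IsPBlock M e := hed.1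
  have hd : IsPBlock M d := hed.2.1
  have hKH : H ⊓ N ≤ H := inf_le_left
  have hKN : H ⊓ N ≤ N := inf_le_right
  haveI : ((H ⊓ N).subgroupOf H).Normal := inf_subgroupOf_normal H N
  haveI : Fintype ↥((H ⊓ N).subgroupOf H) := Fintype.ofFinite _
  haveI : Fintype ↥((H ⊓ N).subgroupOf N) := Fintype.ofFinite _
  -- covering in `H`, as congruences
  have hcov' : ∃ ψ ∈ c, ∃ θ ∈ pullBlock (subEquiv hKH) e,
      classInner (fun n : ↥((H ⊓ N).subgroupOf H) => (ψ : H → ℂ) n) (θ : _ → ℂ) ≠ 0 := by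
    obtain ⟨ψ, hψ, ξ, hξ, h⟩ := hcov
    refine ⟨ψ, hψ, irrPull (subEquiv hKH) ξ, irrPull_mem_pullBlock _ hξ, ?_⟩
    rwa [classInner_irrPull_subEquiv hKH (ψ : H → ℂ) ξ]
  have hP := (Cfsg.Agent.S0965.result p M hM ((H ⊓ N).subgroupOf H) c hc
    (pullBlock (subEquiv hKH) e) (isPBlock_pullBlock _ he)).mp hcov'
  have hed' : IsInducedBlock M ((H ⊓ N).subgroupOf N) (pullBlock (subEquiv hKN) e) d :=
    (isInducedBlock_subEquiv_iff hKN e d).mpr hed
  apply (Cfsg.Agent.S0965.result p M hM N B hB d hd).mpr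
  intro χ hχ θ hθ n
  obtain ⟨ψ, hψ⟩ := IsPBlock_nonempty hMp.ne_top hc
  obtain ⟨ξ, hξ⟩ := IsPBlock_nonempty hMp.ne_top he
  have hz : classSumC (n : G) ∈ centerOrder G M := classSumC_mem_centerOrder (M := M) _
  -- (1)
  have e1 := isInducedBlock_congr H hind hψ hχ hz
  rw [omegaHom_classSumC] at e1
  -- (2)
  have hzH : resAlgC H (classSumC (n : G)) ∈ centerOrder H M := resAlgC_mem_centerOrder H hz
  have hsupp : ∀ h : H, h ∉ (H ⊓ N).subgroupOf H →
      ((resAlgC H (classSumC (n : G)) : Subalgebra.center ℂ (MonoidAlgebra ℂ H)) :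
        MonoidAlgebra ℂ H).coeff h = 0 := by
    intro h hh
    show (resAlg H (classSum (n : G))).coeff h = 0
    rw [coeff_resAlg]
    apply coeff_classSum_of_not_mem N n
    intro hhN
    apply hh
    rw [Subgroup.mem_subgroupOf]
    exact ⟨h.2, hhN⟩
  have e2 := omega_sub_omega_resAlg_memLocalIdeal (M := M) ((H ⊓ N).subgroupOf H) ψ
    (irrPull (subEquiv hKH) ξ : _ → ℂ)
    (fun y => hP ψ hψ _ (irrPull_mem_pullBlock _ hξ) y) hzH hsupp
  -- (3)
  have hzN : resAlgC N (classSumC (n : G)) ∈ centerOrder N M := resAlgC_mem_centerOrder N hz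
  have e3 := isInducedBlock_congr ((H ⊓ N).subgroupOf N) hed'
    (irrPull_mem_pullBlock (subEquiv hKN) hξ) hθ hzN
  have e3' : omegaHom θ (resAlgC N (classSumC (n : G))) =
      inducedCentralChar N (θ : N → ℂ) (n : G) := by
    rw [omegaHom_apply]
    exact omega_resAlg_classSum N _ _
  rw [e3'] at e3
  -- (4)
  have e4 : omega (irrPull (subEquiv hKH) ξ : _ → ℂ) (resAlg ((H ⊓ N).subgroupOf H)
      ((resAlgC H (classSumC (n : G)) : Subalgebra.center ℂ (MonoidAlgebra ℂ H)) :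
        MonoidAlgebra ℂ H)) =
      omega (irrPull (subEquiv hKN) ξ : _ → ℂ) (resAlg ((H ⊓ N).subgroupOf N)
      ((resAlgC N (classSumC (n : G)) : Subalgebra.center ℂ (MonoidAlgebra ℂ N)) :
        MonoidAlgebra ℂ N)) := by
    unfold omega
    rw [irrPull_apply, irrPull_apply, map_one, map_one]
    congr 1
    apply Fintype.sum_equiv ((subEquiv hKH).toEquiv.trans (subEquiv hKN).toEquiv.symm)
    intro x
    rw [irrPull_apply, irrPull_apply, coeff_resAlg, coeff_resAlg]
    show (resAlg H (classSum (n : G))).coeff (x : H) * _ =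
      (resAlg N (classSum (n : G))).coeff _ * _
    rw [coeff_resAlg, coeff_resAlg]
    simp only [Equiv.trans_apply, MulEquiv.toEquiv_eq_coe, MulEquiv.coe_toEquiv,
      MulEquiv.coe_toEquiv_symm, MulEquiv.apply_symm_apply]
    rfl
  rw [e4] at e2
  -- combine
  have h12 := memLocalIdeal_sub_trans (memLocalIdeal_sub_comm.mp e1) e2
  exact memLocalIdeal_sub_trans h12 e3

end CoverInd

end Cfsg.Agent.Lib.Helper77
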