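import Mathlib
import Cfsg.Agent.Lib.Helper3.DefOneGenF
import Cfsg.Agent.Lib.Helper76.PConj
import Cfsg.Agent.Lib.Helper81.IrrTwist

/-!
# Defect-one blocks, Galois action: basic facts (helper77)

`σ` a field automorphism of `ℂ` fixing the `n`-th roots of unity.

* `sigma_character_eq`, `sigma_conj_character_eq`: `σ` fixes character values (and their complex
  conjugates) at elements of order dividing `n`;
* `galIrr σ χ`: the Galois conjugate as an `IrrCharacter`;
* `fpart_galois`: `fpart (σ ∘ χ) ϑ y = σ (fpart χ ϑ y)`.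
-/

set_option autoImplicit false
set_option linter.unusedSectionVars false

namespace Cfsg.Agent.Lib.Helper77.DefOneGal

open Cfsg Cfsg.Agent.Lib.Helper78 Cfsg.Agent.Lib.Helper16 Cfsg.Agent.Lib.Helper3.DefOneGen
open scoped ComplexConjugate IsMulCommutative

section Basic

variable {H : Type*} [Group H] [Finite H]

/-- `σ` fixes the character values at elements of order dividing `n`. -/
theorem sigma_character_eq {χ : H → ℂ} (hχ : IsCharacter H χ) (n : ℕ) (hn : 0 < n) (σ : ℂ ≃+* ℂ)
    (hσ : σ (Complex.exp (2 * Real.pi * Complex.I / (n : ℕ))) =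
      Complex.exp (2 * Real.pi * Complex.I / (n : ℕ)))
    (x : H) (hx : x ^ n = 1) : σ (χ x) = χ x := by
  obtain ⟨d, ρ, rfl⟩ := hχ
  exact Cfsg.Agent.Lib.Helper76.ringEquiv_apply_character_eq ρ n hn σ hσ x hx

/-- `σ` fixes the conjugates of the character values at elements of order dividing `n`. -/
theorem sigma_conj_character_eq {χ : H → ℂ} (hχ : IsCharacter H χ) (n : ℕ) (hn : 0 < n)
    (σ : ℂ ≃+* ℂ)
    (hσ : σ (Complex.exp (2 * Real.pi * Complex.I / (n : ℕ))) =
      Complex.exp (2 * Real.pi * Complex.I / (n : ℕ)))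
    (x : H) (hx : x ^ n = 1) : σ (conj (χ x)) = conj (χ x) := by
  obtain ⟨d, ρ, rfl⟩ := hχ
  rw [← Cfsg.Agent.Lib.Helper76.character_inv_eq_conj ρ x]
  apply Cfsg.Agent.Lib.Helper76.ringEquiv_apply_character_eq ρ n hn σ hσ
  rw [inv_pow, hx, inv_one]

/-- The Galois conjugate of an irreducible character. -/
noncomputable def galIrr (σ : ℂ ≃+* ℂ) (χ : IrrCharacter H) : IrrCharacter H :=
  ⟨fun g => σ ((χ : H → ℂ) g), Cfsg.Agent.Lib.Helper81.isIrrCharacter_galois χ.2 σ⟩

theorem galIrr_apply (σ : ℂ ≃+* ℂ) (χ : IrrCharacter H) (g : H) :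
    (galIrr σ χ : H → ℂ) g = σ ((χ : H → ℂ) g) := rfl

theorem galIrr_symm (σ : ℂ ≃+* ℂ) (χ : IrrCharacter H) : galIrr σ.symm (galIrr σ χ) = χ := by
  apply Subtype.ext
  funext g
  rw [galIrr_apply, galIrr_apply, RingEquiv.symm_apply_apply]

end Basic

section Order

variable {G : Type*} [Group G] [Finite G] {p : ℕ} [hp : Fact p.Prime]

/-- a `p`-regular element has order dividing the `p'`-part of `|G|` -/
theorem pow_ordCompl_eq_one {g : G} (hg : ¬ p ∣ orderOf g) :
    g ^ (Nat.card G / p ^ (Nat.card G).factorization p) = 1 := by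
  apply orderOf_dvd_iff_pow_eq_one.mp
  have h1 : orderOf g ∣ Nat.card G := orderOf_dvd_natCard g
  have h2 : p ^ (Nat.card G).factorization p * (Nat.card G / p ^ (Nat.card G).factorization p) =
      Nat.card G := Nat.ordProj_mul_ordCompl_eq_self (Nat.card G) p
  rw [← h2] at h1
  have hcop : Nat.Coprime (orderOf g) (p ^ (Nat.card G).factorization p) := by
    apply Nat.Coprime.pow_right
    exact ((Nat.Prime.coprime_iff_not_dvd hp.out).mpr hg).symm
  exact hcop.dvd_of_dvd_mul_left h1

theorem ordCompl_pos : 0 < Nat.card G / p ^ (Nat.card G).factorization p :=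
  Nat.ordCompl_pos p Nat.card_pos.ne'

end Order

section Fpart

variable {G : Type*} [Group G] [Fintype G] {p : ℕ} [hp : Fact p.Prime]

open scoped Classical in
/-- `fpart` commutes with a Galois automorphism fixing the `p'`-roots of unity. -/
theorem fpart_galois (H : Subgroup G) [Fintype H] (σ : ℂ ≃+* ℂ)
    (hσ : σ (Complex.exp (2 * Real.pi * Complex.I /
      ((Nat.card G / p ^ (Nat.card G).factorization p : ℕ) : ℕ))) =
      Complex.exp (2 * Real.pi * Complex.I /
        ((Nat.card G / p ^ (Nat.card G).factorization p : ℕ) : ℕ)))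
    (F : G → ℂ) {ϑ : H → ℂ} (hϑ : IsCharacter H ϑ) (y : G) :
    fpart p H (fun g => σ (F g)) ϑ y = σ (fpart p H F ϑ y) := by
  unfold fpart
  rw [map_mul, map_div₀, map_natCast, map_natCast, map_sum]
  congr 1
  apply Finset.sum_congr rfl
  intro s _
  split_ifs with hs
  · rw [map_zero]
  · rw [map_mul]
    congr 1
    have hs' : ¬ p ∣ orderOf (s : G) := by rwa [Subgroup.orderOf_coe]
    have h1 : s ^ (Nat.card G / p ^ (Nat.card G).factorization p) = 1 := by
      apply Subtype.ext
      rw [Subgroup.coe_pow, Subgroup.coe_one]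
      exact pow_ordCompl_eq_one hs'
    exact (sigma_conj_character_eq hϑ _ ordCompl_pos σ hσ s h1).symm

end Fpart

end Cfsg.Agent.Lib.Helper77.DefOneGal
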