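import Mathlib
import Cfsg.Agent.Lib.Helper16.Osima
import Cfsg.Agent.Lib.Helper75.GaloisStable
import Cfsg.Agent.Lib.Helper77.DefOneGalA

/-!
# Blocks are determined by the values on `p`-regular elements (helper77)

`mem_block_of_eq_on_pRegular`: if `χ ∈ B` and the irreducible character `ψ` agrees with `χ` on all
`p`-regular elements then `ψ ∈ B` (Osima: the block idempotent is supported on `p`-regular
elements).  `galIrr_mem_block`: blocks are stable under the Galois automorphisms fixing the
`p'`-roots of unity.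
-/

set_option autoImplicit false
set_option linter.unusedSectionVars false

namespace Cfsg.Agent.Lib.Helper77.DefOneGal

open Cfsg Cfsg.Agent.Lib.Helper78 Cfsg.Agent.Lib.Helper16
open scoped ComplexConjugate

variable {G : Type*} [Group G] [Fintype G] {p : ℕ} [hp : Fact p.Prime] {M : Ideal AlgInt}

/-- MODULE G-BLK -/
theorem mem_block_of_eq_on_pRegular (hM : IsPModular p M) {B : Set (IrrCharacter G)}
    (hB : IsPBlock M B) {χ ψ : IrrCharacter G} (hχ : χ ∈ B)
    (h : ∀ g : G, ¬ p ∣ orderOf g → (ψ : G → ℂ) g = (χ : G → ℂ) g) : ψ ∈ B := by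
  classical
  by_contra hψ
  have h1 := Cfsg.Agent.Lib.Helper16.sum_blockCoeff_mul B ψ
  have h2 := Cfsg.Agent.Lib.Helper16.sum_blockCoeff_mul B χ
  rw [if_neg hψ] at h1
  rw [if_pos hχ] at h2
  have h3 : ∑ g : G, blockCoeff B g * (ψ : G → ℂ) g = ∑ g : G, blockCoeff B g * (χ : G → ℂ) g := by
    apply Finset.sum_congr rfl
    intro g _
    by_cases hg : p ∣ orderOf g
    · rw [Cfsg.Agent.Lib.Helper75.blockCoeff_eq_zero_of_singular hM hB g hg, zero_mul, zero_mul]
    · rw [h g hg]
  rw [h1, h2] at h3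
  exact Cfsg.Agent.Lib.Helper79.irr_apply_one_ne_zero χ h3.symm

/-- Blocks are stable under Galois automorphisms fixing the `p'`-roots of unity. -/
theorem galIrr_mem_block (hM : IsPModular p M) {B : Set (IrrCharacter G)}
    (hB : IsPBlock M B) {χ : IrrCharacter G} (hχ : χ ∈ B) (σ : ℂ ≃+* ℂ)
    (hσ : σ (Complex.exp (2 * Real.pi * Complex.I /
      ((Nat.card G / p ^ (Nat.card G).factorization p : ℕ) : ℕ))) =
      Complex.exp (2 * Real.pi * Complex.I /
        ((Nat.card G / p ^ (Nat.card G).factorization p : ℕ) : ℕ))) :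
    galIrr σ χ ∈ B := by
  apply mem_block_of_eq_on_pRegular hM hB hχ
  intro g hg
  rw [galIrr_apply]
  exact sigma_character_eq (IsIrrCharacter.isCharacter χ.2) _ ordCompl_pos σ hσ g
    (pow_ordCompl_eq_one hg)

end Cfsg.Agent.Lib.Helper77.DefOneGal
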