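import Mathlib
import Cfsg.Agent.Lib.Helper3.DefOneGenData
import Cfsg.Agent.Lib.Helper77.DefOneGalA
import Cfsg.Agent.Lib.Helper77.DefOneGalBlk
import Cfsg.Agent.Lib.Helper74.DefOneGalExp
import Cfsg.Agent.Lib.Helper78.DefOneGalSing
import Cfsg.Agent.Lib.Helper78.DefOneGalVan
import Cfsg.Agent.Lib.Helper75.GaloisPow

/-!
# Defect-one blocks: the Galois action (helper77)

* `eq_of_fpart_eq` (KEY): two characters of `B` which agree on `p`-regular elements and have the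
  same `fpart · θ` on `P ∖ 1` are equal;
* `galois_fixed_of_fpart_int` (GX): a character of `B` with rational `fpart` on `P ∖ 1` is
  `p`-rational.
-/

set_option autoImplicit false
set_option linter.unusedSectionVars false

namespace Cfsg.Agent.Lib.Helper77.DefOneGal

open Cfsg Cfsg.Agent.Lib.Helper78 Cfsg.Agent.Lib.Helper16 Cfsg.Agent.Lib.Helper3.DefOneGen
open scoped ComplexConjugate IsMulCommutative

section Key

variable {G : Type*} [Group G] [Fintype G] {p : ℕ} [hp : Fact p.Prime] (P : Sylow p G)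
  (hP : Nat.card P = p)
variable [Fintype ↥(Subgroup.centralizer ((P : Subgroup G) : Set G))] [Fintype ↥(P : Subgroup G)]
  [IsMulCommutative ↥(P : Subgroup G)] [Fintype (↥(P : Subgroup G) →* ℂˣ)]
  [Fintype ↥(Subgroup.normalizer ((P : Subgroup G) : Set G))]
variable {M : Ideal AlgInt}

include hP in
/-- KEY -/
theorem eq_of_fpart_eq (hM : IsPModular p M) {B : Set (IrrCharacter G)}
    (hB : IsPBlock M B) (hBP : IsDefectGroup p M B (P : Subgroup G))
    (θ : IrrCharacter ↥(Subgroup.centralizer ((P : Subgroup G) : Set G)))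
    (hθ : InKer (Subgroup.inclusion (le_centralizer_of_card_prime hP))
      (θ : ↥(Subgroup.centralizer ((P : Subgroup G) : Set G)) → ℂ))
    (hind : IsInducedBlock M (Subgroup.centralizer ((P : Subgroup G) : Set G))
      (blockOf M (θ : ↥(Subgroup.centralizer ((P : Subgroup G) : Set G)) → ℂ)) B)
    {χ χ' : IrrCharacter G} (hχ : χ ∈ B) (hχ' : χ' ∈ B)
    (hreg : ∀ g : G, ¬ p ∣ orderOf g → (χ' : G → ℂ) g = (χ : G → ℂ) g)
    (hf : ∀ y : G, y ∈ (P : Subgroup G) → y ≠ 1 →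
      fpart p (Subgroup.centralizer ((P : Subgroup G) : Set G)) (χ' : G → ℂ)
        (θ : ↥(Subgroup.centralizer ((P : Subgroup G) : Set G)) → ℂ) y =
      fpart p (Subgroup.centralizer ((P : Subgroup G) : Set G)) (χ : G → ℂ)
        (θ : ↥(Subgroup.centralizer ((P : Subgroup G) : Set G)) → ℂ) y) :
    χ' = χ := by
  classical
  apply Subtype.ext
  funext g
  by_cases hg : p ∣ orderOf g
  · obtain ⟨u, y, s, hyP, hy1, hs, hconj⟩ := exists_conj_mul_of_singular P hP g hg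
    have h1 : ∀ ψ : IrrCharacter G, (ψ : G → ℂ) g = (ψ : G → ℂ) (y * (s : G)) := by
      intro ψ
      rw [← hconj]
      exact (isClassFunction_irr ψ g u).symm
    rw [h1 χ', h1 χ, fpart_expansion P hP (isClassFunction_irr χ') hyP s hs,
      fpart_expansion P hP (isClassFunction_irr χ) hyP s hs]
    apply Finset.sum_congr rfl
    intro ϑ hϑ
    have hϑK := (Finset.mem_filter.mp hϑ).2
    congr 1
    by_cases h0 : fpart p (Subgroup.centralizer ((P : Subgroup G) : Set G)) (χ' : G → ℂ)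
        (ϑ : ↥(Subgroup.centralizer ((P : Subgroup G) : Set G)) → ℂ) y = 0 ∧
        fpart p (Subgroup.centralizer ((P : Subgroup G) : Set G)) (χ : G → ℂ)
        (ϑ : ↥(Subgroup.centralizer ((P : Subgroup G) : Set G)) → ℂ) y = 0
    · rw [h0.1, h0.2]
    · have hex : ∃ (n : G) (hn : n ∈ Subgroup.normalizer ((P : Subgroup G) : Set G)),
          ϑ = thetaConj P n hn θ := by
        by_cases h0' : fpart p (Subgroup.centralizer ((P : Subgroup G) : Set G)) (χ' : G → ℂ)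
            (ϑ : ↥(Subgroup.centralizer ((P : Subgroup G) : Set G)) → ℂ) y = 0
        · have h2 : fpart p (Subgroup.centralizer ((P : Subgroup G) : Set G)) (χ : G → ℂ)
              (ϑ : ↥(Subgroup.centralizer ((P : Subgroup G) : Set G)) → ℂ) y ≠ 0 :=
            fun h => h0 ⟨h0', h⟩
          exact exists_conj_of_fpart_ne_zero P hP hM hB hBP θ hθ hind ϑ hϑK hχ hyP hy1 h2
        · exact exists_conj_of_fpart_ne_zero P hP hM hB hBP θ hθ hind ϑ hϑK hχ' hyP hy1 h0'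
      obtain ⟨n, hn, rfl⟩ := hex
      rw [← fpart_conj P (isClassFunction_irr χ') n hn θ y,
        ← fpart_conj P (isClassFunction_irr χ) n hn θ y]
      apply hf
      · exact (Subgroup.mem_normalizer_iff.mp hn y).mp hyP
      · intro h
        apply hy1
        have h3 : n * y * n⁻¹ = n * 1 * n⁻¹ := by rw [h]; group
        exact mul_left_cancel (mul_right_cancel h3)
  · exact hreg g hg

include hP in
/-- GX: a character of `B` whose `fpart` is a rational number on `P ∖ 1` is `p`-rational. -/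
theorem galois_fixed_of_fpart_int (hM : IsPModular p M) {B : Set (IrrCharacter G)}
    (hB : IsPBlock M B) (hBP : IsDefectGroup p M B (P : Subgroup G))
    (θ : IrrCharacter ↥(Subgroup.centralizer ((P : Subgroup G) : Set G)))
    (hθ : InKer (Subgroup.inclusion (le_centralizer_of_card_prime hP))
      (θ : ↥(Subgroup.centralizer ((P : Subgroup G) : Set G)) → ℂ))
    (hind : IsInducedBlock M (Subgroup.centralizer ((P : Subgroup G) : Set G))
      (blockOf M (θ : ↥(Subgroup.centralizer ((P : Subgroup G) : Set G)) → ℂ)) B)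
    {χ : IrrCharacter G} (hχ : χ ∈ B) (a : ℚ)
    (ha : ∀ y : G, y ∈ (P : Subgroup G) → y ≠ 1 →
      fpart p (Subgroup.centralizer ((P : Subgroup G) : Set G)) (χ : G → ℂ)
        (θ : ↥(Subgroup.centralizer ((P : Subgroup G) : Set G)) → ℂ) y = (a : ℂ))
    (σ : ℂ ≃+* ℂ)
    (hσ : σ (Complex.exp (2 * Real.pi * Complex.I /
      ((Nat.card G / p ^ (Nat.card G).factorization p : ℕ) : ℕ))) =
      Complex.exp (2 * Real.pi * Complex.I /
        ((Nat.card G / p ^ (Nat.card G).factorization p : ℕ) : ℕ)))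
    (ψ : IrrCharacter G) (hψ : (ψ : G → ℂ) = fun g => σ ((χ : G → ℂ) g)) : ψ = χ := by
  have hψeq : ψ = galIrr σ χ := Subtype.ext hψ
  rw [hψeq]
  apply eq_of_fpart_eq P hP hM hB hBP θ hθ hind hχ (galIrr_mem_block hM hB hχ σ hσ)
  · intro g hg
    rw [galIrr_apply]
    exact sigma_character_eq (IsIrrCharacter.isCharacter χ.2) _ ordCompl_pos σ hσ g
      (pow_ordCompl_eq_one hg)
  · intro y hyP hy1
    have h1 : (galIrr σ χ : G → ℂ) = fun g => σ ((χ : G → ℂ) g) := rfl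
    rw [h1, fpart_galois _ σ hσ _ (IsIrrCharacter.isCharacter θ.2) y, ha y hyP hy1, map_ratCast]


end Key

section Arith

theorem pow_eq_pow_of_modEq' {x : ℂ} {n a b : ℕ} (hx : x ^ n = 1) (h : a ≡ b [MOD n]) :
    x ^ a = x ^ b := by
  have h1 : ∀ a : ℕ, x ^ a = x ^ (a % n) := by
    intro a
    conv_lhs => rw [← Nat.div_add_mod a n, pow_add, pow_mul, hx, one_pow, one_mul]
  rw [h1 a, h1 b, h]

theorem eq_of_pow_eq_of_coprime {α : Type*} [CommGroup α] {a b : α} {k q : ℕ}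
    (hkq : Nat.Coprime k q) (ha : a ^ q = 1) (hb : b ^ q = 1) (h : a ^ k = b ^ k) : a = b := by
  have h1 : (a / b) ^ k = 1 := by rw [div_pow, h, div_self']
  have h2 : (a / b) ^ q = 1 := by rw [div_pow, ha, hb, div_self']
  have h3 : orderOf (a / b) ∣ Nat.gcd k q :=
    Nat.dvd_gcd (orderOf_dvd_of_pow_eq_one h1) (orderOf_dvd_of_pow_eq_one h2)
  rw [Nat.Coprime.gcd_eq_one hkq, Nat.dvd_one, orderOf_eq_one_iff] at h3
  exact div_eq_one.mp h3

end Arith

section Orbit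

variable {G : Type*} [Group G] [Fintype G] {p : ℕ} [hp : Fact p.Prime] (P : Sylow p G)
  (hP : Nat.card P = p)
variable [Fintype ↥(P : Subgroup G)]
  [IsMulCommutative ↥(P : Subgroup G)] [Fintype (↥(P : Subgroup G) →* ℂˣ)]

include hP in
theorem dual_card_eq : Nat.card (↥(P : Subgroup G) →* ℂˣ) = p := by
  rw [Nat.card_eq_fintype_card, dual_card, ← Nat.card_eq_fintype_card]
  exact hP

include hP in
theorem dual_pow_prime (ψ : ↥(P : Subgroup G) →* ℂˣ) : ψ ^ p = 1 := by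
  have h := pow_card_eq_one' (G := ↥(P : Subgroup G) →* ℂˣ) (x := ψ)
  rwa [dual_card_eq P hP] at h

include hP in
theorem dual_apply_pow_prime (ψ : ↥(P : Subgroup G) →* ℂˣ) (y : ↥(P : Subgroup G)) :
    (ψ y) ^ p = 1 := by
  have h := congrArg (fun f : ↥(P : Subgroup G) →* ℂˣ => f y) (dual_pow_prime P hP ψ)
  simpa using h

include hP in
/-- any two nontrivial characters of `P` are powers of each other -/
theorem exists_pow_eq_of_ne_one (ψ₁ ψ₂ : ↥(P : Subgroup G) →* ℂˣ) (hψ₁ : ψ₁ ≠ 1) (hψ₂ : ψ₂ ≠ 1) :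
    ∃ k : ℕ, ¬ p ∣ k ∧ ψ₂ = ψ₁ ^ k := by
  have htop : Subgroup.zpowers ψ₁ = ⊤ := zpowers_eq_top_of_prime_card (dual_card_eq P hP) hψ₁
  have hmem : ψ₂ ∈ Subgroup.zpowers ψ₁ := by rw [htop]; exact Subgroup.mem_top _
  rw [← mem_powers_iff_mem_zpowers] at hmem
  obtain ⟨k, hk⟩ := hmem
  refine ⟨k, ?_, hk.symm⟩
  rintro ⟨m, rfl⟩
  apply hψ₂
  rw [← hk]
  have h1 : ψ₁ ^ (p * m) = (ψ₁ ^ p) ^ m := pow_mul ψ₁ p m
  have h2 : ψ₁ ^ (p * m) = 1 := by
    rw [h1, dual_pow_prime P hP]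
    exact one_pow (M := ↥(P : Subgroup G) →* ℂˣ) m
  exact h2

include hP in
/-- the `k`-th power map carries the `T`-orbit of `ψ` onto the `T`-orbit of `ψ ^ k` -/
theorem orbit_pow_eq_image (T : Subgroup G) (ψ : ↥(P : Subgroup G) →* ℂˣ) (k : ℕ)
    (hk : ¬ p ∣ k) :
    {ψ' : ↥(P : Subgroup G) →* ℂˣ | ∃ n : G, n ∈ T ∧
      ∀ w w' : ↥(P : Subgroup G), (w' : G) = n * w * n⁻¹ → ψ' w' = (ψ ^ k) w} =
    (fun ψ' : ↥(P : Subgroup G) →* ℂˣ => ψ' ^ k) ''
      {ψ' : ↥(P : Subgroup G) →* ℂˣ | ∃ n : G, n ∈ T ∧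
        ∀ w w' : ↥(P : Subgroup G), (w' : G) = n * w * n⁻¹ → ψ' w' = ψ w} := by
  have hcop : Nat.Coprime k p := ((Nat.Prime.coprime_iff_not_dvd hp.out).mpr hk).symm
  have hcop' : (Nat.card (↥(P : Subgroup G) →* ℂˣ)).Coprime k := by
    rw [dual_card_eq P hP]
    exact hcop.symm
  ext ψ''
  constructor
  · rintro ⟨n, hn, h⟩
    obtain ⟨ψ', hψ'⟩ := (powCoprime hcop').surjective ψ''
    rw [powCoprime_apply] at hψ'
    refine ⟨ψ', ⟨n, hn, ?_⟩, hψ'⟩
    intro w w' hw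
    have h1 := h w w' hw
    rw [← hψ', MonoidHom.pow_apply, MonoidHom.pow_apply] at h1
    exact eq_of_pow_eq_of_coprime hcop (dual_apply_pow_prime P hP ψ' w')
      (dual_apply_pow_prime P hP ψ w) h1
  · rintro ⟨ψ', ⟨n, hn, h⟩, rfl⟩
    refine ⟨n, hn, ?_⟩
    intro w w' hw
    show (ψ' ^ k) w' = (ψ ^ k) w
    rw [MonoidHom.pow_apply, MonoidHom.pow_apply, h w w' hw]

include hP in
theorem injective_dual_pow (k : ℕ) (hk : ¬ p ∣ k) :
    Function.Injective (fun ψ' : ↥(P : Subgroup G) →* ℂˣ => ψ' ^ k) := by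
  have hcop : Nat.Coprime k p := ((Nat.Prime.coprime_iff_not_dvd hp.out).mpr hk).symm
  intro a b hab
  exact eq_of_pow_eq_of_coprime hcop (dual_pow_prime P hP a) (dual_pow_prime P hP b) hab

include hP in
/-- a Galois automorphism acting as the `k`-th power on the `p`-th roots of unity maps the
orbit sum of `ψ` to the orbit sum of `ψ ^ k` -/
theorem sigma_orbit_sum (T : Subgroup G) (ψ : ↥(P : Subgroup G) →* ℂˣ) (k : ℕ)
    (hk : ¬ p ∣ k) (σ : ℂ ≃+* ℂ) (hσ : ∀ μ : ℂ, μ ^ p = 1 → σ μ = μ ^ k)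
    (y : ↥(P : Subgroup G)) :
    σ (∑ᶠ ψ' ∈ {ψ' : ↥(P : Subgroup G) →* ℂˣ | ∃ n : G, n ∈ T ∧
        ∀ w w' : ↥(P : Subgroup G), (w' : G) = n * w * n⁻¹ → ψ' w' = ψ w},
        ((ψ' y : ℂˣ) : ℂ)) =
      ∑ᶠ ψ' ∈ {ψ' : ↥(P : Subgroup G) →* ℂˣ | ∃ n : G, n ∈ T ∧
        ∀ w w' : ↥(P : Subgroup G), (w' : G) = n * w * n⁻¹ → ψ' w' = (ψ ^ k) w},
        ((ψ' y : ℂˣ) : ℂ) := by
  rw [orbit_pow_eq_image P hP T ψ k hk,
    finsum_mem_image (fun a _ b _ hab => injective_dual_pow P hP k hk hab)]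
  have h1 := AddMonoidHom.map_finsum_mem
    (s := {ψ' : ↥(P : Subgroup G) →* ℂˣ | ∃ n : G, n ∈ T ∧
        ∀ w w' : ↥(P : Subgroup G), (w' : G) = n * w * n⁻¹ → ψ' w' = ψ w})
    (fun ψ' : ↥(P : Subgroup G) →* ℂˣ => ((ψ' y : ℂˣ) : ℂ))
    (σ : ℂ ≃+* ℂ).toAddMonoidHom (Set.toFinite _)
  have h2 : ∀ z : ℂ, (σ : ℂ ≃+* ℂ).toAddMonoidHom z = σ z := fun _ => rfl
  rw [h2] at h1
  rw [h1]
  apply finsum_mem_congr rfl
  intro ψ' _
  rw [h2]
  have h3 : (((ψ' y : ℂˣ) : ℂ)) ^ p = 1 := by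
    rw [← Units.val_pow_eq_pow_val, dual_apply_pow_prime P hP ψ' y, Units.val_one]
  rw [hσ _ h3, MonoidHom.pow_apply, Units.val_pow_eq_pow_val]

end Orbit


section GY

variable {G : Type*} [Group G] [Fintype G] {p : ℕ} [hp : Fact p.Prime] (P : Sylow p G)
  (hP : Nat.card P = p)
variable [Fintype ↥(Subgroup.centralizer ((P : Subgroup G) : Set G))] [Fintype ↥(P : Subgroup G)]
  [IsMulCommutative ↥(P : Subgroup G)] [Fintype (↥(P : Subgroup G) →* ℂˣ)]
  [Fintype ↥(Subgroup.normalizer ((P : Subgroup G) : Set G))]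
variable {M : Ideal AlgInt}

/-- for `k` prime to `p` there is a Galois automorphism fixing the `p'`-roots of unity (of order
dividing `|G|_{p'}`) and raising the `p`-th roots of unity to the `k`-th power -/
theorem exists_sigma_pow (hdvd : p ∣ Nat.card G) (k : ℕ) (hk : ¬ p ∣ k) :
    ∃ σ : ℂ ≃+* ℂ,
      σ (Complex.exp (2 * Real.pi * Complex.I /
        ((Nat.card G / p ^ (Nat.card G).factorization p : ℕ) : ℕ))) =
        Complex.exp (2 * Real.pi * Complex.I /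
          ((Nat.card G / p ^ (Nat.card G).factorization p : ℕ) : ℕ)) ∧
      ∀ μ : ℂ, μ ^ p = 1 → σ μ = μ ^ k := by
  have hpp : p.Prime := hp.out
  have hN : 0 < Nat.card G := Nat.card_pos
  obtain ⟨g', hg'⟩ : ∃ g' : ℕ, g' = Nat.card G / p ^ (Nat.card G).factorization p := ⟨_, rfl⟩
  have hg'pos : 0 < g' := by rw [hg']; exact Nat.ordCompl_pos p hN.ne'
  have hcop : Nat.Coprime p g' := by rw [hg']; exact Nat.coprime_ordCompl hpp hN.ne'
  have hmul : p ^ (Nat.card G).factorization p * g' = Nat.card G := by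
    rw [hg']; exact Nat.ordProj_mul_ordCompl_eq_self (Nat.card G) p
  obtain ⟨k', hk'p, hk'g⟩ := Nat.chineseRemainder hcop k 1
  have hpk' : ¬ p ∣ k' := by
    intro h
    apply hk
    have h1 : k' % p = 0 := Nat.mod_eq_zero_of_dvd h
    have h2 : k % p = 0 := by rw [← hk'p, h1]
    exact Nat.dvd_of_mod_eq_zero h2
  have hcopN : k'.Coprime (Nat.card G) := by
    rw [← hmul]
    apply Nat.Coprime.mul_right
    · apply Nat.Coprime.pow_right
      exact ((Nat.Prime.coprime_iff_not_dvd hpp).mpr hpk').symm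
    · have h1 := Nat.ModEq.gcd_eq hk'g
      rw [Nat.gcd_one_left] at h1
      exact h1
  obtain ⟨σ, hσ⟩ := Cfsg.Agent.Lib.Helper75.exists_ringEquiv_pow (Nat.card G) hN k' hcopN
  refine ⟨σ, ?_, ?_⟩
  · rw [← hg']
    have hζ : (Complex.exp (2 * Real.pi * Complex.I / (g' : ℕ))) ^ g' = 1 :=
      (Complex.isPrimitiveRoot_exp g' hg'pos.ne').pow_eq_one
    have hζN : (Complex.exp (2 * Real.pi * Complex.I / (g' : ℕ))) ^ Nat.card G = 1 := by
      rw [← hmul, pow_mul', hζ, one_pow]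
    rw [hσ _ hζN, pow_eq_pow_of_modEq' hζ hk'g, pow_one]
  · intro μ hμ
    have hμN : μ ^ Nat.card G = 1 := by
      obtain ⟨m, hm⟩ := hdvd
      rw [hm, pow_mul, hμ, one_pow]
    rw [hσ μ hμN]
    exact pow_eq_pow_of_modEq' hμ hk'p

include hP in
open scoped Classical in
/-- GY: two characters of `B` whose `fpart`s are `d + δ · (T-orbit sum)` for `ψ₁`, `ψ₂ ≠ 1`
and which agree on `p`-regular elements are `p`-conjugate. -/
theorem exists_galois_of_orbit_sums (hM : IsPModular p M) {B : Set (IrrCharacter G)}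
    (hB : IsPBlock M B) (hBP : IsDefectGroup p M B (P : Subgroup G))
    (θ : IrrCharacter ↥(Subgroup.centralizer ((P : Subgroup G) : Set G)))
    (hθ : InKer (Subgroup.inclusion (le_centralizer_of_card_prime hP))
      (θ : ↥(Subgroup.centralizer ((P : Subgroup G) : Set G)) → ℂ))
    (hind : IsInducedBlock M (Subgroup.centralizer ((P : Subgroup G) : Set G))
      (blockOf M (θ : ↥(Subgroup.centralizer ((P : Subgroup G) : Set G)) → ℂ)) B)
    (T : Subgroup G) (d δ : ℤ)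
    {η₁ η₂ : IrrCharacter G} (h₁ : η₁ ∈ B) (h₂ : η₂ ∈ B)
    (hreg : ∀ g : G, ¬ p ∣ orderOf g → (η₁ : G → ℂ) g = (η₂ : G → ℂ) g)
    (ψ₁ ψ₂ : ↥(P : Subgroup G) →* ℂˣ) (hψ₁ : ψ₁ ≠ 1) (hψ₂ : ψ₂ ≠ 1)
    (hv₁ : ∀ y : ↥(P : Subgroup G), y ≠ 1 →
      fpart p (Subgroup.centralizer ((P : Subgroup G) : Set G)) (η₁ : G → ℂ)
        (θ : ↥(Subgroup.centralizer ((P : Subgroup G) : Set G)) → ℂ) (y : G) =
      (d : ℂ) + (δ : ℂ) *
        ∑ᶠ ψ' ∈ {ψ' : ↥(P : Subgroup G) →* ℂˣ | ∃ n : G, n ∈ T ∧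
          ∀ w w' : ↥(P : Subgroup G), (w' : G) = n * w * n⁻¹ → ψ' w' = ψ₁ w},
          ((ψ' y : ℂˣ) : ℂ))
    (hv₂ : ∀ y : ↥(P : Subgroup G), y ≠ 1 →
      fpart p (Subgroup.centralizer ((P : Subgroup G) : Set G)) (η₂ : G → ℂ)
        (θ : ↥(Subgroup.centralizer ((P : Subgroup G) : Set G)) → ℂ) (y : G) =
      (d : ℂ) + (δ : ℂ) *
        ∑ᶠ ψ' ∈ {ψ' : ↥(P : Subgroup G) →* ℂˣ | ∃ n : G, n ∈ T ∧
          ∀ w w' : ↥(P : Subgroup G), (w' : G) = n * w * n⁻¹ → ψ' w' = ψ₂ w},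
          ((ψ' y : ℂˣ) : ℂ)) :
    ∃ σ : ℂ ≃+* ℂ,
      σ (Complex.exp (2 * Real.pi * Complex.I /
        ((Nat.card G / p ^ (Nat.card G).factorization p : ℕ) : ℕ))) =
        Complex.exp (2 * Real.pi * Complex.I /
          ((Nat.card G / p ^ (Nat.card G).factorization p : ℕ) : ℕ)) ∧
      (η₂ : G → ℂ) = fun g => σ ((η₁ : G → ℂ) g) := by
  have hdvd : p ∣ Nat.card G := by
    rw [← hP]
    exact Subgroup.card_subgroup_dvd_card (P : Subgroup G)
  obtain ⟨k, hk, hψk⟩ := exists_pow_eq_of_ne_one P hP ψ₁ ψ₂ hψ₁ hψ₂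
  obtain ⟨σ, hσ, hσp⟩ := exists_sigma_pow (G := G) hdvd k hk
  refine ⟨σ, hσ, ?_⟩
  have hkey : galIrr σ η₁ = η₂ := by
    apply eq_of_fpart_eq P hP hM hB hBP θ hθ hind h₂ (galIrr_mem_block hM hB h₁ σ hσ)
    · intro g hg
      rw [galIrr_apply, sigma_character_eq (IsIrrCharacter.isCharacter η₁.2) _ ordCompl_pos σ hσ g
        (pow_ordCompl_eq_one hg)]
      exact hreg g hg
    · intro y hyP hy1
      have hy1' : (⟨y, hyP⟩ : ↥(P : Subgroup G)) ≠ 1 := fun h => hy1 (congrArg Subtype.val h)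
      have e1 : (galIrr σ η₁ : G → ℂ) = fun g => σ ((η₁ : G → ℂ) g) := rfl
      have e2 := hv₁ ⟨y, hyP⟩ hy1'
      have e3 := hv₂ ⟨y, hyP⟩ hy1'
      simp only at e2 e3
      rw [e1, fpart_galois _ σ hσ _ (IsIrrCharacter.isCharacter θ.2) y, e2, e3, map_add, map_mul,
        map_intCast, map_intCast, sigma_orbit_sum P hP T ψ₁ k hk σ hσp ⟨y, hyP⟩, hψk]
  rw [← hkey]
  rfl

end GY

end Cfsg.Agent.Lib.Helper77.DefOneGal
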