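import Mathlib
import Cfsg.Agent.Lib.Helper46.DihOrdDefs
import Cfsg.Agent.Lib.Helper74.OrderFormulaB
import Cfsg.Agent.Lib.Helper74.InvolCols
import Cfsg.Agent.Lib.Helper74.KleinCount

/-!
# S4482 module [CPC] (helper77, for helper46)

`sum_conjProdCount_eq`: for `x u : G` and a subgroup `N`,
`∑_{g ∈ N} conjProdCount x x (u g) = |C(x)|² · #{(a, b) conjugates of x : u⁻¹ a b ∈ N}`.
-/

set_option autoImplicit false
set_option linter.unusedSectionVars false

namespace Cfsg.Agent.Lib.Helper77.DihOrdCpc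

open Cfsg Cfsg.Agent.Lib.Helper46.DihOrd Cfsg.Agent.Lib.Helper74 Cfsg.Agent.Lib.Helper78
open scoped ComplexConjugate

variable {G : Type*} [Group G] [Fintype G]

open scoped Classical in
theorem sum_conjProdCount_eq (x u : G) (N : Subgroup G) :
    ∑ g ∈ Finset.univ.filter (fun g : G => g ∈ N), conjProdCount x x (u * g) =
      ((Nat.card (Subgroup.centralizer ({x} : Set G)) : ℂ)) ^ 2 *
        ((Finset.univ.filter (fun uv : G × G => IsConj x uv.1 ∧ IsConj x uv.2 ∧
          u⁻¹ * (uv.1 * uv.2) ∈ N)).card : ℂ) := by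
  -- the indicator `F`
  obtain ⟨F, hF⟩ : ∃ F : G → G → ℂ, F = fun a b => if u⁻¹ * (a * b) ∈ N then 1 else 0 :=
    ⟨_, rfl⟩
  have hFsum : ∀ a b : G, ∑ g ∈ Finset.univ.filter (fun g : G => g ∈ N),
      (if a * b = u * g then (1 : ℂ) else 0) = F a b := by
    intro a b
    rw [hF]
    dsimp only
    split_ifs with hex
    · rw [Finset.sum_eq_single (u⁻¹ * (a * b))]
      · rw [if_pos (by group)]
      · intro g _ hg
        rw [if_neg]
        intro hg2
        apply hg
        rw [hg2]
        group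
      · intro h
        exact absurd (Finset.mem_filter.mpr ⟨Finset.mem_univ _, hex⟩) h
    · apply Finset.sum_eq_zero
      intro g hg
      rw [if_neg]
      intro hg2
      apply hex
      rw [hg2]
      have : u⁻¹ * (u * g) = g := by group
      rw [this]
      exact (Finset.mem_filter.mp hg).2
  have hT : ∑ g ∈ Finset.univ.filter (fun g : G => g ∈ N), conjProdCount x x (u * g) =
      ∑ a : G, ∑ b : G, F (a * x * a⁻¹) (b * x * b⁻¹) := by
    unfold conjProdCount
    rw [Finset.sum_comm]
    apply Finset.sum_congr rfl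
    intro a _
    rw [Finset.sum_comm]
    apply Finset.sum_congr rfl
    intro b _
    rw [← hFsum]
  have hT2 : ∑ a : G, ∑ b : G, F (a * x * a⁻¹) (b * x * b⁻¹) =
      (Nat.card (Subgroup.centralizer ({x} : Set G)) : ℂ) ^ 2 *
        ∑ a ∈ Finset.univ.filter (fun a : G => IsConj x a),
          ∑ b ∈ Finset.univ.filter (fun b : G => IsConj x b), F a b := by
    rw [sum_conj_class_eq x (fun a => ∑ b : G, F a (b * x * b⁻¹))]
    have h2 : ∀ a : G, ∑ b : G, F a (b * x * b⁻¹) =
        (Nat.card (Subgroup.centralizer ({x} : Set G)) : ℂ) *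
        ∑ b ∈ Finset.univ.filter (fun b : G => IsConj x b), F a b :=
      fun a => sum_conj_class_eq x (fun b => F a b)
    rw [Finset.sum_congr rfl (fun a _ => h2 a), ← Finset.mul_sum, ← mul_assoc, pow_two]
  have hW : ∑ a ∈ Finset.univ.filter (fun a : G => IsConj x a),
      ∑ b ∈ Finset.univ.filter (fun b : G => IsConj x b), F a b =
      ((Finset.univ.filter (fun uv : G × G => IsConj x uv.1 ∧ IsConj x uv.2 ∧
        u⁻¹ * (uv.1 * uv.2) ∈ N)).card : ℂ) := by
    rw [← Finset.sum_product', Finset.card_eq_sum_ones, Nat.cast_sum]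
    simp only [hF, Nat.cast_one]
    rw [← Finset.sum_filter]
    apply Finset.sum_congr
    · ext ⟨a, b⟩
      simp only [Finset.mem_filter, Finset.mem_product, Finset.mem_univ, true_and, and_assoc]
    · intro _ _; rfl
  rw [hT, hT2, hW]

end Cfsg.Agent.Lib.Helper77.DihOrdCpc
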