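import Mathlib
import Cfsg.Agent.Lib.Helper46.DihOrdDefs
import Cfsg.Agent.Lib.Helper74.OrderFormulaB
import Cfsg.Agent.Lib.Helper74.InvolCols

/-!
# S4482 module [EVAL] (helper77, for helper46)

`eval_block_count`: for a `p`-element `u` whose centralizer has a normal `p`-complement,
`|G| ∑_{χ ∈ B₀(G)} conj (χ x χ x / χ 1) χ u = |O_{p'}(C(u))|⁻¹ ∑_{g ∈ O_{p'}(C(u))} conjProdCount x x (u g)`.
-/

set_option autoImplicit false
set_option linter.unusedSectionVars false

namespace Cfsg.Agent.Lib.Helper77.DihOrdEval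

open Cfsg Cfsg.Agent.Lib.Helper46.DihOrd Cfsg.Agent.Lib.Helper74 Cfsg.Agent.Lib.Helper78
open scoped ComplexConjugate

variable {G : Type*} [Group G] [Fintype G]

open scoped Classical in
/-- Sum over the image of a subgroup of a subgroup. -/
theorem sum_filter_mem_map_subtype (H : Subgroup G) (K : Subgroup H) [Fintype K] (f : G → ℂ) :
    ∑ g ∈ Finset.univ.filter (fun g : G => g ∈ K.map H.subtype), f g =
      ∑ c : K, f ((c : H) : G) := by
  symm
  apply Finset.sum_bij (fun (c : K) _ => ((c : H) : G))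
  · intro c _
    rw [Finset.mem_filter]
    exact ⟨Finset.mem_univ _, Subgroup.mem_map.mpr ⟨(c : H), c.2, rfl⟩⟩
  · intro c₁ _ c₂ _ h
    exact Subtype.ext (Subtype.ext h)
  · intro g hg
    obtain ⟨c, hc, rfl⟩ := Subgroup.mem_map.mp (Finset.mem_filter.mp hg).2
    exact ⟨⟨c, hc⟩, Finset.mem_univ _, rfl⟩
  · intro c _
    rfl

theorem natCard_map_subtype (H : Subgroup G) (K : Subgroup H) :
    Nat.card (K.map H.subtype) = Nat.card K :=
  Nat.card_congr (K.equivMapOfInjective H.subtype H.subtype_injective).symm.toEquiv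

open scoped Classical in
theorem eval_block_count {p : ℕ} [Fact p.Prime] {M : Ideal AlgInt} (hM : IsPModular p M)
    (x u : G) (hu : ∃ k : ℕ, orderOf u = p ^ k)
    (hk : ∃ k : ℕ, (pPrimeCore p (Subgroup.centralizer ({u} : Set G))).index = p ^ k) :
    (Nat.card G : ℂ) * ∑ χ ∈ Finset.univ.filter (fun χ : IrrCharacter G => χ ∈ principalBlock M G),
        conj ((χ : G → ℂ) x * (χ : G → ℂ) x / (χ : G → ℂ) 1) * (χ : G → ℂ) u =
      (Nat.card (centralizerPPrimeCore p u) : ℂ)⁻¹ *
        ∑ g ∈ Finset.univ.filter (fun g : G => g ∈ centralizerPPrimeCore p u),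
          conjProdCount x x (u * g) := by
  have : Fintype (Subgroup.centralizer ({u} : Set G)) := Fintype.ofFinite _
  have : Fintype (pPrimeCore p (Subgroup.centralizer ({u} : Set G))) := Fintype.ofFinite _
  have hone : ¬ p ∣ orderOf (1 : Subgroup.centralizer ({u} : Set G)) := by
    rw [orderOf_one]
    intro h
    have := Nat.le_of_dvd one_pos h
    have := (Fact.out : p.Prime).one_lt
    omega
  have h1 := principal_blockPart_twist_classFunction hM u hu (isClassFunction_conjProdCount x x)
    (1 : Subgroup.centralizer ({u} : Set G)) hone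
  have h2 := principal_blockPart_one_of_index (H := Subgroup.centralizer ({u} : Set G)) hM hk
    (fun c : Subgroup.centralizer ({u} : Set G) => conjProdCount x x (u * (c : G)))
  rw [h1] at h2
  have h3 : ∑ χ ∈ Finset.univ.filter (fun χ : IrrCharacter G => χ ∈ principalBlock M G),
      classInner (conjProdCount x x) (χ : G → ℂ) *
        (χ : G → ℂ) (u * ((1 : Subgroup.centralizer ({u} : Set G)) : G)) =
      (Nat.card G : ℂ) * ∑ χ ∈ Finset.univ.filter (fun χ : IrrCharacter G => χ ∈ principalBlock M G),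
        conj ((χ : G → ℂ) x * (χ : G → ℂ) x / (χ : G → ℂ) 1) * (χ : G → ℂ) u := by
    rw [Finset.mul_sum]
    apply Finset.sum_congr rfl
    intro χ _
    rw [classInner_conjProdCount_irr, Subgroup.coe_one, mul_one, mul_assoc]
  rw [h3] at h2
  rw [h2]
  unfold centralizerPPrimeCore
  rw [natCard_map_subtype, sum_filter_mem_map_subtype]

end Cfsg.Agent.Lib.Helper77.DihOrdEval
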