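import Mathlib
import Cfsg.Agent.Lib.Helper48.FL.Defs

/-!
# Project FL (S2863, helper48): module FL-[ACT] (helper77)

`L/A` acts on `W = A/C` for `A ⊴ L`, `C ≤ A` central in `L` with `[A,A] ≤ C`.
-/

set_option autoImplicit false
set_option linter.unusedSectionVars false
set_option linter.unusedVariables false

namespace Cfsg.Agent.Lib.Helper77.FL

open Cfsg Cfsg.Agent.Lib.Helper48 Cfsg.Agent.Lib.Helper48.FL

universe u

section act

variable {L : Type u} [Group L] (A C : Subgroup L) [hA : A.Normal]

/-- `C` (central in `L`) as a normal subgroup of `A`. -/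
theorem subgroupOf_normal_of_central (hC : C ≤ Subgroup.center L) : (C.subgroupOf A).Normal := by
  constructor
  intro n hn g
  rw [Subgroup.mem_subgroupOf] at hn ⊢
  have h1 : ((g * n * g⁻¹ : A) : L) = (n : L) := by
    rw [Subgroup.coe_mul, Subgroup.coe_mul, Subgroup.coe_inv]
    have := Subgroup.mem_center_iff.1 (hC hn) (g : L)
    rw [this, mul_inv_cancel_right]
  rw [h1]
  exact hn

/-- conjugation by `l` preserves `C.subgroupOf A` -/
theorem map_conjNormal_subgroupOf (hC : C ≤ Subgroup.center L) (l : L) :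
    (C.subgroupOf A).map ((MulAut.conjNormal l : MulAut A) : A →* A) = C.subgroupOf A := by
  have hfix : ∀ n : A, n ∈ C.subgroupOf A → (MulAut.conjNormal l : MulAut A) n = n := by
    intro n hn
    rw [Subgroup.mem_subgroupOf] at hn
    apply Subtype.ext
    rw [MulAut.conjNormal_apply]
    have := Subgroup.mem_center_iff.1 (hC hn) l
    rw [this, mul_inv_cancel_right]
  ext x
  constructor
  · rintro ⟨n, hn, rfl⟩
    show (MulAut.conjNormal l : MulAut A) n ∈ C.subgroupOf A
    rw [hfix n hn]
    exact hn
  · intro hx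
    exact ⟨x, hx, hfix x hx⟩

end act

/-- FL-[ACT] -/
theorem exists_act {L : Type u} [Group L] (A C : Subgroup L) [hA : A.Normal] (hCA : C ≤ A)
    (hC : C ≤ Subgroup.center L) (hcomm : ∀ a ∈ A, ∀ b ∈ A, a * b * a⁻¹ * b⁻¹ ∈ C) :
    ∃ (W : Type u) (_ : CommGroup W) (φ : L ⧸ A →* MulAut W) (q : A →* W),
      Function.Surjective q ∧ (∀ a : A, q a = 1 ↔ (a : L) ∈ C) ∧
      ∀ (l : L) (a : A), φ (l : L ⧸ A) (q a) = q ⟨l * a * l⁻¹, hA.conj_mem a a.2 l⟩ := by
  have hN : (C.subgroupOf A).Normal := subgroupOf_normal_of_central A C hC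
  -- commutativity of the quotient
  have hmc : ∀ x y : ↥A ⧸ C.subgroupOf A, x * y = y * x := by
    intro x y
    induction x using QuotientGroup.induction_on with
    | H a =>
      induction y using QuotientGroup.induction_on with
      | H b =>
        rw [← QuotientGroup.mk_mul, ← QuotientGroup.mk_mul, QuotientGroup.eq,
          Subgroup.mem_subgroupOf]
        have := hcomm (b⁻¹ : A) (b⁻¹ : A).2 (a⁻¹ : A) (a⁻¹ : A).2
        have e : (((a * b)⁻¹ * (b * a) : A) : L) =
            ((b⁻¹ : A) : L) * ((a⁻¹ : A) : L) * ((b⁻¹ : A) : L)⁻¹ * ((a⁻¹ : A) : L)⁻¹ := by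
          simp only [Subgroup.coe_mul, Subgroup.coe_inv, mul_inv_rev, inv_inv]
          group
        rw [e]
        exact this
  let instW : CommGroup (↥A ⧸ C.subgroupOf A) :=
    { (inferInstance : Group (↥A ⧸ C.subgroupOf A)) with mul_comm := hmc }
  -- the action of `L`
  let ψ : L →* MulAut (↥A ⧸ C.subgroupOf A) :=
    { toFun := fun l => QuotientGroup.congr (C.subgroupOf A) (C.subgroupOf A)
        (MulAut.conjNormal l : MulAut A) (map_conjNormal_subgroupOf A C hC l)
      map_one' := by
        ext x
        induction x using QuotientGroup.induction_on with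
        | H a =>
          rw [QuotientGroup.congr_mk, map_one]
          rfl
      map_mul' := by
        intro l l'
        ext x
        induction x using QuotientGroup.induction_on with
        | H a =>
          rw [MulAut.mul_apply, QuotientGroup.congr_mk, QuotientGroup.congr_mk,
            QuotientGroup.congr_mk, map_mul]
          rfl }
  have hψ : ∀ (l : L) (a : A), ψ l (QuotientGroup.mk a) =
      QuotientGroup.mk ((MulAut.conjNormal l : MulAut A) a) := by
    intro l a
    rfl
  have hker : A ≤ ψ.ker := by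
    intro a ha
    rw [MonoidHom.mem_ker]
    ext x
    induction x using QuotientGroup.induction_on with
    | H b =>
      rw [hψ, MulAut.one_apply, QuotientGroup.eq, Subgroup.mem_subgroupOf]
      have := hcomm (b⁻¹ : A) (b⁻¹ : A).2 a ha
      have e : ((((MulAut.conjNormal a : MulAut A) b)⁻¹ * b : A) : L) =
          (((b⁻¹ : A) : L) * a * ((b⁻¹ : A) : L)⁻¹ * a⁻¹)⁻¹ := by
        rw [Subgroup.coe_mul, Subgroup.coe_inv, MulAut.conjNormal_apply]
        simp only [Subgroup.coe_inv, mul_inv_rev, inv_inv]
        group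
      rw [e]
      exact C.inv_mem this
  refine ⟨↥A ⧸ C.subgroupOf A, instW, QuotientGroup.lift A ψ hker,
    QuotientGroup.mk' (C.subgroupOf A), QuotientGroup.mk'_surjective _, ?_, ?_⟩
  · intro a
    rw [QuotientGroup.mk'_apply, QuotientGroup.eq_one_iff, Subgroup.mem_subgroupOf]
  · intro l a
    rw [QuotientGroup.mk'_apply, QuotientGroup.mk'_apply]
    show (QuotientGroup.lift A ψ hker) (QuotientGroup.mk l) (QuotientGroup.mk a) = _
    rw [QuotientGroup.lift_mk, hψ]
    congr 1

end Cfsg.Agent.Lib.Helper77.FL
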