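import Cfsg.Agent.Lib.Helper77.ConjInduce
import Cfsg.Agent.S4671
import Cfsg.Agent.S0964

set_option autoImplicit false
set_option linter.unusedSectionVars false
set_option linter.style.haveILetI false

namespace Cfsg.Agent.Lib.Helper77

open Cfsg MonoidAlgebra Cfsg.Agent.Lib.Helper16

universe u

section HKdown

variable {G : Type u} [Group G] [Fintype G] {M : Ideal AlgInt}

/-- An element conjugating a finite subgroup into itself normalizes it. -/
theorem mem_normalizer_of_conj_mem {Q : Subgroup G} (g : G)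
    (h : ∀ y ∈ Q, g * y * g⁻¹ ∈ Q) : g ∈ Subgroup.normalizer (Q : Set G) := by
  rw [Subgroup.mem_normalizer_iff]
  intro x
  constructor
  · exact h x
  · intro hx
    have hle : Q.map (MulAut.conj g).toMonoidHom ≤ Q := by
      rintro _ ⟨y, hy, rfl⟩
      exact h y hy
    have heq : Q.map (MulAut.conj g).toMonoidHom = Q :=
      Subgroup.eq_of_le_of_card_ge hle
        (by rw [Subgroup.card_map_of_injective (MulAut.conj g).injective])
    rw [← heq] at hx
    obtain ⟨y, hy, hyx⟩ := hx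
    have : y = x := by
      have h1 : g * y * g⁻¹ = g * x * g⁻¹ := hyx
      simpa using h1
    rwa [← this]

/-- **Harris–Knörr, surjectivity**: a block of `G` covering `d = e^N` is induced from a block of
`H = N_G(Q)` covering `e`. -/
theorem harrisKnorr_down {p : ℕ} [Fact p.Prime] (hM : IsPModular p M)
    (N : Subgroup G) [hN : N.Normal] [Fintype N] (Q : Subgroup G) (hQ : IsPGroup p Q)
    (hQN : Q ≤ N)
    (H : Subgroup G) (hH : H = Subgroup.normalizer (Q : Set G))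
    [Fintype H] [Fintype ↥(H ⊓ N)]
    {d : Set (IrrCharacter N)} {e : Set (IrrCharacter ↥(H ⊓ N))}
    (hdQ : IsDefectGroup p M d (Q.subgroupOf N))
    (hed : IsInducedBlockIn M N (H ⊓ N) e d)
    {B : Set (IrrCharacter G)} (hB : IsPBlock M B)
    (hcovB : ∃ χ ∈ B, ∃ θ ∈ d, classInner (fun n : N => (χ : G → ℂ) n) (θ : N → ℂ) ≠ 0) :
    ∃ c : Set (IrrCharacter H), IsPBlock M c ∧
      (∃ ψ ∈ c, ∃ ξ ∈ e, classInner (fun k : ↥(H ⊓ N) =>
        (ψ : H → ℂ) ⟨(k : G), (inf_le_left : H ⊓ N ≤ H) k.2⟩) (ξ : ↥(H ⊓ N) → ℂ) ≠ 0) ∧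
      IsInducedBlock M H c B := by
  classical
  haveI hMp := isPModular_isPrime hM
  have he : IsPBlock M e := hed.1
  have hd : IsPBlock M d := hed.2.1
  have hKH : H ⊓ N ≤ H := inf_le_left
  have hKN : H ⊓ N ≤ N := inf_le_right
  haveI : ((H ⊓ N).subgroupOf H).Normal := inf_subgroupOf_normal H N
  haveI : Fintype ↥((H ⊓ N).subgroupOf H) := Fintype.ofFinite _
  haveI : Fintype ↥((H ⊓ N).subgroupOf N) := Fintype.ofFinite _
  -- Step 1
  obtain ⟨P, hBP, hPN⟩ := Cfsg.Agent.S4438.result p M hM N d hd Q hQN hdQ B hB hcovB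
  have hNP : Subgroup.normalizer (P : Set G) ≤ H := hH ▸ normalizer_le_of_inf_eq N hPN
  have hPH : P ≤ H := Subgroup.le_normalizer.trans hNP
  obtain ⟨c, hc, hcP, hind⟩ := Cfsg.Agent.Lib.Helper82.exists_intermediate_block hM hB P hBP H hNP
  refine ⟨c, hc, ?_, hind⟩
  -- Step 2
  obtain ⟨c₁, hc₁, -, hcov₁, hc₁D⟩ := Cfsg.Agent.S4671.result p M hM ((H ⊓ N).subgroupOf H) c hc
    (P.subgroupOf H) hcP
  have he₁ : IsPBlock M (pullBlock (subEquiv hKH).symm c₁) := isPBlock_pullBlock _ hc₁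
  have he₁Q : IsDefectGroup p M (pullBlock (subEquiv hKH).symm c₁) (Q.subgroupOf (H ⊓ N)) := by
    have h1 := isDefectGroup_pullBlock (subEquiv hKH).symm hc₁D
    have h2 : ((P.subgroupOf H ⊓ (H ⊓ N).subgroupOf H).subgroupOf ((H ⊓ N).subgroupOf H)).comap
        (subEquiv hKH).symm.toMonoidHom = Q.subgroupOf (H ⊓ N) := by
      ext k
      rw [Subgroup.mem_comap, Subgroup.mem_subgroupOf, Subgroup.mem_subgroupOf, Subgroup.mem_inf,
        Subgroup.mem_subgroupOf, Subgroup.mem_subgroupOf, ← hPN, Subgroup.mem_inf]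
      constructor
      · rintro ⟨h3, h4⟩
        exact ⟨h3, h4.2⟩
      · rintro ⟨h3, h4⟩
        exact ⟨h3, k.2⟩
    rwa [h2] at h1
  have hcov₁' : ∃ ψ ∈ c, ∃ ξ ∈ pullBlock (subEquiv hKH).symm c₁,
      classInner (fun k : ↥(H ⊓ N) => (ψ : H → ℂ) ⟨(k : G), hKH k.2⟩)
        (ξ : ↥(H ⊓ N) → ℂ) ≠ 0 := by
    obtain ⟨ψ, hψ, θ, hθ, hne⟩ := hcov₁
    refine ⟨ψ, hψ, irrPull (subEquiv hKH).symm θ, irrPull_mem_pullBlock _ hθ, ?_⟩
    rw [← classInner_irrPull_subEquiv hKH (ψ : H → ℂ), irrPull_irrPull_symm]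
    exact hne
  -- Step 3
  have hQNp : IsPGroup p (Q.subgroupOf N) := hQ.comap_subtype
  have hX : (H ⊓ N).subgroupOf N = Subgroup.normalizer ((Q.subgroupOf N : Subgroup N) : Set N) := by
    rw [Subgroup.inf_subgroupOf_right, hH, Subgroup.subgroupOf_normalizer_eq hQN]
  have hle1 : Q.subgroupOf N ≤ (H ⊓ N).subgroupOf N := by
    rw [hX]
    exact Subgroup.le_normalizer
  have hle2 : Subgroup.normalizer ((Q.subgroupOf N : Subgroup N) : Set N) ≤
      (H ⊓ N).subgroupOf N := hX ▸ le_rfl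
  obtain ⟨d₁, hd₁, hd₁Q, hind₁⟩ := exists_induced_of_normalizer_le hM (Q.subgroupOf N)
    ((H ⊓ N).subgroupOf N) hQNp hle1 hle2 (isPBlock_pullBlock (subEquiv hKN) he₁)
    (isDefectGroup_pullBlock_subEquiv hKN he₁Q)
  have hed₁ : IsInducedBlockIn M N (H ⊓ N) (pullBlock (subEquiv hKH).symm c₁) d₁ :=
    (isInducedBlock_subEquiv_iff hKN _ d₁).mp hind₁
  -- Step 4
  obtain ⟨χ', hχ', ψ₁, hψ₁, hcon'⟩ := covers_of_isInducedBlock hM N H hind hed₁ hcov₁'
  -- Step 5
  obtain ⟨χ, hχ, θ, hθ, hcon⟩ := hcovB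
  obtain ⟨g, θ', hθ', hconj⟩ := Cfsg.Agent.S0964.result p M hM N B hB d hd χ hχ θ hθ hcon χ' hχ'
    ψ₁ hcon'
  have hψ₁eq : ψ₁ = irrPull (MulAut.conjNormal (H := N) g) θ' := by
    apply Subtype.ext
    funext n
    rw [irrPull_apply, hconj n]
    congr 1
  have hd₁eq : d₁ = pullBlock (MulAut.conjNormal (H := N) g) d :=
    IsPBlock_eq_of_mem hd₁ (isPBlock_pullBlock _ hd) hψ₁
      (hψ₁eq ▸ irrPull_mem_pullBlock _ hθ')
  -- Step 6
  have hd₁Q' : IsDefectGroup p M d₁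
      ((Q.subgroupOf N).comap (MulAut.conjNormal (H := N) g).toMonoidHom) := by
    rw [hd₁eq]
    exact isDefectGroup_pullBlock _ hdQ
  obtain ⟨z, hz⟩ := exists_conj_eq_of_isDefectGroup hM hd₁ hd₁Q hd₁Q'
  have huQ : g * (z : G) ∈ Subgroup.normalizer (Q : Set G) := by
    apply mem_normalizer_of_conj_mem
    intro y hy
    have h1 : (⟨y, hQN hy⟩ : N) ∈ Q.subgroupOf N := by
      rw [Subgroup.mem_subgroupOf]; exact hy
    have h2 : z * ⟨y, hQN hy⟩ * z⁻¹ ∈ (Q.subgroupOf N).map (MulAut.conj z).toMonoidHom :=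
      ⟨_, h1, rfl⟩
    rw [hz, Subgroup.mem_comap, Subgroup.mem_subgroupOf] at h2
    have h3 : ((MulAut.conjNormal (H := N) g (z * ⟨y, hQN hy⟩ * z⁻¹) : N) : G) =
        g * (z : G) * y * (g * (z : G))⁻¹ := by
      rw [MulAut.conjNormal_apply]
      push_cast
      group
    rw [← h3]
    exact h2
  have huH : g * (z : G) ∈ H := hH ▸ huQ
  have huK : g * (z : G) ∈ Subgroup.normalizer ((H ⊓ N : Subgroup G) : Set G) := by
    apply mem_normalizer_of_conj_mem
    intro y hy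
    exact ⟨H.mul_mem (H.mul_mem huH hy.1) (H.inv_mem huH), hN.conj_mem y hy.2 _⟩
  have hd₁eq' : d₁ = pullBlock (MulAut.conjNormal (H := N) (g * (z : G))) d := by
    rw [hd₁eq]
    unfold pullBlock
    apply Set.image_congr
    intro θ₀ _
    apply Subtype.ext
    funext n
    rw [irrPull_apply, irrPull_apply]
    have h1 : MulAut.conjNormal (H := N) (g * (z : G)) n =
        MulAut.conjNormal (H := N) g (z * n * z⁻¹) := by
      apply Subtype.ext
      rw [MulAut.conjNormal_apply, MulAut.conjNormal_apply]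
      push_cast
      group
    rw [h1]
    have h2 := irr_conj (irrPull (MulAut.conjNormal (H := N) g) θ₀) n z
    rw [irrPull_apply, irrPull_apply] at h2
    exact h2.symm
  -- Step 7
  have hed_u := isInducedBlockIn_pullBlock_conj (M := M) N (H ⊓ N) ⟨g * (z : G), huK⟩ hed
  rw [← hd₁eq'] at hed_u
  -- Step 8
  have heq : pullBlock (subEquiv hKN) (pullBlock (subEquiv hKH).symm c₁) =
      pullBlock (subEquiv hKN)
        (pullBlock ((H ⊓ N).normalizerMonoidHom ⟨g * (z : G), huK⟩) e) :=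
    eq_of_isInducedBlock_of_eq_normalizer hM (Q.subgroupOf N) ((H ⊓ N).subgroupOf N) hQNp hX hd₁
      (isPBlock_pullBlock _ he₁) (isDefectGroup_pullBlock_subEquiv hKN he₁Q) hind₁
      (isPBlock_pullBlock _ hed_u.1) ((isInducedBlock_subEquiv_iff hKN _ d₁).mpr hed_u)
  have heq' : pullBlock (subEquiv hKH).symm c₁ =
      pullBlock ((H ⊓ N).normalizerMonoidHom ⟨g * (z : G), huK⟩) e :=
    Set.image_injective.mpr (irrPull_injective (subEquiv hKN)) heq
  -- Step 9
  obtain ⟨ψ, hψ, ξ₁, hξ₁, hne⟩ := hcov₁'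
  rw [heq'] at hξ₁
  obtain ⟨ξ, hξ, rfl⟩ := hξ₁
  refine ⟨ψ, hψ, ξ, hξ, ?_⟩
  rwa [classInner_res_irrPull_normalizer hKH ⟨g * (z : G), huK⟩ huH ψ ξ] at hne

end HKdown

end Cfsg.Agent.Lib.Helper77
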