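import Cfsg.Agent.Lib.Helper77.HarrisKnorrUp
import Cfsg.Agent.Lib.Helper16.DefectConj
import Cfsg.Agent.Lib.Helper77.KnorrEasy

set_option autoImplicit false
set_option linter.unusedSectionVars false
set_option linter.style.haveILetI false

namespace Cfsg.Agent.Lib.Helper77

open Cfsg MonoidAlgebra Cfsg.Agent.Lib.Helper16

universe u

section HKuniq

variable {G : Type u} [Group G] [Fintype G] {M : Ideal AlgInt}

/-- Conjugating inside a subgroup: the image of `P.subgroupOf H` under conjugation by `h ∈ H`. -/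
theorem subgroupOf_map_conj (H P : Subgroup G) (h : H) :
    (P.subgroupOf H).map (MulAut.conj h).toMonoidHom =
      (P.map (MulAut.conj (h : G)).toMonoidHom).subgroupOf H := by
  ext x
  rw [mem_map_conj_iff, Subgroup.mem_subgroupOf, Subgroup.mem_subgroupOf, mem_map_conj_iff]
  rfl

/-- **Harris–Knörr, injectivity**: two blocks of `H = N_G(Q)` covering `e` and inducing the same
block of `G` are equal. -/
theorem harrisKnorr_unique {p : ℕ} [Fact p.Prime] (hM : IsPModular p M)
    (N : Subgroup G) [hN : N.Normal] [Fintype N] (Q : Subgroup G) (hQN : Q ≤ N)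
    (H : Subgroup G) (hH : H = Subgroup.normalizer (Q : Set G))
    [Fintype H] [Fintype ↥(H ⊓ N)]
    {d : Set (IrrCharacter N)} {e : Set (IrrCharacter ↥(H ⊓ N))}
    (heQ : IsDefectGroup p M e (Q.subgroupOf (H ⊓ N)))
    (hed : IsInducedBlockIn M N (H ⊓ N) e d)
    {c c' : Set (IrrCharacter H)} (hc : IsPBlock M c) (hc' : IsPBlock M c')
    (hcov : ∃ ψ ∈ c, ∃ ξ ∈ e, classInner (fun k : ↥(H ⊓ N) =>
      (ψ : H → ℂ) ⟨(k : G), (inf_le_left : H ⊓ N ≤ H) k.2⟩) (ξ : ↥(H ⊓ N) → ℂ) ≠ 0)
    (hcov' : ∃ ψ ∈ c', ∃ ξ ∈ e, classInner (fun k : ↥(H ⊓ N) =>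
      (ψ : H → ℂ) ⟨(k : G), (inf_le_left : H ⊓ N ≤ H) k.2⟩) (ξ : ↥(H ⊓ N) → ℂ) ≠ 0)
    {B : Set (IrrCharacter G)} (hind : IsInducedBlock M H c B)
    (hind' : IsInducedBlock M H c' B) : c = c' := by
  classical
  haveI hMp := isPModular_isPrime hM
  obtain ⟨P, B₁, hPH, hPN, hcP, hBP, hind₁, -⟩ :=
    harrisKnorr_up hM N Q hQN H hH heQ hed hc hcov
  obtain ⟨P', B₂, hPH', hPN', hcP', hBP', hind₂, -⟩ :=
    harrisKnorr_up hM N Q hQN H hH heQ hed hc' hcov'
  have hB : IsPBlock M B := hind.2.1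
  have e1 : B₁ = B := isInducedBlock_unique H hind₁ hind
  have e2 : B₂ = B := isInducedBlock_unique H hind₂ hind'
  subst e1
  subst e2
  obtain ⟨g, hg⟩ := exists_conj_eq_of_isDefectGroup hM hB hBP' hBP
  -- `g` normalizes `Q`
  have hgH : g ∈ H := by
    rw [hH, Subgroup.mem_normalizer_iff]
    intro x
    have hconj : ∀ y : G, y ∈ Q → g * y * g⁻¹ ∈ Q := by
      intro y hy
      have hy' : y ∈ P' ⊓ N := by rw [hPN']; exact hy
      rw [← hPN]
      refine ⟨?_, hN.conj_mem y hy'.2 g⟩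
      rw [← hg]
      exact ⟨y, hy'.1, rfl⟩
    constructor
    · exact hconj x
    · intro hx
      -- cardinality: conjugation by `g` maps `Q` into `Q`, hence onto
      have hle : Q.map (MulAut.conj g).toMonoidHom ≤ Q := by
        rintro _ ⟨y, hy, rfl⟩
        exact hconj y hy
      have heq : Q.map (MulAut.conj g).toMonoidHom = Q :=
        Subgroup.eq_of_le_of_card_ge hle
          (by rw [Subgroup.card_map_of_injective (MulAut.conj g).injective])
      rw [← heq] at hx
      obtain ⟨y, hy, hyx⟩ := hx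
      have : y = x := by
        have h1 : g * y * g⁻¹ = g * x * g⁻¹ := hyx
        simpa using h1
      rwa [← this]
  -- `c'` also has defect group `P`
  have hcP'' : IsDefectGroup p M c' (P.subgroupOf H) := by
    have h1 := isDefectGroup_map_conj hcP' (⟨g, hgH⟩ : H)
    rwa [subgroupOf_map_conj, hg] at h1
  have hPp : IsPGroup p P := by
    have := isPGroup_of_isDefectGroup hcP
    exact (this.map H.subtype).to_le (by
      intro x hx
      exact ⟨⟨x, hPH hx⟩, hx, rfl⟩)
  have hNP : Subgroup.normalizer (P : Set G) ≤ H := hH ▸ normalizer_le_of_inf_eq N hPN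
  exact eq_of_isInducedBlock_of_normalizer_le hM P H hPp hPH hNP hc hc' hcP hcP'' hind hind'

end HKuniq

end Cfsg.Agent.Lib.Helper77
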