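import Cfsg.Agent.Lib.Helper77.CoverInduce
import Cfsg.Agent.Lib.Helper16.MaxPair

set_option autoImplicit false
set_option linter.unusedSectionVars false
set_option linter.style.haveILetI false

namespace Cfsg.Agent.Lib.Helper77

open Cfsg MonoidAlgebra Cfsg.Agent.Lib.Helper16

universe u

section HK1

variable {G : Type u} [Group G] [Fintype G] {M : Ideal AlgInt}

/-- If `P ≤ N_G(Q)` and `P ∩ N = Q` with `N` normal, then `N_G(P) ≤ N_G(Q)`. -/
theorem normalizer_le_of_inf_eq (N : Subgroup G) [hN : N.Normal] {P Q : Subgroup G}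
    (hPQ : P ⊓ N = Q) :
    Subgroup.normalizer (P : Set G) ≤ Subgroup.normalizer (Q : Set G) := by
  intro g hg
  rw [Subgroup.mem_normalizer_iff] at hg ⊢
  intro x
  rw [← hPQ, Subgroup.mem_inf, Subgroup.mem_inf, ← hg x]
  constructor
  · rintro ⟨h1, h2⟩
    exact ⟨h1, hN.conj_mem x h2 g⟩
  · rintro ⟨h1, h2⟩
    refine ⟨h1, ?_⟩
    have := hN.conj_mem _ h2 g⁻¹
    simpa [mul_assoc] using this

/-- **Harris–Knörr, first half**: a block of `H = N_G(Q)` covering `e` induces a block of `G`,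
which covers `d = e^N`. -/
theorem harrisKnorr_up {p : ℕ} [Fact p.Prime] (hM : IsPModular p M)
    (N : Subgroup G) [hN : N.Normal] [Fintype N] (Q : Subgroup G) (hQN : Q ≤ N)
    (H : Subgroup G) (hH : H = Subgroup.normalizer (Q : Set G))
    [Fintype H] [Fintype ↥(H ⊓ N)]
    {d : Set (IrrCharacter N)} {e : Set (IrrCharacter ↥(H ⊓ N))}
    (heQ : IsDefectGroup p M e (Q.subgroupOf (H ⊓ N)))
    (hed : IsInducedBlockIn M N (H ⊓ N) e d)
    {c : Set (IrrCharacter H)} (hc : IsPBlock M c)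
    (hcov : ∃ ψ ∈ c, ∃ ξ ∈ e, classInner (fun k : ↥(H ⊓ N) =>
      (ψ : H → ℂ) ⟨(k : G), (inf_le_left : H ⊓ N ≤ H) k.2⟩) (ξ : ↥(H ⊓ N) → ℂ) ≠ 0) :
    ∃ (P : Subgroup G) (B : Set (IrrCharacter G)), P ≤ H ∧
      P ⊓ N = Q ∧ IsDefectGroup p M c (P.subgroupOf H) ∧
      IsDefectGroup p M B P ∧ IsInducedBlock M H c B ∧
      ∃ χ ∈ B, ∃ θ ∈ d, classInner (fun n : N => (χ : G → ℂ) n) (θ : N → ℂ) ≠ 0 := by
  classical
  haveI hMp := isPModular_isPrime hM
  have hKH : H ⊓ N ≤ H := inf_le_left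
  haveI : ((H ⊓ N).subgroupOf H).Normal := inf_subgroupOf_normal H N
  have hQK : Q ≤ H ⊓ N := le_inf (hH ▸ Subgroup.le_normalizer) hQN
  obtain ⟨P, hPH, hcP, hPK⟩ := knorr_sub hM hKH hc hed.1 hQK heQ hcov
  have hPN : P ⊓ N = Q := by
    rw [← hPK, ← inf_assoc, inf_eq_left.mpr hPH]
  have hNP : Subgroup.normalizer (P : Set G) ≤ H := hH ▸ normalizer_le_of_inf_eq N hPN
  have hPp : IsPGroup p P := by
    have := isPGroup_of_isDefectGroup hcP
    exact (this.map H.subtype).to_le (by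
      intro x hx
      exact ⟨⟨x, hPH hx⟩, hx, rfl⟩)
  obtain ⟨B, hB, hBP, hind⟩ := exists_induced_of_normalizer_le hM P H hPp hPH hNP hc hcP
  exact ⟨P, B, hPH, hPN, hcP, hBP, hind, covers_of_isInducedBlock hM N H hind hed hcov⟩

end HK1

end Cfsg.Agent.Lib.Helper77
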