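import Mathlib
import Cfsg.Agent.Lib.Helper25.LinChar

/-!
# Auxiliary lemmas for Brauer's theorem on Sylow 2-subgroups of type `(2^m, 2^m)` (S0949)

* `three_signs`, `arith_core`: the integer arithmetic of the degree equations.
* `exists_sup_zpowers_eq_of_relIndex_prime`: a subgroup of prime relative index is complemented
  by a cyclic group.
* `sum_lin_mul_theta`, `sum_const_mul_theta`, `sum_orbit_mul_theta`: pairing with `θ = 1 - lam`
  on a finite group.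
* `not_inverted_of_abelian_sylow`: with abelian Sylow 2-subgroups, no involution inverts a
  2-element of order at least 4.
-/

set_option autoImplicit false
open Cfsg

namespace Cfsg.Agent.Lib.Helper77


open Subgroup

theorem three_signs {ι : Type*} [DecidableEq ι] (X : Finset ι) (a : ι → ℤ) (x₁ : ι)
    (hx₁ : x₁ ∈ X) (ha1 : a x₁ = 1) (hne : ∀ x ∈ X, a x ≠ 0) (hsum : ∑ x ∈ X, a x ^ 2 = 3) :
    ∃ x₂ x₃, x₂ ≠ x₁ ∧ x₃ ≠ x₁ ∧ x₂ ≠ x₃ ∧ X = {x₁, x₂, x₃} ∧ (a x₂ = 1 ∨ a x₂ = -1) ∧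
      (a x₃ = 1 ∨ a x₃ = -1) := by
  have h1 : ∑ x ∈ X.erase x₁, a x ^ 2 = 2 := by
    have := Finset.add_sum_erase X (fun x => a x ^ 2) hx₁
    simp only [ha1] at this
    linarith
  have hpos : ∀ x ∈ X.erase x₁, 1 ≤ a x ^ 2 := by
    intro x hx
    have := hne x (Finset.mem_of_mem_erase hx)
    have h2 : 0 < a x ^ 2 := by positivity
    linarith
  have hle : ∀ x ∈ X.erase x₁, a x ^ 2 ≤ 2 := by
    intro x hx
    have h3 : ∀ y ∈ X.erase x₁, 0 ≤ a y ^ 2 := fun y _ => by positivity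
    have := Finset.single_le_sum h3 hx
    linarith
  have hone : ∀ x ∈ X.erase x₁, a x ^ 2 = 1 ∧ (a x = 1 ∨ a x = -1) := by
    intro x hx
    have h4 := hpos x hx
    have h5 := hle x hx
    have h6 : a x ≤ 1 := by nlinarith
    have h7 : -1 ≤ a x := by nlinarith
    have h8 := hne x (Finset.mem_of_mem_erase hx)
    have h9 : a x = 1 ∨ a x = -1 := by omega
    rcases h9 with h | h <;> simp [h]
  have hcard : (X.erase x₁).card = 2 := by
    have : ∑ x ∈ X.erase x₁, a x ^ 2 = ∑ x ∈ X.erase x₁, (1 : ℤ) :=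
      Finset.sum_congr rfl (fun x hx => (hone x hx).1)
    rw [h1] at this
    simp at this
    exact_mod_cast this.symm
  obtain ⟨x₂, x₃, h23, hX'⟩ := Finset.card_eq_two.mp hcard
  have hx₂ : x₂ ∈ X.erase x₁ := by rw [hX']; simp
  have hx₃ : x₃ ∈ X.erase x₁ := by rw [hX']; simp
  refine ⟨x₂, x₃, Finset.ne_of_mem_erase hx₂, Finset.ne_of_mem_erase hx₃, h23, ?_,
    (hone x₂ hx₂).2, (hone x₃ hx₃).2⟩
  rw [← Finset.insert_erase hx₁, hX']

theorem exists_sup_zpowers_eq_of_relIndex_prime {G : Type*} [Group G] [Finite G]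
    (C N : Subgroup G) (hCN : C ≤ N) (q : ℕ) (hq : q.Prime) (h : C.relIndex N = q) :
    ∃ g ∈ N, C ⊔ zpowers g = N := by
  have hne : ¬ N ≤ C := by
    intro hle
    have := relIndex_eq_one.mpr hle
    rw [h] at this
    exact hq.one_lt.ne' this
  obtain ⟨g, hgN, hgC⟩ := SetLike.not_le_iff_exists.mp hne
  refine ⟨g, hgN, ?_⟩
  have hCL : C ≤ C ⊔ zpowers g := le_sup_left
  have hLN : C ⊔ zpowers g ≤ N := sup_le hCN (zpowers_le.mpr hgN)
  have hmul := relIndex_mul_relIndex C (C ⊔ zpowers g) N hCL hLN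
  rw [h] at hmul
  have h1 : C.relIndex (C ⊔ zpowers g) ≠ 1 := by
    intro h1
    have := relIndex_eq_one.mp h1
    exact hgC (this (mem_sup_right (mem_zpowers g)))
  have h2 : C.relIndex (C ⊔ zpowers g) ∣ q := Dvd.intro _ hmul
  have h3 : C.relIndex (C ⊔ zpowers g) = q := by
    rcases (Nat.dvd_prime hq).mp h2 with h | h
    · exact absurd h h1
    · exact h
  rw [h3] at hmul
  have h4 : (C ⊔ zpowers g).relIndex N = 1 := by
    have hq0 : 0 < q := hq.pos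
    nlinarith [Nat.eq_of_mul_eq_mul_left hq0 (by rw [hmul, mul_one] : q * (C ⊔ zpowers g).relIndex N = q * 1)]
  exact le_antisymm hLN (relIndex_eq_one.mp h4)



theorem arith_core (q x₂ x₃ w n₂ n₃ : ℕ) (a₂ a₃ δ : ℤ) (hq : 16 ≤ q)
    (hx₂ : 1 ≤ x₂) (hx₃ : 1 ≤ x₃) (hw : 1 ≤ w)
    (hc₂ : (x₂ : ℤ) = q * n₂ - (q - 1) * a₂) (hc₃ : (x₃ : ℤ) = q * n₃ - (q - 1) * a₃)
    (E2 : 1 + a₂ * x₂ + a₃ * x₃ - δ * w = 0)
    (E1 : (x₂ : ℤ) * x₃ * w + a₂ * x₃ * w + a₃ * x₂ * w - 9 * δ * x₂ * x₃ = 0)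
    (hpat : (a₂ = -1 ∧ a₃ = -1 ∧ δ = -1) ∨ (a₂ = 1 ∧ a₃ = -1 ∧ δ = 1) ∨
      (a₂ = -1 ∧ a₃ = 1 ∧ δ = 1)) : False := by
  have hq' : (16 : ℤ) ≤ q := by exact_mod_cast hq
  have hx₂' : (1 : ℤ) ≤ x₂ := by exact_mod_cast hx₂
  have hx₃' : (1 : ℤ) ≤ x₃ := by exact_mod_cast hx₃
  have hw' : (1 : ℤ) ≤ w := by exact_mod_cast hw
  have hn₂ : (0 : ℤ) ≤ n₂ := by positivity
  have hn₃ : (0 : ℤ) ≤ n₃ := by positivity
  generalize (q : ℤ) = Q at *
  generalize (x₂ : ℤ) = X₂ at *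
  generalize (x₃ : ℤ) = X₃ at *
  generalize (w : ℤ) = Wd at *
  generalize (n₂ : ℤ) = N₂ at *
  generalize (n₃ : ℤ) = N₃ at *
  rcases hpat with ⟨rfl, rfl, rfl⟩ | ⟨rfl, rfl, rfl⟩ | ⟨rfl, rfl, rfl⟩
  · -- case A
    have h2 : 15 ≤ X₂ := by nlinarith
    have h3 : 15 ≤ X₃ := by nlinarith
    have hW : Wd = X₂ + X₃ - 1 := by linarith
    subst hW
    nlinarith [mul_nonneg (sub_nonneg.mpr h2) (sub_nonneg.mpr h3)]
  · -- case B: a₂ = 1, a₃ = -1, δ = 1
    have h3 : 15 ≤ X₃ := by nlinarith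
    have hW : Wd = 3 + Q * (N₂ - N₃ - 2) := by linarith
    have hk : 0 ≤ N₂ - N₃ - 2 := by
      by_contra hneg
      rw [not_le] at hneg
      have : N₂ - N₃ - 2 ≤ -1 := by omega
      nlinarith
    rcases eq_or_lt_of_le hk with hk0 | hkpos
    · rw [← hk0] at hW
      simp at hW
      subst hW
      nlinarith [mul_pos (by linarith : (0:ℤ) < X₂) (by linarith : (0:ℤ) < X₃)]
    · have hW19 : 19 ≤ Wd := by
        have : 1 ≤ N₂ - N₃ - 2 := by omega
        nlinarith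
      nlinarith [mul_pos (by linarith : (0:ℤ) < X₂) (by linarith : (0:ℤ) < X₃),
        mul_nonneg (by linarith : (0:ℤ) ≤ X₂) (by linarith : (0:ℤ) ≤ X₃ - 15),
        mul_nonneg (mul_nonneg (by linarith : (0:ℤ) ≤ X₂) (by linarith : (0:ℤ) ≤ X₃)) (by linarith : (0:ℤ) ≤ Wd - 19)]
  · -- case C
    have h2 : 15 ≤ X₂ := by nlinarith
    have hW : Wd = 3 + Q * (N₃ - N₂ - 2) := by linarith
    have hk : 0 ≤ N₃ - N₂ - 2 := by
      by_contra hneg
      rw [not_le] at hneg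
      have : N₃ - N₂ - 2 ≤ -1 := by omega
      nlinarith
    rcases eq_or_lt_of_le hk with hk0 | hkpos
    · rw [← hk0] at hW
      simp at hW
      subst hW
      nlinarith [mul_pos (by linarith : (0:ℤ) < X₂) (by linarith : (0:ℤ) < X₃)]
    · have hW19 : 19 ≤ Wd := by
        have : 1 ≤ N₃ - N₂ - 2 := by omega
        nlinarith
      nlinarith [mul_pos (by linarith : (0:ℤ) < X₂) (by linarith : (0:ℤ) < X₃),
        mul_nonneg (by linarith : (0:ℤ) ≤ X₃) (by linarith : (0:ℤ) ≤ X₂ - 15),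
        mul_nonneg (mul_nonneg (by linarith : (0:ℤ) ≤ X₂) (by linarith : (0:ℤ) ≤ X₃)) (by linarith : (0:ℤ) ≤ Wd - 19)]



open Subgroup Cfsg.Agent.Lib.Helper25

section Lin

variable {W : Type*} [Group W] [Fintype W]

open Classical in
theorem sum_lin_mul_inv (ψ lam : W →* ℂˣ) :
    ∑ y : W, (ψ y : ℂ) * (lam y⁻¹ : ℂ) = if ψ = lam then (Nat.card W : ℂ) else 0 := by
  have h1 : ∀ y : W, (ψ y : ℂ) * (lam y⁻¹ : ℂ) = ((ψ * lam⁻¹) y : ℂ) := by
    intro y
    simp [MonoidHom.mul_apply, MonoidHom.inv_apply, map_inv]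
  rw [Finset.sum_congr rfl (fun y _ => h1 y)]
  by_cases e : ψ = lam
  · subst e
    rw [if_pos rfl]
    have h2 : ∀ y : W, (((ψ * ψ⁻¹) y : ℂˣ) : ℂ) = 1 := by intro y; simp
    rw [Finset.sum_congr rfl (fun y _ => h2 y)]
    simp [Nat.card_eq_fintype_card]
  · rw [if_neg e]
    apply lin_sum_eq_zero
    intro h
    apply e
    ext y
    have h2 := DFunLike.congr_fun h y
    simp only [MonoidHom.mul_apply, MonoidHom.inv_apply, MonoidHom.one_apply] at h2
    rw [mul_inv_eq_one.mp h2]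

open Classical in
/-- `Σ_y ψ(y) θ(y⁻¹)` for `θ = 1 - lam`. -/
theorem sum_lin_mul_theta (ψ lam : W →* ℂˣ) :
    ∑ y : W, (ψ y : ℂ) * (1 - (lam y⁻¹ : ℂ)) =
      (if ψ = 1 then (Nat.card W : ℂ) else 0) - (if ψ = lam then (Nat.card W : ℂ) else 0) := by
  have h1 : ∀ y : W, (ψ y : ℂ) * (1 - (lam y⁻¹ : ℂ)) =
      (ψ y : ℂ) * ((1 : W →* ℂˣ) y⁻¹ : ℂ) - (ψ y : ℂ) * (lam y⁻¹ : ℂ) := by
    intro y; simp [mul_sub]
  rw [Finset.sum_congr rfl (fun y _ => h1 y), Finset.sum_sub_distrib, sum_lin_mul_inv,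
    sum_lin_mul_inv]

/-- A function constant `= c` off the identity pairs with `θ = 1 - lam` to `c |W|`. -/
theorem sum_const_mul_theta (lam : W →* ℂˣ) (hlam : lam ≠ 1) (f : W → ℂ) (c : ℂ)
    (hf : ∀ y : W, y ≠ 1 → f y = c) :
    ∑ y : W, f y * (1 - (lam y⁻¹ : ℂ)) = c * (Nat.card W : ℂ) := by
  classical
  have h1 : ∀ y : W, f y * (1 - (lam y⁻¹ : ℂ)) = c * (((1 : W →* ℂˣ) y : ℂ) * (1 - (lam y⁻¹ : ℂ))) := by
    intro y
    by_cases hy : y = 1
    · subst hy; simp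
    · rw [hf y hy]; simp
  rw [Finset.sum_congr rfl (fun y _ => h1 y), ← Finset.mul_sum, sum_lin_mul_theta, if_pos rfl,
    if_neg (Ne.symm hlam), sub_zero]

open Classical in
/-- A function equal to `δ Σ_{ψ' ∈ O} ψ'` off the identity pairs with `θ = 1 - lam` to
`-δ |W| [lam ∈ O]`, if `1 ∉ O`. -/
theorem sum_orbit_mul_theta (lam : W →* ℂˣ) (O : Finset (W →* ℂˣ)) (hO : (1 : W →* ℂˣ) ∉ O)
    (f : W → ℂ) (δ : ℂ) (hf : ∀ y : W, y ≠ 1 → f y = δ * ∑ ψ' ∈ O, (ψ' y : ℂ)) :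
    ∑ y : W, f y * (1 - (lam y⁻¹ : ℂ)) = if lam ∈ O then -δ * (Nat.card W : ℂ) else 0 := by
  have h1 : ∀ y : W, f y * (1 - (lam y⁻¹ : ℂ)) =
      δ * ∑ ψ' ∈ O, (ψ' y : ℂ) * (1 - (lam y⁻¹ : ℂ)) := by
    intro y
    by_cases hy : y = 1
    · subst hy; simp
    · rw [hf y hy, mul_assoc, Finset.sum_mul]
  rw [Finset.sum_congr rfl (fun y _ => h1 y), ← Finset.mul_sum, Finset.sum_comm]
  have h2 : ∀ ψ' ∈ O, ∑ y : W, (ψ' y : ℂ) * (1 - (lam y⁻¹ : ℂ)) =
      - (if ψ' = lam then (Nat.card W : ℂ) else 0) := by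
    intro ψ' hψ'
    have hne : ψ' ≠ 1 := fun h => hO (by rw [← h]; exact hψ')
    rw [sum_lin_mul_theta, if_neg hne, zero_sub]
  rw [Finset.sum_congr rfl h2, Finset.sum_neg_distrib, Finset.sum_ite_eq']
  split_ifs <;> ring

end Lin



open Subgroup

section

variable {G : Type*} [Group G] [Finite G]

/-- With abelian Sylow 2-subgroups, an involution never inverts a 2-element of order `≥ 4`. -/
theorem not_inverted_of_abelian_sylow (P : Sylow 2 G)
    (hcomm : ∀ a ∈ (P : Subgroup G), ∀ b ∈ (P : Subgroup G), a * b = b * a)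
    (s u : G) (hs : orderOf s = 2) (hu : u ∈ (P : Subgroup G)) (hu2 : u ^ 2 ≠ 1) :
    s * u * s⁻¹ ≠ u⁻¹ := by
  intro h
  have hH : IsPGroup 2 (zpowers s) := by
    apply IsPGroup.of_card (n := 1)
    rw [Nat.card_zpowers, hs, pow_one]
  have hK : IsPGroup 2 (zpowers u) := P.isPGroup'.to_le (zpowers_le.mpr hu)
  have hnorm : zpowers s ≤ normalizer (zpowers u : Set G) := by
    rw [zpowers_le]
    rw [mem_normalizer_iff]
    intro x
    have hconj : ∀ y ∈ zpowers u, s * y * s⁻¹ ∈ zpowers u := by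
      intro y hy
      obtain ⟨k, rfl⟩ := mem_zpowers_iff.mp hy
      have : s * u ^ k * s⁻¹ = (s * u * s⁻¹) ^ k := by
        rw [← MulAut.conj_apply, map_zpow, MulAut.conj_apply]
      rw [this, h]
      exact zpow_mem (inv_mem (mem_zpowers u)) k
    have hs2 : s⁻¹ = s := by
      have : s ^ 2 = 1 := by rw [← hs]; exact pow_orderOf_eq_one s
      rw [inv_eq_iff_mul_eq_one, ← pow_two, this]
    constructor
    · intro hx; exact hconj x hx
    · intro hx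
      have := hconj _ hx
      rw [hs2] at this
      have h3 : s * (s * x * s) * s = x := by
        have hss : s * s = 1 := by rw [← pow_two, ← hs]; exact pow_orderOf_eq_one s
        calc s * (s * x * s) * s = (s * s) * x * (s * s) := by group
          _ = x := by rw [hss]; group
      rw [hs2] at hx
      rw [← h3]
      rw [hs2] at hconj
      exact hconj _ hx
  have hD := IsPGroup.to_sup_of_normal_right' hH hK hnorm
  obtain ⟨Q, hQ⟩ := hD.exists_le_sylow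
  obtain ⟨g, rfl⟩ := MulAction.exists_smul_eq G P Q
  have hsQ : s ∈ ((g • P : Sylow 2 G) : Subgroup G) := hQ (mem_sup_left (mem_zpowers s))
  have huQ : u ∈ ((g • P : Sylow 2 G) : Subgroup G) := hQ (mem_sup_right (mem_zpowers u))
  rw [Sylow.coe_subgroup_smul, mem_pointwise_smul_iff_inv_smul_mem] at hsQ huQ
  have hc := hcomm _ hsQ _ huQ
  simp only [MulAut.smul_def, MulAut.conj_inv_apply] at hc
  have hsu : s * u = u * s := by
    have : g⁻¹ * (s * u) * g = g⁻¹ * (u * s) * g := by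
      calc g⁻¹ * (s * u) * g = (g⁻¹ * s * g) * (g⁻¹ * u * g) := by group
        _ = (g⁻¹ * u * g) * (g⁻¹ * s * g) := hc
        _ = g⁻¹ * (u * s) * g := by group
    have h5 : g⁻¹ * (s * u) = g⁻¹ * (u * s) := mul_right_cancel this
    exact mul_left_cancel h5
  apply hu2
  have : u = u⁻¹ := by
    rw [← h, hsu]; group
  calc u ^ 2 = u * u := pow_two u
    _ = u * u⁻¹ := by rw [← this]
    _ = 1 := mul_inv_cancel u

end


end Cfsg.Agent.Lib.Helper77
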