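import Mathlib
import Cfsg.Agent.S4709
import Cfsg.Agent.S4722
import Cfsg.Agent.Lib.Helper74.SubgroupAvg
import Cfsg.Agent.Lib.Helper80.CharBasic
import Cfsg.Agent.Lib.Helper25.LinChar
import Cfsg.Agent.Lib.Helper79.Integrality
import Cfsg.Agent.Lib.Helper3.BrAbelian
import Cfsg.Agent.Lib.Helper77.HomoCharAux

/-!
# The character-theoretic core of Brauer's theorem on Sylow 2-subgroups of type `(2^m, 2^m)`

`false_of_no_normal_aux`: a finite group with abelian Sylow 2-subgroup `P`, `|P| ≥ 16`,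
`|N_G(P) : C_G(P)| = 3` acting fixed-point-freely, `P` of exponent at least 4, cannot have an
involution `t ∈ P` lying in no proper normal subgroup.  Uses S4709 (exceptional characters) and
S4722 (principal block columns).
-/

set_option autoImplicit false
set_option linter.unusedSectionVars false
set_option linter.unreachableTactic false
set_option linter.unusedTactic false
open Cfsg

namespace Cfsg.Agent.Lib.Helper77

open Subgroup

theorem finsum_mem_eq_single_of {α M : Type*} [AddCommMonoid M] (s : Set α) (f : α → M) (a : α)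
    (ha : a ∈ s) (h : ∀ x ∈ s, x ≠ a → f x = 0) : ∑ᶠ x ∈ s, f x = f a := by
  have h1 : s ∩ Function.support f = ({a} : Set α) ∩ Function.support f := by
    ext x
    simp only [Set.mem_inter_iff, Function.mem_support, Set.mem_singleton_iff]
    constructor
    · rintro ⟨hx, hfx⟩
      refine ⟨?_, hfx⟩
      by_contra hne
      exact hfx (h x hx hne)
    · rintro ⟨rfl, hfx⟩
      exact ⟨ha, hfx⟩
  rw [finsum_mem_inter_support_eq f s {a} h1, finsum_mem_singleton]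

theorem card_le_one_of_forall_eq {α : Type*} (p : α → Prop) (c : α) (h : ∀ x, p x → x = c) :
    Nat.card {x // p x} ≤ 1 := by
  have : Subsingleton {x // p x} :=
    ⟨fun x y => Subtype.ext ((h x x.2).trans (h y y.2).symm)⟩
  exact Finite.card_le_one_iff_subsingleton.mpr this

section

variable {G : Type*} [Group G] [Finite G]

theorem isPPart_self_of_mem_sylow (P : Sylow 2 G) (y : G) (hy : y ∈ (P : Subgroup G)) :
    IsPPart 2 y y := by
  refine ⟨1, mul_one y, Commute.one_right y, ?_, by simp⟩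
  obtain ⟨k, hk⟩ := (IsPGroup.iff_orderOf.mp P.isPGroup') ⟨y, hy⟩
  exact ⟨k, by rw [← hk, Subgroup.orderOf_mk]⟩

theorem false_of_no_normal_aux (M : Ideal AlgInt) (hM : IsPModular 2 M) (P : Sylow 2 G)
    (hcomm : ∀ a ∈ (P : Subgroup G), ∀ b ∈ (P : Subgroup G), a * b = b * a)
    (hcard : 16 ≤ Nat.card (P : Subgroup G))
    (hCN : (centralizer ((P : Subgroup G) : Set G)).relIndex
      (normalizer ((P : Subgroup G) : Set G)) = 3)
    (hfrob : ∀ y : G, y ∈ (P : Subgroup G) → y ≠ 1 →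
      centralizer ({y} : Set G) ⊓ normalizer ((P : Subgroup G) : Set G) =
        centralizer ((P : Subgroup G) : Set G))
    (t : G) (ht : orderOf t = 2) (htP : t ∈ (P : Subgroup G))
    (w : G) (hwP : w ∈ (P : Subgroup G)) (hw : w ^ 2 ≠ 1)
    (hnoK : ∀ K : Subgroup G, K.Normal → t ∈ K → K = ⊤) : False := by
  classical
  have hab : IsMulCommutative P := ⟨⟨fun a b => Subtype.ext (hcomm a a.2 b b.2)⟩⟩
  have hcardP : Nat.card P = Nat.card (P : Subgroup G) := rfl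
  have hP1 : Nat.card P ≠ 1 := by omega
  have hm2 : 3 + 1 < Nat.card P := by omega
  have hcyc : ∃ g : G, g ∈ normalizer ((P : Subgroup G) : Set G) ∧
      centralizer ((P : Subgroup G) : Set G) ⊔ zpowers g = normalizer ((P : Subgroup G) : Set G) :=
    exists_sup_zpowers_eq_of_relIndex_prime _ _ (centralizer_le_normalizer _) 3 Nat.prime_three hCN
  obtain ⟨s, X, Y, hs, hB, hdisj, hcardX, hcardY, ⟨χ₁, hχ₁X, hχ₁⟩, a, d, δ, ζ, hδ, hX, hζY, hYsurj,
    hζorb, hζval, heq, hagree, hrel⟩ :=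
    Cfsg.Agent.S4709.result 2 M hM P hab hP1 3 (by norm_num) hm2 hCN hcyc hfrob
  have : Fintype ↥(P : Subgroup G) := Fintype.ofFinite _
  have ht1 : t ≠ 1 := by
    intro h; rw [h, orderOf_one] at ht; omega
  -- `a χ₁ = 1`
  have ha1 : a χ₁ = 1 := by
    have h1 := (hX χ₁ hχ₁X).2 t t (isPPart_self_of_mem_sylow P t htP) htP ht1
    rw [hχ₁] at h1
    have h1' : (1 : ℂ) = (a χ₁ : ℂ) := h1
    exact_mod_cast h1'.symm
  -- finite version of `X`
  have hXfin := Set.toFinite X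
  have hS : ∑ᶠ χ ∈ X, a χ ^ 2 = ∑ χ ∈ hXfin.toFinset, a χ ^ 2 :=
    finsum_mem_eq_finite_toFinset_sum _ hXfin
  have hχ₁Xf : χ₁ ∈ hXfin.toFinset := (Set.Finite.mem_toFinset hXfin).mpr hχ₁X
  have hS1 : 1 ≤ ∑ χ ∈ hXfin.toFinset, a χ ^ 2 := by
    have h3 : ∀ y ∈ hXfin.toFinset, 0 ≤ a y ^ 2 := fun y _ => by positivity
    have := Finset.single_le_sum h3 hχ₁Xf
    rw [ha1] at this
    linarith
  have hr : (5 : ℤ) ≤ ((Nat.card P : ℤ) - 1) / 3 := by
    have : (16 : ℤ) ≤ (Nat.card P : ℤ) := by exact_mod_cast (by omega : 16 ≤ Nat.card P)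
    omega
  have hδ2 : δ ^ 2 = 1 := by rcases hδ with h | h <;> simp [h]
  have hd : d = 0 := by
    by_contra hd0
    have hd2 : 1 ≤ d ^ 2 := by
      have : 0 < d ^ 2 := by positivity
      linarith
    rw [hS] at heq
    push_cast at heq
    generalize ((Nat.card P : ℤ) - 1) / 3 = r at heq hr
    nlinarith [sq_nonneg (d - δ), mul_le_mul_of_nonneg_right (by linarith : (4 : ℤ) ≤ r - 1) (by positivity : (0 : ℤ) ≤ d ^ 2)]
  have hS3 : ∑ χ ∈ hXfin.toFinset, a χ ^ 2 = 3 := by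
    rw [hS, hd] at heq
    push_cast at heq
    have : (0 - δ) ^ 2 = δ ^ 2 := by ring
    rw [this, hδ2] at heq
    linarith
  obtain ⟨χ₂, χ₃, h21, h31, h23, hXeq, ha2, ha3⟩ := three_signs hXfin.toFinset a χ₁ hχ₁Xf ha1
    (fun χ hχ => (hX χ ((Set.Finite.mem_toFinset hXfin).mp hχ)).1) hS3
  -- the linear character `lam`, trivial on involutions
  have hcommP : ∀ x y : ↥(P : Subgroup G), x * y = y * x :=
    fun x y => Subtype.ext (hcomm x x.2 y y.2)
  have hw2ne : (⟨w, hwP⟩ : ↥(P : Subgroup G)) ^ 2 ≠ 1 := by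
    intro h
    apply hw
    have := congrArg Subtype.val h
    simpa using this
  obtain ⟨ν, hν⟩ := Cfsg.Agent.Lib.Helper3.exists_hom_apply_ne_one hcommP hw2ne
  obtain ⟨lam, hlamdef⟩ : ∃ lam : ↥(P : Subgroup G) →* ℂˣ, lam = ν * ν := ⟨_, rfl⟩
  have hlamsq : ∀ y : ↥(P : Subgroup G), lam y = ν (y ^ 2) := by
    intro y
    rw [hlamdef, MonoidHom.mul_apply, pow_two, map_mul]
  have hlam1 : lam ≠ 1 := by
    intro h
    apply hν
    have := DFunLike.congr_fun h ⟨w, hwP⟩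
    rw [hlamsq] at this
    simpa using this
  have hlaminv : ∀ y : ↥(P : Subgroup G), (y : G) ^ 2 = 1 → lam y = 1 := by
    intro y hy
    have : y ^ 2 = 1 := Subtype.ext (by simpa using hy)
    rw [hlamsq, this, map_one]
  obtain ⟨θ, hθdef⟩ : ∃ θ : ↥(P : Subgroup G) → ℂ, θ = fun y => 1 - (lam y : ℂ) := ⟨_, rfl⟩
  have hθ : IsGeneralizedCharacter ↥(P : Subgroup G) θ :=
    ⟨fun _ => 1, fun y => (lam y : ℂ),
      Cfsg.Agent.Lib.Helper80.isCharacter_of_isIrr Cfsg.Agent.Lib.Helper80.isIrrCharacter_one,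
      Cfsg.Agent.Lib.Helper80.isCharacter_of_isIrr (Cfsg.Agent.Lib.Helper80.isIrrCharacter_of_hom lam),
      by rw [hθdef]; rfl⟩
  have hθapp : ∀ y : ↥(P : Subgroup G), θ y = 1 - (lam y : ℂ) := fun y => by rw [hθdef]
  obtain ⟨U, hUdef⟩ : ∃ U : Set G, U = {u | u ∈ (P : Subgroup G) ∧ u ^ 2 ≠ 1} := ⟨_, rfl⟩
  have hUP : U ⊆ ((P : Subgroup G) : Set G) := by
    rw [hUdef]; exact fun u hu => hu.1
  have hinv : ∀ u ∈ U, ∀ g : G, (g * t * g⁻¹) * u * (g * t * g⁻¹)⁻¹ ≠ u⁻¹ := by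
    intro u hu g
    rw [hUdef] at hu
    apply not_inverted_of_abelian_sylow P hcomm _ u _ hu.1 hu.2
    rw [← MulAut.conj_apply, MulEquiv.orderOf_eq, ht]
  have hθU : ∀ y : ↥(P : Subgroup G), (y : G) ∉ U → θ y = 0 := by
    intro y hy
    have h2 : (y : G) ^ 2 = 1 := by
      by_contra h
      apply hy
      rw [hUdef]
      exact ⟨y.2, h⟩
    rw [hθapp, hlaminv y h2]
    simp
  obtain ⟨E1, E2, E3, E4⟩ := Cfsg.Agent.S4722.result M hM (P : Subgroup G) P.isPGroup' U hUP t ht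
    hinv θ hθ hθU
  obtain ⟨A, hAdef⟩ : ∃ A : IrrCharacter G → ℂ, A = fun χ : IrrCharacter G =>
      (Nat.card ↥(P : Subgroup G) : ℂ)⁻¹ *
        ∑ᶠ y : ↥(P : Subgroup G), (χ : G → ℂ) (y : G) * θ y⁻¹ := ⟨_, rfl⟩
  have hcP0 : (Nat.card ↥(P : Subgroup G) : ℂ) ≠ 0 := by
    have : 0 < Nat.card ↥(P : Subgroup G) := by omega
    exact_mod_cast this.ne'
  have hAapp : ∀ χ : IrrCharacter G, A χ = (Nat.card ↥(P : Subgroup G) : ℂ)⁻¹ *
      ∑ y : ↥(P : Subgroup G), (χ : G → ℂ) (y : G) * (1 - (lam y⁻¹ : ℂ)) := by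
    intro χ
    rw [hAdef]
    simp only
    rw [finsum_eq_sum_of_fintype]
    congr 1
    apply Finset.sum_congr rfl
    intro y _
    rw [hθapp]
  -- `A` on `X`
  have hAX : ∀ χ ∈ X, A χ = (a χ : ℂ) := by
    intro χ hχ
    rw [hAapp, sum_const_mul_theta lam hlam1 (fun y => (χ : G → ℂ) (y : G)) (a χ : ℂ) ?_]
    · field_simp
    · intro y hy
      exact (hX χ hχ).2 y y (isPPart_self_of_mem_sylow P y y.2) y.2
        (fun h => hy (Subtype.ext h))
  -- `A` on `Y`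
  have hAY : ∀ ψ : ↥(P : Subgroup G) →* ℂˣ, ψ ≠ 1 →
      A (ζ ψ) = if lam ∈ {ψ' : ↥(P : Subgroup G) →* ℂˣ | ∃ n : G,
        n ∈ normalizer ((P : Subgroup G) : Set G) ∧ ∀ w w' : ↥(P : Subgroup G),
          (w' : G) = n * w * n⁻¹ → ψ' w' = ψ w} then -(δ : ℂ) else 0 := by
    intro ψ hψ
    have hOfin := Set.toFinite {ψ' : ↥(P : Subgroup G) →* ℂˣ | ∃ n : G,
        n ∈ normalizer ((P : Subgroup G) : Set G) ∧ ∀ w w' : ↥(P : Subgroup G),
          (w' : G) = n * w * n⁻¹ → ψ' w' = ψ w}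
    have hO1 : (1 : ↥(P : Subgroup G) →* ℂˣ) ∉ hOfin.toFinset := by
      rw [Set.Finite.mem_toFinset]
      rintro ⟨n, hn, h⟩
      apply hψ
      ext y
      have hmem : n * (y : G) * n⁻¹ ∈ (P : Subgroup G) := (mem_normalizer_iff.mp hn (y : G)).mp y.2
      have := h y ⟨n * (y : G) * n⁻¹, hmem⟩ rfl
      simp only [MonoidHom.one_apply] at this
      rw [← this]
      simp
    rw [hAapp, sum_orbit_mul_theta lam hOfin.toFinset hO1 (fun y => (ζ ψ : G → ℂ) (y : G)) (δ : ℂ) ?_]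
    · simp only [Set.Finite.mem_toFinset]
      split_ifs
      · field_simp
      · simp
    · intro y hy
      have := hζval ψ hψ y y (isPPart_self_of_mem_sylow P y y.2) (fun h => hy (Subtype.ext h))
      rw [this, hd, finsum_mem_eq_finite_toFinset_sum _ hOfin]
      simp
  have hlamorb : lam ∈ {ψ' : ↥(P : Subgroup G) →* ℂˣ | ∃ n : G,
        n ∈ normalizer ((P : Subgroup G) : Set G) ∧ ∀ w w' : ↥(P : Subgroup G),
          (w' : G) = n * w * n⁻¹ → ψ' w' = lam w} := by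
    refine ⟨1, one_mem _, ?_⟩
    intro w w' hww'
    have : w' = w := Subtype.ext (by simpa using hww')
    rw [this]
  have hAlam : A (ζ lam) = -(δ : ℂ) := by
    rw [hAY lam hlam1, if_pos hlamorb]
  have hAYne : ∀ η ∈ Y, η ≠ ζ lam → A η = 0 := by
    intro η hη hne
    obtain ⟨ψ, hψ, rfl⟩ := hYsurj η hη
    rw [hAY ψ hψ]
    split_ifs with hmem
    · exfalso
      apply hne
      exact (hζorb ψ lam hψ hmem).symm
    · rfl
  -- splitting sums over the principal block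
  have hsplit : ∀ F : IrrCharacter G → ℂ, ∑ᶠ χ ∈ principalBlock M G, A χ * F χ =
      ((a χ₁ : ℂ) * F χ₁ + ((a χ₂ : ℂ) * F χ₂ + (a χ₃ : ℂ) * F χ₃)) + (-(δ : ℂ)) * F (ζ lam) := by
    intro F
    rw [hB, finsum_mem_union hdisj hXfin (Set.toFinite Y)]
    congr 1
    · rw [finsum_mem_eq_finite_toFinset_sum _ hXfin, hXeq]
      rw [Finset.sum_insert (by simp [h21.symm, h31.symm]), Finset.sum_insert (by simp [h23]),
        Finset.sum_singleton]
      have hχ₂X : χ₂ ∈ X := by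
        rw [← Set.Finite.mem_toFinset hXfin, hXeq]; simp
      have hχ₃X : χ₃ ∈ X := by
        rw [← Set.Finite.mem_toFinset hXfin, hXeq]; simp
      rw [hAX χ₁ hχ₁X, hAX χ₂ hχ₂X, hAX χ₃ hχ₃X]
    · rw [finsum_mem_eq_single_of Y _ (ζ lam) (hζY lam hlam1)
        (fun η hη hne => by rw [hAYne η hη hne, zero_mul]), hAlam]
  have hχ₂X : χ₂ ∈ X := by
    rw [← Set.Finite.mem_toFinset hXfin, hXeq]; simp
  have hχ₃X : χ₃ ∈ X := by
    rw [← Set.Finite.mem_toFinset hXfin, hXeq]; simp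
  have hvalt : ∀ χ ∈ X, (χ : G → ℂ) t = (a χ : ℂ) := fun χ hχ =>
    (hX χ hχ).2 t t (isPPart_self_of_mem_sylow P t htP) htP ht1
  have E1' : ∑ᶠ χ ∈ principalBlock M G, A χ * ((χ : G → ℂ) t ^ 2 / (χ : G → ℂ) 1) = 0 := by
    rw [← E1, hAdef]
    apply finsum_mem_congr rfl
    intro χ _
    simp only
    rw [mul_div_assoc]
  have E2' : ∑ᶠ χ ∈ principalBlock M G, A χ * (χ : G → ℂ) 1 = 0 := by
    rw [← E2, hAdef]
  have E3' : ∑ᶠ χ ∈ principalBlock M G, A χ * (χ : G → ℂ) t = 0 := by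
    rw [← E3, hAdef]
  rw [hsplit] at E1' E2' E3'
  rw [hvalt χ₁ hχ₁X, hvalt χ₂ hχ₂X, hvalt χ₃ hχ₃X] at E1' E3'
  have ha1c : (a χ₁ : ℂ) = 1 := by rw [ha1]; norm_num
  have ha2sq : (a χ₂ : ℂ) * (a χ₂ : ℂ) = 1 := by
    rcases ha2 with h | h <;> rw [h] <;> norm_num
  have ha3sq : (a χ₃ : ℂ) * (a χ₃ : ℂ) = 1 := by
    rcases ha3 with h | h <;> rw [h] <;> norm_num
  have hδsq : (δ : ℂ) * (δ : ℂ) = 1 := by
    rcases hδ with h | h <;> rw [h] <;> norm_num
  -- value of `ζ lam` at `t`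
  have hζt : (ζ lam : G → ℂ) t = 3 * (δ : ℂ) := by
    have h1 : (δ : ℂ) * (ζ lam : G → ℂ) t = 3 := by
      rw [ha1c] at E3'
      linear_combination (-1 : ℂ) * E3' + ha2sq + ha3sq
    calc (ζ lam : G → ℂ) t = ((δ : ℂ) * (δ : ℂ)) * (ζ lam : G → ℂ) t := by rw [hδsq, one_mul]
      _ = (δ : ℂ) * ((δ : ℂ) * (ζ lam : G → ℂ) t) := by ring
      _ = 3 * (δ : ℂ) := by rw [h1]; ring
  -- degrees
  have hdeg : ∀ χ : IrrCharacter G, (χ : G → ℂ) 1 = (charDegree (χ : G → ℂ) : ℂ) := fun χ =>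
    Cfsg.Agent.Lib.Helper78.IsCharacter.apply_one_eq_charDegree
      (Cfsg.Agent.Lib.Helper80.isCharacter_of_isIrr χ.2)
  have hdegpos : ∀ χ : IrrCharacter G, 1 ≤ charDegree (χ : G → ℂ) := fun χ =>
    Cfsg.Agent.Lib.Helper79.irr_charDegree_pos χ
  have hcong : ∀ χ ∈ X, ∃ n : ℕ, (charDegree (χ : G → ℂ) : ℤ) =
      (Nat.card ↥(P : Subgroup G) : ℤ) * n - ((Nat.card ↥(P : Subgroup G) : ℤ) - 1) * a χ := by
    intro χ hχ
    obtain ⟨n, hn⟩ := Cfsg.Agent.Lib.Helper74.exists_nat_sum_subgroup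
      (Cfsg.Agent.Lib.Helper80.isCharacter_of_isIrr χ.2) (P : Subgroup G)
    rw [Cfsg.Agent.Lib.Helper74.sum_subgroup_of_const (P : Subgroup G) (χ : G → ℂ) (a χ : ℂ)
      (fun k hk hk1 => (hX χ hχ).2 k k (isPPart_self_of_mem_sylow P k hk) hk hk1), hdeg] at hn
    refine ⟨n, ?_⟩
    have : ((charDegree (χ : G → ℂ) : ℤ) : ℂ) =
        (((Nat.card ↥(P : Subgroup G) : ℤ) * n - ((Nat.card ↥(P : Subgroup G) : ℤ) - 1) * a χ : ℤ) : ℂ) := by
      push_cast
      linear_combination hn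
    exact_mod_cast this
  obtain ⟨n₂, hn₂⟩ := hcong χ₂ hχ₂X
  obtain ⟨n₃, hn₃⟩ := hcong χ₃ hχ₃X
  have hχ₁one : (χ₁ : G → ℂ) 1 = 1 := by rw [hχ₁]
  rw [hdeg χ₂, hdeg χ₃, hdeg (ζ lam), hχ₁one, ha1c] at E2' E1'
  rw [hζt] at E1'
  have E2z : 1 + a χ₂ * (charDegree (χ₂ : G → ℂ) : ℤ) + a χ₃ * (charDegree (χ₃ : G → ℂ) : ℤ) -
      δ * (charDegree (ζ lam : G → ℂ) : ℤ) = 0 := by
    have : ((1 + a χ₂ * (charDegree (χ₂ : G → ℂ) : ℤ) + a χ₃ * (charDegree (χ₃ : G → ℂ) : ℤ) -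
      δ * (charDegree (ζ lam : G → ℂ) : ℤ) : ℤ) : ℂ) = 0 := by
      push_cast
      linear_combination E2'
    exact_mod_cast this
  have hx2c : ((charDegree (χ₂ : G → ℂ) : ℕ) : ℂ) ≠ 0 := by
    have := hdegpos χ₂
    exact_mod_cast (by omega : charDegree (χ₂ : G → ℂ) ≠ 0)
  have hx3c : ((charDegree (χ₃ : G → ℂ) : ℕ) : ℂ) ≠ 0 := by
    have := hdegpos χ₃
    exact_mod_cast (by omega : charDegree (χ₃ : G → ℂ) ≠ 0)
  have hwc : ((charDegree (ζ lam : G → ℂ) : ℕ) : ℂ) ≠ 0 := by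
    have := hdegpos (ζ lam)
    exact_mod_cast (by omega : charDegree (ζ lam : G → ℂ) ≠ 0)
  have E1z : (charDegree (χ₂ : G → ℂ) : ℤ) * (charDegree (χ₃ : G → ℂ) : ℤ) *
        (charDegree (ζ lam : G → ℂ) : ℤ) +
      a χ₂ * (charDegree (χ₃ : G → ℂ) : ℤ) * (charDegree (ζ lam : G → ℂ) : ℤ) +
      a χ₃ * (charDegree (χ₂ : G → ℂ) : ℤ) * (charDegree (ζ lam : G → ℂ) : ℤ) -
      9 * δ * (charDegree (χ₂ : G → ℂ) : ℤ) * (charDegree (χ₃ : G → ℂ) : ℤ) = 0 := by
    have h : (((charDegree (χ₂ : G → ℂ) : ℤ) * (charDegree (χ₃ : G → ℂ) : ℤ) *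
        (charDegree (ζ lam : G → ℂ) : ℤ) +
      a χ₂ * (charDegree (χ₃ : G → ℂ) : ℤ) * (charDegree (ζ lam : G → ℂ) : ℤ) +
      a χ₃ * (charDegree (χ₂ : G → ℂ) : ℤ) * (charDegree (ζ lam : G → ℂ) : ℤ) -
      9 * δ * (charDegree (χ₂ : G → ℂ) : ℤ) * (charDegree (χ₃ : G → ℂ) : ℤ) : ℤ) : ℂ) = 0 := by
      push_cast
      field_simp at E1'
      have e2 : (a χ₂ : ℂ) ^ 2 = 1 := by rw [pow_two, ha2sq]
      have e3 : (a χ₃ : ℂ) ^ 2 = 1 := by rw [pow_two, ha3sq]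
      have eδ : (δ : ℂ) ^ 2 = 1 := by rw [pow_two, hδsq]
      linear_combination E1' - (a χ₂ : ℂ) * (charDegree (χ₃ : G → ℂ) : ℂ) * (charDegree (ζ lam : G → ℂ) : ℂ) * e2 - (a χ₃ : ℂ) * (charDegree (χ₂ : G → ℂ) : ℂ) * (charDegree (ζ lam : G → ℂ) : ℂ) * e3 + 9 * (δ : ℂ) * (charDegree (χ₂ : G → ℂ) : ℂ) * (charDegree (χ₃ : G → ℂ) : ℂ) * eδ
    exact_mod_cast h
  -- the sign pattern
  have hθne : (Nat.card ↥(P : Subgroup G) : ℂ)⁻¹ * ∑ᶠ y : ↥(P : Subgroup G), θ y ≠ 0 := by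
    rw [finsum_eq_sum_of_fintype]
    have : ∑ y : ↥(P : Subgroup G), θ y = (Nat.card ↥(P : Subgroup G) : ℂ) := by
      simp only [hθapp, Finset.sum_sub_distrib, Cfsg.Agent.Lib.Helper25.lin_sum_eq_zero lam hlam1]
      simp [Nat.card_eq_fintype_card]
    rw [this, inv_mul_cancel₀ hcP0]
    exact one_ne_zero
  rcases E4 hθne with ⟨hpos, hneg⟩ | ⟨K, hKn, hKtop, -, htK⟩
  swap
  · exact hKtop (hnoK K hKn htK)
  have hpos' : 2 ≤ Nat.card {χ : IrrCharacter G // χ ∈ principalBlock M G ∧ 0 < (A χ).re} := by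
    rw [hAdef]; exact hpos
  have hneg' : 2 ≤ Nat.card {χ : IrrCharacter G // χ ∈ principalBlock M G ∧ (A χ).re < 0} := by
    rw [hAdef]; exact hneg
  have hA1 : A χ₁ = 1 := by rw [hAX χ₁ hχ₁X, ha1c]
  have hA2 := hAX χ₂ hχ₂X
  have hA3 := hAX χ₃ hχ₃X
  have hAdesc : ∀ χ ∈ principalBlock M G,
      χ = χ₁ ∨ χ = χ₂ ∨ χ = χ₃ ∨ χ = ζ lam ∨ A χ = 0 := by
    intro χ hχ
    rw [hB] at hχ
    rcases hχ with hχ | hχ
    · rw [← Set.Finite.mem_toFinset hXfin, hXeq] at hχ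
      simp only [Finset.mem_insert, Finset.mem_singleton] at hχ
      rcases hχ with h | h | h
      · exact Or.inl h
      · exact Or.inr (Or.inl h)
      · exact Or.inr (Or.inr (Or.inl h))
    · by_cases h : χ = ζ lam
      · exact Or.inr (Or.inr (Or.inr (Or.inl h)))
      · exact Or.inr (Or.inr (Or.inr (Or.inr (hAYne χ hχ h))))
  have hnegle : ∀ c : IrrCharacter G,
      (∀ χ ∈ principalBlock M G, (A χ).re < 0 → χ = c) → False := by
    intro c h
    have := card_le_one_of_forall_eq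
      (fun χ : IrrCharacter G => χ ∈ principalBlock M G ∧ (A χ).re < 0) c
      (fun χ hχ => h χ hχ.1 hχ.2)
    omega
  have hposle : ∀ c : IrrCharacter G,
      (∀ χ ∈ principalBlock M G, 0 < (A χ).re → χ = c) → False := by
    intro c h
    have := card_le_one_of_forall_eq
      (fun χ : IrrCharacter G => χ ∈ principalBlock M G ∧ 0 < (A χ).re) c
      (fun χ hχ => h χ hχ.1 hχ.2)
    omega
  have hpat : (a χ₂ = -1 ∧ a χ₃ = -1 ∧ δ = -1) ∨ (a χ₂ = 1 ∧ a χ₃ = -1 ∧ δ = 1) ∨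
      (a χ₂ = -1 ∧ a χ₃ = 1 ∧ δ = 1) := by
    rcases ha2 with h2 | h2 <;> rcases ha3 with h3 | h3 <;> rcases hδ with hd' | hd'
    · exfalso
      refine hnegle (ζ lam) (fun χ hχB hlt => ?_)
      rcases hAdesc χ hχB with rfl | rfl | rfl | rfl | h0
      · first | rfl | (exfalso; rw [hA1] at hlt; norm_num at hlt)
      · first | rfl | (exfalso; rw [hA2, h2] at hlt; norm_num at hlt)
      · first | rfl | (exfalso; rw [hA3, h3] at hlt; norm_num at hlt)
      · first | rfl | (exfalso; rw [hAlam, hd'] at hlt; norm_num at hlt)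
      · exfalso; rw [h0] at hlt; simp at hlt
    · exfalso
      refine hnegle χ₁ (fun χ hχB hlt => ?_)
      rcases hAdesc χ hχB with rfl | rfl | rfl | rfl | h0
      · first | rfl | (exfalso; rw [hA1] at hlt; norm_num at hlt)
      · first | rfl | (exfalso; rw [hA2, h2] at hlt; norm_num at hlt)
      · first | rfl | (exfalso; rw [hA3, h3] at hlt; norm_num at hlt)
      · first | rfl | (exfalso; rw [hAlam, hd'] at hlt; norm_num at hlt)
      · exfalso; rw [h0] at hlt; simp at hlt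
    · exact Or.inr (Or.inl ⟨h2, h3, hd'⟩)
    · exfalso
      refine hnegle χ₃ (fun χ hχB hlt => ?_)
      rcases hAdesc χ hχB with rfl | rfl | rfl | rfl | h0
      · first | rfl | (exfalso; rw [hA1] at hlt; norm_num at hlt)
      · first | rfl | (exfalso; rw [hA2, h2] at hlt; norm_num at hlt)
      · first | rfl | (exfalso; rw [hA3, h3] at hlt; norm_num at hlt)
      · first | rfl | (exfalso; rw [hAlam, hd'] at hlt; norm_num at hlt)
      · exfalso; rw [h0] at hlt; simp at hlt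
    · exact Or.inr (Or.inr ⟨h2, h3, hd'⟩)
    · exfalso
      refine hnegle χ₂ (fun χ hχB hlt => ?_)
      rcases hAdesc χ hχB with rfl | rfl | rfl | rfl | h0
      · first | rfl | (exfalso; rw [hA1] at hlt; norm_num at hlt)
      · first | rfl | (exfalso; rw [hA2, h2] at hlt; norm_num at hlt)
      · first | rfl | (exfalso; rw [hA3, h3] at hlt; norm_num at hlt)
      · first | rfl | (exfalso; rw [hAlam, hd'] at hlt; norm_num at hlt)
      · exfalso; rw [h0] at hlt; simp at hlt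
    · exfalso
      refine hposle χ₁ (fun χ hχB hlt => ?_)
      rcases hAdesc χ hχB with rfl | rfl | rfl | rfl | h0
      · first | rfl | (exfalso; rw [hA1] at hlt; norm_num at hlt)
      · first | rfl | (exfalso; rw [hA2, h2] at hlt; norm_num at hlt)
      · first | rfl | (exfalso; rw [hA3, h3] at hlt; norm_num at hlt)
      · first | rfl | (exfalso; rw [hAlam, hd'] at hlt; norm_num at hlt)
      · exfalso; rw [h0] at hlt; simp at hlt
    · exact Or.inl ⟨h2, h3, hd'⟩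
  exact arith_core (Nat.card ↥(P : Subgroup G)) (charDegree (χ₂ : G → ℂ))
    (charDegree (χ₃ : G → ℂ)) (charDegree (ζ lam : G → ℂ)) n₂ n₃ (a χ₂) (a χ₃) δ hcard
    (hdegpos χ₂) (hdegpos χ₃) (hdegpos (ζ lam)) hn₂ hn₃ E2z E1z hpat

end

end Cfsg.Agent.Lib.Helper77
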