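import Mathlib
import Cfsg.Prelude.Def_Solvable
import Cfsg.Agent.Lib.Helper47.SylowLemmas
import Cfsg.Agent.Lib.Helper55.Cores2

/-!
# Induction step for Brauer's theorem on Sylow 2-subgroups of type `(2^m, 2^m)` (S0949)

`normal_of_proper_normal_even`: in a group `G` with `O(G) = 1`, homocyclic Sylow 2-subgroup `P`
and an element of `N_G(P)` acting fixed-point-freely on `P`, the existence of a proper normal
subgroup of even order forces `P ⊴ G`, provided the theorem holds for all groups of smaller order.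
-/

set_option autoImplicit false
set_option linter.unusedSectionVars false
open Cfsg

namespace Cfsg.Agent.Lib.Helper77

open Subgroup

universe u

/-- The induction hypothesis for Brauer's theorem on homocyclic Sylow 2-subgroups. -/
def HomoIH (n : ℕ) : Prop :=
  ∀ (H : Type u) [Group H] [Finite H], Nat.card H < n → ∀ (Q : Sylow 2 H) (m : ℕ), 2 ≤ m →
    Nonempty (↥(Q : Subgroup H) ≃* Multiplicative (ZMod (2 ^ m) × ZMod (2 ^ m))) →
    pPrimeCore 2 H = ⊥ → (Q : Subgroup H).Normal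

section

variable {G : Type u} [Group G] [Finite G]

theorem map_subtype_normal_of_sylow_normal {p : ℕ} [Fact p.Prime] (K : Subgroup G) [K.Normal]
    (S : Sylow p K) (hS : (S : Subgroup K).Normal) : ((S : Subgroup K).map K.subtype).Normal := by
  have := Sylow.characteristic_of_normal S hS
  exact ConjAct.normal_of_characteristic_of_normal

theorem card_lt_of_ne_top (C : Subgroup G) (hC : C ≠ ⊤) : Nat.card C < Nat.card G :=
  lt_of_le_of_ne (Subgroup.card_le_card_group C) (fun h => hC ((Subgroup.card_eq_iff_eq_top C).mp h))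

/-- Induction applied to a proper normal subgroup containing `P`. -/
theorem normal_of_le_normal (IH : HomoIH.{u} (Nat.card G)) (P : Sylow 2 G) (m : ℕ) (hm : 2 ≤ m)
    (e : ↥(P : Subgroup G) ≃* Multiplicative (ZMod (2 ^ m) × ZMod (2 ^ m)))
    (hcore : pPrimeCore 2 G = ⊥) (C : Subgroup G) [hCn : C.Normal] (hC : C ≠ ⊤)
    (hPC : (P : Subgroup G) ≤ C) : (P : Subgroup G).Normal := by
  obtain ⟨PC, hPCeq⟩ := Cfsg.Agent.Lib.Helper47.exists_sylow_eq_subgroupOf_of_normal P C
  have e1 : ↥(PC : Subgroup C) ≃* ↥(P : Subgroup G) :=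
    (MulEquiv.subgroupCongr hPCeq).trans (Subgroup.subgroupOfEquivOfLe hPC)
  have h1 := IH C (card_lt_of_ne_top C hC) PC m hm ⟨e1.trans e⟩
    (Cfsg.Agent.Lib.Helper55.pPrimeCore_eq_bot_of_normal 2 C hcore)
  have h2 := map_subtype_normal_of_sylow_normal C PC h1
  rw [hPCeq, Subgroup.subgroupOf_map_subtype, inf_eq_left.mpr hPC] at h2
  exact h2

/-- If some nontrivial subgroup of `P` is normal in `G`, then so is `P`. -/
theorem normal_of_normal_le (IH : HomoIH.{u} (Nat.card G)) (P : Sylow 2 G) (m : ℕ) (hm : 2 ≤ m)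
    (e : ↥(P : Subgroup G) ≃* Multiplicative (ZMod (2 ^ m) × ZMod (2 ^ m)))
    (hcore : pPrimeCore 2 G = ⊥)
    (hcomm : ∀ a ∈ (P : Subgroup G), ∀ b ∈ (P : Subgroup G), a * b = b * a)
    (hfrob : ∀ z ∈ (P : Subgroup G), z ≠ 1 →
      centralizer ({z} : Set G) ⊓ normalizer ((P : Subgroup G) : Set G) =
        centralizer ((P : Subgroup G) : Set G))
    (s : G) (hsN : s ∈ normalizer ((P : Subgroup G) : Set G))
    (hsC : s ∉ centralizer ((P : Subgroup G) : Set G))
    (Q : Subgroup G) [hQn : Q.Normal] (hQP : Q ≤ (P : Subgroup G)) (hQ : Q ≠ ⊥) :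
    (P : Subgroup G).Normal := by
  have hCn : (centralizer (Q : Set G)).Normal := Subgroup.normal_centralizer
  have hPC : (P : Subgroup G) ≤ centralizer (Q : Set G) := by
    intro x hx
    rw [mem_centralizer_iff]
    intro y hy
    exact hcomm y (hQP hy) x hx
  have hC : centralizer (Q : Set G) ≠ ⊤ := by
    intro htop
    obtain ⟨⟨z, hzQ⟩, hz1⟩ := (Subgroup.ne_bot_iff_exists_ne_one).mp hQ
    have hz1' : z ≠ 1 := fun h => hz1 (Subtype.ext h)
    have hs : s ∈ centralizer (Q : Set G) := by rw [htop]; exact mem_top s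
    have hsz : s ∈ centralizer ({z} : Set G) := by
      rw [mem_centralizer_iff] at hs ⊢
      intro y hy
      rw [Set.mem_singleton_iff] at hy
      subst hy
      exact hs y hzQ
    have := hfrob z (hQP hzQ) hz1'
    have hmem : s ∈ centralizer ({z} : Set G) ⊓ normalizer ((P : Subgroup G) : Set G) :=
      ⟨hsz, hsN⟩
    rw [this] at hmem
    exact hsC hmem
  exact normal_of_le_normal IH P m hm e hcore _ hC hPC

/-- `O(K P) = 1` when `K` is normal with `O(K) = 1` and `P` is a 2-group. -/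
theorem pPrimeCore_sup_eq_bot (hcore : pPrimeCore 2 G = ⊥) (K : Subgroup G) [hKn : K.Normal]
    (P : Subgroup G) (hP : IsPGroup 2 P) : pPrimeCore 2 ↥(K ⊔ P) = ⊥ := by
  have hRn : (pPrimeCore 2 ↥(K ⊔ P)).Normal := Cfsg.Agent.Lib.Helper55.pPrimeCore_normal' 2
  have hRc : (Nat.card ↥(pPrimeCore 2 ↥(K ⊔ P))).Coprime 2 :=
    Cfsg.Agent.Lib.Helper55.card_pPrimeCore_coprime 2
  have hcoreK : pPrimeCore 2 ↥K = ⊥ :=
    Cfsg.Agent.Lib.Helper55.pPrimeCore_eq_bot_of_normal 2 K hcore
  -- R' = image of the core in G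
  have hR'c : (Nat.card ↥((pPrimeCore 2 ↥(K ⊔ P)).map (K ⊔ P).subtype)).Coprime 2 := by
    rw [Subgroup.card_map_of_injective (K ⊔ P).subtype_injective]
    exact hRc
  -- R' ⊓ K = ⊥
  have hinfK : ((pPrimeCore 2 ↥(K ⊔ P)).map (K ⊔ P).subtype) ⊓ K = ⊥ := by
    have hn : (((pPrimeCore 2 ↥(K ⊔ P)).map (K ⊔ P).subtype).subgroupOf K).Normal := by
      constructor
      intro x hx k
      rw [mem_subgroupOf] at hx ⊢
      obtain ⟨r, hr, hrx⟩ := hx
      have hkL : (k : G) ∈ K ⊔ P := mem_sup_left k.2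
      refine ⟨⟨(k : G), hkL⟩ * r * ⟨(k : G), hkL⟩⁻¹, hRn.conj_mem r hr _, ?_⟩
      simp only [Subgroup.coe_subtype] at hrx
      simp [hrx]
    have hc : (Nat.card ↥(((pPrimeCore 2 ↥(K ⊔ P)).map (K ⊔ P).subtype).subgroupOf K)).Coprime 2 := by
      have h1 : Nat.card ↥(((pPrimeCore 2 ↥(K ⊔ P)).map (K ⊔ P).subtype).subgroupOf K) ∣
          Nat.card ↥((pPrimeCore 2 ↥(K ⊔ P)).map (K ⊔ P).subtype) := by
        have h2 : Nat.card ↥(((pPrimeCore 2 ↥(K ⊔ P)).map (K ⊔ P).subtype).subgroupOf K) =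
            Nat.card ↥(((pPrimeCore 2 ↥(K ⊔ P)).map (K ⊔ P).subtype) ⊓ K) := by
          rw [← Subgroup.inf_subgroupOf_right]
          exact Nat.card_congr (Subgroup.subgroupOfEquivOfLe inf_le_right).toEquiv
        rw [h2]
        exact Subgroup.card_dvd_of_le inf_le_left
      exact Nat.Coprime.coprime_dvd_left h1 hR'c
    have hle := Cfsg.Agent.Lib.Helper55.le_pPrimeCore hn hc
    rw [hcoreK, le_bot_iff] at hle
    rw [eq_bot_iff]
    intro x hx
    have : (⟨x, hx.2⟩ : K) ∈ ((pPrimeCore 2 ↥(K ⊔ P)).map (K ⊔ P).subtype).subgroupOf K := by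
      rw [mem_subgroupOf]; exact hx.1
    rw [hle, mem_bot] at this
    rw [mem_bot]
    exact congrArg Subtype.val this
  rw [eq_bot_iff]
  intro x hx
  rw [mem_bot]
  have hxR' : (x : G) ∈ (pPrimeCore 2 ↥(K ⊔ P)).map (K ⊔ P).subtype := ⟨x, hx, rfl⟩
  obtain ⟨k, hk, p, hp, hkp⟩ := mem_sup_of_normal_left.mp x.2
  -- x ^ |P| ∈ K
  have hpow : (x : G) ^ Nat.card P ∈ K := by
    rw [← QuotientGroup.eq_one_iff, QuotientGroup.mk_pow, ← hkp, QuotientGroup.mk_mul,
      (QuotientGroup.eq_one_iff k).mpr hk, one_mul, ← QuotientGroup.mk_pow]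
    have : p ^ Nat.card P = 1 := by
      have := pow_card_eq_one' (G := P) (x := ⟨p, hp⟩)
      exact congrArg Subtype.val this
    rw [this, QuotientGroup.mk_one]
  have hpow1 : (x : G) ^ Nat.card P = 1 := by
    have : (x : G) ^ Nat.card P ∈ ((pPrimeCore 2 ↥(K ⊔ P)).map (K ⊔ P).subtype) ⊓ K :=
      ⟨Subgroup.pow_mem _ hxR' _, hpow⟩
    rwa [hinfK, mem_bot] at this
  have ho1 : orderOf (x : G) ∣ Nat.card P := orderOf_dvd_of_pow_eq_one hpow1
  have ho2 : orderOf (x : G) ∣ Nat.card ↥((pPrimeCore 2 ↥(K ⊔ P)).map (K ⊔ P).subtype) := by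
    have := orderOf_dvd_natCard (⟨(x : G), hxR'⟩ : ↥((pPrimeCore 2 ↥(K ⊔ P)).map (K ⊔ P).subtype))
    rwa [Subgroup.orderOf_mk] at this
  obtain ⟨n, hn⟩ := IsPGroup.iff_card.mp hP
  rw [hn] at ho1
  have hco : (orderOf (x : G)).Coprime (2 ^ n) :=
    Nat.Coprime.pow_right n (Nat.Coprime.coprime_dvd_left ho2 hR'c)
  have h1 : orderOf (x : G) = 1 := Nat.Coprime.eq_one_of_dvd hco ho1
  rw [orderOf_eq_one_iff] at h1
  exact Subtype.ext h1

/-- With a fixed-point-free element `s ∈ N_G(P)`, the abelian group `P` lies in `G'`. -/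
theorem le_commutator_of_fpf (P : Subgroup G)
    (hfrob : ∀ z ∈ P, z ≠ 1 →
      centralizer ({z} : Set G) ⊓ normalizer (P : Set G) = centralizer (P : Set G))
    (s : G) (hsN : s ∈ normalizer (P : Set G)) (hsC : s ∉ centralizer (P : Set G)) :
    P ≤ commutator G := by
  have hconj : ∀ x ∈ P, s * x * s⁻¹ ∈ P := fun x hx => (mem_normalizer_iff.mp hsN x).mp hx
  let f : ↥P → ↥P := fun x => ⟨s * x * s⁻¹ * (x : G)⁻¹, P.mul_mem (hconj x x.2) (P.inv_mem x.2)⟩
  have hfix : ∀ z ∈ P, s * z * s⁻¹ = z → z = 1 := by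
    intro z hz hsz
    by_contra hz1
    have hmem : s ∈ centralizer ({z} : Set G) ⊓ normalizer (P : Set G) := by
      rw [Subgroup.mem_inf]
      refine ⟨?_, hsN⟩
      rw [mem_centralizer_iff]
      intro y hy
      rw [Set.mem_singleton_iff] at hy
      subst hy
      calc y * s = (s * y * s⁻¹) * s := by rw [hsz]
        _ = s * y := by group
    rw [hfrob z hz hz1] at hmem
    exact hsC hmem
  have hinj : Function.Injective f := by
    intro x y hxy
    have h1 : s * (x : G) * s⁻¹ * (x : G)⁻¹ = s * (y : G) * s⁻¹ * (y : G)⁻¹ :=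
      congrArg Subtype.val hxy
    have hz : (y : G)⁻¹ * x ∈ P := P.mul_mem (P.inv_mem y.2) x.2
    have h2 : s * ((y : G)⁻¹ * x) * s⁻¹ = (y : G)⁻¹ * x := by
      have e1 : s * ((y : G)⁻¹ * x) * s⁻¹ = (s * y * s⁻¹)⁻¹ * (s * x * s⁻¹) := by group
      have e2 : s * (x : G) * s⁻¹ = s * (y : G) * s⁻¹ * (y : G)⁻¹ * x := by
        rw [← h1]; group
      rw [e1, e2]
      group
    have h3 := hfix _ hz h2
    exact Subtype.ext (inv_mul_eq_one.mp h3).symm
  have hsurj := Finite.surjective_of_injective hinj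
  intro y hy
  obtain ⟨x, hx⟩ := hsurj ⟨y, hy⟩
  have : y = s * (x : G) * s⁻¹ * (x : G)⁻¹ := by
    have := congrArg Subtype.val hx
    simp only [f] at this
    rw [← this]
  rw [this, commutator_def, ← commutatorElement_def]
  exact Subgroup.commutator_mem_commutator (mem_top s) (mem_top _)

/-- A proper normal subgroup of even order forces `P ⊴ G` (by induction). -/
theorem normal_of_proper_normal_even (IH : HomoIH.{u} (Nat.card G)) (P : Sylow 2 G) (m : ℕ)
    (hm : 2 ≤ m) (e : ↥(P : Subgroup G) ≃* Multiplicative (ZMod (2 ^ m) × ZMod (2 ^ m)))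
    (hcore : pPrimeCore 2 G = ⊥)
    (hcomm : ∀ a ∈ (P : Subgroup G), ∀ b ∈ (P : Subgroup G), a * b = b * a)
    (hfrob : ∀ z ∈ (P : Subgroup G), z ≠ 1 →
      centralizer ({z} : Set G) ⊓ normalizer ((P : Subgroup G) : Set G) =
        centralizer ((P : Subgroup G) : Set G))
    (s : G) (hsN : s ∈ normalizer ((P : Subgroup G) : Set G))
    (hsC : s ∉ centralizer ((P : Subgroup G) : Set G))
    (K : Subgroup G) [hKn : K.Normal] (hK : K ≠ ⊤) (hK2 : 2 ∣ Nat.card K) :
    (P : Subgroup G).Normal := by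
  by_cases htop : K ⊔ (P : Subgroup G) = ⊤
  · exfalso
    have hab : IsMulCommutative ↥(P : Subgroup G) :=
      ⟨⟨fun a b => Subtype.ext (hcomm a a.2 b b.2)⟩⟩
    have h1 : commutator G ≤ K :=
      Subgroup.Normal.commutator_le_of_self_sup_commutative_eq_top htop hab
    have h2 := le_commutator_of_fpf (P : Subgroup G) hfrob s hsN hsC
    apply hK
    rw [← htop]
    exact (sup_eq_left.mpr (h2.trans h1)).symm
  · -- induction on `L = K P`
    have hPL : (P : Subgroup G) ≤ K ⊔ (P : Subgroup G) := le_sup_right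
    have eL : ↥((P.subtype hPL : Sylow 2 ↥(K ⊔ (P : Subgroup G))) :
        Subgroup ↥(K ⊔ (P : Subgroup G))) ≃* ↥(P : Subgroup G) :=
      (MulEquiv.subgroupCongr (Sylow.coe_subtype P hPL)).trans (Subgroup.subgroupOfEquivOfLe hPL)
    have h1 := IH ↥(K ⊔ (P : Subgroup G)) (card_lt_of_ne_top _ htop) (P.subtype hPL) m hm
      ⟨eL.trans e⟩ (pPrimeCore_sup_eq_bot hcore K (P : Subgroup G) P.isPGroup')
    rw [Sylow.coe_subtype] at h1
    obtain ⟨PK, hPK⟩ := Cfsg.Agent.Lib.Helper47.exists_sylow_eq_subgroupOf_of_normal P K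
    have hPKn : (PK : Subgroup K).Normal := by
      rw [hPK]
      constructor
      intro x hx k
      rw [mem_subgroupOf] at hx ⊢
      have hkL : (k : G) ∈ K ⊔ (P : Subgroup G) := mem_sup_left k.2
      have hxL : (x : G) ∈ K ⊔ (P : Subgroup G) := mem_sup_left x.2
      have := h1.conj_mem ⟨(x : G), hxL⟩ (by rw [mem_subgroupOf]; exact hx) ⟨(k : G), hkL⟩
      rw [mem_subgroupOf] at this
      simpa using this
    have h2 := map_subtype_normal_of_sylow_normal K PK hPKn
    rw [hPK, Subgroup.subgroupOf_map_subtype] at h2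
    have hne : (P : Subgroup G) ⊓ K ≠ ⊥ := by
      intro hbot
      have h3 : (PK : Subgroup K) = ⊥ := by
        rw [hPK, ← Subgroup.inf_subgroupOf_right, hbot, Subgroup.bot_subgroupOf]
      have h4 := PK.card_eq_multiplicity
      rw [h3, Subgroup.card_bot] at h4
      have h5 : 1 ≤ (Nat.card K).factorization 2 :=
        (Nat.Prime.dvd_iff_one_le_factorization Nat.prime_two Nat.card_pos.ne').mp hK2
      have h6 : 2 ^ 1 ≤ 2 ^ (Nat.card K).factorization 2 := Nat.pow_le_pow_right (by norm_num) h5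
      omega
    exact normal_of_normal_le IH P m hm e hcore hcomm hfrob s hsN hsC
      ((P : Subgroup G) ⊓ K) inf_le_left hne

end

end Cfsg.Agent.Lib.Helper77
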