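import Cfsg.Agent.Lib.Helper77.BrauerExtend
import Cfsg.Agent.Lib.Helper16.Covering

set_option autoImplicit false
set_option linter.unusedSectionVars false

namespace Cfsg.Agent.Lib.Helper77

open Cfsg MonoidAlgebra Cfsg.Agent.Lib.Helper16
open scoped ComplexConjugate

section Graded

variable {G : Type*} [Group G] [Fintype G] (N : Subgroup G) [hN : N.Normal]

theorem coeff_mul_eq_sum_right (a b : MonoidAlgebra ℂ G) (z : G) :
    (a * b).coeff z = ∑ x : G, a.coeff (z * x⁻¹) * b.coeff x := by
  rw [coeff_mul_apply_right, Finsupp.sum_fintype _ _ (by simp)]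

open scoped Classical in
/-- The part of `x` supported on the coset `t` of `N`. -/
noncomputable def cosetPart (t : G ⧸ N) (x : MonoidAlgebra ℂ G) : MonoidAlgebra ℂ G :=
  MonoidAlgebra.ofCoeff (Finsupp.equivFunOnFinite.symm
    (fun g : G => if (g : G ⧸ N) = t then x.coeff g else 0))

open scoped Classical in
theorem coeff_cosetPart (t : G ⧸ N) (x : MonoidAlgebra ℂ G) (g : G) :
    (cosetPart N t x).coeff g = if (g : G ⧸ N) = t then x.coeff g else 0 := by
  simp [cosetPart]

/-- Supported on the coset `t`. -/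
def SuppOn (t : G ⧸ N) (a : MonoidAlgebra ℂ G) : Prop :=
  ∀ g : G, (g : G ⧸ N) ≠ t → a.coeff g = 0

theorem suppOn_one_iff (a : MonoidAlgebra ℂ G) :
    SuppOn N 1 a ↔ ∀ g : G, g ∉ N → a.coeff g = 0 := by
  unfold SuppOn
  constructor
  · intro h g hg
    apply h g
    intro h1
    exact hg ((QuotientGroup.eq_one_iff g).mp h1)
  · intro h g hg
    apply h g
    intro h1
    exact hg ((QuotientGroup.eq_one_iff g).mpr h1)

theorem suppOn_cosetPart (t : G ⧸ N) (x : MonoidAlgebra ℂ G) : SuppOn N t (cosetPart N t x) := by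
  classical
  intro g hg
  rw [coeff_cosetPart, if_neg hg]

theorem sum_cosetPart [Fintype (G ⧸ N)] (x : MonoidAlgebra ℂ G) :
    ∑ t : G ⧸ N, cosetPart N t x = x := by
  classical
  ext g
  rw [coeff_sum, Finsupp.finsetSum_apply]
  simp only [coeff_cosetPart]
  rw [Finset.sum_ite_eq Finset.univ (g : G ⧸ N)]
  simp

theorem SuppOn.mul {s t : G ⧸ N} {a b : MonoidAlgebra ℂ G} (ha : SuppOn N s a)
    (hb : SuppOn N t b) : SuppOn N (s * t) (a * b) := by
  intro g hg
  rw [coeff_mul_eq_sum_left]
  apply Finset.sum_eq_zero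
  intro x _
  by_cases hx : (x : G ⧸ N) = s
  · have : ((x⁻¹ * g : G) : G ⧸ N) ≠ t := by
      intro h
      apply hg
      rw [← hx, ← h, ← QuotientGroup.mk_mul]
      congr 1
      group
    rw [hb _ this, mul_zero]
  · rw [ha _ hx, zero_mul]

theorem suppOn_one : SuppOn N 1 (1 : MonoidAlgebra ℂ G) := by
  classical
  rw [suppOn_one_iff]
  intro g hg
  rw [coeff_one_apply, if_neg]
  rintro rfl
  exact hg N.one_mem

variable {M : Ideal AlgInt}

theorem CoeffsInRing.cosetPart (hM : M ≠ ⊤) (t : G ⧸ N) {x : MonoidAlgebra ℂ G}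
    (hx : CoeffsInRing M x) : CoeffsInRing M (cosetPart N t x) := by
  classical
  intro g
  rw [coeff_cosetPart]
  split_ifs
  · exact hx g
  · exact memLocalRing_zero hM

theorem ConjInv.cosetPart (t : G ⧸ N) {x : MonoidAlgebra ℂ G} (hx : ConjInv N x) :
    ConjInv N (cosetPart N t x) := by
  classical
  intro u hu g
  rw [coeff_cosetPart, coeff_cosetPart, hx u hu g]
  have : ((u * g * u⁻¹ : G) : G ⧸ N) = (g : G ⧸ N) := by
    rw [QuotientGroup.mk_mul, QuotientGroup.mk_mul, (QuotientGroup.eq_one_iff u).mpr hu,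
      QuotientGroup.mk_inv, (QuotientGroup.eq_one_iff u).mpr hu]
    simp
  rw [this]

/-- An element supported on `N` is the extension of its truncation. -/
theorem extend_trunc_of_suppOn {a : MonoidAlgebra ℂ G} (ha : SuppOn N 1 a) :
    extend N (trunc N a) = a := by
  rw [suppOn_one_iff] at ha
  ext g
  by_cases hg : g ∈ N
  · rw [coeff_extend_trunc_of_mem N a hg]
  · rw [coeff_extend_of_not_mem N _ hg, ha g hg]

theorem suppOn_extend (x : MonoidAlgebra ℂ N) : SuppOn N 1 (extend N x) := by
  rw [suppOn_one_iff]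
  intro g hg
  exact coeff_extend_of_not_mem N x hg

/-- Elements supported on `N` commute with `N`-invariant elements. -/
theorem commute_of_suppOn_of_conjInv {a w : MonoidAlgebra ℂ G} (ha : SuppOn N 1 a)
    (hw : ConjInv N w) : a * w = w * a := by
  rw [suppOn_one_iff] at ha
  ext z
  rw [coeff_mul_eq_sum_left, coeff_mul_eq_sum_right]
  apply Finset.sum_congr rfl
  intro x _
  by_cases hx : x ∈ N
  · rw [mul_comm]
    congr 1
    rw [← hw x hx (x⁻¹ * z)]
    congr 1
    group
  · rw [ha x hx, zero_mul, mul_zero]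

/-- Only the component at `t` of `x` contributes to the `N`-part of `x * y` when `y` is supported
on the coset `t⁻¹`. -/
theorem trunc_mul_of_suppOn (t : G ⧸ N) (x : MonoidAlgebra ℂ G) {y : MonoidAlgebra ℂ G}
    (hy : SuppOn N t⁻¹ y) : trunc N (x * y) = trunc N (cosetPart N t x * y) := by
  classical
  ext n
  rw [coeff_trunc, coeff_trunc, coeff_mul_eq_sum_left, coeff_mul_eq_sum_left]
  apply Finset.sum_congr rfl
  intro g _
  rw [coeff_cosetPart]
  split_ifs with h
  · rfl
  · rw [zero_mul]
    have : ((g⁻¹ * (n : G) : G) : G ⧸ N) ≠ t⁻¹ := by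
      intro h1
      apply h
      rw [QuotientGroup.mk_mul, (QuotientGroup.eq_one_iff (n : G)).mpr n.2, mul_one,
        QuotientGroup.mk_inv, inv_inj] at h1
      exact h1
    rw [hy _ this, mul_zero]

/-- Multiplying by an element supported on `N` commutes with taking coset parts. -/
theorem cosetPart_mul_of_suppOn (t : G ⧸ N) {e : MonoidAlgebra ℂ G} (he : SuppOn N 1 e)
    (x : MonoidAlgebra ℂ G) : cosetPart N t (e * x) = e * cosetPart N t x := by
  classical
  rw [suppOn_one_iff] at he
  ext g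
  rw [coeff_cosetPart, coeff_mul_eq_sum_left, coeff_mul_eq_sum_left]
  by_cases hg : (g : G ⧸ N) = t
  · rw [if_pos hg]
    apply Finset.sum_congr rfl
    intro h _
    by_cases hh : h ∈ N
    · rw [coeff_cosetPart, if_pos]
      rw [QuotientGroup.mk_mul, QuotientGroup.mk_inv, (QuotientGroup.eq_one_iff h).mpr hh]
      simpa using hg
    · rw [he h hh, zero_mul, zero_mul]
  · rw [if_neg hg]
    symm
    apply Finset.sum_eq_zero
    intro h _
    by_cases hh : h ∈ N
    · rw [coeff_cosetPart, if_neg, mul_zero]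
      rw [QuotientGroup.mk_mul, QuotientGroup.mk_inv, (QuotientGroup.eq_one_iff h).mpr hh]
      simpa using hg
    · rw [he h hh, zero_mul]

end Graded

end Cfsg.Agent.Lib.Helper77
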