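import Cfsg.Agent.Lib.Helper77.KnorrStar
import Cfsg.Agent.S0911
import Cfsg.Agent.S0959

set_option autoImplicit false
set_option linter.unusedSectionVars false

namespace Cfsg.Agent.Lib.Helper77

open Cfsg MonoidAlgebra Cfsg.Agent.Lib.Helper16
open scoped ComplexConjugate

section Hard

variable {G : Type*} [Group G] [Fintype G] (N : Subgroup G) [hN : N.Normal] [Fintype N]
  {M : Ideal AlgInt}

/-- **Hard half of Knörr's theorem** (stable case): if the block `B` of `G` covers the `G`-stable
block `b` of the normal subgroup `N`, a defect group of `b` is contained in a conjugate of any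
defect group of `B`. -/
theorem exists_conj_le_of_covers_stable {p : ℕ} [Fact p.Prime] (hM : IsPModular p M)
    {B : Set (IrrCharacter G)} {b : Set (IrrCharacter N)}
    (hB : IsPBlock M B) (hb : IsPBlock M b) (hst : IsGStable N b)
    (hcov : ∃ χ ∈ B, ∃ θ ∈ b, classInner (fun n : N => (χ : G → ℂ) n) (θ : N → ℂ) ≠ 0)
    {Q : Subgroup N} (hQ : IsDefectGroup p M b Q) {D : Subgroup G}
    (hD : IsDefectGroup p M B D) :
    ∃ g : G, (Q.map N.subtype).map (MulAut.conj g).toMonoidHom ≤ D := by
  classical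
  haveI hMp := isPModular_isPrime hM
  by_contra hno
  push Not at hno
  have hbe := extend_idemOf_mul_idemOf N hB hb hst hcov
  obtain ⟨y, hy1, hy2, θ, hθ, hω⟩ := exists_conjInv_omega_not_mem N hB hb hbe
  apply hω
  set e := idemOf B with he_def
  have he_c : e ∈ Subalgebra.center ℂ (MonoidAlgebra ℂ G) := idemOf_mem_center B
  have heR : CoeffsInRing M e := fun g => by
    rw [coeff_idemOf]; exact blockCoeff_memLocalRing hB g
  have hz : trunc N (e * y) ∈ Subalgebra.center ℂ (MonoidAlgebra ℂ N) :=
    trunc_mem_center N ((conjInv_of_mem_center N he_c).mul hy1)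
  rw [omega_eq_sum_classes _ (irr_conj θ) hz]
  apply memLocalIdeal_sum
  intro c _
  set m := classRep c with hm_def
  have hzR : MemLocalRing M ((trunc N (e * y)).coeff m) := by
    rw [coeff_trunc]; exact (CoeffsInRing.mul heR hy2) _
  have hcR : MemLocalRing M (centralChar (θ : N → ℂ) m) :=
    memLocalRing_of_isIntegral hMp.ne_top (Cfsg.Agent.Lib.Helper79.isIntegral_centralChar θ m)
  by_cases hcm : MemLocalIdeal M (centralChar (θ : N → ℂ) m)
  · exact memLocalIdeal_mul_left hzR hcm
  · apply memLocalIdeal_mul_right _ hcR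
    obtain ⟨g₁, hg₁, P₁, hQP⟩ := hQ
    obtain ⟨x, Q'', hle⟩ := (Cfsg.Agent.S0911.result p M hM b hb g₁ hg₁ P₁ m).2 ⟨θ, hθ, hcm⟩
    rw [← hQP] at hle
    set P : Subgroup G := (Q.map (MulAut.conj x).toMonoidHom).map N.subtype with hP_def
    have hQp : IsPGroup p Q := by
      rw [hQP]
      exact (P₁.isPGroup'.map _)
    have hPp : IsPGroup p P := (hQp.map _).map _
    have hPN : P ≤ N := by
      rintro _ ⟨q, -, rfl⟩
      exact q.2
    have hmP : (m : G) ∈ Subgroup.centralizer (P : Set G) := by
      rw [Subgroup.mem_centralizer_iff]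
      rintro _ ⟨q, hq, rfl⟩
      have h1 := hle hq
      obtain ⟨w, -, rfl⟩ := h1
      have h2 := w.2
      rw [Subgroup.mem_centralizer_singleton_iff] at h2
      have h3 := congrArg (Subtype.val : N → G) h2
      simpa using h3
    haveI : Fintype (Subgroup.centralizer (P : Set G)) := Fintype.ofFinite _
    have hbr := coeffsInIdeal_trunc_mul hM P hPp heR hy2 (conjInv_of_mem_center P he_c)
      (hy1.mono hPN) ⟨(m : G), hmP⟩
    rw [coeff_sub, Finsupp.sub_apply, coeff_trunc] at hbr
    rw [coeff_trunc]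
    have h2 : CoeffsInIdeal M (trunc (Subgroup.centralizer (P : Set G)) e) := by
      intro g
      rw [coeff_trunc, coeff_idemOf]
      by_contra hg
      obtain ⟨x', hx'⟩ := (Cfsg.Agent.S0959.result p M hM B hB D hD P hPp).mp
        ⟨(g : G), blockCoeff_memLocalRing hB g, hg, g, IsConj.refl _, g.2⟩
      apply hno (x' * x)
      rintro _ ⟨_, ⟨q, hq, rfl⟩, rfl⟩
      apply hx'
      refine ⟨_, ⟨_, ⟨q, hq, rfl⟩, rfl⟩, ?_⟩
      simp [mul_assoc]
    have h3 := CoeffsInIdeal.mul_right h2
      (CoeffsInRing.trunc (Subgroup.centralizer (P : Set G)) hy2) ⟨(m : G), hmP⟩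
    have := memLocalIdeal_add hbr h3
    simpa using this

end Hard

end Cfsg.Agent.Lib.Helper77
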