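import Cfsg.Agent.Lib.Helper77.KnorrGraded

set_option autoImplicit false
set_option linter.unusedSectionVars false

namespace Cfsg.Agent.Lib.Helper77

open Cfsg MonoidAlgebra Cfsg.Agent.Lib.Helper16
open scoped ComplexConjugate

section Nilp

variable {H : Type*} [Group H] [Fintype H] {M : Ideal AlgInt} [hMp : M.IsPrime]

/-- Generalized nilpotency: the product over all irreducible characters of central elements of the
order, each having all central characters in the local ideal, has its coefficients in the local
ideal. -/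
theorem prod_coeffsInIdeal (z : IrrCharacter H → Subalgebra.center ℂ (MonoidAlgebra ℂ H))
    (hz : ∀ ψ, z ψ ∈ centerOrder H M)
    (hω : ∀ ψ ψ' : IrrCharacter H, MemLocalIdeal M (omegaHom ψ' (z ψ))) :
    CoeffsInIdeal M ((∏ ψ, z ψ : Subalgebra.center ℂ (MonoidAlgebra ℂ H)) :
      MonoidAlgebra ℂ H) := by
  classical
  have key : ∀ S : Finset (IrrCharacter H),
      (∏ ψ ∈ S, (z ψ - algebraMap ℂ _ (omegaHom ψ (z ψ))) ∈ centerOrder H M) ∧
      CoeffsInIdeal M (((∏ ψ ∈ S, (z ψ - algebraMap ℂ _ (omegaHom ψ (z ψ))) - ∏ ψ ∈ S, z ψ :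
        Subalgebra.center ℂ (MonoidAlgebra ℂ H)) : MonoidAlgebra ℂ H)) := by
    intro S
    induction S using Finset.induction_on with
    | empty =>
      refine ⟨by simp, ?_⟩
      simp only [Finset.prod_empty, sub_self]
      exact CoeffsInIdeal.zero
    | insert a S ha ih =>
      obtain ⟨ih1, ih2⟩ := ih
      have hfac : z a - algebraMap ℂ _ (omegaHom a (z a)) ∈ centerOrder H M :=
        (centerOrder H M).sub_mem (hz a)
          (algebraMap_mem_centerOrder (memLocalRing_of_memLocalIdeal (hω a a)))
      rw [Finset.prod_insert ha, Finset.prod_insert ha]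
      refine ⟨(centerOrder H M).mul_mem hfac ih1, ?_⟩
      set P := ∏ ψ ∈ S, (z ψ - algebraMap ℂ _ (omegaHom ψ (z ψ))) with hP
      set Q := ∏ ψ ∈ S, z ψ with hQ
      have e : (((z a - algebraMap ℂ _ (omegaHom a (z a))) * P - z a * Q :
          Subalgebra.center ℂ (MonoidAlgebra ℂ H)) : MonoidAlgebra ℂ H) =
          ((z a : Subalgebra.center ℂ (MonoidAlgebra ℂ H)) : MonoidAlgebra ℂ H) *
            ((P - Q : Subalgebra.center ℂ (MonoidAlgebra ℂ H)) : MonoidAlgebra ℂ H) -
          algebraMap ℂ (MonoidAlgebra ℂ H) (omegaHom a (z a)) * (P : MonoidAlgebra ℂ H) := by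
        push_cast
        noncomm_ring
      rw [e]
      apply CoeffsInIdeal.sub
      · exact CoeffsInIdeal.mul_left (fun g => hz a g) ih2
      · exact CoeffsInIdeal.mul_right (coeffsInIdeal_algebraMap (hω a a)) (fun g => ih1 g)
  have := (key Finset.univ).2
  have hzero : ∏ ψ ∈ (Finset.univ : Finset (IrrCharacter H)),
      (z ψ - algebraMap ℂ _ (omegaHom ψ (z ψ))) = 0 := by
    apply eq_zero_of_forall_omegaHom_eq_zero
    intro θ
    rw [map_prod]
    apply Finset.prod_eq_zero (Finset.mem_univ θ)
    rw [map_sub, AlgHom.commutes]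
    simp
  rw [hzero, zero_sub] at this
  have h2 := this.neg
  simpa using h2

end Nilp

section Pigeon

/-- Pigeonhole on prefix products: a long enough word over a finite group contains a nonempty
consecutive block with trivial product. -/
theorem exists_unit_block {Γ : Type*} [Group Γ] [Fintype Γ] (l : List Γ)
    (hl : Fintype.card Γ ≤ l.length) :
    ∃ a u b : List Γ, l = a ++ u ++ b ∧ u ≠ [] ∧ u.prod = 1 := by
  classical
  let f : Fin (Fintype.card Γ + 1) → Γ := fun i => (l.take i).prod
  obtain ⟨i, j, hij, hf⟩ := Fintype.exists_ne_map_eq_of_card_lt f (by simp)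
  wlog hlt : i < j generalizing i j
  · exact this j i hij.symm hf.symm (lt_of_le_of_ne (not_lt.mp hlt) hij.symm)
  have hjl : (j : ℕ) ≤ l.length := le_trans (Nat.lt_succ_iff.mp j.2) hl
  have hilt : (i : ℕ) < j := hlt
  refine ⟨l.take i, (l.take j).drop i, l.drop j, ?_, ?_, ?_⟩
  · have h1 : l.take i = (l.take j).take i := by
      rw [List.take_take, min_eq_left hilt.le]
    rw [h1, List.take_append_drop, List.take_append_drop]
  · intro h
    have := congrArg List.length h
    rw [List.length_drop, List.length_take, min_eq_left hjl] at this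
    simp at this
    omega
  · have h1 : (l.take j).prod = (l.take i).prod * ((l.take j).drop i).prod := by
      have h2 : l.take i = (l.take j).take i := by
        rw [List.take_take, min_eq_left hilt.le]
      rw [h2, ← List.prod_append, List.take_append_drop]
    have hf' : (l.take i).prod = (l.take j).prod := hf
    rw [hf'] at h1
    exact (mul_eq_left.mp h1.symm)

end Pigeon

end Cfsg.Agent.Lib.Helper77
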