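import Cfsg.Agent.Lib.Helper77.KnorrWords

set_option autoImplicit false
set_option linter.unusedSectionVars false

namespace Cfsg.Agent.Lib.Helper77

open Cfsg MonoidAlgebra Cfsg.Agent.Lib.Helper16
open scoped ComplexConjugate

section Star

variable {G : Type*} [Group G] [Fintype G] (N : Subgroup G) [hN : N.Normal] [Fintype N]
  {M : Ideal AlgInt} [hMp : M.IsPrime]

theorem extend_one : extend N (1 : MonoidAlgebra ℂ N) = 1 := mapDomain_one _

/-- Under the negation of `(∗)`, the value of a nonempty word with trivial product is a radical
element of the centre of the group algebra of `N`. -/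
theorem exists_radical_of_unit_block {B : Set (IrrCharacter G)} {b : Set (IrrCharacter N)}
    (hBR : CoeffsInRing M (idemOf B))
    (hbe : extend N (idemOf b) * idemOf B = idemOf B)
    (H : ∀ y, ConjInv N y → CoeffsInRing M y → ∀ θ ∈ b,
        MemLocalIdeal M (omega (θ : N → ℂ) (trunc N (idemOf B * y))))
    (u : List (G ⧸ N)) (hu : u ≠ []) (hu1 : u.prod = 1) :
    ∃ c : Subalgebra.center ℂ (MonoidAlgebra ℂ N), c ∈ centerOrder N M ∧
      (∀ ψ : IrrCharacter N, MemLocalIdeal M (omegaHom ψ c)) ∧
      extend N (c : MonoidAlgebra ℂ N) = wordVal N (idemOf B) u := by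
  classical
  set e := idemOf B with he_def
  have he : ConjInv N e := conjInv_of_mem_center N (idemOf_mem_center B)
  obtain ⟨t, u', rfl⟩ := List.exists_cons_of_ne_nil hu
  have hv_conj := conjInv_wordVal N he (t :: u')
  have hv_ring := coeffsInRing_wordVal (M := M) N hBR (t :: u')
  have hv_supp : SuppOn N 1 (wordVal N e (t :: u')) := by
    have := suppOn_wordVal N e (t :: u')
    rwa [hu1] at this
  have hext : extend N (trunc N (wordVal N e (t :: u'))) = wordVal N e (t :: u') :=
    extend_trunc_of_suppOn N hv_supp
  refine ⟨⟨trunc N (wordVal N e (t :: u')), trunc_mem_center N hv_conj⟩, ?_, ?_, hext⟩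
  · intro n
    show MemLocalRing M ((trunc N (wordVal N e (t :: u'))).coeff n)
    rw [coeff_trunc]
    exact hv_ring _
  · intro ψ
    rw [omegaHom_apply]
    show MemLocalIdeal M (omega (ψ : N → ℂ) (trunc N (wordVal N e (t :: u'))))
    by_cases hψ : ψ ∈ b
    · rw [wordVal_cons]
      have hy : SuppOn N t⁻¹ (wordVal N e u') := by
        have := suppOn_wordVal N e u'
        rw [List.prod_cons] at hu1
        rwa [eq_inv_of_mul_eq_one_right hu1] at this
      rw [← trunc_mul_of_suppOn N t e hy]
      exact H _ (conjInv_wordVal N he u') (coeffsInRing_wordVal N hBR u') ψ hψ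
    · have h1 : extend N (idemOf b) * wordVal N e (t :: u') = wordVal N e (t :: u') := by
        rw [wordVal_cons, ← mul_assoc, ← cosetPart_mul_of_suppOn N t (suppOn_extend N _) e, hbe]
      have h2 : trunc N (wordVal N e (t :: u')) =
          idemOf b * trunc N (wordVal N e (t :: u')) := by
        have : extend N (idemOf b * trunc N (wordVal N e (t :: u'))) =
            extend N (trunc N (wordVal N e (t :: u'))) := by
          rw [extend_mul, hext, h1]
        have h3 := congrArg (trunc N) this
        rw [trunc_extend, trunc_extend] at h3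
        exact h3.symm
      rw [h2, omega_mul ψ (idemOf_mem_center b)]
      have h4 : omega (ψ : N → ℂ) (idemOf b) = 0 := by
        have := omegaHom_idemC b ψ
        rw [omegaHom_apply, if_neg hψ] at this
        exact this
      rw [h4, zero_mul]
      exact memLocalIdeal_zero hMp.ne_top

/-- Chunk induction: under the negation of `(∗)`, a word of length at least `|S| · |G/N|` factors as
a product of `|S|` radical elements times an `N`-invariant element. -/
theorem wordVal_factor [Fintype (G ⧸ N)] {B : Set (IrrCharacter G)} {b : Set (IrrCharacter N)}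
    (hBR : CoeffsInRing M (idemOf B))
    (hbe : extend N (idemOf b) * idemOf B = idemOf B)
    (H : ∀ y, ConjInv N y → CoeffsInRing M y → ∀ θ ∈ b,
        MemLocalIdeal M (omega (θ : N → ℂ) (trunc N (idemOf B * y))))
    (S : Finset (IrrCharacter N)) :
    ∀ l : List (G ⧸ N), S.card * Fintype.card (G ⧸ N) ≤ l.length →
      ∃ z : IrrCharacter N → Subalgebra.center ℂ (MonoidAlgebra ℂ N),
        (∀ ψ, z ψ ∈ centerOrder N M) ∧
        (∀ ψ ψ' : IrrCharacter N, MemLocalIdeal M (omegaHom ψ' (z ψ))) ∧
        ∃ w, ConjInv N w ∧ CoeffsInRing M w ∧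
          wordVal N (idemOf B) l =
            extend N ((∏ ψ ∈ S, z ψ : Subalgebra.center ℂ (MonoidAlgebra ℂ N)) :
              MonoidAlgebra ℂ N) * w := by
  classical
  set e := idemOf B with he_def
  have he : ConjInv N e := conjInv_of_mem_center N (idemOf_mem_center B)
  induction S using Finset.induction_on with
  | empty =>
    intro l _
    refine ⟨fun _ => 0, fun _ => (centerOrder N M).zero_mem, ?_, wordVal N e l,
      conjInv_wordVal N he l, coeffsInRing_wordVal N hBR l, ?_⟩
    · intro ψ ψ'
      rw [map_zero]
      exact memLocalIdeal_zero hMp.ne_top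
    · rw [Finset.prod_empty]
      show wordVal N e l = extend N (1 : MonoidAlgebra ℂ N) * wordVal N e l
      rw [extend_one, one_mul]
  | insert a S ha ih =>
    intro l hl
    set n := Fintype.card (G ⧸ N) with hn
    rw [Finset.card_insert_of_notMem ha, add_mul, one_mul] at hl
    have hl1 : n ≤ (l.take n).length := by
      rw [List.length_take]
      exact le_min le_rfl (by omega)
    have hl2 : S.card * n ≤ (l.drop n).length := by
      rw [List.length_drop]
      omega
    obtain ⟨a', u, b', hsplit, hu, hu1⟩ := exists_unit_block (l.take n) hl1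
    obtain ⟨c, hc1, hc2, hc3⟩ := exists_radical_of_unit_block N hBR hbe H u hu hu1
    obtain ⟨z', hz1, hz2, w', hw1, hw2, hw3⟩ := ih (l.drop n) hl2
    refine ⟨Function.update z' a c, ?_, ?_, wordVal N e a' * wordVal N e b' * w', ?_, ?_, ?_⟩
    · intro ψ
      by_cases hψ : ψ = a
      · subst hψ; rw [Function.update_self]; exact hc1
      · rw [Function.update_of_ne hψ]; exact hz1 ψ
    · intro ψ ψ'
      by_cases hψ : ψ = a
      · subst hψ; rw [Function.update_self]; exact hc2 ψ'
      · rw [Function.update_of_ne hψ]; exact hz2 ψ ψ'
    · exact ((conjInv_wordVal N he a').mul (conjInv_wordVal N he b')).mul hw1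
    · exact CoeffsInRing.mul (CoeffsInRing.mul (coeffsInRing_wordVal N hBR a')
        (coeffsInRing_wordVal N hBR b')) hw2
    · have hprod : ∏ ψ ∈ insert a S, Function.update z' a c ψ = c * ∏ ψ ∈ S, z' ψ := by
        rw [Finset.prod_insert ha, Function.update_self]
        congr 1
        apply Finset.prod_congr rfl
        intro ψ hψ
        rw [Function.update_of_ne]
        rintro rfl
        exact ha hψ
      rw [hprod]
      push_cast
      rw [extend_mul, hc3]
      set V := extend N ((∏ ψ ∈ S, z' ψ : Subalgebra.center ℂ (MonoidAlgebra ℂ N)) :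
        MonoidAlgebra ℂ N) with hV
      have hVs : SuppOn N 1 V := suppOn_extend N _
      have hUs : SuppOn N 1 (wordVal N e u) := by
        have := suppOn_wordVal N e u
        rwa [hu1] at this
      have e1 : wordVal N e l = wordVal N e a' * wordVal N e u * wordVal N e b' * (V * w') := by
        conv_lhs => rw [← List.take_append_drop n l]
        rw [wordVal_append, hsplit, wordVal_append, wordVal_append, hw3]
      rw [e1]
      have c1 : wordVal N e a' * wordVal N e u = wordVal N e u * wordVal N e a' :=
        (commute_of_suppOn_of_conjInv N hUs (conjInv_wordVal N he a')).symm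
      have c2 : wordVal N e a' * wordVal N e b' * V = V * (wordVal N e a' * wordVal N e b') :=
        (commute_of_suppOn_of_conjInv N hVs
          ((conjInv_wordVal N he a').mul (conjInv_wordVal N he b'))).symm
      calc wordVal N e a' * wordVal N e u * wordVal N e b' * (V * w')
          = wordVal N e u * (wordVal N e a' * wordVal N e b' * V) * w' := by
            rw [c1]; noncomm_ring
        _ = wordVal N e u * V * (wordVal N e a' * wordVal N e b' * w') := by
            rw [c2]; noncomm_ring

end Star

end Cfsg.Agent.Lib.Helper77
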