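import Cfsg.Agent.Lib.Helper77.KnorrEasy
import Cfsg.Agent.Lib.Helper16.BrauerHom

set_option autoImplicit false
set_option linter.unusedSectionVars false
set_option linter.style.haveILetI false

namespace Cfsg.Agent.Lib.Helper77

open Cfsg MonoidAlgebra Cfsg.Agent.Lib.Helper16
open scoped ComplexConjugate

section Stable

variable {G : Type*} [Group G] [Fintype G] (N : Subgroup G) [hN : N.Normal] [Fintype N]
  {M : Ideal AlgInt}

/-- **Knörr's theorem, stable case**: if the block `B` of `G` covers the `G`-stable block `b` of the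
normal subgroup `N` and `Q` is a defect group of `b`, some defect group `P` of `B` has
`P ∩ N = Q`. -/
theorem exists_isDefectGroup_inf_eq_of_covers_stable {p : ℕ} [Fact p.Prime]
    (hM : IsPModular p M) {B : Set (IrrCharacter G)} {b : Set (IrrCharacter N)}
    (hB : IsPBlock M B) (hb : IsPBlock M b) (hst : IsGStable N b)
    (hcov : ∃ χ ∈ B, ∃ θ ∈ b, classInner (fun n : N => (χ : G → ℂ) n) (θ : N → ℂ) ≠ 0)
    {Q : Subgroup N} (hQ : IsDefectGroup p M b Q) :
    ∃ P : Subgroup G, IsDefectGroup p M B P ∧ P ⊓ N = Q.map N.subtype := by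
  classical
  haveI hMp := isPModular_isPrime hM
  obtain ⟨D, hD⟩ := exists_isDefectGroup p hB
  obtain ⟨g, hg⟩ := exists_conj_le_of_covers_stable N hM hB hb hst hcov hQ hD
  obtain ⟨x, hx⟩ := exists_conj_inf_le_of_covers_stable N hM hB hb hst hcov hQ hD
  have hle : (Q.map N.subtype).map (MulAut.conj g).toMonoidHom ≤ D ⊓ N := by
    refine le_inf hg ?_
    rintro _ ⟨_, ⟨q, -, rfl⟩, rfl⟩
    exact hN.conj_mem _ q.2 g
  have hc1 : Nat.card ((Q.map N.subtype).map (MulAut.conj g).toMonoidHom) = Nat.card Q := by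
    rw [Subgroup.card_map_of_injective (MulAut.conj g).injective,
      Subgroup.card_map_of_injective (Subgroup.subtype_injective _)]
  have hc2 : Nat.card (D ⊓ N : Subgroup G) ≤ Nat.card Q := by
    have h1 := Subgroup.card_le_of_le hx
    rw [Subgroup.card_map_of_injective (MulAut.conj x).injective] at h1
    have h2 : Nat.card ((D ⊓ N).subgroupOf N) = Nat.card (D ⊓ N : Subgroup G) :=
      Nat.card_congr (Subgroup.subgroupOfEquivOfLe inf_le_right).toEquiv
    rwa [h2] at h1
  have heq : (Q.map N.subtype).map (MulAut.conj g).toMonoidHom = D ⊓ N :=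
    Subgroup.eq_of_le_of_card_ge hle (by rw [hc1]; exact hc2)
  refine ⟨D.map (MulAut.conj g⁻¹).toMonoidHom, isDefectGroup_map_conj hD g⁻¹, ?_⟩
  ext y
  rw [Subgroup.mem_inf, mem_map_conj_iff, inv_inv]
  constructor
  · rintro ⟨h1, h2⟩
    have h3 : g * y * g⁻¹ ∈ D ⊓ N := ⟨h1, hN.conj_mem _ h2 g⟩
    rw [← heq, mem_map_conj_iff] at h3
    have e : g⁻¹ * (g * y * g⁻¹) * g = y := by group
    rwa [e] at h3
  · intro hy
    have h3 : g * y * g⁻¹ ∈ (Q.map N.subtype).map (MulAut.conj g).toMonoidHom := by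
      rw [mem_map_conj_iff]
      have e : g⁻¹ * (g * y * g⁻¹) * g = y := by group
      rwa [e]
    rw [heq] at h3
    refine ⟨h3.1, ?_⟩
    obtain ⟨q, -, rfl⟩ := hy
    exact q.2

/-- The same, with the defect group of `b` given as a subgroup of `G` contained in `N`. -/
theorem exists_isDefectGroup_inf_eq_of_covers_stable' {p : ℕ} [Fact p.Prime]
    (hM : IsPModular p M) {B : Set (IrrCharacter G)} {b : Set (IrrCharacter N)}
    (hB : IsPBlock M B) (hb : IsPBlock M b) (hst : IsGStable N b)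
    (hcov : ∃ χ ∈ B, ∃ θ ∈ b, classInner (fun n : N => (χ : G → ℂ) n) (θ : N → ℂ) ≠ 0)
    {Q : Subgroup G} (hQN : Q ≤ N) (hQ : IsDefectGroup p M b (Q.subgroupOf N)) :
    ∃ P : Subgroup G, IsDefectGroup p M B P ∧ P ⊓ N = Q := by
  obtain ⟨P, hP, hPN⟩ := exists_isDefectGroup_inf_eq_of_covers_stable N hM hB hb hst hcov hQ
  refine ⟨P, hP, ?_⟩
  rw [hPN, Subgroup.map_subgroupOf_eq_of_le hQN]

end Stable

end Cfsg.Agent.Lib.Helper77
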