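import Cfsg.Agent.Lib.Helper77.KnorrRadical

set_option autoImplicit false
set_option linter.unusedSectionVars false

namespace Cfsg.Agent.Lib.Helper77

open Cfsg MonoidAlgebra Cfsg.Agent.Lib.Helper16
open scoped ComplexConjugate

section Star2

variable {G : Type*} [Group G] [Fintype G] (N : Subgroup G) [hN : N.Normal] [Fintype N]
  {M : Ideal AlgInt} [hMp : M.IsPrime]

theorem extend_idemOf_eq_stableElt (b : Set (IrrCharacter N)) :
    extend N (idemOf b) = stableElt N b := by
  ext g
  by_cases hg : g ∈ N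
  · rw [coeff_extend_of_mem N _ hg, coeff_idemOf]
    exact (coeff_stableElt_coe N b ⟨g, hg⟩).symm
  · rw [coeff_extend_of_not_mem N _ hg, coeff_stableElt_of_not_mem N b hg]

open scoped Classical in
/-- For a `G`-stable block `b` covered by `B`, the idempotent of `b` acts as the identity on the
idempotent of `B`. -/
theorem extend_idemOf_mul_idemOf {B : Set (IrrCharacter G)} {b : Set (IrrCharacter N)}
    (hB : IsPBlock M B) (hb : IsPBlock M b) (hst : IsGStable N b)
    (hcov : ∃ χ ∈ B, ∃ θ ∈ b, classInner (fun n : N => (χ : G → ℂ) n) (θ : N → ℂ) ≠ 0) :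
    extend N (idemOf b) * idemOf B = idemOf B := by
  obtain ⟨χ, hχ, θ, hθ, hχθ⟩ := hcov
  rw [extend_idemOf_eq_stableElt]
  have hR : ∀ n : N, MemLocalRing M (blockCoeff b n) := fun n => blockCoeff_memLocalRing hb n
  set F : Subalgebra.center ℂ (MonoidAlgebra ℂ G) := ⟨stableElt N b, stableElt_mem_center N hst⟩
  have : F * idemC B = idemC B := by
    apply eq_of_forall_omegaHom_eq
    intro ψ
    rw [map_mul, omegaHom_idemC]
    by_cases hψ : ψ ∈ B
    · rw [if_pos hψ, mul_one]
      obtain ⟨θ', hθ'⟩ := exists_constituent N ψ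
      rw [omegaHom_apply]
      show omega (ψ : G → ℂ) (stableElt N b) = 1
      rw [omega_stableElt N hst ψ θ' hθ', if_pos]
      exact (constituent_mem_iff_of_sameBlock (M := M) N hst hR (sameBlock_of_mem hB hχ hψ)
        hχθ hθ').mp hθ
    · rw [if_neg hψ, mul_zero]
  exact congrArg Subtype.val this

/-- **`(∗)`**: for a block `B` of `G` on which the idempotent of the block `b` of the normal subgroup
`N` acts as the identity, some `N`-invariant element `y` with locally integral coefficients has
`ω_θ((ε_B y)|_N)` outside the local ideal, for some `θ ∈ b`. -/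
theorem exists_conjInv_omega_not_mem {B : Set (IrrCharacter G)} {b : Set (IrrCharacter N)}
    (hB : IsPBlock M B) (hb : IsPBlock M b)
    (hbe : extend N (idemOf b) * idemOf B = idemOf B) :
    ∃ y, ConjInv N y ∧ CoeffsInRing M y ∧ ∃ θ ∈ b,
      ¬ MemLocalIdeal M (omega (θ : N → ℂ) (trunc N (idemOf B * y))) := by
  classical
  haveI : Fintype (G ⧸ N) := Fintype.ofFinite _
  by_contra Hc
  have H : ∀ y, ConjInv N y → CoeffsInRing M y → ∀ θ ∈ b,
      MemLocalIdeal M (omega (θ : N → ℂ) (trunc N (idemOf B * y))) := by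
    intro y h1 h2 θ hθ
    by_contra h
    exact Hc ⟨y, h1, h2, θ, hθ, h⟩
  have hBR : CoeffsInRing M (idemOf B) := fun g => by
    rw [coeff_idemOf]; exact blockCoeff_memLocalRing hB g
  set e := idemOf B with he_def
  set k := Fintype.card (IrrCharacter N) with hk
  set n := Fintype.card (G ⧸ N) with hn
  have hword : ∀ l : List (G ⧸ N), l.length = k * n → CoeffsInIdeal M (1 * wordVal N e l) := by
    intro l hl
    obtain ⟨z, hz1, hz2, w, hw1, hw2, hw3⟩ :=
      wordVal_factor N hBR hbe H Finset.univ l (by rw [Finset.card_univ, hl])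
    rw [one_mul, hw3]
    exact CoeffsInIdeal.mul_right
      (CoeffsInIdeal.extend hMp.ne_top N (prod_coeffsInIdeal z hz1 hz2)) hw2
  have hpow := pow_word_induction N e (CoeffsInIdeal M) (fun a b => CoeffsInIdeal.add)
    CoeffsInIdeal.zero (k * n) 1 hword
  have hee : e * e = e := congrArg Subtype.val (idemC_mul_self B)
  have hpe : ∀ m : ℕ, e ^ (m + 1) = e := by
    intro m
    induction m with
    | zero => simp
    | succ m ih => rw [pow_succ, ih, hee]
  have hkpos : 0 < k := by
    obtain ⟨θ, -⟩ := IsPBlock_nonempty hMp.ne_top hb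
    exact Fintype.card_pos_iff.mpr ⟨θ⟩
  have hnpos : 0 < n := Fintype.card_pos_iff.mpr ⟨1⟩
  obtain ⟨m, hm⟩ : ∃ m, k * n = m + 1 := ⟨k * n - 1, by
    have := Nat.mul_pos hkpos hnpos
    omega⟩
  rw [hm, hpe, one_mul] at hpow
  obtain ⟨g₀, hg₀⟩ := exists_isDefectClass hB
  apply hg₀.2.1
  have := hpow g₀
  rwa [coeff_idemOf] at this

end Star2

end Cfsg.Agent.Lib.Helper77
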