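import Cfsg.Agent.Lib.Helper77.SubTransport
import Cfsg.Agent.S4438

set_option autoImplicit false
set_option linter.unusedSectionVars false

namespace Cfsg.Agent.Lib.Helper77

open Cfsg Cfsg.Agent.Lib.Helper16

universe u

section KnorrSub

variable {G : Type u} [Group G] [Fintype G] {M : Ideal AlgInt}

/-- **Knörr's theorem inside a subgroup `H`**, for a subgroup `K ≤ H` normal in `H`, with the
covered block given on `K` as a subgroup of `G`. -/
theorem knorr_sub {p : ℕ} [Fact p.Prime] (hM : IsPModular p M) {K H : Subgroup G} (hKH : K ≤ H)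
    [hn : (K.subgroupOf H).Normal] [Fintype K] [Fintype H]
    {c : Set (IrrCharacter H)} (hc : IsPBlock M c) {e : Set (IrrCharacter K)}
    (he : IsPBlock M e) {Q : Subgroup G} (hQK : Q ≤ K)
    (hQ : IsDefectGroup p M e (Q.subgroupOf K))
    (hcov : ∃ ψ ∈ c, ∃ ξ ∈ e,
      classInner (fun k : K => (ψ : H → ℂ) ⟨(k : G), hKH k.2⟩) (ξ : K → ℂ) ≠ 0) :
    ∃ P : Subgroup G, P ≤ H ∧ IsDefectGroup p M c (P.subgroupOf H) ∧ P ⊓ K = Q := by
  classical
  haveI : Fintype ↥(K.subgroupOf H) := Fintype.ofFinite _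
  have hQ' : Q.subgroupOf H ≤ K.subgroupOf H := by
    intro x hx
    rw [Subgroup.mem_subgroupOf] at hx ⊢
    exact hQK hx
  have hcov' : ∃ ψ ∈ c, ∃ θ ∈ pullBlock (subEquiv hKH) e,
      classInner (fun n : ↥(K.subgroupOf H) => (ψ : H → ℂ) n) (θ : _ → ℂ) ≠ 0 := by
    obtain ⟨ψ, hψ, ξ, hξ, h⟩ := hcov
    refine ⟨ψ, hψ, irrPull (subEquiv hKH) ξ, irrPull_mem_pullBlock _ hξ, ?_⟩
    rwa [classInner_irrPull_subEquiv hKH (ψ : H → ℂ) ξ]
  obtain ⟨PH, hPH, hPHK⟩ := Cfsg.Agent.S4438.result p M hM (K.subgroupOf H)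
    (pullBlock (subEquiv hKH) e) (isPBlock_pullBlock _ he) (Q.subgroupOf H) hQ'
    (isDefectGroup_pullBlock_subEquiv hKH hQ) c hc hcov'
  refine ⟨PH.map H.subtype, Subgroup.map_subtype_le _, ?_, ?_⟩
  · have : (PH.map H.subtype).subgroupOf H = PH := by
      ext x
      rw [Subgroup.mem_subgroupOf]
      constructor
      · rintro ⟨y, hy, hyx⟩
        have : y = x := Subtype.ext hyx
        rwa [← this]
      · intro hx
        exact ⟨x, hx, rfl⟩
    rwa [this]
  · ext y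
    rw [Subgroup.mem_inf]
    constructor
    · rintro ⟨⟨h, hh, rfl⟩, hyK⟩
      have h1 : h ∈ PH ⊓ K.subgroupOf H :=
        Subgroup.mem_inf.mpr ⟨hh, Subgroup.mem_subgroupOf.mpr hyK⟩
      rw [hPHK, Subgroup.mem_subgroupOf] at h1
      exact h1
    · intro hy
      have hyK : y ∈ K := hQK hy
      have h1 : (⟨y, hKH hyK⟩ : H) ∈ Q.subgroupOf H := by
        rw [Subgroup.mem_subgroupOf]; exact hy
      rw [← hPHK, Subgroup.mem_inf] at h1
      exact ⟨⟨_, h1.1, rfl⟩, hyK⟩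

end KnorrSub

end Cfsg.Agent.Lib.Helper77
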