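import Cfsg.Agent.Lib.Helper77.KnorrNilp

set_option autoImplicit false
set_option linter.unusedSectionVars false

namespace Cfsg.Agent.Lib.Helper77

open Cfsg MonoidAlgebra Cfsg.Agent.Lib.Helper16
open scoped ComplexConjugate

section Words

variable {G : Type*} [Group G] [Fintype G] (N : Subgroup G) [hN : N.Normal]
  {M : Ideal AlgInt} [hMp : M.IsPrime]

/-- The value of a word in the coset parts of `e`. -/
noncomputable def wordVal (e : MonoidAlgebra ℂ G) (l : List (G ⧸ N)) : MonoidAlgebra ℂ G :=
  (l.map (fun t => cosetPart N t e)).prod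

theorem wordVal_nil (e : MonoidAlgebra ℂ G) : wordVal N e [] = 1 := by
  simp [wordVal]

theorem wordVal_cons (e : MonoidAlgebra ℂ G) (t : G ⧸ N) (l : List (G ⧸ N)) :
    wordVal N e (t :: l) = cosetPart N t e * wordVal N e l := by
  simp [wordVal]

theorem wordVal_append (e : MonoidAlgebra ℂ G) (l₁ l₂ : List (G ⧸ N)) :
    wordVal N e (l₁ ++ l₂) = wordVal N e l₁ * wordVal N e l₂ := by
  simp [wordVal]

theorem conjInv_wordVal {e : MonoidAlgebra ℂ G} (he : ConjInv N e) (l : List (G ⧸ N)) :
    ConjInv N (wordVal N e l) := by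
  induction l with
  | nil => rw [wordVal_nil]; exact conjInv_one N
  | cons t l ih => rw [wordVal_cons]; exact (ConjInv.cosetPart N t he).mul ih

theorem coeffsInRing_wordVal {e : MonoidAlgebra ℂ G} (he : CoeffsInRing M e)
    (l : List (G ⧸ N)) : CoeffsInRing M (wordVal N e l) := by
  induction l with
  | nil => rw [wordVal_nil]; exact coeffsInRing_one
  | cons t l ih =>
    rw [wordVal_cons]; exact CoeffsInRing.mul (CoeffsInRing.cosetPart N hMp.ne_top t he) ih

theorem suppOn_wordVal (e : MonoidAlgebra ℂ G) (l : List (G ⧸ N)) :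
    SuppOn N l.prod (wordVal N e l) := by
  induction l with
  | nil => rw [wordVal_nil, List.prod_nil]; exact suppOn_one N
  | cons t l ih =>
    rw [wordVal_cons, List.prod_cons]; exact (suppOn_cosetPart N t e).mul N ih

/-- A property closed under sums holds of `x * e ^ m` as soon as it holds of `x` times every word
of length `m`. -/
theorem pow_word_induction [Fintype (G ⧸ N)] (e : MonoidAlgebra ℂ G)
    (P : MonoidAlgebra ℂ G → Prop)
    (hadd : ∀ a b, P a → P b → P (a + b)) (h0 : P 0) (m : ℕ) :
    ∀ x : MonoidAlgebra ℂ G, (∀ l : List (G ⧸ N), l.length = m → P (x * wordVal N e l)) →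
      P (x * e ^ m) := by
  classical
  have hsum : ∀ (s : Finset (G ⧸ N)) (f : G ⧸ N → MonoidAlgebra ℂ G),
      (∀ t ∈ s, P (f t)) → P (∑ t ∈ s, f t) := by
    intro s f
    induction s using Finset.induction_on with
    | empty => intro _; simpa using h0
    | insert a s ha ih =>
      intro h
      rw [Finset.sum_insert ha]
      exact hadd _ _ (h a (Finset.mem_insert_self a s))
        (ih fun t ht => h t (Finset.mem_insert_of_mem ht))
  induction m with
  | zero =>
    intro x h
    have := h [] rfl
    rw [wordVal_nil] at this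
    rwa [pow_zero]
  | succ m ih =>
    intro x h
    have e1 : x * e ^ (m + 1) = ∑ t : G ⧸ N, (x * cosetPart N t e) * e ^ m := by
      rw [← Finset.sum_mul, ← Finset.mul_sum, sum_cosetPart, pow_succ', mul_assoc]
    rw [e1]
    apply hsum
    intro t _
    apply ih
    intro l hl
    have := h (t :: l) (by simp [hl])
    rwa [wordVal_cons, ← mul_assoc] at this

end Words

end Cfsg.Agent.Lib.Helper77
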