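import Cfsg.Agent.Lib.Helper86.PSLUnitriE
import Cfsg.Agent.Lib.Helper72.Lie2Gen

/-!
# Project LIE2, module [M-PSL] (helper77 for helper72)

Squares of a Sylow 2-subgroup of `PSL_n(F)`, `char F = 2`, lie in its commutator subgroup:
the unitriangular group is generated by upper transvections, which are involutions in
characteristic 2.
-/

set_option autoImplicit false
set_option linter.unusedSectionVars false

namespace Cfsg.Agent.Lib.Helper77.Lie2

open Matrix Cfsg.Agent.Lib.Helper45.PSLAut Cfsg.Agent.Lib.Helper72.Lie2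

/-- The upper unitriangular group over a finite field of characteristic 2 has `SqComm`. -/
theorem sqComm_UU {F : Type} [Field F] [Fintype F] [CharP F 2] (n : ℕ) :
    SqComm (UU n F) := by
  apply sqComm_of_closure_sq_eq_one (UU n F)
    {s | ∃ (k : Fin n) (w : Fin n → F), (∀ i : Fin n, k ≤ i → w i = 0) ∧ s = tv w (eb k)}
  · apply le_antisymm
    · rw [Subgroup.closure_le]
      rintro s ⟨k, w, hw, rfl⟩
      exact Cfsg.Agent.Lib.Helper86.PSLFus.tv_col_mem_UU k w hw
    · apply Cfsg.Agent.Lib.Helper86.PSLFus.UU_le_of_tv_mem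
      intro k w hw
      exact Subgroup.subset_closure ⟨k, w, hw, rfl⟩
  · rintro s ⟨k, w, hw, rfl⟩
    have h0 : (eb k : Fin n → F) ⬝ᵥ w = 0 := by
      rw [eb_dot, hw k le_rfl]
    rw [Cfsg.Agent.Lib.Helper86.PSLFus.tv_pow h0 2]
    have : ((2 : ℕ) • (eb k : Fin n → F)) = 0 := by
      funext i
      rw [Pi.smul_apply, nsmul_eq_mul, CharP.cast_eq_zero, zero_mul, Pi.zero_apply]
    rw [this, tv_zero_right]

/-- [M-PSL] -/
theorem sqComm_PSL {F : Type} [Field F] [Fintype F] [CharP F 2] (n : ℕ) (hn : 2 ≤ n)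
    (P : Sylow 2 (Matrix.ProjectiveSpecialLinearGroup (Fin n) F)) :
    SqComm (P : Subgroup (Matrix.ProjectiveSpecialLinearGroup (Fin n) F)) := by
  obtain ⟨m, rfl⟩ : ∃ m, n = m + 1 := ⟨n - 1, by omega⟩
  have : Fact (Nat.Prime 2) := ⟨Nat.prime_two⟩
  obtain ⟨f, -, hF⟩ := FiniteField.card F 2
  have hP : IsPGroup 2 (UBar m F) := Cfsg.Agent.Lib.Helper86.PSLFus.isPGroup_UBar
  have hidx : ¬ 2 ∣ (UBar m F).index := fun h =>
    not_dvd_index_UU (n := m + 1) hF f.pos
      (h.trans (Subgroup.index_map_dvd _ (QuotientGroup.mk'_surjective _)))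
  have hS0 : SqComm ((hP.toSylow hidx : Sylow 2
      (Matrix.ProjectiveSpecialLinearGroup (Fin (m + 1)) F)) :
      Subgroup (Matrix.ProjectiveSpecialLinearGroup (Fin (m + 1)) F)) := by
    have h1 : SqComm (UBar m F) :=
      sqComm_map (QuotientGroup.mk' (Subgroup.center (SpecialLinearGroup (Fin (m + 1)) F)))
        (UU (m + 1) F) (sqComm_UU (m + 1))
    exact h1
  exact sqComm_all_sylow_of_one _ hS0 P

end Cfsg.Agent.Lib.Helper77.Lie2
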