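import Mathlib
import Cfsg.Agent.Lib.Helper87.FusionNormal

/-!
# S5323 module [ODD128] (helper77, for helper86)

A group `S` of order `128` with a characteristic chain `S > J > H32 > Z3 > A8 > Z2 > Z1 > 1` of
index-`2` steps has no nontrivial automorphism of odd order.
-/

set_option autoImplicit false

namespace Cfsg.Agent.Lib.Helper77.McLFusOdd

open Cfsg.Agent.Lib.Helper87

/-- Two elements of `A` outside a subgroup `B` of index `2` differ by an element of `B`. -/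
theorem inv_mul_mem_of_index_two {G : Type*} [Group G] [Finite G] (A B : Subgroup G) (hBA : B ≤ A)
    (hcard : Nat.card A = 2 * Nat.card B) (x y : G) (hx : x ∈ A) (hy : y ∈ A) (hxB : x ∉ B)
    (hyB : y ∉ B) : x⁻¹ * y ∈ B := by
  have hidx : (B.subgroupOf A).index = 2 := by
    have h1 := (B.subgroupOf A).card_mul_index
    have h2 : Nat.card (B.subgroupOf A) = Nat.card B :=
      Nat.card_congr (Subgroup.subgroupOfEquivOfLe hBA).toEquiv
    rw [h2, hcard, mul_comm] at h1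
    have hpos : 0 < Nat.card B := Nat.card_pos
    exact Nat.eq_of_mul_eq_mul_right hpos h1
  have h := Subgroup.mul_mem_iff_of_index_two hidx (a := (⟨x, hx⟩ : A)⁻¹) (b := (⟨y, hy⟩ : A))
  have h3 : (⟨x, hx⟩ : A)⁻¹ * (⟨y, hy⟩ : A) ∈ B.subgroupOf A := by
    rw [h]
    constructor
    · intro h4
      exact absurd (by simpa [Subgroup.mem_subgroupOf] using h4) hxB
    · intro h4
      exact absurd (by simpa [Subgroup.mem_subgroupOf] using h4) hyB
  simpa [Subgroup.mem_subgroupOf] using h3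

/-- One step of the chain: if `A`, `B` are invariant under all automorphisms and `|A : B| = 2`
then `r⁻¹ α(r) ∈ B` for all `r ∈ A`. -/
theorem step_mem {G : Type*} [Group G] [Finite G] (A B : Subgroup G) (hBA : B ≤ A)
    (hcard : Nat.card A = 2 * Nat.card B) (hA : ∀ (α : MulAut G), ∀ x ∈ A, α x ∈ A)
    (hB : ∀ (α : MulAut G), ∀ x ∈ B, α x ∈ B) (α : MulAut G) (r : G) (hr : r ∈ A) :
    r⁻¹ * α r ∈ B := by
  by_cases hrB : r ∈ B
  · exact B.mul_mem (B.inv_mem hrB) (hB α r hrB)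
  · apply inv_mul_mem_of_index_two A B hBA hcard r (α r) hr (hA α r hr) hrB
    intro h
    apply hrB
    have := hB α⁻¹ (α r) h
    rwa [MulAut.inv_apply_self] at this

/-- The chain. -/
def chain {G : Type*} [Group G] (J H32 Z3 A8 Z2 Z1 : Subgroup G) : ℕ → Subgroup G
  | 0 => ⊤
  | 1 => J
  | 2 => H32
  | 3 => Z3
  | 4 => A8
  | 5 => Z2
  | 6 => Z1
  | _ => ⊥

theorem odd_aut_trivial_abstract {G : Type*} [Group G] [Finite G] (Z1 Z2 A8 Z3 H32 J : Subgroup G)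
    (hG : Nat.card G = 128) (h1 : Nat.card Z1 = 2) (h2 : Nat.card Z2 = 4) (h8 : Nat.card A8 = 8)
    (h3 : Nat.card Z3 = 16) (h32 : Nat.card H32 = 32) (hJ : Nat.card J = 64)
    (hZ1 : ∀ x, x ∈ Z1 ↔ ∀ s : G, x * s = s * x)
    (hZ2 : ∀ x, x ∈ Z2 ↔ ∀ s : G, x * s * x⁻¹ * s⁻¹ ∈ Z1)
    (hZ3 : ∀ x, x ∈ Z3 ↔ ∀ s : G, x * s * x⁻¹ * s⁻¹ ∈ Z2)
    (hJ' : ∀ x, x ∈ J ↔ ∀ y ∈ Z2, x * y = y * x)
    (hA8a : Z2 ≤ A8) (hA8b : A8 ≤ Z3) (hA8c : ∀ x ∈ Z3, x * x ≠ 1 → x ∈ A8)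
    (hA8d : ∃ x ∈ A8, x ∉ Z2 ∧ x * x ≠ 1)
    (hH : ∀ x, x ∈ H32 ↔ ∀ s : G, x * s * x⁻¹ * s⁻¹ ∈ A8)
    (hHJ : H32 ≤ J) :
    ∀ α : MulAut G, Odd (orderOf α) → α = 1 := by
  -- commutator transport
  have hcomm : ∀ (α : MulAut G) (x s : G),
      α x * s * (α x)⁻¹ * s⁻¹ = α (x * α⁻¹ s * x⁻¹ * (α⁻¹ s)⁻¹) := by
    intro α x s
    simp only [map_mul, map_inv, MulAut.apply_inv_self]
  -- invariance
  have inv1 : ∀ (α : MulAut G), ∀ x ∈ Z1, α x ∈ Z1 := by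
    intro α x hx
    rw [hZ1] at hx ⊢
    intro s
    have := congrArg α (hx (α⁻¹ s))
    simpa only [map_mul, MulAut.apply_inv_self] using this
  have inv2 : ∀ (α : MulAut G), ∀ x ∈ Z2, α x ∈ Z2 := by
    intro α x hx
    rw [hZ2] at hx ⊢
    intro s
    rw [hcomm]
    exact inv1 α _ (hx _)
  have inv3 : ∀ (α : MulAut G), ∀ x ∈ Z3, α x ∈ Z3 := by
    intro α x hx
    rw [hZ3] at hx ⊢
    intro s
    rw [hcomm]
    exact inv2 α _ (hx _)
  have invJ : ∀ (α : MulAut G), ∀ x ∈ J, α x ∈ J := by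
    intro α x hx
    rw [hJ'] at hx ⊢
    intro y hy
    have := congrArg α (hx (α⁻¹ y) (inv2 α⁻¹ y hy))
    simpa only [map_mul, MulAut.apply_inv_self] using this
  have inv8 : ∀ (α : MulAut G), ∀ x ∈ A8, α x ∈ A8 := by
    obtain ⟨x0, hx0A, hx0Z, hx0sq⟩ := hA8d
    intro α a ha
    have hαx0 : α x0 ∈ A8 := by
      apply hA8c (α x0) (inv3 α x0 (hA8b hx0A))
      rw [← map_mul]
      intro h
      apply hx0sq
      exact (map_eq_one_iff α α.injective).mp h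
    by_cases haZ : a ∈ Z2
    · exact hA8a (inv2 α a haZ)
    · have hmem := inv_mul_mem_of_index_two A8 Z2 hA8a (by rw [h8, h2]) x0 a hx0A ha hx0Z haZ
      have : α a = α x0 * α (x0⁻¹ * a) := by
        rw [← map_mul]
        congr 1
        group
      rw [this]
      exact A8.mul_mem hαx0 (hA8a (inv2 α _ hmem))
  have invH : ∀ (α : MulAut G), ∀ x ∈ H32, α x ∈ H32 := by
    intro α x hx
    rw [hH] at hx ⊢
    intro s
    rw [hcomm]
    exact inv8 α _ (hx _)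
  -- inclusions
  have le12 : Z1 ≤ Z2 := by
    intro x hx
    rw [hZ2]
    intro s
    have := (hZ1 x).mp hx s
    rw [this]
    have : s * x * x⁻¹ * s⁻¹ = 1 := by group
    rw [this]
    exact Z1.one_mem
  have le3H : Z3 ≤ H32 := by
    intro x hx
    rw [hH]
    intro s
    exact hA8a ((hZ3 x).mp hx s)
  -- the chain
  have hinv : ∀ j ≤ 7, ∀ α ∈ (⊤ : Subgroup (MulAut G)),
      ∀ x ∈ chain J H32 Z3 A8 Z2 Z1 j, α x ∈ chain J H32 Z3 A8 Z2 Z1 j := by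
    intro j hj α _ x hx
    match j, hj, hx with
    | 0, _, _ => trivial
    | 1, _, hx => exact invJ α x hx
    | 2, _, hx => exact invH α x hx
    | 3, _, hx => exact inv3 α x hx
    | 4, _, hx => exact inv8 α x hx
    | 5, _, hx => exact inv2 α x hx
    | 6, _, hx => exact inv1 α x hx
    | 7, _, hx =>
      have hx' : x = 1 := hx
      show α x = 1
      rw [hx', map_one]
  have : Fact (Nat.Prime 2) := ⟨Nat.prime_two⟩
  have hGp : IsPGroup 2 G := IsPGroup.of_card (n := 7) (by rw [hG]; norm_num)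
  have hP := chainStab_isPGroup hGp ⊤ 7 (chain J H32 Z3 A8 Z2 Z1) rfl rfl hinv
  have invTop : ∀ (α : MulAut G), ∀ x ∈ (⊤ : Subgroup G), α x ∈ (⊤ : Subgroup G) :=
    fun _ _ _ => trivial
  have invBot : ∀ (α : MulAut G), ∀ x ∈ (⊥ : Subgroup G), α x ∈ (⊥ : Subgroup G) := by
    intro α x hx
    rw [Subgroup.mem_bot] at hx ⊢
    rw [hx, map_one]
  intro α hodd
  have hmem : α ∈ chainStab ⊤ 7 (chain J H32 Z3 A8 Z2 Z1) hinv := by
    refine ⟨trivial, fun j hj r hr => ?_⟩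
    match j, hj, hr with
    | 0, _, hr =>
      exact step_mem ⊤ J le_top (by rw [Subgroup.card_top, hG, hJ]) invTop invJ α r hr
    | 1, _, hr => exact step_mem J H32 hHJ (by rw [hJ, h32]) invJ invH α r hr
    | 2, _, hr => exact step_mem H32 Z3 le3H (by rw [h32, h3]) invH inv3 α r hr
    | 3, _, hr => exact step_mem Z3 A8 hA8b (by rw [h3, h8]) inv3 inv8 α r hr
    | 4, _, hr => exact step_mem A8 Z2 hA8a (by rw [h8, h2]) inv8 inv2 α r hr
    | 5, _, hr => exact step_mem Z2 Z1 le12 (by rw [h2, h1]) inv2 inv1 α r hr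
    | 6, _, hr =>
      exact step_mem Z1 ⊥ bot_le (by rw [h1, Subgroup.card_bot]) inv1 invBot α r hr
  obtain ⟨k, hk⟩ := hP ⟨α, hmem⟩
  have hk' : α ^ 2 ^ k = 1 := by
    have := congrArg Subtype.val hk
    simpa using this
  have hdvd : orderOf α ∣ 2 ^ k := orderOf_dvd_of_pow_eq_one hk'
  have hcop : Nat.Coprime (orderOf α) (2 ^ k) :=
    Nat.Coprime.pow_right k (Nat.coprime_two_right.mpr hodd)
  have h1 : orderOf α = 1 := hcop.eq_one_of_dvd hdvd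
  exact orderOf_eq_one_iff.mp h1

/-- [ODD128] -/
theorem odd_aut_trivial_of_chain {K : Type*} [Group K] (S Z1 Z2 A8 Z3 H32 J : Subgroup K)
    (hS : Nat.card S = 128) (h1 : Nat.card Z1 = 2) (h2 : Nat.card Z2 = 4) (h8 : Nat.card A8 = 8)
    (h3 : Nat.card Z3 = 16) (h32 : Nat.card H32 = 32) (hJ : Nat.card J = 64)
    (hZ1 : ∀ x, x ∈ Z1 ↔ x ∈ S ∧ ∀ s ∈ S, x * s = s * x)
    (hZ2 : ∀ x, x ∈ Z2 ↔ x ∈ S ∧ ∀ s ∈ S, x * s * x⁻¹ * s⁻¹ ∈ Z1)
    (hZ3 : ∀ x, x ∈ Z3 ↔ x ∈ S ∧ ∀ s ∈ S, x * s * x⁻¹ * s⁻¹ ∈ Z2)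
    (hJ' : ∀ x, x ∈ J ↔ x ∈ S ∧ ∀ y ∈ Z2, x * y = y * x)
    (hA8a : Z2 ≤ A8) (hA8b : A8 ≤ Z3) (hA8c : ∀ x ∈ Z3, x * x ≠ 1 → x ∈ A8)
    (hA8d : ∃ x ∈ A8, x ∉ Z2 ∧ x * x ≠ 1)
    (hH : ∀ x, x ∈ H32 ↔ x ∈ S ∧ ∀ s ∈ S, x * s * x⁻¹ * s⁻¹ ∈ A8)
    (hHJ : H32 ≤ J) :
    ∀ α : MulAut ↥S, Odd (orderOf α) → α = 1 := by
  have : Finite S := Nat.finite_of_card_ne_zero (by rw [hS]; norm_num)
  have le1 : Z1 ≤ S := fun x hx => ((hZ1 x).mp hx).1
  have le2 : Z2 ≤ S := fun x hx => ((hZ2 x).mp hx).1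
  have le3 : Z3 ≤ S := fun x hx => ((hZ3 x).mp hx).1
  have leJ : J ≤ S := fun x hx => ((hJ' x).mp hx).1
  have leH : H32 ≤ S := fun x hx => ((hH x).mp hx).1
  have le8 : A8 ≤ S := hA8b.trans le3
  have hc : ∀ (X : Subgroup K), X ≤ S → Nat.card (X.subgroupOf S) = Nat.card X :=
    fun X hX => Nat.card_congr (Subgroup.subgroupOfEquivOfLe hX).toEquiv
  apply odd_aut_trivial_abstract (Z1.subgroupOf S) (Z2.subgroupOf S) (A8.subgroupOf S)
    (Z3.subgroupOf S) (H32.subgroupOf S) (J.subgroupOf S) hS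
    (by rw [hc _ le1, h1]) (by rw [hc _ le2, h2]) (by rw [hc _ le8, h8]) (by rw [hc _ le3, h3])
    (by rw [hc _ leH, h32]) (by rw [hc _ leJ, hJ])
  · intro x
    rw [Subgroup.mem_subgroupOf, hZ1]
    constructor
    · rintro ⟨_, h⟩ s
      exact Subtype.ext (h s s.2)
    · intro h
      exact ⟨x.2, fun s hs => congrArg Subtype.val (h ⟨s, hs⟩)⟩
  · intro x
    rw [Subgroup.mem_subgroupOf, hZ2]
    constructor
    · rintro ⟨_, h⟩ s
      exact Subgroup.mem_subgroupOf.mpr (h s s.2)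
    · intro h
      exact ⟨x.2, fun s hs => Subgroup.mem_subgroupOf.mp (h ⟨s, hs⟩)⟩
  · intro x
    rw [Subgroup.mem_subgroupOf, hZ3]
    constructor
    · rintro ⟨_, h⟩ s
      exact Subgroup.mem_subgroupOf.mpr (h s s.2)
    · intro h
      exact ⟨x.2, fun s hs => Subgroup.mem_subgroupOf.mp (h ⟨s, hs⟩)⟩
  · intro x
    rw [Subgroup.mem_subgroupOf, hJ']
    constructor
    · rintro ⟨_, h⟩ y hy
      exact Subtype.ext (h y (Subgroup.mem_subgroupOf.mp hy))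
    · intro h
      exact ⟨x.2, fun y hy => congrArg Subtype.val
        (h ⟨y, le2 hy⟩ (Subgroup.mem_subgroupOf.mpr hy))⟩
  · intro x hx
    exact Subgroup.mem_subgroupOf.mpr (hA8a (Subgroup.mem_subgroupOf.mp hx))
  · intro x hx
    exact Subgroup.mem_subgroupOf.mpr (hA8b (Subgroup.mem_subgroupOf.mp hx))
  · intro x hx hsq
    apply Subgroup.mem_subgroupOf.mpr
    apply hA8c _ (Subgroup.mem_subgroupOf.mp hx)
    intro h
    apply hsq
    exact Subtype.ext h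
  · obtain ⟨x, hxA, hxZ, hxsq⟩ := hA8d
    refine ⟨⟨x, le8 hxA⟩, Subgroup.mem_subgroupOf.mpr hxA, ?_, ?_⟩
    · intro h
      exact hxZ (Subgroup.mem_subgroupOf.mp h)
    · intro h
      exact hxsq (congrArg Subtype.val h)
  · intro x
    rw [Subgroup.mem_subgroupOf, hH]
    constructor
    · rintro ⟨_, h⟩ s
      exact Subgroup.mem_subgroupOf.mpr (h s s.2)
    · intro h
      exact ⟨x.2, fun s hs => Subgroup.mem_subgroupOf.mp (h ⟨s, hs⟩)⟩
  · intro x hx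
    exact Subgroup.mem_subgroupOf.mpr (hHJ (Subgroup.mem_subgroupOf.mp hx))

end Cfsg.Agent.Lib.Helper77.McLFusOdd
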