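/-
Helper77: module S2140-[BURN] for helper99 (minimal index of PSL_n(q)): Burnside counting.
-/
import Cfsg.Agent.Lib.Helper99.MinIdx.Defs

set_option autoImplicit false

namespace Cfsg.Agent.Lib.Helper77.MinIdx

open Module MulAction

/-- the sum of the fixed point numbers when all nonidentity elements have `φ` fixed points -/
theorem sum_card_fixedBy_eq {Q Ω : Type*} [Group Q] [Fintype Q] [MulAction Q Ω] [Fintype Ω]
    [∀ x : Q, Fintype (fixedBy Ω x)] (φ : ℕ)
    (hfix : ∀ x : Q, x ≠ 1 → Nat.card (fixedBy Ω x) = φ) :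
    ∑ x : Q, Fintype.card (fixedBy Ω x) = Fintype.card Ω + (Fintype.card Q - 1) * φ := by
  classical
  rw [← Finset.add_sum_erase Finset.univ _ (Finset.mem_univ (1 : Q))]
  congr 1
  · apply Fintype.card_congr
    exact
      { toFun := fun ω => ω.1
        invFun := fun ω => ⟨ω, by simp⟩
        left_inv := fun ω => rfl
        right_inv := fun ω => rfl }
  · rw [Finset.sum_congr rfl (fun x hx => by
      rw [← Nat.card_eq_fintype_card, hfix x (Finset.ne_of_mem_erase hx)])]
    rw [Finset.sum_const, Finset.card_erase_of_mem (Finset.mem_univ _), Finset.card_univ,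
      smul_eq_mul]

/-- [BURN] -/
theorem card_eq_add_card {Q Ω : Type*} [Group Q] [Finite Q] [MulAction Q Ω] [Finite Ω] (φ : ℕ)
    (hfix : ∀ x : Q, x ≠ 1 → Nat.card (fixedBy Ω x) = φ) (hlt : Nat.card Ω < 2 * Nat.card Q)
    (hnt : ∃ (x : Q) (ω : Ω), x • ω ≠ ω) : Nat.card Ω = φ + Nat.card Q := by
  classical
  have : Fintype Q := Fintype.ofFinite Q
  have : Fintype Ω := Fintype.ofFinite Ω
  have : Fintype (orbitRel.Quotient Q Ω) := Fintype.ofFinite _
  have hB := sum_card_fixedBy_eq_card_orbits_mul_card_group Q Ω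
  rw [sum_card_fixedBy_eq φ hfix] at hB
  rw [Nat.card_eq_fintype_card, Nat.card_eq_fintype_card] at hlt ⊢
  obtain ⟨N, hN⟩ : ∃ N, N = Fintype.card Ω := ⟨_, rfl⟩
  obtain ⟨q, hq⟩ : ∃ q, q = Fintype.card Q := ⟨_, rfl⟩
  obtain ⟨a, ha⟩ : ∃ a, a = Fintype.card (orbitRel.Quotient Q Ω) := ⟨_, rfl⟩
  rw [← hN, ← hq, ← ha] at hB
  rw [← hN, ← hq] at hlt ⊢
  have hq1 : 1 ≤ q := by rw [hq]; exact Fintype.card_pos
  -- φ < N
  obtain ⟨x, ω, hxω⟩ := hnt
  have hx1 : x ≠ 1 := by
    rintro rfl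
    exact hxω (one_smul Q ω)
  have hφN : φ < N := by
    rw [← hfix x hx1, hN, Nat.card_eq_fintype_card]
    apply Fintype.card_lt_of_injective_of_notMem (fun z : fixedBy Ω x => (z : Ω))
      Subtype.val_injective (b := ω)
    rintro ⟨z, rfl⟩
    exact hxω z.2
  -- q ∣ N - φ
  have hdvd : q ∣ N - φ := by
    have h1 : N - φ + q * φ = a * q := by
      have : (q - 1) * φ = q * φ - φ := by
        rw [Nat.sub_mul, one_mul]
      rw [this] at hB
      have hle : φ ≤ q * φ := Nat.le_mul_of_pos_left φ hq1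
      omega
    have h2 : q ∣ N - φ + q * φ := by rw [h1]; exact dvd_mul_left q a
    exact (Nat.dvd_add_left (dvd_mul_right q φ)).1 h2
  obtain ⟨k, hk⟩ := hdvd
  have hk1 : k = 1 := by
    have hpos : 0 < N - φ := Nat.sub_pos_of_lt hφN
    have h2 : q * k < q * 2 := by
      calc q * k = N - φ := hk.symm
        _ ≤ N := Nat.sub_le N φ
        _ < 2 * q := hlt
        _ = q * 2 := by ring
    have h3 : k < 2 := Nat.lt_of_mul_lt_mul_left h2
    have h4 : k ≠ 0 := by
      rintro rfl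
      rw [mul_zero] at hk
      omega
    omega
  rw [hk1, mul_one] at hk
  omega

end Cfsg.Agent.Lib.Helper77.MinIdx
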