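/-
Helper77: module S2140-[STAR] for helper99 (minimal index of PSL_n(q)): Burnside counting.
-/
import Cfsg.Agent.Lib.Helper99.MinIdx.Defs

set_option autoImplicit false

namespace Cfsg.Agent.Lib.Helper77.MinIdx

open Module MulAction

/-- double counting for a subgroup `K` of `Q`: the sum over the points of the orders of the
stabilizers in `K`, when all nonidentity elements have `φ` fixed points. -/
theorem sum_card_inf_stabilizer {Q Ω : Type*} [Group Q] [Fintype Q] [MulAction Q Ω] [Fintype Ω]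
    (φ : ℕ) (hfix : ∀ x : Q, x ≠ 1 → Nat.card (fixedBy Ω x) = φ) (K : Subgroup Q) :
    ∑ ω : Ω, Nat.card ↥(K ⊓ stabilizer Q ω) = Nat.card Ω + (Nat.card K - 1) * φ := by
  classical
  have h1 : ∀ ω : Ω, Nat.card ↥(K ⊓ stabilizer Q ω) =
      ∑ x : Q, if x ∈ K ∧ x • ω = ω then 1 else 0 := by
    intro ω
    rw [Nat.card_eq_fintype_card, ← Finset.card_filter]
    rw [Fintype.card_subtype]
    congr 1
    ext x
    simp [Subgroup.mem_inf, mem_stabilizer_iff]
  rw [Finset.sum_congr rfl (fun ω _ => h1 ω), Finset.sum_comm]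
  have h2 : ∀ x : Q, (∑ ω : Ω, if x ∈ K ∧ x • ω = ω then 1 else 0) =
      if x ∈ K then Nat.card (fixedBy Ω x) else 0 := by
    intro x
    by_cases hx : x ∈ K
    · rw [if_pos hx, Nat.card_eq_fintype_card, ← Finset.card_filter, Fintype.card_subtype]
      congr 1
      ext ω
      simp [hx, mem_fixedBy]
    · rw [if_neg hx]
      apply Finset.sum_eq_zero
      intro ω _
      rw [if_neg]
      exact fun h => hx h.1
  rw [Finset.sum_congr rfl (fun x _ => h2 x)]
  rw [← Finset.add_sum_erase Finset.univ _ (Finset.mem_univ (1 : Q))]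
  congr 1
  · rw [if_pos K.one_mem]
    apply Nat.card_congr
    exact
      { toFun := fun ω => ω.1
        invFun := fun ω => ⟨ω, by simp⟩
        left_inv := fun ω => rfl
        right_inv := fun ω => rfl }
  · have h3 : ∀ x ∈ (Finset.univ : Finset Q).erase 1,
        (if x ∈ K then Nat.card (fixedBy Ω x) else 0) = if x ∈ K then φ else 0 := by
      intro x hx
      by_cases hxK : x ∈ K
      · rw [if_pos hxK, if_pos hxK, hfix x (Finset.ne_of_mem_erase hx)]
      · rw [if_neg hxK, if_neg hxK]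
    rw [Finset.sum_congr rfl h3, ← Finset.sum_filter, Finset.sum_const, smul_eq_mul]
    congr 1
    have h4 : ((Finset.univ : Finset Q).erase 1).filter (fun x => x ∈ K) =
        ((Finset.univ : Finset Q).filter (fun x => x ∈ K)).erase 1 := by
      ext x
      simp only [Finset.mem_filter, Finset.mem_erase, Finset.mem_univ, true_and, and_true]
    rw [h4, Finset.card_erase_of_mem (by simp [K.one_mem]), Nat.card_eq_fintype_card,
      Fintype.card_subtype]

/-- in a commutative group the stabilizer is constant on orbits -/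
theorem stabilizer_eq_of_mem_orbit {Q Ω : Type*} [CommGroup Q] [MulAction Q Ω] {ω ω' : Ω}
    (h : ω ∈ orbit Q ω') : stabilizer Q ω = stabilizer Q ω' := by
  obtain ⟨g, rfl⟩ := h
  ext x
  rw [mem_stabilizer_iff, mem_stabilizer_iff]
  constructor
  · intro hx
    change x • g • ω' = g • ω' at hx
    have h1 : g⁻¹ • (x • g • ω') = g⁻¹ • g • ω' := by rw [hx]
    rw [inv_smul_smul, smul_smul, smul_smul] at h1
    have e : g⁻¹ * x * g = x := by
      rw [mul_comm g⁻¹ x, mul_assoc, inv_mul_cancel, mul_one]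
    rw [e] at h1
    exact h1
  · intro hx
    rw [smul_smul, mul_comm x g, ← smul_smul, hx]

/-- the weight inequality `|M| |T| ≤ |Q| |M ⊓ T|` in a commutative group -/
theorem card_mul_card_le {Q : Type*} [CommGroup Q] [Finite Q] (M T : Subgroup Q) :
    Nat.card M * Nat.card T ≤ Nat.card Q * Nat.card ↥(M ⊓ T) := by
  have h1 : Nat.card ↥(T.subgroupOf M) * (T.subgroupOf M).index = Nat.card M :=
    Subgroup.card_mul_index _
  have h2 : Nat.card ↥(T.subgroupOf M) = Nat.card ↥(M ⊓ T) := by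
    rw [← Subgroup.inf_subgroupOf_left]
    exact Nat.card_congr (Subgroup.subgroupOfEquivOfLe (inf_le_left : M ⊓ T ≤ M)).toEquiv
  have h3 : Nat.card T * T.index = Nat.card Q := Subgroup.card_mul_index T
  have h4 : (T.subgroupOf M).index ∣ T.index := Subgroup.relIndex_dvd_index_of_normal T M
  have h5 : T.index ≠ 0 := Subgroup.index_ne_zero_of_finite
  have h6 : (T.subgroupOf M).index ≤ T.index := Nat.le_of_dvd (Nat.pos_of_ne_zero h5) h4
  rw [← h1, ← h3, h2]
  calc Nat.card ↥(M ⊓ T) * (T.subgroupOf M).index * Nat.card T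
      ≤ Nat.card ↥(M ⊓ T) * T.index * Nat.card T :=
        Nat.mul_le_mul_right _ (Nat.mul_le_mul_left _ h6)
    _ = Nat.card T * T.index * Nat.card ↥(M ⊓ T) := by ring

/-- [STAR] -/
theorem star {Q Ω : Type*} [CommGroup Q] [Finite Q] [MulAction Q Ω] [Finite Ω] (φ : ℕ)
    (hfix : ∀ x : Q, x ≠ 1 → Nat.card (fixedBy Ω x) = φ)
    (hN : Nat.card Ω = φ + Nat.card Q) (ω₁ ω₂ : Ω) (hne : ω₂ ∉ orbit Q ω₁) :
    stabilizer Q ω₁ ⊔ stabilizer Q ω₂ = ⊤ := by
  classical
  have : Fintype Q := Fintype.ofFinite Q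
  have : Fintype Ω := Fintype.ofFinite Ω
  obtain ⟨M, hM⟩ : ∃ M : Subgroup Q, M = stabilizer Q ω₁ ⊔ stabilizer Q ω₂ := ⟨_, rfl⟩
  rw [← hM]
  have hS₁ : stabilizer Q ω₁ ≤ M := by rw [hM]; exact le_sup_left
  have hS₂ : stabilizer Q ω₂ ≤ M := by rw [hM]; exact le_sup_right
  obtain ⟨q, hq⟩ : ∃ q, q = Nat.card Q := ⟨_, rfl⟩
  obtain ⟨m, hm⟩ : ∃ m, m = Nat.card M := ⟨_, rfl⟩
  have hq1 : 1 ≤ q := by rw [hq]; exact Nat.card_pos
  have hm1 : 1 ≤ m := by rw [hm]; exact Nat.card_pos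
  -- the two Burnside sums
  have EM := sum_card_inf_stabilizer φ hfix M
  have EQ := sum_card_inf_stabilizer φ hfix (⊤ : Subgroup Q)
  have htop : ∀ ω : Ω, Nat.card ↥((⊤ : Subgroup Q) ⊓ stabilizer Q ω) =
      Nat.card ↥(stabilizer Q ω) := fun ω => by rw [top_inf_eq]
  rw [Finset.sum_congr rfl (fun ω _ => htop ω), Subgroup.card_top, hN, ← hq] at EQ
  rw [hN, ← hq, ← hm] at EM
  -- the three parts of `Ω`
  have hdisj : ∀ ω : Ω, ω ∈ orbit Q ω₁ → ω ∉ orbit Q ω₂ := by
    intro ω h1 h2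
    apply hne
    rw [← orbit_eq_iff] at h1 h2
    rw [← h1, h2]
    exact mem_orbit_self ω₂
  have split : ∀ f : Ω → ℕ, ∑ ω, f ω =
      ∑ ω ∈ Finset.univ.filter (fun ω => ω ∈ orbit Q ω₁), f ω +
        (∑ ω ∈ Finset.univ.filter (fun ω => ω ∈ orbit Q ω₂), f ω +
          ∑ ω ∈ Finset.univ.filter (fun ω => ω ∉ orbit Q ω₁ ∧ ω ∉ orbit Q ω₂), f ω) := by
    intro f
    rw [← Finset.sum_filter_add_sum_filter_not Finset.univ (fun ω => ω ∈ orbit Q ω₁) f]
    congr 1
    rw [← Finset.sum_filter_add_sum_filter_not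
      (Finset.univ.filter (fun ω => ¬ ω ∈ orbit Q ω₁)) (fun ω => ω ∈ orbit Q ω₂) f]
    congr 1
    · apply Finset.sum_congr _ (fun _ _ => rfl)
      ext ω
      simp only [Finset.mem_filter, Finset.mem_univ, true_and]
      constructor
      · exact fun h => h.2
      · exact fun h => ⟨fun h1 => hdisj ω h1 h, h⟩
    · apply Finset.sum_congr _ (fun _ _ => rfl)
      ext ω
      simp only [Finset.mem_filter, Finset.mem_univ, true_and]
  -- the orbit sums
  have horb : ∀ ω₀ : Ω, ∑ ω ∈ Finset.univ.filter (fun ω => ω ∈ orbit Q ω₀),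
      Nat.card ↥(stabilizer Q ω) = q := by
    intro ω₀
    have h1 : ∀ ω ∈ Finset.univ.filter (fun ω => ω ∈ orbit Q ω₀),
        Nat.card ↥(stabilizer Q ω) = Nat.card ↥(stabilizer Q ω₀) := by
      intro ω hω
      rw [stabilizer_eq_of_mem_orbit (Finset.mem_filter.1 hω).2]
    rw [Finset.sum_congr rfl h1, Finset.sum_const, smul_eq_mul, hq]
    have h2 := card_orbit_mul_card_stabilizer_eq_card_group Q ω₀
    rw [← Nat.card_eq_fintype_card (α := Q), ← Nat.card_eq_fintype_card (α := stabilizer Q ω₀)]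
      at h2
    rw [← h2]
    congr 1
    rw [← Fintype.card_subtype]
  have horbM : ∀ ω₀ : Ω, stabilizer Q ω₀ ≤ M →
      ∑ ω ∈ Finset.univ.filter (fun ω => ω ∈ orbit Q ω₀),
        Nat.card ↥(M ⊓ stabilizer Q ω) = q := by
    intro ω₀ hle
    rw [← horb ω₀]
    apply Finset.sum_congr rfl
    intro ω hω
    rw [stabilizer_eq_of_mem_orbit (Finset.mem_filter.1 hω).2, inf_eq_right.2 hle]
  -- the rest
  obtain ⟨R, hR⟩ : ∃ R, R = ∑ ω ∈ Finset.univ.filter
      (fun ω => ω ∉ orbit Q ω₁ ∧ ω ∉ orbit Q ω₂), Nat.card ↥(stabilizer Q ω) := ⟨_, rfl⟩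
  obtain ⟨R', hR'⟩ : ∃ R', R' = ∑ ω ∈ Finset.univ.filter
      (fun ω => ω ∉ orbit Q ω₁ ∧ ω ∉ orbit Q ω₂), Nat.card ↥(M ⊓ stabilizer Q ω) := ⟨_, rfl⟩
  have hRR' : m * R ≤ q * R' := by
    rw [hR, hR', Finset.mul_sum, Finset.mul_sum]
    apply Finset.sum_le_sum
    intro ω _
    rw [hm, hq]
    exact card_mul_card_le M (stabilizer Q ω)
  rw [split, horb ω₁, horb ω₂, ← hR] at EQ
  rw [split, horbM ω₁ hS₁, horbM ω₂ hS₂, ← hR'] at EM
  -- arithmetic
  have hle : q ≤ m := by
    have e1 : (q - 1) * φ = q * φ - φ := by rw [Nat.sub_mul, one_mul]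
    have e2 : (m - 1) * φ = m * φ - φ := by rw [Nat.sub_mul, one_mul]
    have l1 : φ ≤ q * φ := Nat.le_mul_of_pos_left φ hq1
    have l2 : φ ≤ m * φ := Nat.le_mul_of_pos_left φ hm1
    rw [e1] at EQ
    rw [e2] at EM
    have EQ' : (q : ℤ) + R = q * φ := by
      have : q + (q + R) + φ = φ + q + q * φ := by omega
      have : ((q + (q + R) + φ : ℕ) : ℤ) = ((φ + q + q * φ : ℕ) : ℤ) := by rw [this]
      push_cast at this
      linarith
    have EM' : (q : ℤ) + R' = m * φ := by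
      have : q + (q + R') + φ = φ + q + m * φ := by omega
      have : ((q + (q + R') + φ : ℕ) : ℤ) = ((φ + q + m * φ : ℕ) : ℤ) := by rw [this]
      push_cast at this
      linarith
    have hRR'z : (m : ℤ) * R ≤ q * R' := by exact_mod_cast hRR'
    have hqz : (1 : ℤ) ≤ q := by exact_mod_cast hq1
    have key : (q : ℤ) * q ≤ m * q := by
      have h1 : (R : ℤ) = q * φ - q := by linarith
      have h2 : (R' : ℤ) = m * φ - q := by linarith
      rw [h1, h2] at hRR'z
      nlinarith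
    have : (q : ℤ) ≤ m := le_of_mul_le_mul_right key (by linarith)
    exact_mod_cast this
  apply Subgroup.eq_top_of_le_card
  rw [← hq, ← hm]
  exact hle

end Cfsg.Agent.Lib.Helper77.MinIdx
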