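import Mathlib
import Cfsg.Prelude.Def_KGroupFacts

set_option autoImplicit false

namespace Cfsg.Agent.Lib.Helper77

section OutCenter

variable {E : Type*} [Group E]

/-- An automorphism of a perfect group which is the identity modulo the centre is the
identity. -/
theorem outCenter_eq_of_central_diff (hperf : commutator E = ⊤) (γ : E ≃* E)
    (h : ∀ x : E, x⁻¹ * γ x ∈ Subgroup.center E) (x : E) : γ x = x := by
  let f : E →* E :=
    { toFun := fun x => x⁻¹ * γ x
      map_one' := by simp
      map_mul' := fun x y => by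
        have hx := h x
        rw [Subgroup.mem_center_iff] at hx
        change (x * y)⁻¹ * γ (x * y) = x⁻¹ * γ x * (y⁻¹ * γ y)
        rw [map_mul, mul_inv_rev]
        calc y⁻¹ * x⁻¹ * (γ x * γ y) = y⁻¹ * (x⁻¹ * γ x) * γ y := by group
          _ = (x⁻¹ * γ x) * y⁻¹ * γ y := by rw [hx y⁻¹]
          _ = x⁻¹ * γ x * (y⁻¹ * γ y) := by group }
  have hf : ∀ x, f x = x⁻¹ * γ x := fun _ => rfl
  have hker : commutator E ≤ f.ker := by
    rw [commutator_def, Subgroup.commutator_le]
    intro a _ b _
    rw [MonoidHom.mem_ker, map_commutatorElement, commutatorElement_eq_one_iff_commute]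
    have ha : f a ∈ Subgroup.center E := h a
    exact (Subgroup.mem_center_iff.mp ha (f b)).symm
  have hx : x ∈ f.ker := hker (by rw [hperf]; exact Subgroup.mem_top x)
  rw [MonoidHom.mem_ker, hf] at hx
  exact (inv_mul_eq_one.mp hx).symm

theorem exists_not_inner_of_center_moved (hperf : commutator E = ⊤)
    (a : E ≃* E) (z : E) (hz : z ∈ Subgroup.center E) (hza : a z ≠ z) :
    ∃ α : MulAut (E ⧸ Subgroup.center E), α ∉ Cfsg.Inn (E ⧸ Subgroup.center E) := by
  have hchar : (Subgroup.center E).map (a : E →* E) = Subgroup.center E :=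
    (Subgroup.characteristic_iff_map_eq.mp inferInstance) a
  refine ⟨QuotientGroup.congr (Subgroup.center E) (Subgroup.center E) a hchar, ?_⟩
  rintro ⟨q, hq⟩
  obtain ⟨g, rfl⟩ := QuotientGroup.mk_surjective q
  apply hza
  -- a x = g x g⁻¹ modulo the centre
  have hmod : ∀ x : E, (g * x * g⁻¹)⁻¹ * a x ∈ Subgroup.center E := by
    intro x
    have h1 := congrArg (fun φ : MulAut (E ⧸ Subgroup.center E) => φ (x : E ⧸ Subgroup.center E)) hq
    simp only [MulAut.conj_apply] at h1
    rw [QuotientGroup.congr_mk] at h1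
    rw [← QuotientGroup.eq]
    rw [← h1]
    simp
  set γ : E ≃* E := (MulAut.conj g)⁻¹ * a with hγ
  have hγx : ∀ x, γ x = g⁻¹ * a x * g := by
    intro x
    rw [hγ, MulAut.mul_apply, MulAut.conj_inv_apply]
  have hγc : ∀ x : E, x⁻¹ * γ x ∈ Subgroup.center E := by
    intro x
    have h1 := hmod x
    have h2 : x⁻¹ * γ x = g⁻¹ * ((g * x * g⁻¹)⁻¹ * a x) * g := by
      rw [hγx]; group
    rw [h2]
    have h3 := Subgroup.mem_center_iff.mp h1 g⁻¹
    rw [h3]
    have : (g * x * g⁻¹)⁻¹ * a x * g⁻¹ * g = (g * x * g⁻¹)⁻¹ * a x := by group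
    rw [this]
    exact h1
  have hid := outCenter_eq_of_central_diff hperf γ hγc z
  rw [hγx] at hid
  -- g⁻¹ * a z * g = z, and a z is central
  have haz : a z ∈ Subgroup.center E := by
    rw [← hchar]
    exact Subgroup.mem_map_of_mem _ hz
  have h4 := Subgroup.mem_center_iff.mp haz g⁻¹
  rw [h4] at hid
  calc a z = a z * g⁻¹ * g := by group
    _ = z := hid

end OutCenter

end Cfsg.Agent.Lib.Helper77
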