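import Mathlib
import Cfsg.Agent.Lib.Helper24.PFCycCtx0
import Cfsg.Agent.Lib.Helper25.PFCycEta
import Cfsg.Agent.Lib.Helper64.PFElevenAnchor
import Cfsg.Agent.Lib.Helper64.PFElevenDegQ
import Cfsg.Agent.Lib.Helper64.SibleyTwist
import Cfsg.Agent.S1506
import Cfsg.Agent.S1507

/-!
# PF (10.2) module PF10-[CS-ORTH] (helper77, for helper64)

For `χ ∈ calS M` irreducible, `τ_M(χ - χ̄)` is orthogonal to the whole cyclic TI family `η`.
-/

set_option autoImplicit false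
set_option linter.unusedSectionVars false
set_option linter.unusedVariables false

namespace Cfsg.Agent.Lib.Helper77.PF10CS

open Cfsg Cfsg.Agent.Lib.Helper24.PFCyc Cfsg.Agent.Lib.Helper4.PF
open scoped ComplexConjugate

/-- The combinatorial core, one-sided: integer coefficients obeying the rectangle rule with square
sum at most `2` vanish on `P`, if `Q` has two distinct nontrivial elements. -/
theorem coeff_zero_of_rect {X : Type*} [CommGroup X] [Fintype X] (P Q : X → Prop) (e : X → ℤ)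
    (he1 : e 1 = 0) (hadd : ∀ φ ψ, P φ → Q ψ → e (φ * ψ) = e φ + e ψ)
    (hPQ : ∀ x, P x → Q x → x = 1) (hQdiv : ∀ a b, Q a → Q b → Q (a * b⁻¹))
    (hsum : ∑ x, (e x) ^ 2 ≤ 2)
    (ψ₁ ψ₂ : X) (hψ₁ : Q ψ₁) (hψ₂ : Q ψ₂) (h1 : ψ₁ ≠ 1) (h2 : ψ₂ ≠ 1) (h12 : ψ₁ ≠ ψ₂)
    (φ₀ : X) (hφ₀ : P φ₀) : e φ₀ = 0 := by
  classical
  by_contra ha
  have hφ01 : φ₀ ≠ 1 := by
    rintro rfl
    exact ha he1
  -- for each `i` an `ωᵢ ∈ {ψᵢ, φ₀ ψᵢ}` with nonzero coefficient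
  have hpick : ∀ ψ, Q ψ → ∃ ω, (ω = ψ ∨ ω = φ₀ * ψ) ∧ e ω ≠ 0 := by
    intro ψ hψ
    by_cases h : e ψ = 0
    · refine ⟨φ₀ * ψ, Or.inr rfl, ?_⟩
      rw [hadd φ₀ ψ hφ₀ hψ, h, add_zero]
      exact ha
    · exact ⟨ψ, Or.inl rfl, h⟩
  obtain ⟨ω₁, hω₁, he₁⟩ := hpick ψ₁ hψ₁
  obtain ⟨ω₂, hω₂, he₂⟩ := hpick ψ₂ hψ₂
  have hQ1 : Q 1 := by
    have := hQdiv ψ₁ ψ₁ hψ₁ hψ₁
    rwa [mul_inv_cancel] at this
  -- `φ₀` is not in `Q`
  have hφ₀Q : ¬ Q φ₀ := fun h => hφ01 (hPQ φ₀ hφ₀ h)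
  have hd01 : φ₀ ≠ ω₁ := by
    rcases hω₁ with rfl | rfl
    · exact fun h => hφ₀Q (h ▸ hψ₁)
    · intro h
      apply h1
      have : φ₀ * 1 = φ₀ * ψ₁ := by rw [mul_one]; exact h
      exact (mul_left_cancel this).symm
  have hd02 : φ₀ ≠ ω₂ := by
    rcases hω₂ with rfl | rfl
    · exact fun h => hφ₀Q (h ▸ hψ₂)
    · intro h
      apply h2
      have : φ₀ * 1 = φ₀ * ψ₂ := by rw [mul_one]; exact h
      exact (mul_left_cancel this).symm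
  have hd12 : ω₁ ≠ ω₂ := by
    rcases hω₁ with rfl | rfl <;> rcases hω₂ with rfl | rfl
    · exact h12
    · intro h
      apply hφ₀Q
      have : φ₀ = ω₁ * ψ₂⁻¹ := by rw [h]; group
      rw [this]
      exact hQdiv _ _ hψ₁ hψ₂
    · intro h
      apply hφ₀Q
      have : φ₀ = ω₂ * ψ₁⁻¹ := by rw [← h]; group
      rw [this]
      exact hQdiv _ _ hψ₂ hψ₁
    · intro h
      exact h12 (mul_left_cancel h)
  -- three nonzero squares
  have hsq : ∀ x, e x ≠ 0 → 1 ≤ (e x) ^ 2 := by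
    intro x hx
    have : 0 < (e x) ^ 2 := by positivity
    omega
  have hsub : ∑ x ∈ ({φ₀, ω₁, ω₂} : Finset X), (e x) ^ 2 ≤ ∑ x, (e x) ^ 2 :=
    Finset.sum_le_univ_sum_of_nonneg (fun x => sq_nonneg _)
  rw [Finset.sum_insert (by simp [hd01, hd02]), Finset.sum_insert (by simp [hd12]),
    Finset.sum_singleton] at hsub
  have := hsq φ₀ ha
  have := hsq ω₁ he₁
  have := hsq ω₂ he₂
  omega

universe u
variable {G : Type u} [Group G] [Fintype G] {M W₁ U W₂ : Subgroup G} [Fintype M]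
  {mu : WChar W₁ W₂ → (↥M → ℂ)} {dl : WChar W₁ W₂ → ℂ} {η : WChar W₁ W₂ → (G → ℂ)} {ζ : ↥M → ℂ}

/-- a subgroup of odd order which is not trivial has order at least `3` -/
theorem three_le_card_of_odd {H : Type*} [Group H] [Finite H] (hodd : Odd (Nat.card H))
    (hne : Nat.card H ≠ 1) : 3 ≤ Nat.card H := by
  have hpos : 0 < Nat.card H := Nat.card_pos
  obtain ⟨m, hm⟩ := hodd
  omega

theorem exists_two_of_three_le_card {X : Type*} [DecidableEq X] (s : Finset X) (x₀ : X)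
    (hs : 3 ≤ s.card) : ∃ a ∈ s, ∃ b ∈ s, a ≠ x₀ ∧ b ≠ x₀ ∧ a ≠ b := by
  have h2 : 1 < (s.erase x₀).card := by
    have := Finset.pred_card_le_card_erase (s := s) (a := x₀)
    omega
  obtain ⟨a, ha, b, hb, hab⟩ := Finset.one_lt_card.mp h2
  exact ⟨a, Finset.mem_of_mem_erase ha, b, Finset.mem_of_mem_erase hb,
    Finset.ne_of_mem_erase ha, Finset.ne_of_mem_erase hb, hab⟩

/-- [CS-ORTH] -/
theorem calS_irr_orth (h : MCtx0 M W₁ U W₂ mu dl η ζ) (hf : MFacts M W₁ W₂ mu dl η)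
    (χ : ↥M → ℂ) (hχ : χ ∈ calS M) (hχi : IsIrrCharacter ↥M χ) (ω : WChar W₁ W₂) :
    classInner (tauM M (χ - conjFun χ)) (η ω) = 0 := by
  classical
  have : Fintype (WChar W₁ W₂) := Fintype.ofFinite _
  -- basic facts on `χ`, `χ̄`
  obtain ⟨hχc, hχK, hχbar, hχne, _⟩ := Zero.calS_basic h χ hχ
  obtain ⟨hχbc, hχbK, _, _, _⟩ := Zero.calS_basic h (conjFun χ) hχbar
  obtain ⟨α, hα⟩ : ∃ α : ↥M → ℂ, α = χ - conjFun χ := ⟨_, rfl⟩
  rw [← hα]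
  have hαcf : IsClassFunction ↥M α := by
    rw [hα]
    exact Cfsg.Agent.Lib.Helper78.isClassFunction_sub
      (Cfsg.Agent.Lib.Helper78.IsCharacter.isClassFunction hχc)
      (Cfsg.Agent.Lib.Helper78.IsCharacter.isClassFunction hχbc)
  have hαK : ∀ m : ↥M, (m : G) ∉ ⁅M, M⁆ → α m = 0 := by
    intro m hm
    rw [hα, Pi.sub_apply, hχK m hm, hχbK m hm, sub_zero]
  have hχ1 : conjFun χ 1 = χ 1 := by
    obtain ⟨e, _, he, _⟩ := (Zero.calS_basic h χ hχ).2.2.2.2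
    show conj (χ 1) = χ 1
    rw [he]
    simp
  have hα1 : α 1 = 0 := by
    rw [hα, Pi.sub_apply, hχ1, sub_self]
  have hαA := Zero.off_litA0 h α hαK hα1
  have hαgen : IsGeneralizedCharacter ↥M α := ⟨χ, conjFun χ, hχc, hχbc, hα⟩
  -- `X = τ(α)`
  obtain ⟨X, hX⟩ : ∃ X : G → ℂ, X = tauM M α := ⟨_, rfl⟩
  rw [← hX]
  have hXcf : IsClassFunction G X := by rw [hX]; exact Zero.tauM_isClassFunction h hαcf
  have hXgen : IsGeneralizedCharacter G X := by rw [hX]; exact Zero.tauM_genChar h hαgen hαA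
  have hXV : ∀ w : ↥(W₁ ⊔ W₂), (w : G) ∉ W₁ → (w : G) ∉ W₂ → X w = 0 := by
    intro w hw₁ hw₂
    rw [hX]
    exact Zero.tauM_vanish_W h hf α hαcf hαK w hw₁ hw₂
  have hXX : classInner X X = 2 := by
    rw [hX, Zero.tauM_inner h hαcf hαA hαcf hαA, hα,
      Cfsg.Agent.Lib.Helper26.classInner_sub_left, Cfsg.Agent.Lib.Helper26.classInner_sub_right,
      Cfsg.Agent.Lib.Helper26.classInner_sub_right,
      Cfsg.Agent.Lib.Helper78.classInner_irr_self hχi,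
      Zero.calS_orth h χ (conjFun χ) hχ hχbar hχne.symm,
      Zero.calS_orth h (conjFun χ) χ hχbar hχ hχne,
      Cfsg.Agent.Lib.Helper64.classInner_conjFun_conjFun,
      Cfsg.Agent.Lib.Helper78.classInner_irr_self hχi]
    simp
    norm_num
  have hX1 : classInner X (η 1) = 0 := by
    rw [h.hη.map_one, hX, Zero.tauM_inner_one h hαcf hαA, hα,
      Cfsg.Agent.Lib.Helper26.classInner_sub_left]
    have : classInner (conjFun χ) (fun _ => (1 : ℂ)) = conj (classInner χ (fun _ => (1 : ℂ))) := by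
      have h1 : (fun _ : ↥M => (1 : ℂ)) = conjFun (fun _ => (1 : ℂ)) := by
        funext m
        show (1 : ℂ) = conj 1
        simp
      rw [h1, Cfsg.Agent.Lib.Helper64.classInner_conjFun_conjFun, ← h1]
    rw [this]
    -- `⟨χ, 1⟩` is real
    have hreal : conj (classInner χ (fun _ : ↥M => (1 : ℂ))) = classInner χ (fun _ => (1 : ℂ)) := by
      unfold classInner
      rw [map_mul, map_inv₀, Complex.conj_natCast, map_sum]
      congr 1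
      rw [← Equiv.sum_comp (Equiv.inv ↥M)]
      apply Finset.sum_congr rfl
      intro m _
      rw [map_mul, Complex.conj_conj, Equiv.inv_apply,
        Cfsg.Agent.Lib.Helper78.IsCharacter.inv hχc m]
      simp
    rw [hreal, sub_self]
  -- the integer coefficients
  have hint : ∀ ω : WChar W₁ W₂, ∃ n : ℤ, classInner X (η ω) = (n : ℂ) :=
    fun ω => Cfsg.Agent.Lib.Helper25.PFCyc.eta_inner_int η h.hη X hXgen ω
  choose e he using hint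
  have he1 : e 1 = 0 := by
    have := he 1
    rw [hX1] at this
    exact_mod_cast this.symm
  -- Bessel
  have hbessel : ∑ ω : WChar W₁ W₂, ((e ω : ℝ)) ^ 2 ≤ 2 := by
    have := Cfsg.Agent.Lib.Helper64.PF11.bessel_on X η
      (fun k => by rw [h.hη.orthonormal, if_pos rfl])
      (fun k l hkl => by rw [h.hη.orthonormal, if_neg hkl])
      (fun ω => (e ω : ℝ)) (fun ω => by rw [he ω]; push_cast; rfl)
    rw [hXX] at this
    simpa using this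
  have hsum : ∑ ω : WChar W₁ W₂, (e ω) ^ 2 ≤ 2 := by
    have : ((∑ ω : WChar W₁ W₂, (e ω) ^ 2 : ℤ) : ℝ) ≤ 2 := by
      push_cast
      exact hbessel
    exact_mod_cast this
  -- the set-up of `W`
  obtain ⟨hWcomm, hext, hcard, hc1, hc2⟩ := Cfsg.Agent.Lib.Helper64.PF11.ti_setup W₁ W₂ h.hW
  obtain ⟨A₁, hA₁⟩ : ∃ A₁ : Subgroup ↥(W₁ ⊔ W₂), A₁ = W₁.subgroupOf (W₁ ⊔ W₂) := ⟨_, rfl⟩
  obtain ⟨A₂, hA₂⟩ : ∃ A₂ : Subgroup ↥(W₁ ⊔ W₂), A₂ = W₂.subgroupOf (W₁ ⊔ W₂) := ⟨_, rfl⟩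
  rw [← hA₁, ← hA₂] at hext hcard
  rw [← hA₁] at hc1
  rw [← hA₂] at hc2
  obtain ⟨P, hP⟩ : ∃ P : WChar W₁ W₂ → Prop, P = fun φ => ∀ w ∈ A₂, φ w = 1 := ⟨_, rfl⟩
  obtain ⟨Q, hQ⟩ : ∃ Q : WChar W₁ W₂ → Prop, Q = fun ψ => ∀ w ∈ A₁, ψ w = 1 := ⟨_, rfl⟩
  have hPdual : ∀ φ, P φ ↔ φ ∈ Cfsg.Agent.Lib.Helper25.dualOf A₂ := by
    intro φ; rw [Cfsg.Agent.Lib.Helper25.mem_dualOf, hP]
  have hQdual : ∀ ψ, Q ψ ↔ ψ ∈ Cfsg.Agent.Lib.Helper25.dualOf A₁ := by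
    intro ψ; rw [Cfsg.Agent.Lib.Helper25.mem_dualOf, hQ]
  have hadd : ∀ φ ψ, P φ → Q ψ → e (φ * ψ) = e φ + e ψ := by
    intro φ ψ hφ hψ
    have hkey := Cfsg.Agent.S1506.key W₁ W₂ η h.hη X hXcf hXV φ ψ
      (fun w hw => by rw [hP] at hφ; exact hφ w (by rw [hA₂]; exact Subgroup.mem_subgroupOf.mpr hw))
      (fun w hw => by rw [hQ] at hψ; exact hψ w (by rw [hA₁]; exact Subgroup.mem_subgroupOf.mpr hw))
    rw [he, he, he, he, he1] at hkey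
    have : ((e (φ * ψ) : ℤ) : ℂ) = ((e φ + e ψ : ℤ) : ℂ) := by
      rw [hkey]; push_cast; ring
    exact_mod_cast this
  have hPQ : ∀ x, P x → Q x → x = 1 := by
    intro x hx hy
    rw [hP] at hx
    rw [hQ] at hy
    exact hext x hy hx
  have hmuldiv : ∀ (R : WChar W₁ W₂ → Prop) (A : Subgroup ↥(W₁ ⊔ W₂)),
      (R = fun ψ => ∀ w ∈ A, ψ w = 1) → ∀ a b, R a → R b → R (a * b⁻¹) := by
    intro R A hR a b ha hb
    rw [hR] at ha hb ⊢
    intro w hw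
    rw [MonoidHom.mul_apply, MonoidHom.inv_apply, ha w hw, hb w hw, inv_one, mul_one]
  have hPdiv := hmuldiv P A₂ hP
  have hQdiv := hmuldiv Q A₁ hQ
  -- sizes
  obtain ⟨cΦ, cΨ⟩ := Cfsg.Agent.S1507.card_dual_eq hWcomm A₁ A₂ hcard
  have hW₁M : W₁ ≤ M := h.hP.W₁_compl.2.1
  have hW₂M : W₂ ≤ M :=
    ((h.hP.W₂_le.trans inf_le_left).trans h.hP.U_compl.1).trans h.hP.W₁_compl.1
  have hoddW : ∀ W : Subgroup G, W ≤ M → Odd (Nat.card W) := by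
    intro W hWM
    exact Odd.of_dvd_nat h.hodd (Subgroup.card_dvd_of_le hWM)
  have h3W₁ : 3 ≤ Nat.card W₁ := by
    apply three_le_card_of_odd (hoddW W₁ hW₁M)
    intro hc
    exact h.hW.1 (Subgroup.card_eq_one.mp hc)
  have h3W₂ : 3 ≤ Nat.card W₂ := by
    apply three_le_card_of_odd (hoddW W₂ hW₂M)
    intro hc
    exact h.hW.2.1 (Subgroup.card_eq_one.mp hc)
  obtain ⟨ψ₁, hψ₁, ψ₂, hψ₂, hψ₁1, hψ₂1, hψ12⟩ :=
    exists_two_of_three_le_card (Cfsg.Agent.Lib.Helper25.dualOf A₁) 1 (by rw [cΨ, hc2]; exact h3W₂)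
  obtain ⟨φ₁, hφ₁, φ₂, hφ₂, hφ₁1, hφ₂1, hφ12⟩ :=
    exists_two_of_three_le_card (Cfsg.Agent.Lib.Helper25.dualOf A₂) 1 (by rw [cΦ, hc1]; exact h3W₁)
  -- all coefficients on `P` and on `Q` vanish
  have hzeroP : ∀ φ, P φ → e φ = 0 := fun φ hφ =>
    coeff_zero_of_rect P Q e he1 hadd hPQ hQdiv hsum ψ₁ ψ₂ ((hQdual _).mpr hψ₁)
      ((hQdual _).mpr hψ₂) hψ₁1 hψ₂1 hψ12 φ hφ
  have hzeroQ : ∀ ψ, Q ψ → e ψ = 0 := fun ψ hψ =>
    coeff_zero_of_rect Q P e he1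
      (fun ψ φ hψ hφ => by rw [mul_comm ψ φ, hadd φ ψ hφ hψ, add_comm])
      (fun x hx hy => hPQ x hy hx) hPdiv hsum φ₁ φ₂ ((hPdual _).mpr hφ₁)
      ((hPdual _).mpr hφ₂) hφ₁1 hφ₂1 hφ12 ψ hψ
  -- conclude
  obtain ⟨φ, hφ, ψ, hψ, rfl⟩ := Cfsg.Agent.S1507.factor_surj hWcomm A₁ A₂ hext hcard ω
  rw [he, hadd φ ψ ((hPdual _).mpr hφ) ((hQdual _).mpr hψ), hzeroP φ ((hPdual _).mpr hφ),
    hzeroQ ψ ((hQdual _).mpr hψ)]
  simp

end Cfsg.Agent.Lib.Helper77.PF10CS
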