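import Mathlib

set_option autoImplicit false

namespace Cfsg.Agent.Lib.Helper77.S1906LA

open Module

section abstract

variable {F : Type*} [Field F] {V : Type*} [AddCommGroup V] [Module F V]

/-- An involution is the identity plus or minus on two complementary pieces. -/
theorem inv_iSup_maxGen_eq_top (h2 : (2 : F) ≠ 0) (A : Module.End F V) (hA : A * A = 1) :
    ⨆ μ : F, A.maxGenEigenspace μ = ⊤ := by
  rw [eq_top_iff]
  intro x _
  have hAA : ∀ y, A (A y) = y := fun y => by
    have := LinearMap.congr_fun hA y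
    simpa using this
  have h1 : (2 : F)⁻¹ • (x + A x) ∈ A.eigenspace 1 := by
    rw [Module.End.mem_eigenspace_iff, map_smul, map_add, hAA, one_smul, add_comm]
  have h2' : (2 : F)⁻¹ • (x - A x) ∈ A.eigenspace (-1) := by
    rw [Module.End.mem_eigenspace_iff, map_smul, map_sub, hAA, neg_smul, one_smul, ← smul_neg,
      neg_sub]
  have hx : (2 : F)⁻¹ • (x + A x) + (2 : F)⁻¹ • (x - A x) = x := by
    rw [← smul_add, add_add_sub_cancel, ← two_smul F x, smul_smul, inv_mul_cancel₀ h2, one_smul]
  have key : (2 : F)⁻¹ • (x + A x) + (2 : F)⁻¹ • (x - A x) ∈ ⨆ μ : F, A.maxGenEigenspace μ := by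
    refine Submodule.add_mem _ ?_ ?_
    · exact (le_iSup (fun μ : F => A.maxGenEigenspace μ) 1)
        (Module.End.eigenspace_le_maxGenEigenspace h1)
    · exact (le_iSup (fun μ : F => A.maxGenEigenspace μ) (-1))
        (Module.End.eigenspace_le_maxGenEigenspace h2')
  rwa [hx] at key

theorem inv_isSemisimple (h2 : (2 : F) ≠ 0) (A : Module.End F V) (hA : A * A = 1) :
    A.IsSemisimple := by
  have hsq : Squarefree (Polynomial.X ^ 2 - Polynomial.C (1 : F)) :=
    (Polynomial.separable_X_pow_sub_C (1 : F) (n := 2) (by exact_mod_cast h2)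
      one_ne_zero).squarefree
  apply Module.End.isSemisimple_of_squarefree_aeval_eq_zero hsq
  simp [pow_two, hA]

theorem abstract_main (h2 : (2 : F) ≠ 0) [FiniteDimensional F V] (hV : finrank F V = 3)
    {ι : Type*} (hι : Nat.card ι = 8) (f : ι → Module.End F V) (hf : Function.Injective f)
    (hinv : ∀ i, f i * f i = 1) (hcomm : ∀ i j, Commute (f i) (f j)) :
    (∃ i, f i = -1) ∧
    (∀ g : Module.End F V, g * g = 1 → (∀ i, Commute g (f i)) → ∃ i, f i = g) ∧
    (∀ g h : Module.End F V, (∀ i, Commute g (f i)) → (∀ i, Commute h (f i)) →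
      g * h = h * g) := by
  classical
  haveI : Finite ι := Nat.finite_of_card_ne_zero (by omega)
  haveI := Fintype.ofFinite ι
  obtain ⟨W, hW⟩ : ∃ W : (ι → F) → Submodule F V,
      W = fun χ => ⨅ i, (f i).maxGenEigenspace (χ i) := ⟨_, rfl⟩
  have hmaps : ∀ i j φ, Set.MapsTo (f i) ((f j).maxGenEigenspace φ) ((f j).maxGenEigenspace φ) :=
    fun i j φ => Module.End.mapsTo_maxGenEigenspace_of_comm (hcomm j i) φ
  have hind : iSupIndep W := by
    rw [hW]
    exact Module.End.independent_iInf_maxGenEigenspace_of_forall_mapsTo f hmaps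
  have htop : ⨆ χ, W χ = ⊤ := by
    rw [hW]
    exact Module.End.iSup_iInf_maxGenEigenspace_eq_top_of_forall_mapsTo f hmaps
      (fun i => inv_iSup_maxGen_eq_top h2 (f i) (hinv i))
  have hev : ∀ χ x, x ∈ W χ → ∀ i, f i x = χ i • x := by
    intro χ x hx i
    rw [hW] at hx
    have := (Submodule.mem_iInf _).1 hx i
    rw [(inv_isSemisimple h2 (f i)
      (hinv i)).isFinitelySemisimple.maxGenEigenspace_eq_eigenspace] at this
    exact Module.End.mem_eigenspace_iff.1 this
  have hmem : ∀ χ x, (∀ i, f i x = χ i • x) → x ∈ W χ := by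
    intro χ x hx
    rw [hW]
    refine (Submodule.mem_iInf _).2 (fun i => ?_)
    rw [(inv_isSemisimple h2 (f i)
      (hinv i)).isFinitelySemisimple.maxGenEigenspace_eq_eigenspace]
    exact Module.End.mem_eigenspace_iff.2 (hx i)
  haveI : Fintype {χ // W χ ≠ ⊥} := hind.fintypeNeBotOfFiniteDimensional
  have hS3 : Fintype.card {χ // W χ ≠ ⊥} ≤ 3 := hV ▸ hind.subtype_ne_bot_le_finrank
  have hAA : ∀ i y, f i (f i y) = y := fun i y => by
    have := LinearMap.congr_fun (hinv i) y
    simpa using this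
  have hsign : ∀ χ : {χ // W χ ≠ ⊥}, ∀ i, χ.1 i = 1 ∨ χ.1 i = -1 := by
    intro χ i
    obtain ⟨x, hx, hx0⟩ := Submodule.exists_mem_ne_zero_of_ne_bot χ.2
    have h1 := hev χ.1 x hx i
    have h3 := hAA i x
    rw [h1, map_smul, h1, smul_smul] at h3
    have h4 : (χ.1 i * χ.1 i - 1) • x = 0 := by rw [sub_smul, h3, one_smul, sub_self]
    rcases smul_eq_zero.1 h4 with h | h
    · have h5 : (χ.1 i - 1) * (χ.1 i + 1) = 0 := by linear_combination h
      rcases mul_eq_zero.1 h5 with h | h
      · left; linear_combination h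
      · right; linear_combination h
    · exact absurd h hx0
  have hext : ∀ A B : Module.End F V,
      (∀ χ : {χ // W χ ≠ ⊥}, ∀ x ∈ W χ.1, A x = B x) → A = B := by
    intro A B hAB
    apply LinearMap.ext
    intro x
    have hx : x ∈ ⨆ χ, W χ := htop ▸ Submodule.mem_top
    induction hx using Submodule.iSup_induction' with
    | mem χ x hx =>
      by_cases hχ : W χ = ⊥
      · rw [hχ, Submodule.mem_bot] at hx
        rw [hx, map_zero, map_zero]
      · exact hAB ⟨χ, hχ⟩ x hx
    | zero => rw [map_zero, map_zero]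
    | add x y _ _ hx hy => rw [map_add, map_add, hx, hy]
  have h1ne : (1 : F) ≠ -1 := by
    intro h
    apply h2
    linear_combination h
  obtain ⟨φ, hφ⟩ : ∃ φ : ι → ({χ // W χ ≠ ⊥} → Bool), φ = fun i χ => decide (χ.1 i = 1) :=
    ⟨_, rfl⟩
  have hφinj : Function.Injective φ := by
    intro i j hij
    apply hf
    apply hext
    intro χ x hx
    rw [hev χ.1 x hx i, hev χ.1 x hx j]
    congr 1
    have := congrFun hij χ
    rw [hφ] at this
    simp only [decide_eq_decide] at this
    rcases hsign χ i with h | h <;> rcases hsign χ j with h' | h'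
    · rw [h, h']
    · exact absurd (this.1 h) (by rw [h']; exact fun h'' => h1ne h''.symm)
    · exact absurd (this.2 h') (by rw [h]; exact fun h'' => h1ne h''.symm)
    · rw [h, h']
  have hcard : Fintype.card {χ // W χ ≠ ⊥} = 3 := by
    have h8 := Fintype.card_le_of_injective φ hφinj
    rw [Fintype.card_fun, Fintype.card_bool, ← Nat.card_eq_fintype_card, hι] at h8
    interval_cases (Fintype.card {χ // W χ ≠ ⊥}) <;> omega
  have hφbij : Function.Bijective φ := by
    rw [Fintype.bijective_iff_injective_and_card]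
    refine ⟨hφinj, ?_⟩
    rw [Fintype.card_fun, Fintype.card_bool, ← Nat.card_eq_fintype_card, hι, hcard]
    norm_num
  -- each joint eigenspace is a line
  have hone : ∀ χ : {χ // W χ ≠ ⊥}, finrank F (W χ.1) = 1 := by
    have hds : DirectSum.IsInternal (fun χ : {χ // W χ ≠ ⊥} => W χ.1) :=
      DirectSum.isInternal_submodule_of_iSupIndep_of_iSup_eq_top
        (hind.comp Subtype.val_injective) (by rw [iSup_ne_bot_subtype]; exact htop)
    have hsum : ∑ χ : {χ // W χ ≠ ⊥}, finrank F (W χ.1) = 3 := by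
      rw [← hV, ← Module.finrank_directSum]
      exact (LinearEquiv.ofBijective (DirectSum.coeLinearMap _) hds).finrank_eq
    have hpos : ∀ χ : {χ // W χ ≠ ⊥}, 1 ≤ finrank F (W χ.1) := by
      intro χ
      by_contra hlt
      have h0 : finrank F (W χ.1) = 0 := by omega
      exact χ.2 (Submodule.finrank_eq_zero.1 h0)
    have hsum1 : ∑ _χ : {χ // W χ ≠ ⊥}, 1 = 3 := by
      rw [Finset.sum_const, Finset.card_univ, hcard]
      rfl
    intro χ
    have := (Finset.sum_eq_sum_iff_of_le (s := Finset.univ)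
      (f := fun _ : {χ // W χ ≠ ⊥} => 1) (g := fun χ : {χ // W χ ≠ ⊥} => finrank F (W χ.1))
      (fun χ _ => hpos χ)).1 (by rw [hsum1, hsum]) χ (Finset.mem_univ χ)
    exact this.symm
  -- an operator commuting with the family is a scalar on each line
  have hscal : ∀ g : Module.End F V, (∀ i, Commute g (f i)) →
      ∀ χ : {χ // W χ ≠ ⊥}, ∃ c : F, ∀ x ∈ W χ.1, g x = c • x := by
    intro g hg χ
    obtain ⟨v, hv0, hv⟩ := finrank_eq_one_iff'.1 (hone χ)
    have hgW : ∀ x ∈ W χ.1, g x ∈ W χ.1 := by
      intro x hx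
      apply hmem
      intro i
      have := LinearMap.congr_fun (hg i).eq x
      simp only [Module.End.mul_apply] at this
      rw [← this, hev χ.1 x hx i, map_smul]
    obtain ⟨c, hc⟩ := hv ⟨g v.1, hgW v.1 v.2⟩
    have hc' : g v.1 = c • v.1 := by
      have := congrArg Subtype.val hc
      simpa using this.symm
    refine ⟨c, ?_⟩
    intro x hx
    obtain ⟨a, ha⟩ := hv ⟨x, hx⟩
    have ha' : x = a • v.1 := by
      have := congrArg Subtype.val ha
      simpa using this.symm
    rw [ha', map_smul, hc', smul_comm]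
  refine ⟨?_, ?_, ?_⟩
  · obtain ⟨i, hi⟩ := hφbij.2 (fun _ => false)
    refine ⟨i, ?_⟩
    apply hext
    intro χ x hx
    rw [hev χ.1 x hx i]
    have := congrFun hi χ
    rw [hφ] at this
    simp only [decide_eq_false_iff_not] at this
    rcases hsign χ i with h | h
    · exact absurd h this
    · rw [h]; simp
  · intro g hgg hg
    choose c hc using hscal g hg
    have hcsign : ∀ χ, c χ = 1 ∨ c χ = -1 := by
      intro χ
      obtain ⟨x, hx, hx0⟩ := Submodule.exists_mem_ne_zero_of_ne_bot χ.2
      have h3 : g (g x) = x := by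
        have := LinearMap.congr_fun hgg x
        simpa using this
      rw [hc χ x hx, map_smul, hc χ x hx, smul_smul] at h3
      have h4 : (c χ * c χ - 1) • x = 0 := by rw [sub_smul, h3, one_smul, sub_self]
      rcases smul_eq_zero.1 h4 with h | h
      · have h5 : (c χ - 1) * (c χ + 1) = 0 := by linear_combination h
        rcases mul_eq_zero.1 h5 with h | h
        · left; linear_combination h
        · right; linear_combination h
      · exact absurd h hx0
    obtain ⟨i, hi⟩ := hφbij.2 (fun χ => decide (c χ = 1))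
    refine ⟨i, ?_⟩
    apply hext
    intro χ x hx
    rw [hev χ.1 x hx i, hc χ x hx]
    congr 1
    have := congrFun hi χ
    rw [hφ] at this
    simp only [decide_eq_decide] at this
    rcases hsign χ i with h | h <;> rcases hcsign χ with h' | h'
    · rw [h, h']
    · exact absurd (this.1 h) (by rw [h']; exact fun h'' => h1ne h''.symm)
    · exact absurd (this.2 h') (by rw [h]; exact fun h'' => h1ne h''.symm)
    · rw [h, h']
  · intro g h hg hh
    choose c hc using hscal g hg
    choose d hd using hscal h hh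
    apply hext
    intro χ x hx
    have hgx : g x ∈ W χ.1 := by rw [hc χ x hx]; exact Submodule.smul_mem _ _ hx
    have hhx : h x ∈ W χ.1 := by rw [hd χ x hx]; exact Submodule.smul_mem _ _ hx
    rw [Module.End.mul_apply, Module.End.mul_apply, hc χ _ hhx, hd χ _ hgx, hc χ x hx, hd χ x hx,
      smul_comm]

end abstract

/-- S1906 [LA]: an elementary abelian subgroup of order 8 of `GL₃(F)`, `char F ≠ 2`, contains
`-1`, contains every involution centralizing it, and has commutative centralizer. -/
theorem elemAb_eight_GL_three {F : Type*} [Field F] (h2 : (2 : F) ≠ 0)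
    (𝓔 : Subgroup (GL (Fin 3) F)) (hinv : ∀ e ∈ 𝓔, e * e = 1) (hcard : Nat.card 𝓔 = 8) :
    (-1 : GL (Fin 3) F) ∈ 𝓔 ∧
    (∀ g : GL (Fin 3) F, g * g = 1 → (∀ e ∈ 𝓔, g * e = e * g) → g ∈ 𝓔) ∧
    (∀ g h : GL (Fin 3) F, (∀ e ∈ 𝓔, g * e = e * g) → (∀ e ∈ 𝓔, h * e = e * h) →
      g * h = h * g) := by
  obtain ⟨T, hT⟩ : ∃ T : GL (Fin 3) F → Module.End F (Fin 3 → F),
      T = fun g : GL (Fin 3) F => Matrix.toLinAlgEquiv' (g : Matrix (Fin 3) (Fin 3) F) :=
    ⟨_, rfl⟩
  have hTmul : ∀ g h, T (g * h) = T g * T h := by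
    intro g h
    rw [hT]
    simp only [Units.val_mul, map_mul]
  have hT1 : T 1 = 1 := by
    rw [hT]
    simp only [Units.val_one, map_one]
  have hTinj : Function.Injective T := by
    intro g h hgh
    rw [hT] at hgh
    exact Units.ext (Matrix.toLinAlgEquiv'.injective hgh)
  have hTneg : T (-1) = -1 := by
    rw [hT]
    simp only [Units.val_neg, Units.val_one, map_neg, map_one]
  have hcomm : ∀ e ∈ 𝓔, ∀ e' ∈ 𝓔, e * e' = e' * e := by
    intro e he e' he'
    have h1 := hinv e he
    have h2 := hinv e' he'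
    have h3 := hinv (e * e') (𝓔.mul_mem he he')
    have h4 : e⁻¹ = e := inv_eq_of_mul_eq_one_left h1
    have h5 : e'⁻¹ = e' := inv_eq_of_mul_eq_one_left h2
    have h6 : (e * e')⁻¹ = e * e' := inv_eq_of_mul_eq_one_left h3
    rw [mul_inv_rev, h4, h5] at h6
    exact h6.symm
  have hV : Module.finrank F (Fin 3 → F) = 3 := by simp
  obtain ⟨H1, H2, H3⟩ := abstract_main h2 hV hcard (fun e : 𝓔 => T e.1)
    (fun e e' hee' => Subtype.ext (hTinj hee'))
    (fun e => by rw [← hTmul, hinv e.1 e.2, hT1])
    (fun e e' => by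
      change T e.1 * T e'.1 = T e'.1 * T e.1
      rw [← hTmul, ← hTmul, hcomm e.1 e.2 e'.1 e'.2])
  refine ⟨?_, ?_, ?_⟩
  · obtain ⟨e, he⟩ := H1
    rw [← hTneg] at he
    rw [← hTinj he]
    exact e.2
  · intro g hgg hg
    obtain ⟨e, he⟩ := H2 (T g) (by rw [← hTmul, hgg, hT1])
      (fun e => by
        change T g * T e.1 = T e.1 * T g
        rw [← hTmul, ← hTmul, hg e.1 e.2])
    rw [← hTinj he]
    exact e.2
  · intro g h hg hh
    apply hTinj
    rw [hTmul, hTmul]
    exact H3 (T g) (T h)
      (fun e => by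
        change T g * T e.1 = T e.1 * T g
        rw [← hTmul, ← hTmul, hg e.1 e.2])
      (fun e => by
        change T h * T e.1 = T e.1 * T h
        rw [← hTmul, ← hTmul, hh e.1 e.2])

end Cfsg.Agent.Lib.Helper77.S1906LA
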