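import Cfsg.Agent.Lib.Helper16.BlockTransport
import Cfsg.Agent.Lib.Helper81.IrrTransport
import Cfsg.Prelude.Def_BlockLocal

set_option autoImplicit false
set_option linter.unusedSectionVars false

namespace Cfsg.Agent.Lib.Helper77

open Cfsg Cfsg.Agent.Lib.Helper16

universe u

section SubTransport

variable {G : Type u} [Group G] {M : Ideal AlgInt}

/-- The canonical isomorphism between `K`, seen inside the larger subgroup `H`, and `K`. -/
noncomputable abbrev subEquiv {K H : Subgroup G} (hKH : K ≤ H) : ↥(K.subgroupOf H) ≃* ↥K :=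
  Subgroup.subgroupOfEquivOfLe hKH

theorem subEquiv_coe {K H : Subgroup G} (hKH : K ≤ H) (x : ↥(K.subgroupOf H)) :
    ((subEquiv hKH x : K) : G) = ((x : H) : G) := rfl

theorem subEquiv_symm_coe {K H : Subgroup G} (hKH : K ≤ H) (k : K) :
    ((((subEquiv hKH).symm k : ↥(K.subgroupOf H)) : H) : G) = (k : G) := rfl

/-- Transport of "lies over" along `subEquiv`. -/
theorem classInner_irrPull_subEquiv {K H : Subgroup G} (hKH : K ≤ H) [Fintype K]
    [Fintype ↥(K.subgroupOf H)] (f : H → ℂ) (ξ : IrrCharacter K) :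
    classInner (fun k' : ↥(K.subgroupOf H) => f k') (irrPull (subEquiv hKH) ξ : _ → ℂ) =
      classInner (fun k : K => f ⟨(k : G), hKH k.2⟩) (ξ : K → ℂ) := by
  rw [← Cfsg.Agent.Lib.Helper81.classInner_comp_equiv_gen (subEquiv hKH).toEquiv
    (fun k : K => f ⟨(k : G), hKH k.2⟩) (ξ : K → ℂ)]
  rfl

/-- The induced central characters agree. -/
theorem inducedCentralChar_subEquiv {K H : Subgroup G} (hKH : K ≤ H) (ξ : IrrCharacter K)
    (h : H) :
    inducedCentralChar (K.subgroupOf H) (irrPull (subEquiv hKH) ξ : _ → ℂ) h =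
      inducedCentralCharIn H K (ξ : K → ℂ) (h : G) := by
  unfold inducedCentralChar inducedCentralCharIn
  apply finsum_mem_eq_of_bijOn (subEquiv hKH)
  · refine ⟨?_, (subEquiv hKH).injective.injOn, ?_⟩
    · intro x hx
      obtain ⟨c, hc⟩ := isConj_iff.mp (show IsConj h (x : H) from hx)
      refine ⟨c⁻¹, ?_⟩
      rw [subEquiv_coe, ← hc]
      simp [mul_assoc]
    · intro k hk
      obtain ⟨x, hx⟩ := hk
      refine ⟨(subEquiv hKH).symm k, ?_, MulEquiv.apply_symm_apply _ _⟩
      show IsConj h _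
      rw [isConj_iff]
      refine ⟨x⁻¹, ?_⟩
      apply Subtype.ext
      push_cast
      rw [subEquiv_symm_coe, ← hx]
      group
  · intro x _
    rw [irrPull_apply, irrPull_apply, map_one]

/-- `IsInducedBlockIn` from `K` to `H` is `IsInducedBlock` in the group `H`. -/
theorem isInducedBlock_subEquiv_iff {K H : Subgroup G} (hKH : K ≤ H)
    (e : Set (IrrCharacter K)) (f : Set (IrrCharacter H)) :
    IsInducedBlock M (K.subgroupOf H) (pullBlock (subEquiv hKH) e) f ↔
      IsInducedBlockIn M H K e f := by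
  constructor
  · rintro ⟨he', hf, h⟩
    refine ⟨?_, hf, ?_⟩
    · have := isPBlock_pullBlock (subEquiv hKH).symm he'
      have e2 : pullBlock (subEquiv hKH).symm (pullBlock (subEquiv hKH) e) = e := by
        ext ξ
        rw [mem_pullBlock_iff, MulEquiv.symm_symm]
        constructor
        · rintro ⟨ξ', hξ', h'⟩
          have := irrPull_injective _ h'
          rwa [← this]
        · intro hξ
          exact ⟨ξ, hξ, rfl⟩
      rwa [e2] at this
    · intro ξ hξ χ hχ g
      have := h (irrPull (subEquiv hKH) ξ) (irrPull_mem_pullBlock _ hξ) χ hχ g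
      rwa [inducedCentralChar_subEquiv] at this
  · rintro ⟨he, hf, h⟩
    refine ⟨isPBlock_pullBlock _ he, hf, ?_⟩
    intro ξ' hξ' χ hχ g
    obtain ⟨ξ, hξ, rfl⟩ := hξ'
    rw [inducedCentralChar_subEquiv]
    exact h ξ hξ χ hχ g

/-- Transport of a defect group along `subEquiv`. -/
theorem isDefectGroup_pullBlock_subEquiv [Finite G] {p : ℕ} [Fact p.Prime] {K H : Subgroup G}
    (hKH : K ≤ H) {e : Set (IrrCharacter K)} {Q : Subgroup G}
    (hQ : IsDefectGroup p M e (Q.subgroupOf K)) :
    IsDefectGroup p M (pullBlock (subEquiv hKH) e)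
      ((Q.subgroupOf H).subgroupOf (K.subgroupOf H)) := by
  have h1 := isDefectGroup_pullBlock (subEquiv hKH) hQ
  have h2 : (Q.subgroupOf K).comap (subEquiv hKH).toMonoidHom =
      (Q.subgroupOf H).subgroupOf (K.subgroupOf H) := by
    ext x
    rw [Subgroup.mem_comap, Subgroup.mem_subgroupOf, Subgroup.mem_subgroupOf,
      Subgroup.mem_subgroupOf]
    rfl
  rwa [h2] at h1

end SubTransport

end Cfsg.Agent.Lib.Helper77
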