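import Cfsg.Agent.Lib.Helper77.SymAlg

set_option autoImplicit false
set_option linter.unusedSectionVars false

namespace Cfsg.Agent.Lib.Helper77.SymAlg

open Module

variable {F : Type*} [Field F] {B : Type*} [Ring B] [Algebra F B]

/-- the corner `εBε` as a subspace -/
def cornerSub (F : Type*) [Field F] {B : Type*} [Ring B] [Algebra F B] (ε : B) : Submodule F B where
  carrier := {a | ε * a = a ∧ a * ε = a}
  add_mem' := by
    rintro a b ⟨ha1, ha2⟩ ⟨hb1, hb2⟩
    exact ⟨by rw [mul_add, ha1, hb1], by rw [add_mul, ha2, hb2]⟩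
  zero_mem' := ⟨mul_zero _, zero_mul _⟩
  smul_mem' := by
    rintro c a ⟨ha1, ha2⟩
    exact ⟨by rw [mul_smul_comm, ha1], by rw [smul_mul_assoc, ha2]⟩

theorem mem_cornerSub {ε a : B} : a ∈ cornerSub F ε ↔ ε * a = a ∧ a * ε = a := Iff.rfl

theorem sandwich_mem_cornerSub {ε : B} (hε : IsIdempotentElem ε) (b : B) :
    ε * b * ε ∈ cornerSub F ε := by
  constructor
  · rw [← mul_assoc, ← mul_assoc, hε.eq]
  · rw [mul_assoc, hε.eq]

theorem mul_mem_cornerSub {ε a b : B} (ha : a ∈ cornerSub F ε) (hb : b ∈ cornerSub F ε) :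
    a * b ∈ cornerSub F ε := by
  constructor
  · rw [← mul_assoc, ha.1]
  · rw [mul_assoc, hb.2]

theorem self_mem_cornerSub {ε : B} (hε : IsIdempotentElem ε) : ε ∈ cornerSub F ε :=
  ⟨hε.eq, hε.eq⟩

/-- commutator subspace of the corner -/
def commA (F : Type*) [Field F] {B : Type*} [Ring B] [Algebra F B] (ε : B) : Submodule F B :=
  Submodule.span F {x | ∃ a b : B, a ∈ cornerSub F ε ∧ b ∈ cornerSub F ε ∧ x = a * b - b * a}

theorem comm_mem_commA {ε a b : B} (ha : a ∈ cornerSub F ε) (hb : b ∈ cornerSub F ε) :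
    a * b - b * a ∈ commA F ε :=
  Submodule.subset_span ⟨a, b, ha, hb, rfl⟩

theorem commA_le_cornerSub (ε : B) : commA F ε ≤ cornerSub F ε := by
  unfold commA
  rw [Submodule.span_le]
  rintro x ⟨a, b, ha, hb, rfl⟩
  exact Submodule.sub_mem _ (mul_mem_cornerSub ha hb) (mul_mem_cornerSub hb ha)

section Transfer

variable {d : ℕ} {ε : B} (x y : Fin d → B)

/-- the transfer map `b ↦ Σ_i ε y_i b x_i ε` -/
def transfer (F : Type*) [Field F] {B : Type*} [Ring B] [Algebra F B] {d : ℕ} (ε : B)
    (x y : Fin d → B) : B →ₗ[F] B :=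
  ∑ i, (LinearMap.mulLeft F (ε * y i)).comp (LinearMap.mulRight F (x i * ε))

theorem transfer_apply (b : B) :
    transfer F ε x y b = ∑ i, ε * y i * (b * (x i * ε)) := by
  unfold transfer
  rw [LinearMap.sum_apply]
  rfl

variable {x y}

theorem transfer_comm_mem (hε : IsIdempotentElem ε) (hxy : ∑ i, x i * ε * y i = 1) (b b' : B) :
    transfer F ε x y (b * b' - b' * b) ∈ commA F ε := by
  have key : ∀ c c' : B, transfer F ε x y (c * c') =
      ∑ i, ∑ l, (ε * y i * c * x l * ε) * (ε * y l * c' * x i * ε) := by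
    intro c c'
    rw [transfer_apply]
    apply Finset.sum_congr rfl
    intro i _
    have h1 : c * c' = ∑ l, c * (x l * ε * y l) * c' := by
      rw [← Finset.sum_mul, ← Finset.mul_sum, hxy, mul_one]
    rw [h1, Finset.sum_mul, Finset.mul_sum]
    apply Finset.sum_congr rfl
    intro l _
    have h2 : ε * y i * c * x l * ε * (ε * y l * c' * x i * ε) =
        ε * y i * c * x l * (ε * ε) * y l * c' * x i * ε := by
      simp only [mul_assoc]
    rw [h2, hε.eq]
    simp only [mul_assoc]
  rw [map_sub, key, key]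
  have h3 : ∑ i, ∑ l, (ε * y i * b' * x l * ε) * (ε * y l * b * x i * ε) =
      ∑ i, ∑ l, (ε * y l * b' * x i * ε) * (ε * y i * b * x l * ε) := by
    rw [Finset.sum_comm]
  rw [h3, ← Finset.sum_sub_distrib]
  apply Submodule.sum_mem
  intro i _
  rw [← Finset.sum_sub_distrib]
  apply Submodule.sum_mem
  intro l _
  apply comm_mem_commA
  · have := sandwich_mem_cornerSub (F := F) hε (y i * b * x l)
    simpa only [mul_assoc] using this
  · have := sandwich_mem_cornerSub (F := F) hε (y l * b' * x i)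
    simpa only [mul_assoc] using this

theorem transfer_mem_of_mem_commSub (hε : IsIdempotentElem ε) (hxy : ∑ i, x i * ε * y i = 1)
    {w : B} (hw : w ∈ commSub F B) : transfer F ε x y w ∈ commA F ε := by
  unfold commSub at hw
  induction hw using Submodule.span_induction with
  | mem z hz =>
    obtain ⟨a, b, rfl⟩ := hz
    exact transfer_comm_mem hε hxy a b
  | zero => rw [map_zero]; exact Submodule.zero_mem _
  | add u v _ _ hu hv => rw [map_add]; exact Submodule.add_mem _ hu hv
  | smul c u _ hu => rw [map_smul]; exact Submodule.smul_mem _ c hu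

theorem transfer_sub_self_mem (hε : IsIdempotentElem ε) (hxy : ∑ i, x i * ε * y i = 1)
    {a : B} (ha : a ∈ cornerSub F ε) : transfer F ε x y a - a ∈ commA F ε := by
  have h1 : transfer F ε x y a = ∑ i, (ε * y i * ε) * (a * (ε * x i * ε)) := by
    rw [transfer_apply]
    apply Finset.sum_congr rfl
    intro i _
    have : (ε * y i * ε) * (a * (ε * x i * ε)) = ε * y i * ((ε * a) * ε) * (x i * ε) := by
      simp only [mul_assoc]
    rw [this, ha.1, ha.2]
    simp only [mul_assoc]
  have h2 : a = ∑ i, (a * (ε * x i * ε)) * (ε * y i * ε) := by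
    have : ∀ i, (a * (ε * x i * ε)) * (ε * y i * ε) = (a * ε) * (x i * (ε * ε) * y i) * ε := by
      intro i
      simp only [mul_assoc]
    rw [Finset.sum_congr rfl (fun i _ => this i), ← Finset.sum_mul, ← Finset.mul_sum, hε.eq, hxy,
      mul_one, ha.2, ha.2]
  have h3 : transfer F ε x y a - a =
      ∑ i, ((ε * y i * ε) * (a * (ε * x i * ε)) - (a * (ε * x i * ε)) * (ε * y i * ε)) := by
    rw [Finset.sum_sub_distrib, ← h1, ← h2]
  rw [h3]
  apply Submodule.sum_mem
  intro i _
  apply comm_mem_commA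
  · exact sandwich_mem_cornerSub hε _
  · exact mul_mem_cornerSub ha (sandwich_mem_cornerSub hε _)

theorem cornerSub_inf_commSub_le (hε : IsIdempotentElem ε) (hxy : ∑ i, x i * ε * y i = 1) :
    cornerSub F ε ⊓ commSub F B ≤ commA F ε := by
  rintro a ⟨ha1, ha2⟩
  have h1 := transfer_mem_of_mem_commSub hε hxy ha2
  have h2 := transfer_sub_self_mem (F := F) hε hxy ha1
  have h3 : a = transfer F ε x y a - (transfer F ε x y a - a) := by abel
  rw [h3]
  exact Submodule.sub_mem _ h1 h2

theorem finrank_cornerSub_le [FiniteDimensional F B] (hε : IsIdempotentElem ε)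
    (hxy : ∑ i, x i * ε * y i = 1) :
    finrank F (cornerSub F ε) + finrank F (commSub F B) ≤ finrank F B + finrank F (commA F ε) := by
  have h1 := Submodule.finrank_sup_add_finrank_inf_eq (cornerSub F ε) (commSub F B)
  have h2 : finrank F ↥(cornerSub F ε ⊔ commSub F B) ≤ finrank F B := Submodule.finrank_le _
  have h3 : finrank F ↥(cornerSub F ε ⊓ commSub F B) ≤ finrank F (commA F ε) :=
    Submodule.finrank_mono (cornerSub_inf_commSub_le hε hxy)
  omega

end Transfer

end Cfsg.Agent.Lib.Helper77.SymAlg
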