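import Cfsg.Agent.Lib.Helper77.SymAlgCorner

set_option autoImplicit false
set_option linter.unusedSectionVars false

namespace Cfsg.Agent.Lib.Helper77.SymAlg

open Module

variable {F : Type*} [Field F] {B : Type*} [Ring B] [Algebra F B]
variable {d : ℕ} (Ψ : B →ₐ[F] Matrix (Fin d) (Fin d) F)

/-- nilpotency of the kernel -/
def KerNil : Prop := ∃ N : ℕ, (RingHom.ker (Ψ : B →+* Matrix (Fin d) (Fin d) F)) ^ N = ⊥

/-- the kernel as a subspace -/
def kerSub : Submodule F B := LinearMap.ker Ψ.toLinearMap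

theorem mem_kerSub {x : B} : x ∈ kerSub Ψ ↔ Ψ x = 0 := by
  unfold kerSub
  rw [LinearMap.mem_ker]
  rfl

theorem mul_mem_kerSub_left {x : B} (hx : x ∈ kerSub Ψ) (b : B) : b * x ∈ kerSub Ψ := by
  rw [mem_kerSub] at hx ⊢
  rw [map_mul, hx, mul_zero]

theorem mul_mem_kerSub_right {x : B} (hx : x ∈ kerSub Ψ) (b : B) : x * b ∈ kerSub Ψ := by
  rw [mem_kerSub] at hx ⊢
  rw [map_mul, hx, zero_mul]

/-- the radical of the corner -/
def JA (ε : B) : Submodule F B := kerSub Ψ ⊓ cornerSub F ε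

variable {Ψ}

theorem isNilpotent_of_mem_ker (hnil : KerNil Ψ) {x : B} (hx : Ψ x = 0) : IsNilpotent x := by
  obtain ⟨N, hN⟩ := hnil
  refine ⟨N, ?_⟩
  have h1 : x ^ N ∈ (RingHom.ker (Ψ : B →+* Matrix (Fin d) (Fin d) F)) ^ N :=
    Ideal.pow_mem_pow (by simpa [RingHom.mem_ker] using hx) N
  rw [hN] at h1
  simpa using h1

theorem isUnit_of_map_eq_one (hnil : KerNil Ψ) {u : B} (hu : Ψ u = 1) : IsUnit u := by
  have h1 : IsNilpotent (1 - u) :=
    isNilpotent_of_mem_ker hnil (by rw [map_sub, map_one, hu, sub_self])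
  have h2 := h1.isUnit_one_sub
  rwa [sub_sub_cancel] at h2

theorem exists_idem (hnil : KerNil Ψ) (hsurj : Function.Surjective Ψ) [NeZero d] :
    ∃ ε : B, IsIdempotentElem ε ∧ Ψ ε = Matrix.single 0 0 1 := by
  have h := exists_isIdempotentElem_eq_of_ker_isNilpotent (Ψ : B →+* Matrix (Fin d) (Fin d) F)
    (fun x hx => isNilpotent_of_mem_ker hnil (by simpa [RingHom.mem_ker] using hx))
    (Matrix.single 0 0 1) (by
      obtain ⟨b, hb⟩ := hsurj (Matrix.single 0 0 1)
      exact ⟨b, hb⟩) (by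
      unfold IsIdempotentElem
      rw [Matrix.single_mul_single_same, mul_one])
  obtain ⟨e, he, he'⟩ := h
  exact ⟨e, he, he'⟩

theorem exists_partition (hnil : KerNil Ψ) (hsurj : Function.Surjective Ψ) [NeZero d]
    {ε : B} (hε : Ψ ε = Matrix.single 0 0 1) :
    ∃ x y : Fin d → B, ∑ i, x i * ε * y i = 1 := by
  classical
  choose X hX using fun i : Fin d => hsurj (Matrix.single i 0 1)
  choose Y hY using fun i : Fin d => hsurj (Matrix.single 0 i 1)
  have hu : Ψ (∑ i, X i * ε * Y i) = 1 := by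
    rw [map_sum]
    have h1 : ∀ i : Fin d, Ψ (X i * ε * Y i) = Matrix.single i i 1 := by
      intro i
      rw [map_mul, map_mul, hX, hY, hε, Matrix.single_mul_single_same,
        Matrix.single_mul_single_same, mul_one, mul_one]
    rw [Finset.sum_congr rfl (fun i _ => h1 i)]
    ext a b
    rw [Matrix.sum_apply]
    simp only [Matrix.single_apply, Matrix.one_apply]
    by_cases hab : a = b
    · subst hab
      simp
    · rw [if_neg hab]
      apply Finset.sum_eq_zero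
      intro i _
      rw [if_neg]
      rintro ⟨h1, h2⟩
      exact hab (h1.symm.trans h2)
  obtain ⟨u, hu'⟩ := isUnit_of_map_eq_one hnil hu
  refine ⟨fun i => (↑u⁻¹ : B) * X i, Y, ?_⟩
  have : ∑ i, (↑u⁻¹ : B) * X i * ε * Y i = (↑u⁻¹ : B) * ∑ i, X i * ε * Y i := by
    rw [Finset.mul_sum]
    apply Finset.sum_congr rfl
    intro i _
    simp only [mul_assoc]
  rw [this, ← hu']
  simp

section Corner

variable [NeZero d] {ε : B}

theorem JA_le_cornerSub : JA Ψ ε ≤ cornerSub F ε := inf_le_right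

theorem JA_le_kerSub : JA Ψ ε ≤ kerSub Ψ := inf_le_left

theorem map_of_mem_cornerSub (hε : Ψ ε = Matrix.single 0 0 1) {a : B} (ha : a ∈ cornerSub F ε) :
    Ψ a = Matrix.single 0 0 (Ψ a 0 0) := by
  have h1 : a = ε * a * ε := by rw [ha.1, ha.2]
  conv_lhs => rw [h1]
  rw [map_mul, map_mul, hε, Matrix.single_mul_mul_single, one_mul, mul_one]

theorem sub_smul_mem_JA (hidem : IsIdempotentElem ε) (hε : Ψ ε = Matrix.single 0 0 1) {a : B}
    (ha : a ∈ cornerSub F ε) : a - (Ψ a 0 0) • ε ∈ JA Ψ ε := by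
  refine Submodule.mem_inf.mpr
    ⟨?_, Submodule.sub_mem _ ha (Submodule.smul_mem _ _ (self_mem_cornerSub hidem))⟩
  rw [mem_kerSub, map_sub, map_smul, hε, map_of_mem_cornerSub hε ha]
  ext i j
  simp [Matrix.single_apply]

theorem ne_zero_of_map (hε : Ψ ε = Matrix.single 0 0 1) : ε ≠ 0 := by
  intro h
  rw [h, map_zero] at hε
  have := congrFun (congrFun hε 0) 0
  simp at this

theorem finrank_cornerSub [FiniteDimensional F B] (hidem : IsIdempotentElem ε)
    (hε : Ψ ε = Matrix.single 0 0 1) :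
    finrank F (cornerSub F ε) = 1 + finrank F (JA Ψ ε) := by
  have hsup : (F ∙ ε) ⊔ JA Ψ ε = cornerSub F ε := by
    apply le_antisymm
    · apply sup_le
      · rw [Submodule.span_singleton_le_iff_mem]
        exact self_mem_cornerSub hidem
      · exact JA_le_cornerSub
    · intro a ha
      have h1 := sub_smul_mem_JA hidem hε ha
      have h2 : a = (Ψ a 0 0) • ε + (a - (Ψ a 0 0) • ε) := by abel
      rw [h2]
      exact Submodule.add_mem _ (Submodule.mem_sup_left (Submodule.smul_mem _ _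
        (Submodule.mem_span_singleton_self ε))) (Submodule.mem_sup_right h1)
  have hinf : (F ∙ ε) ⊓ JA Ψ ε = ⊥ := by
    rw [eq_bot_iff]
    rintro z ⟨hz1, hz2⟩
    obtain ⟨c, rfl⟩ := Submodule.mem_span_singleton.mp hz1
    have h3 := (mem_kerSub Ψ).mp hz2.1
    rw [map_smul, hε] at h3
    have h4 := congrFun (congrFun h3 0) 0
    simp at h4
    rw [h4, zero_smul]
    exact Submodule.zero_mem _
  have h5 := Submodule.finrank_sup_add_finrank_inf_eq (F ∙ ε) (JA Ψ ε)
  rw [hsup, hinf, finrank_bot, finrank_span_singleton (ne_zero_of_map hε)] at h5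
  omega

theorem mul_mem_JA {a b : B} (ha : a ∈ JA Ψ ε) (hb : b ∈ JA Ψ ε) : a * b ∈ JA Ψ ε :=
  ⟨mul_mem_kerSub_left Ψ hb.1 a, mul_mem_cornerSub ha.2 hb.2⟩

theorem JA_mul_le : JA Ψ ε * JA Ψ ε ≤ JA Ψ ε := by
  rw [Submodule.mul_le]
  intro a ha b hb
  exact mul_mem_JA ha hb

/-- commutators in the corner are commutators of radical elements -/
theorem exists_comm_eq (hidem : IsIdempotentElem ε) (hε : Ψ ε = Matrix.single 0 0 1) {a b : B}
    (ha : a ∈ cornerSub F ε) (hb : b ∈ cornerSub F ε) :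
    ∃ j j' : B, j ∈ JA Ψ ε ∧ j' ∈ JA Ψ ε ∧ a * b - b * a = j * j' - j' * j := by
  refine ⟨a - (Ψ a 0 0) • ε, b - (Ψ b 0 0) • ε, sub_smul_mem_JA hidem hε ha,
    sub_smul_mem_JA hidem hε hb, ?_⟩
  simp only [sub_mul, mul_sub, smul_mul_assoc, mul_smul_comm, ha.1, ha.2, hb.1, hb.2, hidem.eq]
  simp only [smul_sub, smul_smul]
  rw [mul_comm (Ψ b 0 0) (Ψ a 0 0)]
  abel

theorem commA_le_JA_mul (hidem : IsIdempotentElem ε) (hε : Ψ ε = Matrix.single 0 0 1) :
    commA F ε ≤ JA Ψ ε * JA Ψ ε := by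
  unfold commA
  rw [Submodule.span_le]
  rintro z ⟨a, b, ha, hb, rfl⟩
  obtain ⟨j, j', hj, hj', heq⟩ := exists_comm_eq hidem hε ha hb
  rw [heq]
  exact Submodule.sub_mem _ (Submodule.mul_mem_mul hj hj') (Submodule.mul_mem_mul hj' hj)

end Corner

end Cfsg.Agent.Lib.Helper77.SymAlg
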