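import Cfsg.Agent.Lib.Helper77.SymAlgKer

set_option autoImplicit false
set_option linter.unusedSectionVars false

namespace Cfsg.Agent.Lib.Helper77.SymAlg

open Module

variable {F : Type*} [Field F] {B : Type*} [Ring B] [Algebra F B]
variable {d : ℕ} {Ψ : B →ₐ[F] Matrix (Fin d) (Fin d) F}

theorem sub_mul_mono {M M' N N' : Submodule F B} (h1 : M ≤ M') (h2 : N ≤ N') :
    M * N ≤ M' * N' :=
  Submodule.mul_le.mpr (fun _ hm _ hn => Submodule.mul_mem_mul (h1 hm) (h2 hn))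

theorem sub_pow_mono {M M' : Submodule F B} (h1 : M ≤ M') (n : ℕ) : M ^ n ≤ M' ^ n := by
  induction n with
  | zero => rw [Submodule.pow_zero, Submodule.pow_zero]
  | succ n ih =>
    rw [Submodule.pow_succ, Submodule.pow_succ]
    exact sub_mul_mono ih h1

theorem kerSub_pow_le (k : ℕ) :
    (kerSub Ψ) ^ k ≤
      ((RingHom.ker (Ψ : B →+* Matrix (Fin d) (Fin d) F)) ^ k).restrictScalars F := by
  induction k with
  | zero =>
    rw [Submodule.pow_zero, Submodule.pow_zero, Ideal.one_eq_top]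
    intro x _
    exact Submodule.mem_top
  | succ k ih =>
    rw [Submodule.pow_succ, Submodule.pow_succ, Submodule.mul_le]
    intro m hm n hn
    have h1 := ih hm
    rw [Submodule.restrictScalars_mem] at h1 ⊢
    apply Ideal.mul_mem_mul h1
    rw [RingHom.mem_ker]
    exact (mem_kerSub Ψ).mp hn

theorem kerSub_pow_eq_bot (hnil : KerNil Ψ) : ∃ N : ℕ, (kerSub Ψ) ^ N = ⊥ := by
  obtain ⟨N, hN⟩ := hnil
  refine ⟨N, ?_⟩
  rw [eq_bot_iff]
  intro x hx
  have h1 := kerSub_pow_le (Ψ := Ψ) N hx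
  rw [hN] at h1
  simpa using h1

/-- nilpotent Nakayama for subspaces -/
theorem eq_bot_of_le_mul (hnil : KerNil Ψ) {L K : Submodule F B} (hL : L ≤ kerSub Ψ)
    (hK : K ≤ L * K) : K = ⊥ := by
  obtain ⟨N, hN⟩ := kerSub_pow_eq_bot hnil
  have h1 : ∀ n : ℕ, K ≤ L ^ n * K := by
    intro n
    induction n with
    | zero => rw [Submodule.pow_zero, Submodule.one_mul]
    | succ n ih =>
      calc K ≤ L ^ n * K := ih
        _ ≤ L ^ n * (L * K) := sub_mul_mono le_rfl hK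
        _ = L ^ (n + 1) * K := by rw [Submodule.pow_succ, mul_assoc]
  have h2 : L ^ N ≤ (kerSub Ψ) ^ N := sub_pow_mono hL N
  rw [hN, le_bot_iff] at h2
  have h3 := h1 N
  rw [h2, Submodule.bot_mul, le_bot_iff] at h3
  exact h3

theorem JA_mul_eq_bot [FiniteDimensional F B] [NeZero d] (hnil : KerNil Ψ) {ε : B}
    (hidem : IsIdempotentElem ε) (hε : Ψ ε = Matrix.single 0 0 1)
    (hrank : finrank F (cornerSub F ε) ≤ 2 + finrank F (commA F ε)) :
    JA Ψ ε * JA Ψ ε = ⊥ := by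
  obtain ⟨J₁, hJ₁⟩ : ∃ J₁, J₁ = JA Ψ ε := ⟨_, rfl⟩
  rw [← hJ₁]
  have hJk : J₁ ≤ kerSub Ψ := hJ₁ ▸ JA_le_kerSub
  have h12 : J₁ * J₁ ≤ J₁ := hJ₁ ▸ JA_mul_le
  have h23 : J₁ * (J₁ * J₁) ≤ J₁ * J₁ := sub_mul_mono le_rfl h12
  by_cases hJ : J₁ = ⊥
  · rw [hJ, Submodule.bot_mul]
  have hne12 : J₁ * J₁ ≠ J₁ := by
    intro h
    exact hJ (eq_bot_of_le_mul hnil hJk (le_of_eq h.symm))
  have hr12 : finrank F ↥(J₁ * J₁) < finrank F J₁ :=
    Submodule.finrank_lt_finrank_of_lt (lt_of_le_of_ne h12 hne12)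
  have hcorner := finrank_cornerSub hidem hε
  rw [← hJ₁] at hcorner
  have hcomm2 : finrank F (commA F ε) ≤ finrank F ↥(J₁ * J₁) :=
    Submodule.finrank_mono (hJ₁ ▸ commA_le_JA_mul hidem hε)
  obtain ⟨x, hx1, hx2⟩ := SetLike.exists_of_lt (lt_of_le_of_ne h12 hne12)
  have hsup : (F ∙ x) ⊔ J₁ * J₁ = J₁ := by
    apply Submodule.eq_of_le_of_finrank_le
    · apply sup_le
      · rw [Submodule.span_singleton_le_iff_mem]; exact hx1
      · exact h12
    · have hlt : J₁ * J₁ < (F ∙ x) ⊔ J₁ * J₁ := by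
        apply lt_of_le_of_ne le_sup_right
        intro h
        apply hx2
        rw [h]
        exact Submodule.mem_sup_left (Submodule.mem_span_singleton_self x)
      have := Submodule.finrank_lt_finrank_of_lt hlt
      omega
  have hcomm3 : commA F ε ≤ J₁ * (J₁ * J₁) := by
    unfold commA
    rw [Submodule.span_le]
    rintro z ⟨a, b, ha, hb, rfl⟩
    obtain ⟨j, j', hj, hj', heq⟩ := exists_comm_eq hidem hε ha hb
    rw [heq]
    rw [← hJ₁, ← hsup] at hj hj'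
    obtain ⟨s, hs, u, hu, rfl⟩ := Submodule.mem_sup.mp hj
    obtain ⟨s', hs', u', hu', rfl⟩ := Submodule.mem_sup.mp hj'
    obtain ⟨α, rfl⟩ := Submodule.mem_span_singleton.mp hs
    obtain ⟨β, rfl⟩ := Submodule.mem_span_singleton.mp hs'
    have hu1 : u ∈ J₁ := h12 hu
    have hu1' : u' ∈ J₁ := h12 hu'
    have e : (α • x + u) * (β • x + u') - (β • x + u') * (α • x + u) =
        α • (x * u') - α • (u' * x) + (β • (u * x) - β • (x * u)) + (u * u' - u' * u) := by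
      simp only [add_mul, mul_add, smul_mul_assoc, mul_smul_comm, smul_add, smul_smul]
      rw [mul_comm β α]
      abel
    rw [e]
    have m1 : x * u' ∈ J₁ * (J₁ * J₁) := Submodule.mul_mem_mul hx1 hu'
    have m2 : u' * x ∈ J₁ * (J₁ * J₁) := by
      rw [← mul_assoc]; exact Submodule.mul_mem_mul hu' hx1
    have m3 : u * x ∈ J₁ * (J₁ * J₁) := by
      rw [← mul_assoc]; exact Submodule.mul_mem_mul hu hx1
    have m4 : x * u ∈ J₁ * (J₁ * J₁) := Submodule.mul_mem_mul hx1 hu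
    have m5 : u * u' ∈ J₁ * (J₁ * J₁) := Submodule.mul_mem_mul hu1 hu'
    have m6 : u' * u ∈ J₁ * (J₁ * J₁) := Submodule.mul_mem_mul hu1' hu
    exact Submodule.add_mem _ (Submodule.add_mem _
      (Submodule.sub_mem _ (Submodule.smul_mem _ _ m1) (Submodule.smul_mem _ _ m2))
      (Submodule.sub_mem _ (Submodule.smul_mem _ _ m3) (Submodule.smul_mem _ _ m4)))
      (Submodule.sub_mem _ m5 m6)
  have hcomm3' : finrank F (commA F ε) ≤ finrank F ↥(J₁ * (J₁ * J₁)) :=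
    Submodule.finrank_mono hcomm3
  by_contra hne2
  have hne23 : J₁ * (J₁ * J₁) ≠ J₁ * J₁ := by
    intro h
    exact hne2 (eq_bot_of_le_mul hnil hJk (le_of_eq h.symm))
  have hr23 : finrank F ↥(J₁ * (J₁ * J₁)) < finrank F ↥(J₁ * J₁) :=
    Submodule.finrank_lt_finrank_of_lt (lt_of_le_of_ne h23 hne23)
  omega

end Cfsg.Agent.Lib.Helper77.SymAlg
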