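/-
Helper77: module TRI8-[AB5] for helper36 (S2607): an extension with the shape of
`Out PΩ⁺₈(q) = S₄ × C_f` (q odd) is a direct product `S₄ × C`.
-/
import Mathlib
import Cfsg.Agent.S1012

set_option autoImplicit false

namespace Cfsg.Agent.Lib.Helper77.TriAB5

section K4

variable {X : Type*} [Group X]

/-- Hypotheses on a four-group `V` with an element `u` of order 3 acting nontrivially. -/
structure K4Hyp (V : Subgroup X) (u a : X) : Prop where
  card : Nat.card V = 4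
  exp : ∀ v ∈ V, v * v = 1
  norm : ∀ v ∈ V, u * v * u⁻¹ ∈ V
  cube : u * u * u = 1
  mem : a ∈ V
  ne : u * a * u⁻¹ ≠ a

namespace K4Hyp

variable {V : Subgroup X} {u a : X}

theorem inv_eq (h : K4Hyp V u a) {v : X} (hv : v ∈ V) : v⁻¹ = v :=
  inv_eq_of_mul_eq_one_left (h.exp v hv)

theorem comm (h : K4Hyp V u a) {v w : X} (hv : v ∈ V) (hw : w ∈ V) : v * w = w * v := by
  have h1 : (v * w)⁻¹ = v * w := h.inv_eq (V.mul_mem hv hw)
  rw [mul_inv_rev, h.inv_eq hv, h.inv_eq hw] at h1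
  exact h1.symm

theorem a_ne_one (h : K4Hyp V u a) : a ≠ 1 := by
  rintro rfl
  apply h.ne
  group

theorem uinv (h : K4Hyp V u a) : u⁻¹ = u * u := by
  rw [inv_eq_iff_mul_eq_one, ← mul_assoc]
  exact h.cube

/-- the four elements -/
theorem cases (h : K4Hyp V u a) {v : X} (hv : v ∈ V) :
    v = 1 ∨ v = a ∨ v = u * a * u⁻¹ ∨ v = a * (u * a * u⁻¹) := by
  classical
  have hfin : Finite V := Nat.finite_of_card_ne_zero (by rw [h.card]; norm_num)
  have : Fintype V := Fintype.ofFinite V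
  obtain ⟨b, hb⟩ : ∃ b : X, b = u * a * u⁻¹ := ⟨_, rfl⟩
  rw [← hb]
  have hbV : b ∈ V := by rw [hb]; exact h.norm a h.mem
  have ha1 := h.a_ne_one
  have hab : b ≠ a := by rw [hb]; exact h.ne
  have hb1 : b ≠ 1 := by
    intro hb1
    apply ha1
    have : a = u⁻¹ * b * u := by rw [hb]; group
    rw [this, hb1]
    group
  have habV : a * b ∈ V := V.mul_mem h.mem hbV
  have hab1 : a * b ≠ 1 := by
    intro h1
    apply hab
    have : b = a⁻¹ := (inv_eq_of_mul_eq_one_right h1).symm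
    rw [this, h.inv_eq h.mem]
  have haba : a * b ≠ a := by
    intro h1
    apply hb1
    have : a * b = a * 1 := by rw [mul_one]; exact h1
    exact mul_left_cancel this
  have habb : a * b ≠ b := by
    intro h1
    apply ha1
    have : a * b = 1 * b := by rw [one_mul]; exact h1
    exact mul_right_cancel this
  have huniv : ({(1 : V), ⟨a, h.mem⟩, ⟨b, hbV⟩, ⟨a * b, habV⟩} : Finset V) = Finset.univ := by
    apply Finset.eq_univ_of_card
    rw [← Nat.card_eq_fintype_card, h.card]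
    rw [Finset.card_insert_of_notMem, Finset.card_insert_of_notMem, Finset.card_insert_of_notMem,
      Finset.card_singleton]
    · simp only [Finset.mem_singleton, Subtype.mk.injEq]
      exact fun h1 => habb h1.symm
    · simp only [Finset.mem_insert, Finset.mem_singleton, Subtype.mk.injEq, not_or]
      exact ⟨fun h1 => hab h1.symm, fun h1 => haba h1.symm⟩
    · simp only [Finset.mem_insert, Finset.mem_singleton, not_or]
      refine ⟨?_, ?_, ?_⟩
      · intro h1; exact ha1 (congrArg Subtype.val h1).symm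
      · intro h1; exact hb1 (congrArg Subtype.val h1).symm
      · intro h1; exact hab1 (congrArg Subtype.val h1).symm
  have hmem : (⟨v, hv⟩ : V) ∈ ({(1 : V), ⟨a, h.mem⟩, ⟨b, hbV⟩, ⟨a * b, habV⟩} : Finset V) := by
    rw [huniv]; exact Finset.mem_univ _
  simp only [Finset.mem_insert, Finset.mem_singleton] at hmem
  rcases hmem with h1 | h1 | h1 | h1
  · exact Or.inl (congrArg Subtype.val h1)
  · exact Or.inr (Or.inl (congrArg Subtype.val h1))
  · exact Or.inr (Or.inr (Or.inl (congrArg Subtype.val h1)))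
  · exact Or.inr (Or.inr (Or.inr (congrArg Subtype.val h1)))

/-- `u b u⁻¹ = a b` for `b = u a u⁻¹` -/
theorem conj_b (h : K4Hyp V u a) : u * (u * a * u⁻¹) * u⁻¹ = a * (u * a * u⁻¹) := by
  have hbV : u * a * u⁻¹ ∈ V := h.norm a h.mem
  have hcV : u * (u * a * u⁻¹) * u⁻¹ ∈ V := h.norm _ hbV
  rcases h.cases hcV with h1 | h1 | h1 | h1
  · exfalso
    apply h.a_ne_one
    have : a = u⁻¹ * u⁻¹ * (u * (u * a * u⁻¹) * u⁻¹) * u * u := by group
    rw [this, h1]
    group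
  · exfalso
    apply h.ne
    -- u² a u⁻² = a, so u⁻¹ a u = a
    have h2 : u⁻¹ * a * u = a := by
      have e : u⁻¹ * a * u = u * u * a * (u * u)⁻¹ := by
        rw [← h.uinv, inv_inv]
      rw [e]
      have : u * u * a * (u * u)⁻¹ = u * (u * a * u⁻¹) * u⁻¹ := by group
      rw [this, h1]
    calc u * a * u⁻¹ = u * (u⁻¹ * a * u) * u⁻¹ := by rw [h2]
      _ = a := by group
  · exfalso
    apply h.ne
    have : u * a * u⁻¹ = u⁻¹ * (u * (u * a * u⁻¹) * u⁻¹) * u := by group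
    rw [this, h1]
    group
  · exact h1

/-- `u` acts fixed-point-freely on `V` -/
theorem fpf (h : K4Hyp V u a) {v : X} (hv : v ∈ V) (hfix : u * v * u⁻¹ = v) : v = 1 := by
  have hbV : u * a * u⁻¹ ∈ V := h.norm a h.mem
  rcases h.cases hv with h1 | h1 | h1 | h1
  · exact h1
  · exfalso
    rw [h1] at hfix
    exact h.ne hfix
  · exfalso
    rw [h1, h.conj_b] at hfix
    apply h.a_ne_one
    have : a * (u * a * u⁻¹) = 1 * (u * a * u⁻¹) := by rw [one_mul]; exact hfix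
    exact mul_right_cancel this
  · exfalso
    rw [h1] at hfix
    have e : u * (a * (u * a * u⁻¹)) * u⁻¹ = (u * a * u⁻¹) * (u * (u * a * u⁻¹) * u⁻¹) := by group
    rw [e, h.conj_b, ← mul_assoc, h.comm hbV h.mem, mul_assoc, h.exp _ hbV, mul_one] at hfix
    -- a = a * b
    have hb1 : u * a * u⁻¹ = 1 := by
      have : a * 1 = a * (u * a * u⁻¹) := by rw [mul_one]; exact hfix
      exact (mul_left_cancel this).symm
    apply h.a_ne_one
    have : a = u⁻¹ * (u * a * u⁻¹) * u := by group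
    rw [this, hb1]
    group

/-- the same hypotheses for `u⁻¹` -/
theorem inv (h : K4Hyp V u a) : K4Hyp V u⁻¹ a where
  card := h.card
  exp := h.exp
  norm := by
    intro v hv
    rw [inv_inv]
    -- u⁻¹ v u = u² v u⁻²
    have e : u⁻¹ * v * u = u * (u * v * u⁻¹) * u⁻¹ := by
      have : u * (u * v * u⁻¹) * u⁻¹ = (u * u) * v * (u * u)⁻¹ := by group
      rw [this, ← h.uinv, inv_inv]
    rw [e]
    exact h.norm _ (h.norm v hv)
  cube := by
    have : u⁻¹ * u⁻¹ * u⁻¹ = (u * u * u)⁻¹ := by group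
    rw [this, h.cube, inv_one]
  mem := h.mem
  ne := by
    intro h1
    apply h.ne
    rw [inv_inv] at h1
    calc u * a * u⁻¹ = u * (u⁻¹ * a * u) * u⁻¹ := by rw [h1]
      _ = a := by group

/-- An element commuting with `u` and with an element `g` inverting `u`, and normalizing `V`,
centralizes `V`. -/
theorem centralizes_aux (h : K4Hyp V u a) (g σ : X) (hgV : ∀ v ∈ V, g * v * g⁻¹ ∈ V)
    (hgu : g * u * g⁻¹ = u⁻¹) (hσu : σ * u = u * σ)
    (hσg : σ * g = g * σ) (hσa : σ * a * σ⁻¹ = u * a * u⁻¹) : False := by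
  have hbV : u * a * u⁻¹ ∈ V := h.norm a h.mem
  -- σ commutes with conjugation by `u`
  have hσconj : ∀ v : X, σ * (u * v * u⁻¹) * σ⁻¹ = u * (σ * v * σ⁻¹) * u⁻¹ := by
    intro v
    have : σ * (u * v * u⁻¹) * σ⁻¹ = (σ * u) * v * (σ * u)⁻¹ := by group
    rw [this, hσu]
    group
  -- σ acts as `u` on all of `V`
  have hall : ∀ v ∈ V, σ * v * σ⁻¹ = u * v * u⁻¹ := by
    intro v hv
    rcases h.cases hv with rfl | rfl | rfl | rfl
    · group
    · exact hσa
    · rw [hσconj, hσa]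
    · have e : σ * (a * (u * a * u⁻¹)) * σ⁻¹ = (σ * a * σ⁻¹) * (σ * (u * a * u⁻¹) * σ⁻¹) := by group
      rw [e, hσconj, hσa]
      group
  -- apply to `a' = g a g⁻¹`
  have ha'V : g * a * g⁻¹ ∈ V := hgV a h.mem
  have h1 := hall _ ha'V
  have hσg' : σ * g⁻¹ = g⁻¹ * σ := by
    have : g⁻¹ * (σ * g) * g⁻¹ = g⁻¹ * (g * σ) * g⁻¹ := by rw [hσg]
    have e1 : g⁻¹ * (σ * g) * g⁻¹ = g⁻¹ * σ := by group
    have e2 : g⁻¹ * (g * σ) * g⁻¹ = σ * g⁻¹ := by group
    rw [e1, e2] at this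
    exact this.symm
  have h2 : σ * (g * a * g⁻¹) * σ⁻¹ = u⁻¹ * (g * a * g⁻¹) * u⁻¹⁻¹ := by
    calc σ * (g * a * g⁻¹) * σ⁻¹ = g * (σ * a * σ⁻¹) * g⁻¹ := by
          have : σ * (g * a * g⁻¹) * σ⁻¹ = (σ * g) * a * (σ * g)⁻¹ := by group
          rw [this, hσg]
          group
      _ = g * (u * a * u⁻¹) * g⁻¹ := by rw [hσa]
      _ = (g * u * g⁻¹) * (g * a * g⁻¹) * (g * u * g⁻¹)⁻¹ := by group
      _ = u⁻¹ * (g * a * g⁻¹) * u⁻¹⁻¹ := by rw [hgu]
  rw [h1] at h2
  -- u a' u⁻¹ = u⁻¹ a' u: so `u⁻¹` fixes `u a' u⁻¹`... derive `u a' u⁻¹ = a'`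
  have h3 : u * (g * a * g⁻¹) * u⁻¹ = g * a * g⁻¹ := by
    -- conjugating h2 by u: u² a' u⁻² = a'
    have h4 : u * (u * (g * a * g⁻¹) * u⁻¹) * u⁻¹ = g * a * g⁻¹ := by
      rw [h2]; group
    have h5 : u * (u * (g * a * g⁻¹) * u⁻¹) * u⁻¹ = u⁻¹ * (g * a * g⁻¹) * u⁻¹⁻¹ := by
      have : u * (u * (g * a * g⁻¹) * u⁻¹) * u⁻¹ = (u * u) * (g * a * g⁻¹) * (u * u)⁻¹ := by group
      rw [this, ← h.uinv]
    rw [h5] at h4
    rw [h2, h4]
  have h6 := h.fpf ha'V h3
  apply h.a_ne_one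
  have : a = g⁻¹ * (g * a * g⁻¹) * g := by group
  rw [this, h6]
  group

theorem centralizes (h : K4Hyp V u a) (g σ : X) (hgV : ∀ v ∈ V, g * v * g⁻¹ ∈ V)
    (hσV : ∀ v ∈ V, σ * v * σ⁻¹ ∈ V) (hgu : g * u * g⁻¹ = u⁻¹) (hσu : σ * u = u * σ)
    (hσg : σ * g = g * σ) : ∀ v ∈ V, σ * v * σ⁻¹ = v := by
  have hbV : u * a * u⁻¹ ∈ V := h.norm a h.mem
  have hσconj : ∀ v : X, σ * (u * v * u⁻¹) * σ⁻¹ = u * (σ * v * σ⁻¹) * u⁻¹ := by
    intro v
    have : σ * (u * v * u⁻¹) * σ⁻¹ = (σ * u) * v * (σ * u)⁻¹ := by group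
    rw [this, hσu]
    group
  rcases h.cases (hσV a h.mem) with h1 | h1 | h1 | h1
  · exfalso
    apply h.a_ne_one
    have : a = σ⁻¹ * (σ * a * σ⁻¹) * σ := by group
    rw [this, h1]
    group
  · -- σ fixes a
    intro v hv
    rcases h.cases hv with rfl | rfl | rfl | rfl
    · group
    · exact h1
    · rw [hσconj, h1]
    · have e : σ * (a * (u * a * u⁻¹)) * σ⁻¹ = (σ * a * σ⁻¹) * (σ * (u * a * u⁻¹) * σ⁻¹) := by group
      rw [e, hσconj, h1]
  · exact (h.centralizes_aux g σ hgV hgu hσu hσg h1).elim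
  · exfalso
    -- a * (u a u⁻¹) = u⁻¹ a u
    have e : a * (u * a * u⁻¹) = u⁻¹ * a * u⁻¹⁻¹ := by
      have h2 := h.conj_b
      have : u⁻¹ * a * u⁻¹⁻¹ = u * (u * a * u⁻¹) * u⁻¹ := by
        have : u * (u * a * u⁻¹) * u⁻¹ = (u * u) * a * (u * u)⁻¹ := by group
        rw [this, ← h.uinv]
      rw [this, h2]
    rw [e] at h1
    have hgu' : g * u⁻¹ * g⁻¹ = u⁻¹⁻¹ := by
      have : g * u⁻¹ * g⁻¹ = (g * u * g⁻¹)⁻¹ := by group
      rw [this, hgu]
    have hσu' : σ * u⁻¹ = u⁻¹ * σ := by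
      have : u⁻¹ * (σ * u) * u⁻¹ = u⁻¹ * (u * σ) * u⁻¹ := by rw [hσu]
      have e1 : u⁻¹ * (σ * u) * u⁻¹ = u⁻¹ * σ := by group
      have e2 : u⁻¹ * (u * σ) * u⁻¹ = σ * u⁻¹ := by group
      rw [e1, e2] at this
      exact this.symm
    exact h.inv.centralizes_aux g σ hgV hgu' hσu' hσg h1


/-- `(v u)³ = 1` -/
theorem cube_eq_one (h : K4Hyp V u a) {v : X} (hv : v ∈ V) : (v * u) ^ 3 = 1 := by
  have h1 : u * v * u⁻¹ ∈ V := h.norm v hv
  have h2 : u * (u * v * u⁻¹) * u⁻¹ ∈ V := h.norm _ h1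
  have hw : v * (u * v * u⁻¹) * (u * (u * v * u⁻¹) * u⁻¹) ∈ V := V.mul_mem (V.mul_mem hv h1) h2
  have hfix : u * (v * (u * v * u⁻¹) * (u * (u * v * u⁻¹) * u⁻¹)) * u⁻¹ =
      v * (u * v * u⁻¹) * (u * (u * v * u⁻¹) * u⁻¹) := by
    have e : u * (v * (u * v * u⁻¹) * (u * (u * v * u⁻¹) * u⁻¹)) * u⁻¹ =
        (u * v * u⁻¹) * (u * (u * v * u⁻¹) * u⁻¹) * ((u * u * u) * v * (u * u * u)⁻¹) := by group
    rw [e, h.cube, one_mul, inv_one, mul_one]
    rw [h.comm (V.mul_mem h1 h2) hv]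
    exact (mul_assoc _ _ _).symm
  have hw1 := h.fpf hw hfix
  have e : (v * u) ^ 3 = v * (u * v * u⁻¹) * (u * (u * v * u⁻¹) * u⁻¹) * (u * u * u) := by
    rw [pow_succ, pow_two]
    group
  rw [e, hw1, h.cube, one_mul]

/-- `(v x)⁴ = 1` for an involution `x` normalizing `V` -/
theorem pow_four_eq_one (h : K4Hyp V u a) {v x : X} (hv : v ∈ V) (hxV : x * v * x⁻¹ ∈ V)
    (hx : x * x = 1) : (v * x) ^ 4 = 1 := by
  have e : (v * x) ^ 4 = (v * (x * v * x⁻¹) * (x * x)) * (v * (x * v * x⁻¹) * (x * x)) := by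
    rw [pow_succ, pow_succ, pow_two]
    group
  rw [e, hx, mul_one]
  exact h.exp _ (V.mul_mem hv hxV)

end K4Hyp

end K4

section NF

variable {X : Type*} [Group X] {t g : X}

theorem closure_nf (ht3 : t * t * t = 1) (hg2 : g * g = 1) (hgt : g * t * g⁻¹ = t⁻¹) :
    ∀ x ∈ Subgroup.closure {t, g}, ∃ i : ℕ, x = t ^ i ∨ x = t ^ i * g := by
  have htinv : t⁻¹ = t * t := by
    rw [inv_eq_iff_mul_eq_one, ← mul_assoc]; exact ht3
  have hginv : g⁻¹ = g := inv_eq_of_mul_eq_one_right hg2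
  have hgt' : g * t = t * t * g := by
    rw [← htinv, ← hgt]; group
  have step : ∀ x : X, (∃ i : ℕ, x = t ^ i ∨ x = t ^ i * g) →
      (∃ i : ℕ, x * t = t ^ i ∨ x * t = t ^ i * g) ∧
        (∃ i : ℕ, x * g = t ^ i ∨ x * g = t ^ i * g) := by
    rintro x ⟨i, rfl | rfl⟩
    · exact ⟨⟨i + 1, Or.inl (pow_succ t i).symm⟩, ⟨i, Or.inr rfl⟩⟩
    · refine ⟨⟨i + 2, Or.inr ?_⟩, ⟨i, Or.inl ?_⟩⟩
      · rw [mul_assoc, hgt', pow_add, pow_two]
        group
      · rw [mul_assoc, hg2, mul_one]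
  intro x hx
  induction hx using Subgroup.closure_induction_right with
  | one => exact ⟨0, Or.inl (pow_zero t).symm⟩
  | mul_right x hx y hy ih =>
    rcases hy with hy | hy
    · rw [hy]; exact (step x ih).1
    · rw [Set.mem_singleton_iff.1 hy]; exact (step x ih).2
  | mul_inv_cancel x hx y hy ih =>
    rcases hy with hy | hy
    · rw [hy, htinv, ← mul_assoc]
      exact (step _ (step x ih).1).1
    · rw [Set.mem_singleton_iff.1 hy, hginv]
      exact (step x ih).2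

theorem pow_cases (ht3 : t * t * t = 1) (i : ℕ) : t ^ i = 1 ∨ t ^ i = t ∨ t ^ i = t⁻¹ := by
  have h3 : t ^ 3 = 1 := by rw [pow_succ, pow_two]; exact ht3
  have e : t ^ i = t ^ (i % 3) := by
    conv_lhs => rw [← Nat.div_add_mod i 3, pow_add, pow_mul, h3, one_pow, one_mul]
  rw [e]
  have hlt : i % 3 < 3 := Nat.mod_lt _ (by norm_num)
  interval_cases (i % 3)
  · left; exact pow_zero t
  · right; left; exact pow_one t
  · right; right; rw [pow_two]; exact eq_inv_of_mul_eq_one_left ht3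

theorem pow_three_or_four {V : Subgroup X} [hVn : V.Normal] {a : X} (h : K4Hyp V t a)
    (hg2 : g * g = 1) (hgt : g * t * g⁻¹ = t⁻¹) :
    ∀ y ∈ V ⊔ Subgroup.closure {t, g}, y ^ 3 = 1 ∨ y ^ 4 = 1 := by
  intro y hy
  have hy' : y ∈ ((V ⊔ Subgroup.closure {t, g} : Subgroup X) : Set X) := hy
  rw [Subgroup.normal_mul] at hy'
  obtain ⟨v, hv, x, hx, rfl⟩ := Set.mem_mul.1 hy'
  obtain ⟨i, hi | hi⟩ := closure_nf h.cube hg2 hgt x hx
  · rcases pow_cases h.cube i with h1 | h1 | h1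
    · right
      rw [hi, h1]
      exact h.pow_four_eq_one hv (by simpa using hv) (one_mul 1)
    · left
      rw [hi, h1]
      exact h.cube_eq_one hv
    · left
      rw [hi, h1]
      exact h.inv.cube_eq_one hv
  · right
    rw [hi]
    have hconj : g * t ^ i * g⁻¹ = (t ^ i)⁻¹ := by
      rw [← conj_pow, hgt, inv_pow]
    have hginv : g⁻¹ = g := inv_eq_of_mul_eq_one_right hg2
    have hsq : (t ^ i * g) * (t ^ i * g) = 1 := by
      have e : (t ^ i * g) * (t ^ i * g) = t ^ i * (g * t ^ i * g⁻¹) * (g * g) := by group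
      rw [e, hconj, hg2, mul_inv_cancel, mul_one]
    exact h.pow_four_eq_one hv (hVn.conj_mem v hv _) hsq

end NF

theorem out_equiv_S4_prod {A C : Type*} [Group A] [Finite A] [Group C] (N : Subgroup A) [N.Normal]
    (Γs : Subgroup A) (hidx : Γs.index = 3)
    (fp : ↥Γs →* C) (s : C →* ↥Γs) (hs : ∀ c, fp (s c) = c)
    (I : Subgroup A) [I.Normal] (hNI : N ≤ I) (hIΓ : I ≤ Γs) (hIk : I.subgroupOf Γs ≤ fp.ker)
    (hrelNI : N.relIndex I = 4) (hexp : ∀ x ∈ I, x * x ∈ N)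
    (hrelIK : (I.subgroupOf Γs).relIndex fp.ker = 2)
    (τ : A) (hτ3 : τ * τ * τ = 1) (hτ : τ ∉ Γs)
    (γ : ↥Γs) (hγk : γ ∈ fp.ker) (hγI : (γ : A) ∉ I) (hγ2 : (γ : A) * (γ : A) = 1)
    (hγτ : (γ : A) * τ * (γ : A)⁻¹ = τ⁻¹)
    (hsτ : ∀ c, ((s c : ↥Γs) : A) * τ = τ * ((s c : ↥Γs) : A))
    (hsγ : ∀ c, ((s c : ↥Γs) : A) * (γ : A) = (γ : A) * ((s c : ↥Γs) : A))
    (hτI : ∃ x ∈ I, τ * x * τ⁻¹ * x⁻¹ ∉ N) :
    Nonempty (A ⧸ N ≃* Equiv.Perm (Fin 4) × C) := by
  classical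
  have hsinj : Function.Injective s := fun a b h => by rw [← hs a, ← hs b, h]
  have : Finite C := Finite.of_injective s hsinj
  have hfps : Function.Surjective fp := fun c => ⟨s c, hs c⟩
  have hτinv : τ⁻¹ = τ * τ := by
    rw [inv_eq_iff_mul_eq_one, ← mul_assoc]; exact hτ3
  have hτ2 : τ * τ ∉ Γs := by
    intro h
    apply hτ
    have := Γs.inv_mem h
    rwa [← hτinv, inv_inv] at this
  have hNΓ : N ≤ Γs := hNI.trans hIΓ
  -- index two
  have key2 : ∀ x y : ↥Γs, x ∈ fp.ker → y ∈ fp.ker →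
      ((((x * y : ↥Γs) : A) ∈ I) ↔ (((x : A) ∈ I) ↔ ((y : A) ∈ I))) := by
    intro x y hx hy
    have h := Subgroup.mul_mem_iff_of_index_two (H := (I.subgroupOf Γs).subgroupOf fp.ker) hrelIK
      (a := ⟨x, hx⟩) (b := ⟨y, hy⟩)
    simp only [Subgroup.mem_subgroupOf] at h
    exact h
  have hfpI : ∀ x : ↥Γs, (x : A) ∈ I → fp x = 1 := fun x hx =>
    MonoidHom.mem_ker.1 (hIk (Subgroup.mem_subgroupOf.2 hx))
  -- the quotient
  obtain ⟨π, hπ⟩ : ∃ π : A →* A ⧸ N, π = QuotientGroup.mk' N := ⟨_, rfl⟩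
  have hπN : ∀ a : A, π a = 1 ↔ a ∈ N := fun a => by rw [hπ]; exact QuotientGroup.eq_one_iff a
  have hπsurj : Function.Surjective π := by rw [hπ]; exact QuotientGroup.mk'_surjective N
  have hπeq : ∀ a b : A, π a = π b → a⁻¹ * b ∈ N := by
    intro a b hab
    rw [hπ] at hab
    exact QuotientGroup.eq.1 hab
  obtain ⟨t, ht⟩ : ∃ t : A ⧸ N, t = π τ := ⟨_, rfl⟩
  obtain ⟨g, hg⟩ : ∃ g : A ⧸ N, g = π (γ : A) := ⟨_, rfl⟩
  obtain ⟨V, hV⟩ : ∃ V : Subgroup (A ⧸ N), V = I.map π := ⟨_, rfl⟩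
  have hVn : V.Normal := by rw [hV]; exact Subgroup.Normal.map ‹I.Normal› π hπsurj
  have hVmem : ∀ x : A, π x ∈ V ↔ x ∈ I := by
    intro x
    constructor
    · intro hx
      rw [hV] at hx
      obtain ⟨y, hy, hyx⟩ := Subgroup.mem_map.1 hx
      have h1 : y⁻¹ * x ∈ I := hNI (hπeq y x hyx)
      have h2 := I.mul_mem hy h1
      rwa [mul_inv_cancel_left] at h2
    · intro hx
      rw [hV]
      exact Subgroup.mem_map_of_mem π hx
  have hVex : ∀ v ∈ V, ∃ x ∈ I, π x = v := by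
    intro v hv
    rw [hV] at hv
    exact Subgroup.mem_map.1 hv
  have hVcard : Nat.card V = 4 := by
    rw [hV, ← Subgroup.relIndex_ker, hπ, QuotientGroup.ker_mk']
    exact hrelNI
  have ht3 : t * t * t = 1 := by rw [ht, ← map_mul, ← map_mul, hτ3, map_one]
  have hg2 : g * g = 1 := by rw [hg, ← map_mul, hγ2, map_one]
  have hgt : g * t * g⁻¹ = t⁻¹ := by
    rw [hg, ht, ← map_inv, ← map_mul, ← map_mul, hγτ, map_inv]
  obtain ⟨x₀, hx₀I, hx₀⟩ := hτI
  have hK4 : K4Hyp V t (π x₀) :=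
    { card := hVcard
      exp := by
        intro v hv
        obtain ⟨x, hx, rfl⟩ := hVex v hv
        rw [← map_mul]
        exact (hπN _).2 (hexp x hx)
      norm := fun v hv => hVn.conj_mem v hv t
      cube := ht3
      mem := (hVmem x₀).2 hx₀I
      ne := by
        intro h
        apply hx₀
        rw [← hπN, map_mul, map_mul, map_mul, map_inv, map_inv, ← ht, h, mul_inv_cancel] }
  let sb : C →* A ⧸ N := π.comp (Γs.subtype.comp s)
  have hsb : ∀ c, sb c = π ((s c : ↥Γs) : A) := fun c => rfl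
  have hct : ∀ c, sb c * t = t * sb c := by
    intro c
    rw [hsb, ht, ← map_mul, ← map_mul, hsτ]
  have hcg : ∀ c, sb c * g = g * sb c := by
    intro c
    rw [hsb, hg, ← map_mul, ← map_mul, hsγ]
  have hcV : ∀ c, ∀ v ∈ V, sb c * v * (sb c)⁻¹ = v := fun c =>
    hK4.centralizes g (sb c) (fun v hv => hVn.conj_mem v hv g) (fun v hv => hVn.conj_mem v hv _)
      hgt (hct c) (hcg c)
  -- the `S₄` part
  obtain ⟨H₁, hH₁⟩ : ∃ H₁ : Subgroup (A ⧸ N), H₁ = Subgroup.closure {t, g} := ⟨_, rfl⟩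
  obtain ⟨S, hS⟩ : ∃ S : Subgroup (A ⧸ N), S = V ⊔ H₁ := ⟨_, rfl⟩
  have hVS : V ≤ S := by rw [hS]; exact le_sup_left
  have hHS : H₁ ≤ S := by rw [hS]; exact le_sup_right
  have htH : t ∈ H₁ := by rw [hH₁]; exact Subgroup.subset_closure (by simp)
  have hgH : g ∈ H₁ := by rw [hH₁]; exact Subgroup.subset_closure (by simp)
  have hcomm : ∀ (h : ↥S) (c : C), Commute (S.subtype h) (sb c) := by
    intro h c
    have hle : S ≤ Subgroup.centralizer {sb c} := by
      rw [hS]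
      apply sup_le
      · intro v hv
        rw [Subgroup.mem_centralizer_iff]
        intro y hy
        rw [Set.mem_singleton_iff] at hy
        subst hy
        have := hcV c v hv
        calc sb c * v = sb c * v * (sb c)⁻¹ * sb c := by group
          _ = v * sb c := by rw [this]
      · rw [hH₁, Subgroup.closure_le]
        intro x hx
        rw [SetLike.mem_coe, Subgroup.mem_centralizer_iff]
        intro y hy
        rw [Set.mem_singleton_iff] at hy
        subst hy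
        rcases hx with hx | hx
        · rw [hx]; exact hct c
        · rw [Set.mem_singleton_iff.1 hx]; exact hcg c
    have := Subgroup.mem_centralizer_iff.1 (hle h.2) (sb c) rfl
    exact this.symm
  -- normal form
  have hnf : ∀ y ∈ S, ∃ v ∈ V, ∃ i : ℕ, y = v * t ^ i ∨ y = v * (t ^ i * g) := by
    intro y hy
    have hy' : y ∈ ((V ⊔ H₁ : Subgroup (A ⧸ N)) : Set (A ⧸ N)) := by rw [← hS]; exact hy
    rw [Subgroup.normal_mul] at hy'
    obtain ⟨v, hv, x, hx, rfl⟩ := Set.mem_mul.1 hy'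
    rw [SetLike.mem_coe, hH₁] at hx
    obtain ⟨i, hi | hi⟩ := closure_nf ht3 hg2 hgt x hx
    · exact ⟨v, hv, i, Or.inl (by rw [hi])⟩
    · exact ⟨v, hv, i, Or.inr (by rw [hi])⟩
  -- powers of τ in Γs
  have hpow : ∀ i : ℕ, τ ^ i ∈ Γs → τ ^ i = 1 := by
    intro i hi
    have h3 : τ ^ 3 = 1 := by rw [pow_succ, pow_two]; exact hτ3
    have e : τ ^ i = τ ^ (i % 3) := by
      conv_lhs => rw [← Nat.div_add_mod i 3, pow_add, pow_mul, h3, one_pow, one_mul]
    rw [e] at hi ⊢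
    have hlt : i % 3 < 3 := Nat.mod_lt _ (by norm_num)
    interval_cases (i % 3)
    · exact pow_zero τ
    · rw [pow_one] at hi; exact absurd hi hτ
    · rw [pow_two] at hi; exact absurd hi hτ2
  -- the product map
  let Ψ : ↥S × C →* A ⧸ N := MonoidHom.noncommCoprod S.subtype sb hcomm
  have hΨ : ∀ (h : ↥S) (c : C), Ψ (h, c) = (h : A ⧸ N) * sb c := fun h c => rfl
  have hinj : Function.Injective Ψ := by
    rw [injective_iff_map_eq_one]
    rintro ⟨h, c⟩ hhc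
    rw [hΨ] at hhc
    have hsbS : sb c ∈ S := by
      have : sb c = (h : A ⧸ N)⁻¹ := (eq_inv_of_mul_eq_one_right hhc)
      rw [this]
      exact S.inv_mem h.2
    have hc1 : c = 1 := by
      -- a common treatment: `s c = w * τ^i * w' * n`
      have common : ∀ (x : A) (i : ℕ) (w : ↥Γs), x ∈ I → fp w = 1 →
          (x * (τ ^ i * (w : A)))⁻¹ * ((s c : ↥Γs) : A) ∈ N → c = 1 := by
        intro x i w hx hw h1
        have h2 : τ ^ i ∈ Γs := by
          have h3 := Γs.mul_mem (Γs.mul_mem (Γs.mul_mem (Γs.inv_mem (hIΓ hx)) (s c).2)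
            (Γs.inv_mem (hNΓ h1))) (Γs.inv_mem w.2)
          have e : x⁻¹ * ((s c : ↥Γs) : A) * ((x * (τ ^ i * (w : A)))⁻¹ * ((s c : ↥Γs) : A))⁻¹ *
              (w : A)⁻¹ = τ ^ i := by group
          rwa [e] at h3
        rw [hpow i h2, one_mul] at h1
        have h4 : (((⟨x, hIΓ hx⟩ * w : ↥Γs)⁻¹ * s c : ↥Γs) : A) ∈ I := by
          push_cast
          exact hNI h1
        have h5 := hfpI _ h4
        rw [map_mul, map_inv, map_mul, hw, mul_one, hfpI ⟨x, hIΓ hx⟩ hx, inv_one, one_mul, hs] at h5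
        exact h5
      obtain ⟨v, hv, i, hi | hi⟩ := hnf _ hsbS
      · obtain ⟨x, hx, rfl⟩ := hVex v hv
        apply common x i 1 hx (map_one fp)
        apply hπeq
        rw [map_mul, map_mul, map_pow, ← ht, ← hsb, hi]
        simp
      · obtain ⟨x, hx, rfl⟩ := hVex v hv
        apply common x i γ hx (MonoidHom.mem_ker.1 hγk)
        apply hπeq
        rw [map_mul, map_mul, map_pow, ← ht, ← hg, ← hsb, hi]
    subst hc1
    rw [map_one, mul_one] at hhc
    exact Prod.ext (Subtype.ext hhc) rfl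
  -- the cosets of Γs
  have hcos : ∀ a : A, ∃ (j : ℕ) (h : A), h ∈ Γs ∧ a = τ ^ j * h := by
    intro a
    have : Fintype (A ⧸ Γs) := Fintype.ofFinite _
    have hcard : Fintype.card (A ⧸ Γs) = 3 := by
      rw [← Nat.card_eq_fintype_card]; exact hidx
    obtain ⟨q₀, hq₀⟩ : ∃ q₀ : A ⧸ Γs, q₀ = QuotientGroup.mk 1 := ⟨_, rfl⟩
    obtain ⟨q₁, hq₁⟩ : ∃ q₁ : A ⧸ Γs, q₁ = QuotientGroup.mk τ := ⟨_, rfl⟩
    obtain ⟨q₂, hq₂⟩ : ∃ q₂ : A ⧸ Γs, q₂ = QuotientGroup.mk (τ * τ) := ⟨_, rfl⟩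
    have h01 : q₀ ≠ q₁ := by
      intro h
      rw [hq₀, hq₁] at h
      have := QuotientGroup.eq.1 h
      rw [inv_one, one_mul] at this
      exact hτ this
    have h02 : q₀ ≠ q₂ := by
      intro h
      rw [hq₀, hq₂] at h
      have := QuotientGroup.eq.1 h
      rw [inv_one, one_mul] at this
      exact hτ2 this
    have h12 : q₁ ≠ q₂ := by
      intro h
      rw [hq₁, hq₂] at h
      have := QuotientGroup.eq.1 h
      rw [← mul_assoc, inv_mul_cancel, one_mul] at this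
      exact hτ this
    have huniv : ({q₀, q₁, q₂} : Finset (A ⧸ Γs)) = Finset.univ := by
      apply Finset.eq_univ_of_card
      rw [Finset.card_insert_of_notMem, Finset.card_insert_of_notMem, Finset.card_singleton, hcard]
      · simpa using h12
      · simp only [Finset.mem_insert, Finset.mem_singleton, not_or]
        exact ⟨h01, h02⟩
    have hmem : (QuotientGroup.mk a : A ⧸ Γs) ∈ ({q₀, q₁, q₂} : Finset (A ⧸ Γs)) := by
      rw [huniv]; exact Finset.mem_univ _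
    simp only [Finset.mem_insert, Finset.mem_singleton] at hmem
    rcases hmem with h | h | h
    · refine ⟨0, a, ?_, by rw [pow_zero, one_mul]⟩
      rw [hq₀] at h
      have := QuotientGroup.eq.1 h.symm
      rwa [inv_one, one_mul] at this
    · rw [hq₁] at h
      refine ⟨1, τ⁻¹ * a, QuotientGroup.eq.1 h.symm, by rw [pow_one]; group⟩
    · rw [hq₂] at h
      refine ⟨2, (τ * τ)⁻¹ * a, QuotientGroup.eq.1 h.symm, by rw [pow_two]; group⟩
  have hsurj : Function.Surjective Ψ := by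
    intro x
    obtain ⟨a, rfl⟩ := hπsurj x
    obtain ⟨j, h, hh, rfl⟩ := hcos a
    obtain ⟨c, hc⟩ : ∃ c : C, c = fp ⟨h, hh⟩ := ⟨_, rfl⟩
    obtain ⟨k, hk⟩ : ∃ k : ↥Γs, k = ⟨h, hh⟩ * (s c)⁻¹ := ⟨_, rfl⟩
    have hkk : k ∈ fp.ker := by
      rw [MonoidHom.mem_ker, hk, map_mul, map_inv, hs, ← hc, mul_inv_cancel]
    have hhk : h = (k : A) * ((s c : ↥Γs) : A) := by
      rw [hk]; push_cast; group
    by_cases hkI : (k : A) ∈ I
    · refine ⟨(⟨t ^ j * π (k : A), S.mul_mem (hHS (H₁.pow_mem htH j)) (hVS ((hVmem _).2 hkI))⟩,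
        c), ?_⟩
      rw [hΨ, hsb]
      show t ^ j * π (k : A) * π ((s c : ↥Γs) : A) = π (τ ^ j * h)
      rw [hhk, map_mul, map_mul, map_pow, ← ht, mul_assoc]
    · have hk2 : γ⁻¹ ∈ fp.ker := fp.ker.inv_mem hγk
      have hn2 : ((γ⁻¹ : ↥Γs) : A) ∉ I := by
        intro h'
        apply hγI
        have := I.inv_mem h'
        simpa using this
      have hmem : (((k * γ⁻¹ : ↥Γs)) : A) ∈ I :=
        (key2 _ _ hkk hk2).2 ⟨fun h' => absurd h' hkI, fun h' => absurd h' hn2⟩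
      refine ⟨(⟨t ^ j * (π (((k * γ⁻¹ : ↥Γs)) : A) * g),
        S.mul_mem (hHS (H₁.pow_mem htH j)) (S.mul_mem (hVS ((hVmem _).2 hmem)) (hHS hgH))⟩, c), ?_⟩
      rw [hΨ, hsb]
      show t ^ j * (π (((k * γ⁻¹ : ↥Γs)) : A) * g) * π ((s c : ↥Γs) : A) = π (τ ^ j * h)
      have e1 : π (((k * γ⁻¹ : ↥Γs)) : A) * g = π (k : A) := by
        rw [hg, ← map_mul]
        congr 1
        push_cast
        group
      rw [e1, hhk, map_mul, map_mul, map_pow, ← ht, mul_assoc]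
  have hbij : Function.Bijective Ψ := ⟨hinj, hsurj⟩
  -- cardinalities
  have hcardX : Nat.card (A ⧸ N) = 24 * Nat.card C := by
    have h0 : N.index = N.relIndex I * I.index := (Subgroup.relIndex_mul_index hNI).symm
    have h1 : I.index = I.relIndex Γs * Γs.index := (Subgroup.relIndex_mul_index hIΓ).symm
    have h2 : (I.subgroupOf Γs).index = (I.subgroupOf Γs).relIndex fp.ker * fp.ker.index :=
      (Subgroup.relIndex_mul_index hIk).symm
    have h3 : fp.ker.index = Nat.card C := by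
      rw [Subgroup.index_ker, MonoidHom.range_eq_top.2 hfps]
      exact Nat.card_congr (Subgroup.topEquiv).toEquiv
    have h4 : I.relIndex Γs = (I.subgroupOf Γs).index := rfl
    show N.index = 24 * Nat.card C
    rw [h0, h1, h4, h2, hrelIK, h3, hidx, hrelNI]
    ring
  have hcardS : Nat.card ↥S = 24 := by
    have h1 : Nat.card (↥S × C) = Nat.card (A ⧸ N) := Nat.card_congr (Equiv.ofBijective Ψ hbij)
    rw [Nat.card_prod, hcardX] at h1
    have hC : 0 < Nat.card C := Nat.card_pos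
    nlinarith
  have h6 : ∀ y : ↥S, orderOf y ≠ 6 := by
    intro y hy6
    have hyS : (y : A ⧸ N) ∈ V ⊔ Subgroup.closure {t, g} := by
      rw [← hH₁, ← hS]; exact y.2
    rcases pow_three_or_four hK4 hg2 hgt _ hyS with h3 | h4
    · have : y ^ 3 = 1 := Subtype.ext (by rw [Subgroup.coe_pow, h3]; rfl)
      have := orderOf_dvd_of_pow_eq_one this
      rw [hy6] at this
      norm_num at this
    · have : y ^ 4 = 1 := Subtype.ext (by rw [Subgroup.coe_pow, h4]; rfl)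
      have := orderOf_dvd_of_pow_eq_one this
      rw [hy6] at this
      norm_num at this
  obtain ⟨e₁⟩ := Cfsg.Agent.S1012.result hcardS h6
  exact ⟨(MulEquiv.ofBijective Ψ hbij).symm.trans (e₁.prodCongr (MulEquiv.refl C))⟩

end Cfsg.Agent.Lib.Helper77.TriAB5
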