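import Cfsg.Agent.Lib.Helper77.WatInd
import Cfsg.Agent.Lib.Helper82.PullRank
import Cfsg.Agent.Lib.Helper16.NilFusion
import Cfsg.Agent.Lib.Helper16.StabGroup
import Cfsg.Agent.Lib.Helper16.InducedPair

/-!
# WAT-[FRONT] (helper77): S4644 from WAT-[IND] at `Q = ⊥`
-/

set_option autoImplicit false

namespace Cfsg.Agent.Lib.Helper77.WAT

open Cfsg Cfsg.Agent.Lib.Helper16 Cfsg.Agent.Lib.Helper16.BP Cfsg.Agent.Lib.Helper82

universe u

section General

variable {G : Type u} [Group G] [Fintype G] {M : Ideal AlgInt}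

/-- a block of `G` induced from `K`, seen in a subgroup `L = ⊤`, is induced inside `L` -/
theorem isInducedBlockIn_pullBlock_of_eq_top {L K : Subgroup G} (hL : L = ⊤)
    {c : Set (IrrCharacter K)} {B : Set (IrrCharacter G)} (hc : IsInducedBlock M K c B) :
    IsInducedBlockIn M L K c (pullBlock (topEquivOf hL) B) := by
  refine ⟨hc.1, isPBlock_pullBlock _ hc.2.1, ?_⟩
  rintro ξ hξ _ ⟨χ, hχ, rfl⟩ h
  have h1 := hc.2.2 ξ hξ χ hχ (h : G)
  have h2 : centralChar (irrPull (topEquivOf hL) χ : L → ℂ) h = centralChar (χ : G → ℂ) (h : G) := by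
    have e1 : (irrPull (topEquivOf hL) χ : L → ℂ) = (χ : G → ℂ) ∘ (topEquivOf hL) := rfl
    rw [e1, centralChar_comp_mulEquiv]
    rfl
  have h3 : inducedCentralCharIn L K (ξ : K → ℂ) (h : G) =
      inducedCentralChar K (ξ : K → ℂ) (h : G) := by
    unfold inducedCentralCharIn inducedCentralChar
    apply finsum_mem_congr _ (fun _ _ => rfl)
    ext k
    simp only [Set.mem_setOf_eq]
    constructor
    · rintro ⟨x, hx⟩
      rw [isConj_iff]
      refine ⟨(x : G)⁻¹, ?_⟩
      rw [← hx]
      group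
    · intro hk
      obtain ⟨y, hy⟩ := isConj_iff.mp hk
      refine ⟨⟨y⁻¹, by rw [hL]; exact Subgroup.mem_top _⟩, ?_⟩
      show y⁻¹ * (k : G) * y⁻¹⁻¹ = (h : G)
      rw [← hy]
      group
  rw [h2, h3]
  exact h1

/-- blocks induced from the same block inside two equal subgroups have the same invariants -/
theorem rank_card_eq_of_subgroup_eq [hMp : M.IsPrime] (p : ℕ) {H H' K : Subgroup G} (h : H = H')
    {c : Set (IrrCharacter K)} {f : Set (IrrCharacter H)} {f' : Set (IrrCharacter H')}
    (hf : IsInducedBlockIn M H K c f) (hf' : IsInducedBlockIn M H' K c f') :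
    blockRank p f = blockRank p f' ∧ Nat.card f = Nat.card f' := by
  subst h
  rw [isInducedBlockIn_unique hf hf']
  exact ⟨rfl, rfl⟩

end General

/-- WAT-[FRONT] : S4644 from WAT-[IND] at `Q = ⊥` -/
theorem stmt4644_of_BP {G : Type u} [Group G] [Finite G] (p : ℕ) [Fact p.Prime]
    (M : Ideal Cfsg.AlgInt) (hM : Cfsg.IsPModular p M)
    (hBP : ∀ (K : Type u) [Group K] [Fintype K] (B' : Set (IrrCharacter K)) (P' : Subgroup K)
      (e' : Set (IrrCharacter (Subgroup.centralizer (P' : Set K)))),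
      IsMaximalBrauerPair p M B' P' e' → BPFull p M B' P' e')
    (B : Set (Cfsg.IrrCharacter G)) (hB : Cfsg.IsPBlock M B) (P : Subgroup G)
    (hPD : Cfsg.IsDefectGroup p M B P) (hPab : ∀ x ∈ P, ∀ y ∈ P, x * y = y * x)
    (c : Set (Cfsg.IrrCharacter (Subgroup.centralizer (P : Set G))))
    (hc : Cfsg.IsInducedBlock M (Subgroup.centralizer (P : Set G)) c B) (T : Subgroup G)
    (hT : ∀ g : G, g ∈ T ↔ (g ∈ Subgroup.normalizer (P : Set G) ∧
      Cfsg.StabilizesBlock (Subgroup.centralizer (P : Set G)) c g)) (u : G) (hu : u ∈ P)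
    (huT : ∀ g ∈ T, g * u * g⁻¹ = u) (H : Subgroup G)
    (hH : H = Subgroup.centralizer ({u} : Set G)) (f : Set (Cfsg.IrrCharacter H))
    (hf : Cfsg.IsInducedBlockIn M H (Subgroup.centralizer (P : Set G)) c f) :
    Cfsg.blockRank p B = Cfsg.blockRank p f ∧ Nat.card B = Nat.card f := by
  classical
  have : Fintype G := Fintype.ofFinite G
  have hMp := isPModular_isPrime hM
  have hPp : IsPGroup p P := isPGroup_of_isDefectGroup hPD
  have hpairB : IsBrauerPairOf p M B P c := isBrauerPairOf_of_isInducedBlock hM hPp hc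
  have hmax : IsMaximalBrauerPair p M B P c := isMaximalBrauerPair_of_isDefectGroup hM hpairB hPD
  have hTin : IsInertial T P c := by
    intro t
    rw [hT t]
    constructor
    · rintro ⟨h1, h2⟩
      exact conjPair_eq_self_of_stabilizes h1 h2
    · intro h
      exact stabilizes_of_conjPair_eq_self h
  have hmain := rk_eq_rk_sup hM hmax hPab hBP hTin (Q := ⊥) bot_le hu (fun t ht _ => huT t ht)
  -- the block at `⊥` is `B`
  have hL : Subgroup.centralizer (((⊥ : Subgroup G)) : Set G) = ⊤ := by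
    ext g
    simp [Subgroup.mem_centralizer_iff]
  have hbotIn := isInducedBlockIn_subFQ hM hmax hPab (Q := ⊥) bot_le
  have hBIn := isInducedBlockIn_pullBlock_of_eq_top hL hc
  have hbot : subFQ p M P c ⊥ = pullBlock (topEquivOf hL) B := isInducedBlockIn_unique hbotIn hBIn
  have hrkB : rk p M P c ⊥ = blockRank p B := by
    unfold rk
    rw [hbot, blockRank_pullBlock]
  have hkkB : kk p M P c ⊥ = Nat.card B := by
    unfold kk
    rw [hbot]
    unfold pullBlock
    exact Nat.card_image_of_injective (irrPull_injective _) B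
  -- the block at `⟨u⟩` is `f`
  have hsup : Subgroup.centralizer (((⊥ ⊔ Subgroup.zpowers u : Subgroup G)) : Set G) = H := by
    rw [hH, bot_sup_eq]
    ext g
    rw [Cfsg.Agent.Lib.Helper78.mem_centralizer_zpowers_iff, Subgroup.mem_centralizer_iff]
    constructor
    · intro h x hx
      rw [Set.mem_singleton_iff.mp hx]
      exact h.eq
    · intro h
      exact h u rfl
  have huIn := isInducedBlockIn_subFQ hM hmax hPab (Q := ⊥ ⊔ Subgroup.zpowers u)
    (sup_le bot_le ((Subgroup.zpowers_le).mpr hu))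
  have hfu := rank_card_eq_of_subgroup_eq p hsup huIn hf
  have hrkf : rk p M P c (⊥ ⊔ Subgroup.zpowers u) = blockRank p f := hfu.1
  have hkkf : kk p M P c (⊥ ⊔ Subgroup.zpowers u) = Nat.card f := hfu.2
  refine ⟨?_, ?_⟩
  · rw [← hrkB, ← hrkf]
    exact hmain.1
  · rw [← hkkB, ← hkkf]
    exact hmain.2

end Cfsg.Agent.Lib.Helper77.WAT
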