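import Cfsg.Agent.Lib.Helper77.WatKey
import Cfsg.Agent.Lib.Helper77.WatLoc
import Cfsg.Agent.Lib.Helper78.WatIndOf
import Cfsg.Agent.Lib.Helper21.WatEta
import Cfsg.Agent.Lib.Helper39.WatInert

/-!
# WAT-[IND] (helper77): the induction of project WAT, with INERT as the only hypothesis

`rk_eq_rk_sup_of_inert` : `rk Q = rk (Q ⊔ ⟨u⟩)` and `kk Q = kk (Q ⊔ ⟨u⟩)` for `u ∈ P` fixed by
`T ∩ C_G(Q)`, from helper78's hypothesis form of the induction, KEY1/KEY0 (WatKey), CENT (WatLoc)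
and ETA (helper21).
-/

set_option autoImplicit false

namespace Cfsg.Agent.Lib.Helper77.WAT

open Cfsg Cfsg.Agent.Lib.Helper16 Cfsg.Agent.Lib.Helper16.BP

universe u

variable {G : Type u} [Group G] [Fintype G] {M : Ideal AlgInt} {p : ℕ} [Fact p.Prime]
  {B : Set (IrrCharacter G)} {P : Subgroup G}
  {e : Set (IrrCharacter (Subgroup.centralizer (P : Set G)))}

/-- WAT-[IND] with the conclusion of WAT-[INERT] as a hypothesis -/
theorem rk_eq_rk_sup_of_inert (hM : IsPModular p M) (hmax : IsMaximalBrauerPair p M B P e)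
    (hPab : ∀ x ∈ P, ∀ y ∈ P, x * y = y * x)
    (hBP : ∀ (K : Type u) [Group K] [Fintype K] (B' : Set (IrrCharacter K)) (P' : Subgroup K)
      (e' : Set (IrrCharacter (Subgroup.centralizer (P' : Set K)))),
      IsMaximalBrauerPair p M B' P' e' → BPFull p M B' P' e')
    {T : Subgroup G} (hT : IsInertial T P e)
    (hINERT : T ≤ Subgroup.normalizer (P : Set G) ∧ Subgroup.centralizer (P : Set G) ≤ T ∧
      ¬ p ∣ (Subgroup.centralizer (P : Set G)).relIndex T)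
    {Q : Subgroup G} (hQP : Q ≤ P) {u : G} (hu : u ∈ P)
    (huT : ∀ t ∈ T, t ∈ Subgroup.centralizer (Q : Set G) → t * u * t⁻¹ = u) :
    rk p M P e Q = rk p M P e (Q ⊔ Subgroup.zpowers u) ∧
      kk p M P e Q = kk p M P e (Q ⊔ Subgroup.zpowers u) :=
  Cfsg.Agent.Lib.Helper78.WAT.rk_eq_rk_sup_of hINERT.1 hINERT.2.1 hINERT.2.2
    (fun _ hQ => key_sum_one hM hmax hPab hT hQ)
    (fun _ hQ η hηT hne => key_sum_zero hM hmax hPab hBP hT hQ η hηT hne)
    (fun _ hQ _ hv hvc => rk_sup_zpowers_of_central hM hmax hPab hQ hv hvc)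
    (fun S hSN hCS hidx Z hZP hZ _ hu huS huZ =>
      Cfsg.Agent.Lib.Helper21.WAT.exists_eta P S hmax.1.1.1 hPab hSN hCS hidx Z hZP hZ hu huS huZ)
    hQP hu huT

/-- WAT-[IND] -/
theorem rk_eq_rk_sup (hM : IsPModular p M) (hmax : IsMaximalBrauerPair p M B P e)
    (hPab : ∀ x ∈ P, ∀ y ∈ P, x * y = y * x)
    (hBP : ∀ (K : Type u) [Group K] [Fintype K] (B' : Set (IrrCharacter K)) (P' : Subgroup K)
      (e' : Set (IrrCharacter (Subgroup.centralizer (P' : Set K)))),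
      IsMaximalBrauerPair p M B' P' e' → BPFull p M B' P' e')
    {T : Subgroup G} (hT : IsInertial T P e) {Q : Subgroup G} (hQP : Q ≤ P) {u : G} (hu : u ∈ P)
    (huT : ∀ t ∈ T, t ∈ Subgroup.centralizer (Q : Set G) → t * u * t⁻¹ = u) :
    rk p M P e Q = rk p M P e (Q ⊔ Subgroup.zpowers u) ∧
      kk p M P e Q = kk p M P e (Q ⊔ Subgroup.zpowers u) :=
  rk_eq_rk_sup_of_inert hM hmax hPab hBP hT
    (Cfsg.Agent.Lib.Helper39.WAT.not_dvd_relIndex_inertial hM hmax hPab hT) hQP hu huT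

end Cfsg.Agent.Lib.Helper77.WAT
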