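import Cfsg.Agent.Lib.Helper77.WatLoc
import Cfsg.Agent.Lib.Helper16.WatOrtho
import Cfsg.Agent.Lib.Helper21.WatLin
import Cfsg.Agent.Lib.Helper78.WATAct

/-!
# Project WAT (helper77), modules WAT-[INERTQ], WAT-[KEY1], WAT-[KEY0]
-/

set_option autoImplicit false
set_option linter.unusedSectionVars false
set_option linter.unusedVariables false

namespace Cfsg.Agent.Lib.Helper77.WAT

open Cfsg Cfsg.Agent.Lib.Helper16 Cfsg.Agent.Lib.Helper16.BP Cfsg.Agent.Lib.Helper82
open scoped ComplexConjugate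

universe u

variable {G : Type u} [Group G] [Fintype G] {M : Ideal AlgInt} {p : ℕ} [Fact p.Prime]
  {B : Set (IrrCharacter G)} {P : Subgroup G}
  {e : Set (IrrCharacter (Subgroup.centralizer (P : Set G)))}

omit [Fintype G] in
theorem restrictPair_congr {L : Subgroup G} {a b : BrauerPairIdx G} (h : a = b) (ha : a.1 ≤ L)
    (hCa : Subgroup.centralizer (a.1 : Set G) ≤ L) (hb : b.1 ≤ L)
    (hCb : Subgroup.centralizer (b.1 : Set G) ≤ L) :
    restrictPair L a ha hCa = restrictPair L b hb hCb := by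
  subst h
  rfl

omit [Fintype G] in
/-- WAT-[INERTQ] : the inertial group of the restricted pair is `T ∩ C_G(Q)` -/
theorem isInertial_restrict {T : Subgroup G} (hT : IsInertial T P e) {Q : Subgroup G}
    (hPL : P ≤ Subgroup.centralizer (Q : Set G))
    (hCP : Subgroup.centralizer (P : Set G) ≤ Subgroup.centralizer (Q : Set G)) :
    IsInertial (T.subgroupOf (Subgroup.centralizer (Q : Set G)))
      (P.subgroupOf (Subgroup.centralizer (Q : Set G)))
      (pullBlock (centEquivIn (Subgroup.centralizer (Q : Set G)) P hPL hCP) e) := by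
  intro t
  have ha' : P.map (MulAut.conj (t : G)).toMonoidHom ≤ Subgroup.centralizer (Q : Set G) :=
    map_conj_le_of_mem hPL t.2
  have hC' : Subgroup.centralizer ((P.map (MulAut.conj (t : G)).toMonoidHom : Subgroup G) :
      Set G) ≤ Subgroup.centralizer (Q : Set G) := centralizer_map_conj_le hCP t.2
  have h1 := restrictPair_conjPair (Subgroup.centralizer (Q : Set G)) P e hPL hCP t ha' hC'
  rw [Subgroup.mem_subgroupOf, hT (t : G)]
  constructor
  · intro h
    have h2 : (⟨P.map (MulAut.conj (t : G)).toMonoidHom, conjBlock P (t : G) e⟩ :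
        BrauerPairIdx G) = ⟨P, e⟩ := h
    have h3 := restrictPair_congr (L := Subgroup.centralizer (Q : Set G)) h2 ha' hC' hPL hCP
    rw [h3] at h1
    exact h1.symm
  · intro h
    have ht' : conjPair t (restrictPair (Subgroup.centralizer (Q : Set G))
        (⟨P, e⟩ : BrauerPairIdx G) hPL hCP) =
        restrictPair (Subgroup.centralizer (Q : Set G)) (⟨P, e⟩ : BrauerPairIdx G) hPL hCP := h
    rw [ht'] at h1
    exact restrictPair_injective (a := (⟨P.map (MulAut.conj (t : G)).toMonoidHom,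
        conjBlock P (t : G) e⟩ : BrauerPairIdx G)) (b := (⟨P, e⟩ : BrauerPairIdx G))
        ha' hC' hPL hCP h1

section Key

variable {T : Subgroup G} {Q : Subgroup G}

/-- the identification `P_L ≃ P` -/
noncomputable def pEquiv (hPL : P ≤ Subgroup.centralizer (Q : Set G)) :
    ↥(P.subgroupOf (Subgroup.centralizer (Q : Set G))) ≃* ↥P :=
  Subgroup.subgroupOfEquivOfLe hPL

omit [Fintype G] in
theorem pEquiv_symm_coe (hPL : P ≤ Subgroup.centralizer (Q : Set G)) (v : P) :
    (((pEquiv hPL).symm v : ↥(P.subgroupOf (Subgroup.centralizer (Q : Set G)))) :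
      ↥(Subgroup.centralizer (Q : Set G))) = ⟨(v : G), hPL v.2⟩ := rfl

omit [Fintype G] in
theorem pEquiv_coe (hPL : P ≤ Subgroup.centralizer (Q : Set G))
    (w : ↥(P.subgroupOf (Subgroup.centralizer (Q : Set G)))) :
    ((pEquiv hPL w : P) : G) = ((w : ↥(Subgroup.centralizer (Q : Set G))) : G) := rfl

/-- the weights agree -/
theorem fusW_restrict (hM : IsPModular p M) (hmax : IsMaximalBrauerPair p M B P e)
    (hPab : ∀ x ∈ P, ∀ y ∈ P, x * y = y * x) (hT : IsInertial T P e) (hQP : Q ≤ P)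
    (hPL : P ≤ Subgroup.centralizer (Q : Set G))
    (hCP : Subgroup.centralizer (P : Set G) ≤ Subgroup.centralizer (Q : Set G))
    [Fintype ↥(Subgroup.centralizer (Q : Set G))] (v : P) :
    fusW p M (P.subgroupOf (Subgroup.centralizer (Q : Set G)))
      (pullBlock (centEquivIn (Subgroup.centralizer (Q : Set G)) P hPL hCP) e)
      ((pEquiv hPL).symm v) = orbW T P Q v := by
  have hmaxL := isMaximalBrauerPair_subFQ hM hmax hPab hQP hPL hCP
  have hPabL : ∀ x ∈ P.subgroupOf (Subgroup.centralizer (Q : Set G)),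
      ∀ y ∈ P.subgroupOf (Subgroup.centralizer (Q : Set G)), x * y = y * x := by
    intro x hx y hy
    apply Subtype.ext
    exact hPab _ (Subgroup.mem_subgroupOf.mp hx) _ (Subgroup.mem_subgroupOf.mp hy)
  have hTL := isInertial_restrict hT hPL hCP
  unfold fusW orbW
  congr 2
  apply Nat.card_congr
  refine Equiv.subtypeEquiv (pEquiv hPL).toEquiv ?_
  intro w
  rw [Cfsg.Agent.Lib.Helper16.WAT.fus_iff_inertial hM hmaxL hPabL hTL
    ((pEquiv hPL).symm v).2 w.2]
  constructor
  · rintro ⟨t, ht, htv⟩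
    refine ⟨(t : G), Subgroup.mem_subgroupOf.mp ht, t.2, ?_⟩
    have := congrArg Subtype.val htv
    exact this
  · rintro ⟨t, htT, htL, htv⟩
    refine ⟨⟨t, htL⟩, Subgroup.mem_subgroupOf.mpr htT, ?_⟩
    apply Subtype.ext
    exact htv

/-- WAT-[KEY1] -/
theorem key_sum_one (hM : IsPModular p M) (hmax : IsMaximalBrauerPair p M B P e)
    (hPab : ∀ x ∈ P, ∀ y ∈ P, x * y = y * x) {T : Subgroup G} (hT : IsInertial T P e)
    {Q : Subgroup G} (hQP : Q ≤ P) :
    ∑ᶠ v : P, orbW T P Q v * (rk p M P e (Q ⊔ Subgroup.zpowers (v : G)) : ℂ) =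
      (kk p M P e Q : ℂ) := by
  have hMp := isPModular_isPrime hM
  have hFin : Fintype ↥(Subgroup.centralizer (Q : Set G)) := Fintype.ofFinite _
  have hPL := le_centralizer_of_abelian hPab hQP
  have hCP : Subgroup.centralizer (P : Set G) ≤ Subgroup.centralizer (Q : Set G) :=
    Subgroup.centralizer_le hQP
  have hmaxL := isMaximalBrauerPair_subFQ hM hmax hPab hQP hPL hCP
  have h := Cfsg.Agent.Lib.Helper16.WAT.sum_fusW_rank hM hmaxL
  rw [← finsum_comp_equiv (pEquiv hPL).symm.toEquiv] at h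
  unfold kk
  rw [← h]
  apply finsum_congr
  intro v
  show _ = fusW p M _ _ ((pEquiv hPL).symm v) * _
  rw [fusW_restrict hM hmax hPab hT hQP hPL hCP v,
    ← blockRank_subF_restrict hM hmax hPab hQP hPL hCP v.2 (hPL v.2)]
  rfl

/-- WAT-[KEY0] -/
theorem key_sum_zero (hM : IsPModular p M) (hmax : IsMaximalBrauerPair p M B P e)
    (hPab : ∀ x ∈ P, ∀ y ∈ P, x * y = y * x)
    (hBP : ∀ (K : Type u) [Group K] [Fintype K] (B' : Set (IrrCharacter K)) (P' : Subgroup K)
      (e' : Set (IrrCharacter (Subgroup.centralizer (P' : Set K)))),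
      IsMaximalBrauerPair p M B' P' e' → BPFull p M B' P' e')
    {T : Subgroup G} (hT : IsInertial T P e) {Q : Subgroup G} (hQP : Q ≤ P) (η : P →* ℂˣ)
    (hηT : ∀ t ∈ T, t ∈ Subgroup.centralizer (Q : Set G) → ∀ v v' : P,
      t * (v : G) * t⁻¹ = (v' : G) → η v' = η v)
    (hne : ∃ v : P, η v ≠ 1) :
    ∑ᶠ v : P, orbW T P Q v * ((η v : ℂˣ) : ℂ) *
      (rk p M P e (Q ⊔ Subgroup.zpowers (v : G)) : ℂ) = 0 := by
  have hMp := isPModular_isPrime hM
  have hFin : Fintype ↥(Subgroup.centralizer (Q : Set G)) := Fintype.ofFinite _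
  have hPL := le_centralizer_of_abelian hPab hQP
  have hCP : Subgroup.centralizer (P : Set G) ≤ Subgroup.centralizer (Q : Set G) :=
    Subgroup.centralizer_le hQP
  have hmaxL := isMaximalBrauerPair_subFQ hM hmax hPab hQP hPL hCP
  have hPabL : ∀ x ∈ P.subgroupOf (Subgroup.centralizer (Q : Set G)),
      ∀ y ∈ P.subgroupOf (Subgroup.centralizer (Q : Set G)), x * y = y * x := by
    intro x hx y hy
    apply Subtype.ext
    exact hPab _ (Subgroup.mem_subgroupOf.mp hx) _ (Subgroup.mem_subgroupOf.mp hy)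
  have hTL := isInertial_restrict hT hPL hCP
  -- the linear character of `P_L`
  obtain ⟨lam, hlam⟩ : ∃ lam : ↥(P.subgroupOf (Subgroup.centralizer (Q : Set G))) →* ℂˣ,
      lam = η.comp (pEquiv hPL).toMonoidHom := ⟨_, rfl⟩
  have hlam_apply : ∀ w, lam w = η (pEquiv hPL w) := by
    intro w
    rw [hlam]
    rfl
  obtain ⟨hg, h1, h0⟩ := Cfsg.Agent.Lib.Helper21.WAT.linear_facts lam
  have hstab : IsFusionStable p M (P.subgroupOf (Subgroup.centralizer (Q : Set G)))
      (pullBlock (centEquivIn (Subgroup.centralizer (Q : Set G)) P hPL hCP) e)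
      (fun w => ((lam w : ℂˣ) : ℂ)) := by
    apply Cfsg.Agent.Lib.Helper78.WAT.isFusionStable_of_fus_invariant hM hmaxL.1.1 lam
    intro w w' hfus
    rw [Cfsg.Agent.Lib.Helper16.WAT.fus_iff_inertial hM hmaxL hPabL hTL w.2 w'.2] at hfus
    obtain ⟨t, ht, htw⟩ := hfus
    rw [hlam_apply, hlam_apply]
    symm
    apply hηT (t : G) (Subgroup.mem_subgroupOf.mp ht) t.2
    have := congrArg Subtype.val htw
    exact this
  have hneL : ∃ w : ↥(P.subgroupOf (Subgroup.centralizer (Q : Set G))),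
      ((lam w : ℂˣ) : ℂ) ≠ 1 := by
    obtain ⟨v, hv⟩ := hne
    refine ⟨(pEquiv hPL).symm v, ?_⟩
    rw [hlam_apply, MulEquiv.apply_symm_apply]
    intro h
    apply hv
    exact Units.ext h
  have h := Cfsg.Agent.Lib.Helper16.WAT.sum_fusW_eta_rank_eq_zero hM hmaxL hPabL
    (hBP _ _ _ _ hmaxL) hg hstab h1 h0 hneL
  rw [← finsum_comp_equiv (pEquiv hPL).symm.toEquiv] at h
  rw [← h]
  apply finsum_congr
  intro v
  show _ = fusW p M _ _ ((pEquiv hPL).symm v) * ((lam ((pEquiv hPL).symm v) : ℂˣ) : ℂ) * _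
  rw [fusW_restrict hM hmax hPab hT hQP hPL hCP v,
    ← blockRank_subF_restrict hM hmax hPab hQP hPL hCP v.2 (hPL v.2), hlam_apply,
    MulEquiv.apply_symm_apply]
  rfl

end Key

end Cfsg.Agent.Lib.Helper77.WAT
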